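/-
Linear groups: orders of SL, PSL, PGL; generation by transvections; perfectness of SL_n and
simplicity of PSL_n for n ≥ 3.
-/
import Mathlib.LinearAlgebra.Matrix.GeneralLinearGroup.Card
import Mathlib.LinearAlgebra.Matrix.GeneralLinearGroup.Projective
import Mathlib.LinearAlgebra.Projectivization.PSL.PSL2
import Mathlib.RingTheory.RootsOfUnity.Basic
import Mathlib.RingTheory.IntegralDomain
import Mathlib.FieldTheory.Finite.Basic

set_option autoImplicit false

namespace Cfsg.Agent.ClassicalSL

open Matrix
open scoped MatrixGroups commutatorElement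

section generation

variable {ι : Type*} [Fintype ι] [DecidableEq ι] {F : Type*} [Field F]

/-- The set of elementary transvections in SL. -/
def elemTransvections (ι : Type*) [Fintype ι] [DecidableEq ι] (F : Type*) [Field F] :
    Set (SpecialLinearGroup ι F) :=
  {g | ∃ (i j : ι) (h : i ≠ j) (c : F), g = SpecialLinearGroup.transvection h c}

theorem ext_of_smul_single {A B : SpecialLinearGroup ι F}
    (h : ∀ k, A • (Pi.single k 1 : ι → F) = B • (Pi.single k 1 : ι → F)) : A = B := by
  refine Subtype.ext (Matrix.ext fun i j => ?_)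
  have := congrFun (h j) i
  simpa [Matrix.SpecialLinearGroup.smul_def] using this

theorem transvection_smul_single_other {i j k : ι} (hij : i ≠ j) (hk : k ≠ j) (b : F) :
    SpecialLinearGroup.transvection hij b • (Pi.single k 1 : ι → F) = Pi.single k 1 := by
  simp [Matrix.SpecialLinearGroup.smul_def, -mulVec_single, SpecialLinearGroup.transvection_coe,
    add_mulVec, single_mulVec_eq, hk.symm]

/-- The Weyl element `T_ij(a) T_ji(-a⁻¹) T_ij(a)`. -/
noncomputable def weylElt {i j : ι} (hij : i ≠ j) (a : F) : SpecialLinearGroup ι F :=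
  SpecialLinearGroup.transvection hij a * SpecialLinearGroup.transvection hij.symm (-a⁻¹) *
    SpecialLinearGroup.transvection hij a

theorem weylElt_smul_snd {i j : ι} (hij : i ≠ j) {a : F} (ha : a ≠ 0) :
    weylElt hij a • (Pi.single j 1 : ι → F) = a • Pi.single i 1 := by
  have hc : ∀ (g : SpecialLinearGroup ι F) (c : F) (v : ι → F), g • c • v = c • g • v :=
    fun g c v => smul_comm g c v
  simp only [weylElt, mul_smul, SpecialLinearGroup.transvection_smul_single_snd,
    SpecialLinearGroup.transvection_smul_single_fst, smul_add, hc]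
  ext k
  simp [Pi.single_apply]
  split_ifs <;> simp_all

theorem weylElt_smul_fst {i j : ι} (hij : i ≠ j) {a : F} (ha : a ≠ 0) :
    weylElt hij a • (Pi.single i 1 : ι → F) = (-a⁻¹) • Pi.single j 1 := by
  have hc : ∀ (g : SpecialLinearGroup ι F) (c : F) (v : ι → F), g • c • v = c • g • v :=
    fun g c v => smul_comm g c v
  simp only [weylElt, mul_smul, SpecialLinearGroup.transvection_smul_single_snd,
    SpecialLinearGroup.transvection_smul_single_fst, smul_add, hc]
  ext k
  simp [Pi.single_apply]
  split_ifs <;> simp_all

theorem weylElt_smul_other {i j k : ι} (hij : i ≠ j) (hki : k ≠ i) (hkj : k ≠ j) (a : F) :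
    weylElt hij a • (Pi.single k 1 : ι → F) = Pi.single k 1 := by
  simp [weylElt, mul_smul, transvection_smul_single_other hij hkj,
    transvection_smul_single_other hij.symm hki]

theorem diag2n_eq_weyl {i j : ι} (hij : i ≠ j) {a : F} (ha : a ≠ 0) :
    SpecialLinearGroup.diag2n hij a ha = weylElt hij a * weylElt hij (-1) := by
  refine ext_of_smul_single fun k => ?_
  have h1 : ((-1 : F)) ≠ 0 := neg_ne_zero.2 one_ne_zero
  have hd : SpecialLinearGroup.diag2n hij a ha • (Pi.single k 1 : ι → F)
      = (if k = i then a else if k = j then a⁻¹ else 1) • Pi.single k 1 := by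
    ext l
    rcases eq_or_ne l k with rfl | hl <;>
      simp_all [Matrix.SpecialLinearGroup.smul_def, SpecialLinearGroup.diag2n_coe]
  rw [hd, mul_smul]
  rcases eq_or_ne k i with rfl | hki
  · simp [weylElt_smul_fst hij h1, smul_comm, weylElt_smul_snd hij ha]
  rcases eq_or_ne k j with rfl | hkj
  · simp [weylElt_smul_snd hij h1, smul_comm, weylElt_smul_fst hij ha, hki]
  simp [hki, hkj, weylElt_smul_other hij hki hkj]

/-- SL is generated by the elementary transvections. -/
theorem closure_elemTransvections [Nontrivial ι] :
    Subgroup.closure (elemTransvections ι F) = ⊤ := by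
  refine eq_top_iff.2 fun M _ => ?_
  have ht : ∀ (i j : ι) (h : i ≠ j) (c : F),
      SpecialLinearGroup.transvection h c ∈ Subgroup.closure (elemTransvections ι F) :=
    fun i j h c => Subgroup.subset_closure ⟨i, j, h, c, rfl⟩
  refine SpecialLinearGroup.diagonal_transvection_induction'
    (fun g => g ∈ Subgroup.closure (elemTransvections ι F)) M (fun i j hij c hc => ?_) ht
    (fun _ _ => mul_mem)
  rw [diag2n_eq_weyl hij hc]
  exact mul_mem (mul_mem (mul_mem (ht _ _ _ _) (ht _ _ _ _)) (ht _ _ _ _))
    (mul_mem (mul_mem (ht _ _ _ _) (ht _ _ _ _)) (ht _ _ _ _))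

theorem commutator_transvection {i j k : ι} (hij : i ≠ j) (hik : i ≠ k) (hkj : k ≠ j) (b c : F) :
    ⁅SpecialLinearGroup.transvection hik b, SpecialLinearGroup.transvection hkj c⁆ =
      SpecialLinearGroup.transvection hij (b * c) := by
  rw [commutatorElement_def, SpecialLinearGroup.transvection_inv,
    SpecialLinearGroup.transvection_inv]
  apply Subtype.ext
  simp [SpecialLinearGroup.transvection_coe, mul_add, add_mul, mul_assoc, hij.symm, hik.symm,
    hkj.symm, hij, hik, hkj, ← single_neg]
  abel

theorem transvection_mem_commutatorSet (h3 : 3 ≤ Fintype.card ι) {i j : ι} (hij : i ≠ j) (c : F) :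
    SpecialLinearGroup.transvection hij c ∈ commutatorSet (SpecialLinearGroup ι F) := by
  obtain ⟨k, hk⟩ : ∃ k, k ∈ ({i, j} : Finset ι)ᶜ := by
    refine Finset.card_pos.1 ?_
    rw [Finset.card_compl, Finset.card_pair hij]
    omega
  simp only [Finset.mem_compl, Finset.mem_insert, Finset.mem_singleton, not_or] at hk
  exact ⟨SpecialLinearGroup.transvection (Ne.symm hk.1) c,
    SpecialLinearGroup.transvection hk.2 1, by rw [commutator_transvection hij, mul_one]⟩

theorem isPerfect_sl (h3 : 3 ≤ Fintype.card ι) :
    commutator (SpecialLinearGroup ι F) = ⊤ := by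
  haveI : Nontrivial ι := Fintype.one_lt_card_iff_nontrivial.1 (by omega)
  rw [eq_top_iff, ← closure_elemTransvections, Subgroup.closure_le]
  rintro g ⟨i, j, h, c, rfl⟩
  rw [SetLike.mem_coe, commutator_eq_closure]
  exact Subgroup.subset_closure (transvection_mem_commutatorSet h3 h c)

theorem commutator_diag2n_transvection {i j : ι} (hij : i ≠ j) {a : F} (ha : a ≠ 0) (b : F) :
    ⁅SpecialLinearGroup.diag2n hij a ha, SpecialLinearGroup.transvection hij b⁆ =
      SpecialLinearGroup.transvection hij ((a ^ 2 - 1) * b) := by
  rw [commutatorElement_def, mul_inv_eq_iff_eq_mul, ← SpecialLinearGroup.transvection_add,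
    mul_inv_eq_iff_eq_mul]
  apply Subtype.ext
  simp [SpecialLinearGroup.transvection_coe, SpecialLinearGroup.diag2n_coe, mul_add, add_mul]
  ext k l
  simp only [Matrix.add_apply, Matrix.mul_diagonal, Matrix.diagonal_mul, Matrix.diagonal_apply,
    Matrix.single_apply]
  rcases eq_or_ne k i with rfl | hk <;> rcases eq_or_ne l j with rfl | hl <;>
    simp [*, hij, hij.symm]
  all_goals try simp [Ne.symm hk]
  all_goals try simp [Ne.symm hl]
  all_goals try field_simp
  all_goals try ring

theorem transvection_mem_commutatorSet_of_sq {i j : ι} (hij : i ≠ j) {a : F} (ha : a ≠ 0)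
    (ha2 : a ^ 2 ≠ 1) (c : F) :
    SpecialLinearGroup.transvection hij c ∈ commutatorSet (SpecialLinearGroup ι F) :=
  ⟨_, SpecialLinearGroup.transvection hij (c / (a ^ 2 - 1)),
    (commutator_diag2n_transvection hij ha _).trans (by
      rw [mul_div_cancel₀ _ (sub_ne_zero.2 ha2)])⟩

theorem ker_det_eq_range_toGL {R : Type*} [CommRing R] :
    (GeneralLinearGroup.det : GL ι R →* Rˣ).ker =
      (SpecialLinearGroup.toGL : SpecialLinearGroup ι R →* GL ι R).range := by
  ext g
  refine ⟨fun h => ⟨⟨g.1, congrArg Units.val (MonoidHom.mem_ker.1 h)⟩, Units.ext rfl⟩, ?_⟩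
  rintro ⟨h, rfl⟩
  exact MonoidHom.mem_ker.2 (Units.ext h.2)

theorem commutator_gl (h : Fintype.card ι = 2 → ∃ a : F, a ≠ 0 ∧ a ≠ 1) :
    commutator (GL ι F) = (GeneralLinearGroup.det : GL ι F →* Fˣ).ker := by
  refine le_antisymm (Abelianization.commutator_subset_ker _) ?_
  rcases subsingleton_or_nontrivial ι with hι | hι
  · intro g hg
    have : g = 1 := by
      apply Units.ext
      ext i j
      have hd : g.1.det = 1 := congrArg Units.val (MonoidHom.mem_ker.1 hg)
      haveI : Unique ι := uniqueOfSubsingleton i
      rw [det_unique] at hd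
      rw [Subsingleton.elim i default, Subsingleton.elim j default, hd]
      simp
    rw [this]
    exact one_mem _
  · have key : ∀ (i j : ι) (hij : i ≠ j) (c : F),
        SpecialLinearGroup.toGL (SpecialLinearGroup.transvection hij c) ∈ commutator (GL ι F) := by
      intro i j hij c
      have h2 : 2 ≤ Fintype.card ι := Fintype.one_lt_card
      rcases h2.lt_or_eq with h3 | h2'
      · have hle : (commutator (SpecialLinearGroup ι F)).map SpecialLinearGroup.toGL ≤
            commutator (GL ι F) := by
          rw [map_commutator_eq]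
          exact Subgroup.commutator_mono le_top le_top
        exact hle ⟨_, by rw [isPerfect_sl h3]; trivial, rfl⟩
      · obtain ⟨a, ha, ha1⟩ := h h2'.symm
        have hu : ∀ k, Function.update (1 : ι → F) i a k ≠ 0 := fun k => by
          rcases eq_or_ne k i with rfl | hk <;> simp [*]
        let D : GL ι F := GeneralLinearGroup.mkOfDetNeZero (diagonal (Function.update 1 i a))
          (by simpa [det_diagonal, Finset.prod_eq_zero_iff] using hu)
        let t : F := c / (a - 1)
        have hc : SpecialLinearGroup.toGL (SpecialLinearGroup.transvection hij c) =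
            ⁅D, SpecialLinearGroup.toGL (SpecialLinearGroup.transvection hij t)⁆ := by
          rw [commutatorElement_def, eq_mul_inv_iff_mul_eq, eq_mul_inv_iff_mul_eq, ← map_mul,
            ← SpecialLinearGroup.transvection_add]
          apply Units.ext
          simp [D, GeneralLinearGroup.mkOfDetNeZero, SpecialLinearGroup.toGL, mul_add, add_mul,
            SpecialLinearGroup.transvection_coe]
          ext k l
          have : a - 1 ≠ 0 := sub_ne_zero.2 ha1
          simp only [Matrix.add_apply, Matrix.mul_diagonal, Matrix.diagonal_mul,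
            Matrix.diagonal_apply, Matrix.single_apply, Function.update_apply, Pi.one_apply, t]
          rcases eq_or_ne k i with rfl | hk <;> rcases eq_or_ne l j with rfl | hl <;>
            simp [*, hij, hij.symm]
          all_goals try simp [Ne.symm hk]
          all_goals try simp [Ne.symm hl]
          all_goals try field_simp
          all_goals try ring
        rw [hc]
        exact Subgroup.commutator_mem_commutator trivial trivial
    rw [ker_det_eq_range_toGL, MonoidHom.range_eq_map, ← closure_elemTransvections,
      Subgroup.map_le_iff_le_comap, Subgroup.closure_le]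
    rintro g ⟨i, j, hij, c, rfl⟩
    exact key i j hij c

end generation

section simple

open scoped LinearAlgebra.Projectivization
open MulAction

variable {ι : Type*} [Fintype ι] [DecidableEq ι] {F : Type*} [Field F]

/-- The Iwasawa structure of PSL_n on projective space. -/
noncomputable def pslIwasawa [Nontrivial ι] :
    IwasawaStructure (ProjectiveSpecialLinearGroup ι F) (ℙ F (ι → F)) where
  T := PSL.iwasawaT
  is_comm p := by
    have hSL : IsMulCommutative (SpecialLinearGroup.lineStab (F := F) p.submodule) := by
      rw [← Projectivization.mk_rep p, Projectivization.submodule_mk]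
      exact SpecialLinearGroup.lineStab_isMulCommutative_of_span p.rep p.rep_nonzero
    exact Subgroup.map_isMulCommutative _ _
  is_conj g p := by
    obtain ⟨g_SL, rfl⟩ := QuotientGroup.mk_surjective g
    rw [Matrix.ProjectiveSpecialLinearGroup.smul_proj_mk]
    change Subgroup.map _ _ = _
    rw [PSL.smul_submodule, SpecialLinearGroup.lineStab_smul, PSL.iwasawaT_map_conj]
  is_generator := by
    rw [eq_top_iff, ← Subgroup.map_top_of_surjective _ (QuotientGroup.mk'_surjective _),
      ← closure_elemTransvections, Subgroup.map_le_iff_le_comap, Subgroup.closure_le]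
    rintro g ⟨i, j, h, c, rfl⟩
    have hne : (Pi.single i (1 : F) : ι → F) ≠ 0 := Pi.single_ne_zero_iff.2 one_ne_zero
    refine Subgroup.mem_iSup_of_mem (Projectivization.mk F _ hne)
      (Subgroup.mem_map_of_mem _ ?_)
    rw [Projectivization.submodule_mk]
    exact SL2Gen.transvection_mem_lineStab h c

theorem isSimpleGroup_psl (h3 : 3 ≤ Fintype.card ι) :
    IsSimpleGroup (ProjectiveSpecialLinearGroup ι F) := by
  haveI : Nontrivial ι := Fintype.one_lt_card_iff_nontrivial.1 (by omega)
  refine IwasawaStructure.isSimpleGroup ?_ pslIwasawa inferInstance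
  rw [← Subgroup.map_top_of_surjective _ (QuotientGroup.mk'_surjective
    (Subgroup.center (SpecialLinearGroup ι F))), ← isPerfect_sl h3, map_commutator_eq,
    MonoidHom.range_eq_top.2 (QuotientGroup.mk'_surjective _)]
  rfl

end simple

section card

variable {ι : Type*} [Fintype ι] [DecidableEq ι] {F : Type*} [Field F] [Finite F]

theorem natCard_units : Nat.card Fˣ = Nat.card F - 1 := Nat.card_units F

theorem card_sl_mul [Nonempty ι] :
    (Nat.card F - 1) * Nat.card (SpecialLinearGroup ι F) = Nat.card (GL ι F) := by
  have h1 := Subgroup.card_mul_index (GeneralLinearGroup.det : GL ι F →* Fˣ).ker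
  rw [Subgroup.index_ker, MonoidHom.range_eq_top.2 GeneralLinearGroup.det_surjective,
    Subgroup.card_top, natCard_units, ker_det_eq_range_toGL,
    ← Nat.card_congr (MonoidHom.ofInjective SpecialLinearGroup.toGL_injective).toEquiv] at h1
  rw [← h1, mul_comm]

theorem card_gl_fin {q : ℕ} (hq : Nat.card F = q) (n : ℕ) :
    Nat.card (GL (Fin n) F) = ∏ i : Fin n, (q ^ n - q ^ (i : ℕ)) := by
  haveI := Fintype.ofFinite F
  rw [Matrix.card_GL_field, ← Nat.card_eq_fintype_card, hq]

theorem card_center_sl [Nonempty ι] :
    Nat.card (Subgroup.center (SpecialLinearGroup ι F)) =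
      Nat.gcd (Fintype.card ι) (Nat.card F - 1) := by
  obtain ⟨i⟩ := ‹Nonempty ι›
  rw [Nat.card_congr (SpecialLinearGroup.center_equiv_rootsOfUnity' i).toEquiv,
    rootsOfUnity_eq_ker, IsCyclic.card_powMonoidHom_ker, natCard_units, Nat.gcd_comm]

theorem card_psl_mul [Nonempty ι] :
    Nat.gcd (Fintype.card ι) (Nat.card F - 1) *
      ((Nat.card F - 1) * Nat.card (ProjectiveSpecialLinearGroup ι F)) = Nat.card (GL ι F) := by
  rw [← card_sl_mul, ← Subgroup.card_mul_index (Subgroup.center (SpecialLinearGroup ι F)),
    card_center_sl, Subgroup.index]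
  simp only [ProjectiveSpecialLinearGroup]
  ring

theorem card_pgl [Nonempty ι] :
    Nat.card (ProjGenLinGroup ι F) = Nat.card (SpecialLinearGroup ι F) := by
  have h : Nat.card (Subgroup.center (GL ι F)) = Nat.card F - 1 := by
    rw [GeneralLinearGroup.center_eq_range_scalar, ← natCard_units]
    refine (Nat.card_congr (MonoidHom.ofInjective ?_).toEquiv).symm
    intro a b hab
    obtain ⟨i⟩ := ‹Nonempty ι›
    have := congrArg (fun g : GL ι F => g.1 i i) hab
    exact Units.ext (by simpa using this)
  have h1 := Subgroup.card_mul_index (Subgroup.center (GL ι F))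
  rw [h, ← card_sl_mul] at h1
  have hpos : 0 < Nat.card F - 1 := by
    have := Finite.one_lt_card (α := F)
    omega
  exact Nat.eq_of_mul_eq_mul_left hpos h1

end card

end Cfsg.Agent.ClassicalSL
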