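/-
The Sylow p-subgroups of GL_2 and SL_2 over a finite field of characteristic p.
-/
import Cfsg.Agent.Lib.Classical.SL
import Mathlib.GroupTheory.Sylow

set_option autoImplicit false

namespace Cfsg.Agent.ClassicalGL2

open Matrix
open scoped Pointwise

variable {F : Type*} [Field F]

theorem card_exponent (n : ℕ) : ∑ i : Fin n, (i : ℕ) = n * (n - 1) / 2 := by
  rw [Fin.sum_univ_eq_sum_range (fun i => i), Finset.sum_range_id]

theorem prod_sub_eq (q n : ℕ) :
    ∏ i : Fin n, (q ^ n - q ^ (i : ℕ)) =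
      q ^ (n * (n - 1) / 2) * ∏ i : Fin n, (q ^ (n - (i : ℕ)) - 1) := by
  rw [← card_exponent, ← Finset.prod_pow_eq_pow_sum, ← Finset.prod_mul_distrib]
  refine Finset.prod_congr rfl fun i _ => ?_
  rw [Nat.mul_sub, mul_one, ← pow_add, Nat.add_sub_cancel' i.2.le]

theorem card_sylow_gl [Finite F] (p : ℕ) [Fact p.Prime] [CharP F p] (n : ℕ)
    (P : Sylow p (GL (Fin n) F)) : Nat.card P = Nat.card F ^ (n * (n - 1) / 2) := by
  haveI := Fintype.ofFinite F
  obtain ⟨k, hp, hk⟩ := FiniteField.card F p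
  have hcop : ¬ p ∣ ∏ i : Fin n, (Nat.card F ^ (n - (i : ℕ)) - 1) := by
    intro h
    obtain ⟨i, -, hi⟩ := (hp.prime.dvd_finsetProd_iff _).1 h
    have h2 : p ∣ Nat.card F ^ (n - (i : ℕ)) := by
      refine dvd_pow ?_ (by have := i.2; omega)
      rw [Nat.card_eq_fintype_card, hk]
      exact dvd_pow_self p k.2.ne'
    have h3 := Nat.dvd_sub h2 hi
    rw [Nat.sub_sub_self (Nat.one_le_pow _ _ Nat.card_pos)] at h3
    exact hp.one_lt.ne' (Nat.dvd_one.1 h3)
  rw [P.card_eq_multiplicity, ClassicalSL.card_gl_fin rfl, prod_sub_eq,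
    Nat.card_eq_fintype_card, hk, ← pow_mul]
  rw [Nat.card_eq_fintype_card, hk] at hcop
  rw [Nat.factorization_mul (pow_ne_zero _ hp.ne_zero) (fun h => hcop (by rw [h]; exact dvd_zero p)),
    Finsupp.add_apply, Nat.factorization_pow, Finsupp.smul_apply, hp.factorization_self,
    Nat.factorization_eq_zero_of_not_dvd hcop]
  simp

/-- The upper unitriangular subgroup of GL_2. -/
def upperU : Subgroup (GL (Fin 2) F) where
  carrier := {g | g.1 0 0 = 1 ∧ g.1 1 1 = 1 ∧ g.1 1 0 = 0}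
  one_mem' := by simp
  mul_mem' {a b} ha hb := by
    obtain ⟨a1, a2, a3⟩ := ha
    obtain ⟨b1, b2, b3⟩ := hb
    simp [Matrix.mul_apply, Fin.sum_univ_two, a1, a2, a3, b1, b2, b3]
  inv_mem' {a} ha := by
    obtain ⟨a1, a2, a3⟩ := ha
    have h : (a⁻¹ : GL (Fin 2) F).1 * a.1 = 1 := by rw [← Units.val_mul, inv_mul_cancel]; rfl
    have h00 := congrFun (congrFun h 0) 0
    have h10 := congrFun (congrFun h 1) 0
    have h01 := congrFun (congrFun h 0) 1
    have h11 := congrFun (congrFun h 1) 1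
    simp [-Matrix.coe_units_inv, Matrix.mul_apply, Fin.sum_univ_two, a1, a2, a3] at h00 h10 h01 h11
    refine ⟨h00, ?_, h10⟩
    rw [h10] at h11
    simpa using h11

theorem mem_upperU {g : GL (Fin 2) F} :
    g ∈ upperU ↔ g.1 0 0 = 1 ∧ g.1 1 1 = 1 ∧ g.1 1 0 = 0 := Iff.rfl

/-- The element `[[1,c],[0,1]]`. -/
def upperElt (c : F) : GL (Fin 2) F :=
  ⟨!![1, c; 0, 1], !![1, -c; 0, 1], by ext i j; fin_cases i <;> fin_cases j <;> simp,
    by ext i j; fin_cases i <;> fin_cases j <;> simp⟩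

@[simp] theorem upperElt_val (c : F) : (upperElt c).1 = !![1, c; 0, 1] := rfl

theorem upperElt_mem (c : F) : upperElt c ∈ upperU := by simp [mem_upperU]

theorem eq_upperElt {g : GL (Fin 2) F} (hg : g ∈ upperU) : g = upperElt (g.1 0 1) := by
  obtain ⟨h1, h2, h3⟩ := mem_upperU.1 hg
  apply Units.ext
  ext i j; fin_cases i <;> fin_cases j <;> simp [h1, h2, h3]

/-- `upperU` is in bijection with `F`. -/
def upperEquiv : upperU (F := F) ≃ F where
  toFun g := g.1.1 0 1
  invFun c := ⟨upperElt c, upperElt_mem c⟩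
  left_inv g := Subtype.ext (eq_upperElt g.2).symm
  right_inv c := by simp

theorem conj_mem_upperU_iff {g : GL (Fin 2) F} :
    (∀ u ∈ upperU (F := F), g * u * g⁻¹ ∈ upperU (F := F)) ↔ g.1 1 0 = 0 := by
  constructor
  · intro h
    have h1 := h _ (upperElt_mem 1)
    set u' := g * upperElt 1 * g⁻¹ with hu'
    obtain ⟨a1, a2, a3⟩ := mem_upperU.1 h1
    have heq : u'.1 * g.1 = g.1 * (upperElt (1 : F)).1 := by
      rw [← Units.val_mul, ← Units.val_mul, hu', inv_mul_cancel_right]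
    have := congrFun (congrFun heq 1) 1
    simp [Matrix.mul_apply, Fin.sum_univ_two, a2, a3] at this
    exact this
  · intro hg u hu
    obtain ⟨a1, a2, a3⟩ := mem_upperU.1 hu
    have hd : g.1 1 1 ≠ 0 := by
      intro h
      have := g.det_ne_zero
      simp [Matrix.det_fin_two, hg, h] at this
    have heq : g * u = upperElt (g.1 0 0 * u.1 0 1 / g.1 1 1) * g := by
      apply Units.ext
      ext i j
      fin_cases i <;> fin_cases j <;>
        simp [Matrix.mul_apply, Fin.sum_univ_two, hg, a1, a2, a3] <;> field_simp <;> ring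
    rw [heq, mul_inv_cancel_right]
    exact upperElt_mem _

theorem mem_normalizer_upperU {g : GL (Fin 2) F} :
    g ∈ Subgroup.normalizer ((upperU : Subgroup (GL (Fin 2) F)) : Set (GL (Fin 2) F)) ↔
      g.1 1 0 = 0 := by
  rw [Subgroup.mem_normalizer_iff]
  constructor
  · exact fun h => conj_mem_upperU_iff.1 fun u hu => (h u).1 hu
  · intro h u
    refine ⟨fun hu => conj_mem_upperU_iff.2 h u hu, fun hu => ?_⟩
    have h' : (g⁻¹ : GL (Fin 2) F).1 1 0 = 0 := by
      simp [Matrix.coe_units_inv, Matrix.inv_def, Matrix.adjugate_fin_two, h]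
    have := conj_mem_upperU_iff.2 h' _ hu
    simpa [mul_assoc] using this

theorem card_normalizer_upperU [Finite F] :
    Nat.card (Subgroup.normalizer ((upperU : Subgroup (GL (Fin 2) F)) : Set (GL (Fin 2) F))) =
      Nat.card F * (Nat.card F - 1) ^ 2 := by
  rw [pow_two, ← Nat.card_units F, ← Nat.card_prod, ← Nat.card_prod]
  refine Nat.card_congr
    { toFun := fun g => (g.1.1 0 1,
        Units.mk0 (g.1.1 0 0) ?_, Units.mk0 (g.1.1 1 1) ?_)
      invFun := fun t => ⟨GeneralLinearGroup.mkOfDetNeZero !![(t.2.1 : F), t.1; 0, (t.2.2 : F)]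
        ?_, ?_⟩
      left_inv := fun g => ?_
      right_inv := fun t => ?_ }
  · intro h
    exact g.1.det_ne_zero (by simp [Matrix.det_fin_two, mem_normalizer_upperU.1 g.2, h])
  · intro h
    exact g.1.det_ne_zero (by simp [Matrix.det_fin_two, mem_normalizer_upperU.1 g.2, h])
  · simp [Matrix.det_fin_two]
  · exact mem_normalizer_upperU.2 (by simp [GeneralLinearGroup.mkOfDetNeZero])
  · refine Subtype.ext (Units.ext ?_)
    have := mem_normalizer_upperU.1 g.2
    ext i j; fin_cases i <;> fin_cases j <;> simp [GeneralLinearGroup.mkOfDetNeZero, this]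
  · obtain ⟨b, a, d⟩ := t
    simp [GeneralLinearGroup.mkOfDetNeZero]

theorem card_gl2 [Finite F] :
    Nat.card (GL (Fin 2) F) =
      (Nat.card F + 1) * (Nat.card F * (Nat.card F - 1) ^ 2) := by
  rw [ClassicalSL.card_gl_fin rfl, Fin.prod_univ_two]
  simp only [Fin.val_zero, Fin.val_one, pow_zero, pow_one]
  have h : 1 ≤ Nat.card F := Nat.card_pos
  obtain ⟨k, hk⟩ := Nat.exists_eq_add_of_le h
  rw [hk]
  have h1 : (1 + k) ^ 2 - 1 = k * (k + 2) := Nat.sub_eq_of_eq_add (by ring)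
  have h2 : (1 + k) ^ 2 - (1 + k) = k * (k + 1) := Nat.sub_eq_of_eq_add (by ring)
  rw [h1, h2, Nat.add_sub_cancel_left]
  ring

variable (F) in
theorem exists_sylow_upperU [Finite F] (p : ℕ) [Fact p.Prime] [CharP F p] :
    ∃ P : Sylow p (GL (Fin 2) F), (P : Subgroup (GL (Fin 2) F)) = upperU := by
  obtain ⟨P⟩ := (inferInstance : Nonempty (Sylow p (GL (Fin 2) F)))
  refine ⟨Sylow.ofCard upperU ?_, rfl⟩
  rw [← P.card_eq_multiplicity, card_sylow_gl p 2 P, Nat.card_congr upperEquiv]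
  simp

theorem sylow_conj [Finite F] (p : ℕ) [Fact p.Prime] [CharP F p] (P : Sylow p (GL (Fin 2) F)) :
    ∃ g : GL (Fin 2) F, (P : Subgroup (GL (Fin 2) F)) = MulAut.conj g • upperU := by
  obtain ⟨S, hS⟩ := exists_sylow_upperU F p
  obtain ⟨g, rfl⟩ := MulAction.exists_smul_eq (GL (Fin 2) F) S P
  exact ⟨g, by rw [Sylow.coe_subgroup_smul, hS]⟩

theorem card_normalizer_sylow [Finite F] (p : ℕ) [Fact p.Prime] [CharP F p]
    (P : Sylow p (GL (Fin 2) F)) :
    Nat.card (Subgroup.normalizer ((P : Subgroup (GL (Fin 2) F)) : Set (GL (Fin 2) F))) =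
      Nat.card F * (Nat.card F - 1) ^ 2 := by
  obtain ⟨S, hS⟩ := exists_sylow_upperU F p
  have h1 := Subgroup.card_mul_index
    (Subgroup.normalizer ((S : Subgroup (GL (Fin 2) F)) : Set (GL (Fin 2) F)))
  have h2 := Subgroup.card_mul_index
    (Subgroup.normalizer ((P : Subgroup (GL (Fin 2) F)) : Set (GL (Fin 2) F)))
  rw [show (Subgroup.normalizer ((S : Subgroup (GL (Fin 2) F)) : Set (GL (Fin 2) F))).index =
    Nat.card (Sylow p (GL (Fin 2) F)) from S.card_eq_index_normalizer.symm] at h1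
  rw [show (Subgroup.normalizer ((P : Subgroup (GL (Fin 2) F)) : Set (GL (Fin 2) F))).index =
    Nat.card (Sylow p (GL (Fin 2) F)) from P.card_eq_index_normalizer.symm] at h2
  rw [← card_normalizer_upperU, ← hS]
  exact Nat.eq_of_mul_eq_mul_right Nat.card_pos (h2.trans h1.symm)

theorem card_sylows [Finite F] (p : ℕ) [Fact p.Prime] [CharP F p] :
    Nat.card (Sylow p (GL (Fin 2) F)) = Nat.card F + 1 := by
  obtain ⟨S, hS⟩ := exists_sylow_upperU F p
  have h1 := Subgroup.card_mul_index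
    (Subgroup.normalizer ((S : Subgroup (GL (Fin 2) F)) : Set (GL (Fin 2) F)))
  rw [show (Subgroup.normalizer ((S : Subgroup (GL (Fin 2) F)) : Set (GL (Fin 2) F))).index =
    Nat.card (Sylow p (GL (Fin 2) F)) from S.card_eq_index_normalizer.symm, card_gl2, hS, card_normalizer_upperU] at h1
  have h2 : 2 ≤ Nat.card F := Finite.one_lt_card
  have hpos : 0 < Nat.card F * (Nat.card F - 1) ^ 2 :=
    Nat.mul_pos (by omega) (pow_pos (by omega) _)
  exact Nat.eq_of_mul_eq_mul_left hpos (h1.trans (mul_comm _ _))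

theorem upperU_inter {g : GL (Fin 2) F} {u : GL (Fin 2) F} (hu : u ∈ upperU) (hne : u ≠ 1)
    (hgu : g⁻¹ * u * g ∈ upperU (F := F)) : g.1 1 0 = 0 := by
  obtain ⟨b1, b2, b3⟩ := mem_upperU.1 hgu
  obtain ⟨a1, a2, a3⟩ := mem_upperU.1 hu
  have hne' : u.1 0 1 ≠ 0 := fun h => hne (by
    rw [eq_upperElt hu, h]; apply Units.ext; ext i j; fin_cases i <;> fin_cases j <;> simp)
  have heq : u.1 * g.1 = g.1 * (g⁻¹ * u * g).1 := by
    rw [← Units.val_mul, ← Units.val_mul, ← mul_assoc, mul_inv_cancel_left]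
  generalize g⁻¹ * u * g = v at heq b1 b2 b3
  have h := congrFun (congrFun heq 0) 0
  simp [-Units.val_mul, Matrix.mul_apply, Fin.sum_univ_two, a1, a2, a3, b1, b3] at h
  exact h.resolve_left hne'

theorem sylow_inf [Finite F] (p : ℕ) [Fact p.Prime] [CharP F p] (P Q : Sylow p (GL (Fin 2) F))
    (h : P ≠ Q) : (P : Subgroup (GL (Fin 2) F)) ⊓ (Q : Subgroup (GL (Fin 2) F)) = ⊥ := by
  obtain ⟨a, ha⟩ := sylow_conj p P
  obtain ⟨b, hb⟩ := sylow_conj p Q
  rw [Subgroup.eq_bot_iff_forall]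
  rintro x ⟨hxP', hxQ'⟩
  have hxP : x ∈ (P : Subgroup (GL (Fin 2) F)) := hxP'
  have hxQ : x ∈ (Q : Subgroup (GL (Fin 2) F)) := hxQ'
  by_contra hx
  rw [ha, Subgroup.mem_pointwise_smul_iff_inv_smul_mem] at hxP
  rw [hb, Subgroup.mem_pointwise_smul_iff_inv_smul_mem] at hxQ
  simp only [MulAut.smul_def, MulAut.inv_apply, MulAut.conj_symm_apply] at hxP hxQ
  have hne : a⁻¹ * x * a ≠ 1 := fun he => hx (by
    simpa [mul_assoc] using congrArg (fun z => a * z * a⁻¹) he)
  have hg := upperU_inter (g := a⁻¹ * b) hxP hne (by simpa [mul_assoc] using hxQ)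
  refine h (Sylow.ext ?_)
  rw [ha, hb, ← mul_inv_cancel_left a b, map_mul, mul_smul]
  congr 1
  ext y
  rw [Subgroup.mem_pointwise_smul_iff_inv_smul_mem]
  simp only [MulAut.smul_def, MulAut.inv_apply, MulAut.conj_symm_apply]
  exact ((Subgroup.mem_normalizer_iff''.1 (mem_normalizer_upperU.2 hg)) y)

theorem card_centralizer [Finite F] (p : ℕ) [Fact p.Prime] [CharP F p]
    (P : Sylow p (GL (Fin 2) F)) (a : GL (Fin 2) F) (ha : a ∈ P) (ha1 : a ≠ 1) :
    Nat.card (Subgroup.centralizer ({a} : Set (GL (Fin 2) F))) =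
      Nat.card F * (Nat.card F - 1) := by
  obtain ⟨g, hg⟩ := sylow_conj p P
  replace ha : a ∈ (P : Subgroup (GL (Fin 2) F)) := ha
  rw [hg, Subgroup.mem_pointwise_smul_iff_inv_smul_mem] at ha
  simp only [MulAut.smul_def, MulAut.inv_apply, MulAut.conj_symm_apply] at ha
  obtain ⟨c, hc⟩ : ∃ c, g⁻¹ * a * g = upperElt c := ⟨_, eq_upperElt ha⟩
  have hc0 : c ≠ 0 := fun h => ha1 (by
    have h1 : g⁻¹ * a * g = 1 := by
      rw [hc, h]; apply Units.ext; ext i j; fin_cases i <;> fin_cases j <;> simp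
    simpa [mul_assoc] using congrArg (fun z => g * z * g⁻¹) h1)
  have hmem : ∀ z : GL (Fin 2) F, z ∈ Subgroup.centralizer ({a} : Set (GL (Fin 2) F)) ↔
      ((MulAut.conj g)⁻¹ z).1 1 0 = 0 ∧
        ((MulAut.conj g)⁻¹ z).1 1 1 = ((MulAut.conj g)⁻¹ z).1 0 0 := by
    intro z
    rw [Subgroup.mem_centralizer_singleton_iff, ← (MulAut.conj g)⁻¹.injective.eq_iff, map_mul,
      map_mul, show (MulAut.conj g)⁻¹ a = upperElt c from by simp [← hc]]
    generalize (MulAut.conj g)⁻¹ z = w
    rw [Units.ext_iff, ← Matrix.ext_iff, Fin.forall_fin_two, Fin.forall_fin_two, Fin.forall_fin_two]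
    simp [Matrix.mul_apply, Fin.sum_univ_two]
    grind
  rw [← Nat.card_units F, ← Nat.card_prod]
  refine Nat.card_congr
    { toFun := fun z => (((MulAut.conj g)⁻¹ z.1).1 0 1,
        Units.mk0 (((MulAut.conj g)⁻¹ z.1).1 0 0) ?_)
      invFun := fun t => ⟨MulAut.conj g (GeneralLinearGroup.mkOfDetNeZero
        !![(t.2 : F), t.1; 0, (t.2 : F)] ?_), ?_⟩
      left_inv := fun z => ?_
      right_inv := fun t => ?_ }
  · intro h
    exact ((MulAut.conj g)⁻¹ z.1).det_ne_zero
      (by rw [Matrix.det_fin_two, ((hmem _).1 z.2).1, h]; ring)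
  · simp [Matrix.det_fin_two]
  · rw [hmem, MulAut.inv_apply, MulEquiv.symm_apply_apply]
    simp [GeneralLinearGroup.mkOfDetNeZero]
  · refine Subtype.ext ?_
    refine (MulEquiv.eq_symm_apply _).1 ?_
    obtain ⟨h1, h2⟩ := (hmem _).1 z.2
    simp only [MulAut.inv_apply] at h1 h2 ⊢
    apply Units.ext
    ext i j; fin_cases i <;> fin_cases j <;> simp [-MulAut.conj_symm_apply, GeneralLinearGroup.mkOfDetNeZero, h1, h2]
  · obtain ⟨b, x⟩ := t
    simp only [MulAut.inv_apply, MulEquiv.symm_apply_apply]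
    simp [GeneralLinearGroup.mkOfDetNeZero]

/-! ### SL_2 -/

theorem sylow_sup_sl2 [Finite F] (p : ℕ) [Fact p.Prime] [CharP F p]
    (P Q : Sylow p (SpecialLinearGroup (Fin 2) F)) (h : P ≠ Q) :
    (P : Subgroup (SpecialLinearGroup (Fin 2) F)) ⊔ Q = ⊤ := by
  let U : Subgroup (SpecialLinearGroup (Fin 2) F) := upperU.comap SpecialLinearGroup.toGL
  have hUcard : Nat.card U = Nat.card F := by
    refine Nat.card_congr
      { toFun := fun u => u.1.1 0 1
        invFun := fun c => ⟨SpecialLinearGroup.transvection zero_ne_one c, ?_⟩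
        left_inv := fun u => ?_
        right_inv := fun c => by simp [SpecialLinearGroup.transvection_coe] }
    · simp [U, mem_upperU, SpecialLinearGroup.transvection_coe]
    · obtain ⟨h1, h2, h3⟩ := mem_upperU.1 u.2
      simp at h1 h2 h3
      refine Subtype.ext (Subtype.ext ?_)
      ext i j; fin_cases i <;> fin_cases j <;>
        simp [SpecialLinearGroup.transvection_coe, h1, h2, h3]
  obtain ⟨S, hS⟩ : ∃ S : Sylow p (SpecialLinearGroup (Fin 2) F),
      (S : Subgroup (SpecialLinearGroup (Fin 2) F)) = U := by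
    haveI := Fintype.ofFinite F
    obtain ⟨k, hp, hk⟩ := FiniteField.card F p
    have hU : IsPGroup p U := IsPGroup.of_card (hUcard.trans (Nat.card_eq_fintype_card.trans hk))
    refine ⟨hU.toSylow fun hdvd => ?_, rfl⟩
    obtain ⟨G, hG⟩ := exists_sylow_upperU F p
    have h1 : Nat.card (SpecialLinearGroup (Fin 2) F) ∣ Nat.card (GL (Fin 2) F) :=
      ⟨_, by rw [← ClassicalSL.card_sl_mul, mul_comm]⟩
    have h2 : Nat.card U * p ∣ Nat.card (GL (Fin 2) F) := by
      refine (mul_dvd_mul_left _ hdvd).trans ?_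
      rw [Subgroup.card_mul_index]
      exact h1
    rw [hUcard, show Nat.card F = Nat.card G from by rw [card_sylow_gl p 2 G]; norm_num,
      ← Subgroup.card_mul_index (G : Subgroup (GL (Fin 2) F))] at h2
    exact G.not_dvd_index ((Nat.mul_dvd_mul_iff_left Nat.card_pos).1 h2)
  obtain ⟨a, rfl⟩ := MulAction.exists_smul_eq (SpecialLinearGroup (Fin 2) F) S P
  obtain ⟨b, rfl⟩ := MulAction.exists_smul_eq (SpecialLinearGroup (Fin 2) F) S Q
  have hg : (a⁻¹ * b).1 1 0 ≠ 0 := by
    intro hg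
    refine h ?_
    rw [← mul_inv_cancel_left a b, mul_smul]
    congr 1
    refine (Sylow.smul_eq_iff_mem_normalizer.2 ?_).symm
    have hG : ∀ z : SpecialLinearGroup (Fin 2) F, z.1 1 0 = 0 → ∀ u ∈ U, z * u * z⁻¹ ∈ U :=
      fun z hz u hu => by
        have := conj_mem_upperU_iff.2 (show (SpecialLinearGroup.toGL z).1 1 0 = 0 from hz) _ hu
        simpa [U, Subgroup.mem_comap] using this
    change a⁻¹ * b ∈ Subgroup.normalizer
      ((S : Subgroup (SpecialLinearGroup (Fin 2) F)) : Set (SpecialLinearGroup (Fin 2) F))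
    rw [hS, Subgroup.mem_normalizer_iff]
    intro u
    refine ⟨hG _ hg u, fun hu => ?_⟩
    have h' : (a⁻¹ * b)⁻¹.1 1 0 = 0 := by
      generalize a⁻¹ * b = z at hg
      rw [show z⁻¹.1 = Matrix.adjugate z.1 from rfl, Matrix.adjugate_fin_two]
      simpa using hg
    simpa [mul_assoc] using hG _ h' _ hu
  rw [Sylow.coe_subgroup_smul, Sylow.coe_subgroup_smul, hS,
    ← mul_inv_cancel_left a b, map_mul MulAut.conj a, mul_smul, ← Subgroup.smul_sup]
  suffices hsup : U ⊔ MulAut.conj (a⁻¹ * b) • U = ⊤ by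
    rw [hsup]
    exact le_antisymm le_top fun x _ => (Subgroup.mem_pointwise_smul_iff_inv_smul_mem).2 trivial
  set g := a⁻¹ * b
  set K := U ⊔ MulAut.conj g • U with hK
  have hup : ∀ c, SpecialLinearGroup.transvection zero_ne_one c ∈ K := fun c =>
    Subgroup.mem_sup_left (by simp [U, mem_upperU, SpecialLinearGroup.transvection_coe])
  have hlow : ∀ c, SpecialLinearGroup.transvection one_ne_zero c ∈ K := fun c => by
    let u := SpecialLinearGroup.transvection (zero_ne_one (α := Fin 2)) (g.1 0 0 / g.1 1 0)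
    have hw : (u⁻¹ * g).1 0 0 = 0 := by
      simp [u, SpecialLinearGroup.transvection_inv, SpecialLinearGroup.transvection_coe,
        Matrix.mul_apply, Fin.sum_univ_two, Matrix.single_apply]
      field_simp
      ring
    set w := u⁻¹ * g with hwdef
    have hdet := w.2
    rw [Matrix.det_fin_two, hw] at hdet
    have hmem : w⁻¹ * SpecialLinearGroup.transvection one_ne_zero c * w ∈ U := by
      simp only [U, Subgroup.mem_comap, mem_upperU, SpecialLinearGroup.coe_mul,
        SpecialLinearGroup.coe_inv, SpecialLinearGroup.transvection_coe]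
      simp [Matrix.adjugate_fin_two, Matrix.mul_apply, Matrix.vecMul, dotProduct, Fin.sum_univ_two, hw, Matrix.single_apply,
        SpecialLinearGroup.toGL, SpecialLinearGroup.transvection_coe, SpecialLinearGroup.coe_inv]
      constructor <;> linear_combination hdet
    have h2 : g * (w⁻¹ * SpecialLinearGroup.transvection one_ne_zero c * w) * g⁻¹ ∈ K :=
      Subgroup.mem_sup_right ⟨_, hmem, rfl⟩
    have heq : g * (w⁻¹ * SpecialLinearGroup.transvection one_ne_zero c * w) * g⁻¹ =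
        u * SpecialLinearGroup.transvection one_ne_zero c * u⁻¹ := by
      rw [hwdef]; group
    rw [heq] at h2
    have h3 := K.mul_mem (K.mul_mem (K.inv_mem (hup (g.1 0 0 / g.1 1 0))) h2)
      (hup (g.1 0 0 / g.1 1 0))
    simpa [u, mul_assoc] using h3
  refine eq_top_iff.2 fun x _ => Matrix.SL2.transvection_induction (· ∈ K) ?_
    (fun _ _ => mul_mem) x
  intro i j hij c
  fin_cases i <;> fin_cases j
  · exact absurd rfl hij
  · exact hup c
  · exact hlow c
  · exact absurd rfl hij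

end Cfsg.Agent.ClassicalGL2
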