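/-
The projective line: frames, sharp 3-transitivity of PGL_2, counting, small exceptional
isomorphisms with alternating groups.
-/
import Cfsg.Agent.Lib.Classical.GL2
import Cfsg.Agent.Lib.Classical.SL
import Mathlib.LinearAlgebra.Projectivization.Action
import Mathlib.LinearAlgebra.Projectivization.Cardinality
import Mathlib.LinearAlgebra.Projectivization.PSL.PSL2
import Mathlib.GroupTheory.SpecificGroups.Alternating.Simple

set_option autoImplicit false

namespace Cfsg.Agent.ProjLine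

open Matrix Projectivization
open scoped LinearAlgebra.Projectivization

variable {F : Type*} [Field F]

/-- First standard point. -/
def p0 : ℙ F (Fin 2 → F) := mk F ![1, 0] fun h => one_ne_zero (congrFun h 0)
/-- Second standard point. -/
def p1 : ℙ F (Fin 2 → F) := mk F ![0, 1] fun h => one_ne_zero (congrFun h 1)
/-- Third standard point. -/
def p2 : ℙ F (Fin 2 → F) := mk F ![1, 1] fun h => one_ne_zero (congrFun h 0)

theorem p0_ne_p1 : (p0 : ℙ F (Fin 2 → F)) ≠ p1 := by
  intro h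
  obtain ⟨a, ha⟩ := (mk_eq_mk_iff' F _ _ _ _).1 h
  simpa using congrFun ha 0

theorem p0_ne_p2 : (p0 : ℙ F (Fin 2 → F)) ≠ p2 := by
  intro h
  obtain ⟨a, ha⟩ := (mk_eq_mk_iff' F _ _ _ _).1 h
  have e0 := congrFun ha 0
  have e1 := congrFun ha 1
  simp at e0 e1
  simp [e1] at e0

theorem p1_ne_p2 : (p1 : ℙ F (Fin 2 → F)) ≠ p2 := by
  intro h
  obtain ⟨a, ha⟩ := (mk_eq_mk_iff' F _ _ _ _).1 h
  have e0 := congrFun ha 0
  have e1 := congrFun ha 1
  simp at e0 e1
  simp [e0] at e1

theorem gl_smul_def (g : GL (Fin 2) F) (v : Fin 2 → F) : g • v = g.1 *ᵥ v := rfl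

/-- Every ordered triple of distinct points is the image of the standard one. -/
theorem exists_frame (a b c : ℙ F (Fin 2 → F)) (hab : a ≠ b) (hac : a ≠ c) (hbc : b ≠ c) :
    ∃ g : GL (Fin 2) F, g • p0 = a ∧ g • p1 = b ∧ g • p2 = c := by
  induction a using Projectivization.ind with | _ u hu =>
  induction b using Projectivization.ind with | _ v hv =>
  induction c using Projectivization.ind with | _ w hw =>
  have hli : LinearIndependent F ![u, v] := by
    rw [LinearIndependent.pair_iff' hu]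
    intro a ha
    exact hab ((mk_eq_mk_iff' F _ _ _ _).2 ⟨a, ha⟩).symm
  have hspan : Submodule.span F (Set.range ![u, v]) = ⊤ :=
    hli.span_eq_top_of_card_eq_finrank (by simp)
  have hwm : w ∈ Submodule.span F ({u, v} : Set (Fin 2 → F)) := by
    rw [← Matrix.range_cons_cons_empty u v ![], hspan]
    trivial
  obtain ⟨α, β, hw'⟩ := Submodule.mem_span_pair.1 hwm
  have hα : α ≠ 0 := by
    rintro rfl
    exact hbc ((mk_eq_mk_iff' F _ _ _ _).2 ⟨β, by simpa using hw'⟩).symm
  have hβ : β ≠ 0 := by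
    rintro rfl
    exact hac ((mk_eq_mk_iff' F _ _ _ _).2 ⟨α, by simpa using hw'⟩).symm
  let M : Matrix (Fin 2) (Fin 2) F := !![α * u 0, β * v 0; α * u 1, β * v 1]
  have hdet : M.det ≠ 0 := by
    intro h0
    obtain ⟨x, hx0, hx⟩ := Matrix.exists_mulVec_eq_zero_iff.2 h0
    have e0 := congrFun hx 0
    have e1 := congrFun hx 1
    simp [M, mulVec, dotProduct, Fin.sum_univ_two] at e0 e1
    have := Fintype.linearIndependent_iff.1 hli ![α * x 0, β * x 1] (by
      ext i
      fin_cases i <;> simp [Fin.sum_univ_two]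
      · linear_combination e0
      · linear_combination e1)
    have h0' := this 0
    have h1' := this 1
    simp [hα, hβ] at h0' h1'
    exact hx0 (funext fun i => by fin_cases i <;> simpa)
  refine ⟨GeneralLinearGroup.mkOfDetNeZero M hdet, ?_, ?_, ?_⟩
  · rw [p0, smul_mk]
    refine (mk_eq_mk_iff' F _ _ _ _).2 ⟨α, ?_⟩
    rw [gl_smul_def]
    ext i; fin_cases i <;> simp [M, GeneralLinearGroup.mkOfDetNeZero, mulVec, dotProduct,
      Fin.sum_univ_two]
  · rw [p1, smul_mk]
    refine (mk_eq_mk_iff' F _ _ _ _).2 ⟨β, ?_⟩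
    rw [gl_smul_def]
    ext i; fin_cases i <;> simp [M, GeneralLinearGroup.mkOfDetNeZero, mulVec, dotProduct,
      Fin.sum_univ_two]
  · rw [p2, smul_mk]
    refine (mk_eq_mk_iff' F _ _ _ _).2 ⟨1, ?_⟩
    rw [gl_smul_def, one_smul, ← hw']
    ext i; fin_cases i <;> simp [M, GeneralLinearGroup.mkOfDetNeZero, mulVec, dotProduct,
      Fin.sum_univ_two]

/-- Only scalars fix the standard triple. -/
theorem mem_center_of_fix (g : GL (Fin 2) F) (h0 : g • (p0 : ℙ F (Fin 2 → F)) = p0)
    (h1 : g • (p1 : ℙ F (Fin 2 → F)) = p1) (h2 : g • (p2 : ℙ F (Fin 2 → F)) = p2) :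
    g ∈ Subgroup.center (GL (Fin 2) F) := by
  rw [p0, smul_mk, mk_eq_mk_iff'] at h0
  rw [p1, smul_mk, mk_eq_mk_iff'] at h1
  rw [p2, smul_mk, mk_eq_mk_iff'] at h2
  obtain ⟨a, ha⟩ := h0
  obtain ⟨b, hb⟩ := h1
  obtain ⟨c, hc⟩ := h2
  have a0 := congrFun ha 0
  have a1 := congrFun ha 1
  have b0 := congrFun hb 0
  have b1 := congrFun hb 1
  have c0 := congrFun hc 0
  have c1 := congrFun hc 1
  simp [gl_smul_def, mulVec, dotProduct, Fin.sum_univ_two] at a0 a1 b0 b1 c0 c1
  rw [Subgroup.mem_center_iff]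
  intro h
  apply Units.ext
  rw [Units.val_mul, Units.val_mul]
  have hg : g.1 = c • 1 := by
    ext i j
    fin_cases i <;> fin_cases j <;> simp
    · linear_combination -c0 + b0
    · exact b0.symm
    · exact a1.symm
    · linear_combination -c1 + a1
  rw [hg, Matrix.mul_smul, Matrix.smul_mul, Matrix.mul_one, Matrix.one_mul]

/-- `PGL_2` is sharply triply transitive: transitivity. -/
theorem isMultiplyPretransitive_three :
    MulAction.IsMultiplyPretransitive (Matrix.ProjGenLinGroup (Fin 2) F) (ℙ F (Fin 2 → F)) 3 := by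
  refine ⟨fun x y => ?_⟩
  obtain ⟨gx, hx0, hx1, hx2⟩ := exists_frame (x 0) (x 1) (x 2)
    (x.injective.ne (by decide)) (x.injective.ne (by decide)) (x.injective.ne (by decide))
  obtain ⟨gy, hy0, hy1, hy2⟩ := exists_frame (y 0) (y 1) (y 2)
    (y.injective.ne (by decide)) (y.injective.ne (by decide)) (y.injective.ne (by decide))
  refine ⟨ProjGenLinGroup.mk (gy * gx⁻¹), DFunLike.ext _ _ fun i => ?_⟩
  have key : ∀ (g : GL (Fin 2) F) (z : ℙ F (Fin 2 → F)), ProjGenLinGroup.mk g • z = g • z :=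
    fun g z => rfl
  fin_cases i
  · show ProjGenLinGroup.mk (gy * gx⁻¹) • x 0 = y 0
    rw [key, mul_smul, ← hx0, inv_smul_smul, hy0]
  · show ProjGenLinGroup.mk (gy * gx⁻¹) • x 1 = y 1
    rw [key, mul_smul, ← hx1, inv_smul_smul, hy1]
  · show ProjGenLinGroup.mk (gy * gx⁻¹) • x 2 = y 2
    rw [key, mul_smul, ← hx2, inv_smul_smul, hy2]

theorem eq_one_of_fix (g : Matrix.ProjGenLinGroup (Fin 2) F) (a b c : ℙ F (Fin 2 → F))
    (hab : a ≠ b) (hac : a ≠ c) (hbc : b ≠ c) (ha : g • a = a) (hb : g • b = b)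
    (hc : g • c = c) : g = 1 := by
  obtain ⟨h, h0, h1, h2⟩ := exists_frame a b c hab hac hbc
  induction g using ProjGenLinGroup.induction_on with | mk g =>
  have key : ∀ (z : ℙ F (Fin 2 → F)), ProjGenLinGroup.mk g • z = g • z := fun z => rfl
  rw [key] at ha hb hc
  have hfix := mem_center_of_fix (h⁻¹ * g * h)
    (by rw [mul_smul, mul_smul, h0, ha, ← h0, inv_smul_smul])
    (by rw [mul_smul, mul_smul, h1, hb, ← h1, inv_smul_smul])
    (by rw [mul_smul, mul_smul, h2, hc, ← h2, inv_smul_smul])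
  rw [ProjGenLinGroup.mk_eq_one]
  have := (Subgroup.Normal.conj_mem inferInstance _ hfix h :
    h * (h⁻¹ * g * h) * h⁻¹ ∈ Subgroup.center (GL (Fin 2) F))
  simpa [mul_assoc] using this

theorem isSquare_of_fix {a b : F} (g : SpecialLinearGroup (Fin 2) F)
    (h0 : g • (p0 : ℙ F (Fin 2 → F)) = p0) (h1 : g • (p1 : ℙ F (Fin 2 → F)) = p1)
    (hab : ![a, b] ≠ 0)
    (h2 : g • (p2 : ℙ F (Fin 2 → F)) = mk F ![a, b] hab) : IsSquare (a * b) := by
  rw [p0, smul_mk, mk_eq_mk_iff'] at h0
  rw [p1, smul_mk, mk_eq_mk_iff'] at h1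
  rw [p2, smul_mk, mk_eq_mk_iff'] at h2
  obtain ⟨s, hs⟩ := h0
  obtain ⟨t, ht⟩ := h1
  obtain ⟨c, hc⟩ := h2
  have a1 := congrFun hs 1
  have b0 := congrFun ht 0
  have c0 := congrFun hc 0
  have c1 := congrFun hc 1
  simp [Matrix.SpecialLinearGroup.smul_def, mulVec, dotProduct, Fin.sum_univ_two] at a1 b0 c0 c1
  have hd := g.2
  rw [Matrix.det_fin_two, ← a1, ← b0, mul_zero, sub_zero] at hd
  rw [← b0, add_zero] at c0
  rw [← a1, zero_add] at c1
  have hc0 : c ≠ 0 := by
    rintro rfl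
    rw [zero_mul] at c0
    rw [← c0, zero_mul] at hd
    exact zero_ne_one hd
  refine ⟨1 / c, ?_⟩
  field_simp
  linear_combination (c * b) * c0 + (g.1 0 0) * c1 + hd

theorem card_eq [Finite F] : Nat.card (ℙ F (Fin 2 → F)) = Nat.card F + 1 :=
  Projectivization.card_of_finrank_two F _ (by simp)

/-- A faithful action of a group of order `n!/2` on `n` points identifies it with `A_n`. -/
theorem equiv_alternating {G α : Type*} [Group G] [Finite G] [Finite α] {n : ℕ}
    (hα : Nat.card α = n) (f : G →* Equiv.Perm α) (hf : Function.Injective f)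
    (hG : 2 * Nat.card G = n.factorial) : Nonempty (G ≃* alternatingGroup (Fin n)) := by
  classical
  haveI := Fintype.ofFinite α
  have hn : Fintype.card α = n := by rw [← Nat.card_eq_fintype_card, hα]
  let e : Equiv.Perm α ≃* Equiv.Perm (Fin n) := (Fintype.equivFinOfCardEq hn).permCongrHom
  let f' : G →* Equiv.Perm (Fin n) := e.toMonoidHom.comp f
  have hf' : Function.Injective f' := e.injective.comp hf
  have hidx : f'.range.index = 2 := by
    have h := Subgroup.card_mul_index f'.range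
    rw [Nat.card_perm, Nat.card_fin, ← hG, ← Nat.card_congr (MonoidHom.ofInjective hf').toEquiv,
      mul_comm 2] at h
    exact Nat.eq_of_mul_eq_mul_left Nat.card_pos h
  exact ⟨(MonoidHom.ofInjective hf').trans
    (MulEquiv.subgroupCongr (Equiv.Perm.eq_alternatingGroup_of_index_eq_two hidx))⟩

/-- A subgroup of index `n + 1 ≥ 2` of a simple group acts faithfully on the remaining cosets. -/
theorem exists_hom_other_cosets {G : Type*} [Group G] [IsSimpleGroup G] (H : Subgroup G)
    (hH : H ≠ ⊤) :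
    ∃ f : H →* Equiv.Perm {x : G ⧸ H // x ≠ ((1 : G) : G ⧸ H)}, Function.Injective f := by
  have hfix : ∀ h : H, (h : G) • ((1 : G) : G ⧸ H) = ((1 : G) : G ⧸ H) := fun h => by
    show ((((h : G) * 1 : G)) : G ⧸ H) = _
    rw [QuotientGroup.eq]
    simp
  have hkeep : ∀ (h : H) (x : G ⧸ H), x ≠ ((1 : G) : G ⧸ H) →
      (h : G) • x ≠ ((1 : G) : G ⧸ H) := fun h x hx he => hx (by
    rw [← inv_smul_smul (h : G) x, he, ← hfix h, inv_smul_smul, hfix])
  let f : H →* Equiv.Perm {x : G ⧸ H // x ≠ ((1 : G) : G ⧸ H)} :=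
    { toFun := fun h =>
        { toFun := fun x => ⟨(h : G) • x.1, hkeep h x.1 x.2⟩
          invFun := fun x => ⟨((h⁻¹ : H) : G) • x.1, hkeep h⁻¹ x.1 x.2⟩
          left_inv := fun x => Subtype.ext (inv_smul_smul (h : G) x.1)
          right_inv := fun x => Subtype.ext (smul_inv_smul (h : G) x.1) }
      map_one' := Equiv.ext fun x => Subtype.ext (one_smul _ x.1)
      map_mul' := fun h k => Equiv.ext fun x => Subtype.ext (mul_smul (h : G) (k : G) x.1) }
  refine ⟨f, (injective_iff_map_eq_one f).2 fun h hh => ?_⟩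
  have hall : ∀ x : G ⧸ H, (h : G) • x = x := fun x => by
    rcases eq_or_ne x ((1 : G) : G ⧸ H) with rfl | hx
    · exact hfix h
    · exact congrArg Subtype.val (Equiv.ext_iff.1 hh ⟨x, hx⟩)
  have hmem : (h : G) ∈ H.normalCore := by
    rw [Subgroup.normalCore_eq_ker]
    exact MonoidHom.mem_ker.2 (Equiv.ext hall)
  rcases H.normalCore_normal.eq_bot_or_eq_top with hb | ht
  · rw [hb, Subgroup.mem_bot] at hmem
    exact Subtype.ext hmem
  · exact absurd (top_le_iff.1 (ht ▸ H.normalCore_le)) hH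

theorem two_mul_card_psl [Finite F] :
    Nat.gcd 2 (Nat.card F - 1) * Nat.card (ProjectiveSpecialLinearGroup (Fin 2) F) * (Nat.card F - 1)
      = Nat.card F * (Nat.card F - 1) ^ 2 * (Nat.card F + 1) := by
  haveI := Fintype.ofFinite F
  have h := ClassicalSL.card_psl_mul (ι := Fin 2) (F := F)
  rw [Fintype.card_fin, ClassicalGL2.card_gl2] at h
  rw [mul_assoc, mul_comm (Nat.card _) (Nat.card F - 1), h]
  try ring

end Cfsg.Agent.ProjLine
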