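/-
The arithmetic of the class equation for subgroups of PSL_2.
-/
import Mathlib.Tactic.Linarith
import Mathlib.Tactic.Ring
import Mathlib.Tactic.IntervalCases
import Mathlib.Tactic.Positivity
import Mathlib.Tactic.LinearCombination
import Mathlib.Algebra.Order.Ring.Int

set_option autoImplicit false

namespace Cfsg.Agent.Dickson

/-- A class of maximal cyclic subgroups contributes `x = M (h - 1)` elements, `M s h = g`. -/
structure Term (g : ℕ) where
  M : ℕ
  s : ℕ
  h : ℕ
  hs : s = 1 ∨ s = 2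
  hh : 2 ≤ h
  hM : M * (s * h) = g
  hM1 : 1 ≤ M

variable {g : ℕ}

/-- Its contribution. -/
def Term.x (T : Term g) : ℕ := T.M * (T.h - 1)

theorem Term.x_add (T : Term g) : T.x + T.M = T.M * T.h := by
  obtain ⟨c, hc⟩ := Nat.exists_eq_add_of_le T.hh
  rw [Term.x, hc, show 2 + c - 1 = 1 + c by omega]; ring

theorem Term.x_pos (T : Term g) : 1 ≤ T.x :=
  Nat.mul_pos T.hM1 (by have := T.hh; omega)

theorem Term.M_le_x (T : Term g) : T.M ≤ T.x :=
  Nat.le_mul_of_pos_right _ (by have := T.hh; omega)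

theorem Term.one (T : Term g) (h : T.s = 1) : T.x + T.M = g := by
  have h1 := T.hM
  rw [h, one_mul] at h1
  rw [T.x_add, h1]

theorem Term.two (T : Term g) (h : T.s = 2) : 2 * T.x + 2 * T.M = g := by
  have h1 := T.hM
  rw [h] at h1
  have := T.x_add
  linarith

theorem Term.quarter (T : Term g) : g ≤ 4 * T.x := by
  have := T.M_le_x
  rcases T.hs with h | h
  · have := T.one h; omega
  · have := T.two h; omega

theorem p'_one (T : Term g) (he : T.x + 1 = g) : T.s = 1 ∧ T.h = g := by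
  have := T.M_le_x
  have := T.hM1
  rcases T.hs with h | h
  · have h1 := T.one h
    have hM : T.M = 1 := by omega
    have := T.hM
    rw [hM, h, one_mul, one_mul] at this
    exact ⟨h, this⟩
  · have h1 := T.two h
    have := T.x_pos
    omega

theorem p'_two (T U : Term g) (hT : T.s = 1) (he : T.x + U.x + 1 = g) :
    (U.s = 2 ∧ g = 2 * U.h) ∨ (g = 12 ∧ T.h = 3 ∧ U.h = 2) := by
  have h1 := T.one hT
  have q := U.quarter
  have hU : U.s = 2 := by
    rcases U.hs with h | h
    · have := U.one h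
      have := T.M_le_x
      have := U.M_le_x
      omega
    · exact h
  have h2 := U.two hU
  have key : 2 * T.M + 2 * U.M = g + 2 := by omega
  have e1 := T.hM
  rw [hT, one_mul] at e1
  have e2 := U.hM
  rw [hU] at e2
  have a1 := T.hh
  have a2 := U.hh
  have hT3 : T.h ≤ 3 := by
    by_contra hc
    push Not at hc
    have : 4 * T.M ≤ T.M * T.h := by nlinarith
    have : 4 * U.M ≤ U.M * (2 * U.h) := by nlinarith
    omega
  obtain ⟨c, hc⟩ := Nat.exists_eq_add_of_le a1
  rcases Nat.lt_or_ge T.h 3 with h | h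
  · left
    have hM : U.M = 1 := by
      have : T.h = 2 := by omega
      rw [this] at e1
      omega
    rw [hM, one_mul] at e2
    exact ⟨hU, e2.symm⟩
  · right
    have hh : T.h = 3 := by omega
    rw [hh] at e1
    have hU2 : U.h = 2 := by
      by_contra hne
      have : 6 * U.M ≤ U.M * (2 * U.h) := by nlinarith [show 3 ≤ U.h by omega]
      omega
    rw [hU2] at e2
    omega

theorem p'_two_ne (T U : Term g) (he : T.x + U.x + 1 = g) : T.s = 1 ∨ U.s = 1 := by
  rcases T.hs with h | h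
  · exact Or.inl h
  rcases U.hs with h' | h'
  · exact Or.inr h'
  exfalso
  have := T.two h
  have := U.two h'
  have := T.hM1
  have := U.hM1
  omega

theorem p'_three_sorted (T U V : Term g) (hT : T.s = 2) (hU : U.s = 2) (hV : V.s = 2)
    (he : T.x + U.x + V.x + 1 = g) (h12 : T.h ≤ U.h) (h23 : U.h ≤ V.h) :
    (V.M = 1 ∧ V.s = 2) ∨ (g = 12 ∧ T.h = 2 ∧ U.h = 3 ∧ V.h = 3) ∨
      (g = 24 ∧ T.h = 2 ∧ U.h = 3 ∧ V.h = 4) ∨ (g = 60 ∧ T.h = 2 ∧ U.h = 3 ∧ V.h = 5) := by
  have t1 := T.two hT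
  have t2 := U.two hU
  have t3 := V.two hV
  have key : 2 * T.M + 2 * U.M + 2 * V.M = g + 2 := by omega
  have e1 := T.hM; rw [hT] at e1
  have e2 := U.hM; rw [hU] at e2
  have e3 := V.hM; rw [hV] at e3
  have a1 := T.hh; have a2 := U.hh; have a3 := V.hh
  have hT2 : T.h = 2 := by
    by_contra hne
    have : 6 * T.M ≤ T.M * (2 * T.h) := by nlinarith [show 3 ≤ T.h by omega]
    have : 6 * U.M ≤ U.M * (2 * U.h) := by nlinarith [show 3 ≤ U.h by omega]
    have : 6 * V.M ≤ V.M * (2 * V.h) := by nlinarith [show 3 ≤ V.h by omega]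
    omega
  rw [hT2] at e1
  have hU3 : U.h ≤ 3 := by
    by_contra hne
    have : 8 * U.M ≤ U.M * (2 * U.h) := by nlinarith [show 4 ≤ U.h by omega]
    have : 8 * V.M ≤ V.M * (2 * V.h) := by nlinarith [show 4 ≤ V.h by omega]
    omega
  rcases Nat.lt_or_ge U.h 3 with h | h
  · left
    rw [show U.h = 2 by omega] at e2
    exact ⟨by omega, hV⟩
  have hU' : U.h = 3 := by omega
  rw [hU'] at e2
  have hV5 : V.h ≤ 5 := by
    by_contra hne
    have : 12 * V.M ≤ V.M * (2 * V.h) := by nlinarith [show 6 ≤ V.h by omega]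
    omega
  right
  have : V.h = 3 ∨ V.h = 4 ∨ V.h = 5 := by omega
  rcases this with hv | hv | hv <;> rw [hv] at e3 <;> omega

theorem p'_three (T U V : Term g) (he : T.x + U.x + V.x + 1 = g) :
    (∃ W ∈ [T, U, V], W.M = 1 ∧ W.s = 2) ∨ (g = 12 ∧ ∀ W ∈ [T, U, V], W.h = 2 ∨ W.h = 3) ∨
      (g = 24 ∧ ∀ W ∈ [T, U, V], W.h = 2 ∨ W.h = 3 ∨ W.h = 4) ∨
      (g = 60 ∧ ∃ W ∈ [T, U, V], W.h = 5 ∧ W.s = 2) := by
  have q1 := T.quarter; have q2 := U.quarter; have q3 := V.quarter
  have hT : T.s = 2 := T.hs.resolve_left fun h => by have := T.one h; have := T.M_le_x; omega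
  have hU : U.s = 2 := U.hs.resolve_left fun h => by have := U.one h; have := U.M_le_x; omega
  have hV : V.s = 2 := V.hs.resolve_left fun h => by have := V.one h; have := V.M_le_x; omega
  have key : ∀ A B C : Term g, A ∈ [T, U, V] → B ∈ [T, U, V] → C ∈ [T, U, V] →
      (∀ W ∈ [T, U, V], W = A ∨ W = B ∨ W = C) → A.s = 2 → B.s = 2 → C.s = 2 → A.x + B.x + C.x + 1 = g →
      A.h ≤ B.h → B.h ≤ C.h →
      (∃ W ∈ [T, U, V], W.M = 1 ∧ W.s = 2) ∨ (g = 12 ∧ ∀ W ∈ [T, U, V], W.h = 2 ∨ W.h = 3) ∨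
        (g = 24 ∧ ∀ W ∈ [T, U, V], W.h = 2 ∨ W.h = 3 ∨ W.h = 4) ∨
        (g = 60 ∧ ∃ W ∈ [T, U, V], W.h = 5 ∧ W.s = 2) := by
    intro A B C _ _ hC hall hA hB hC' he' h12 h23
    rcases p'_three_sorted A B C hA hB hC' he' h12 h23 with h | ⟨h, r, s, t⟩ | ⟨h, r, s, t⟩ | ⟨h, r, s, t⟩
    · exact Or.inl ⟨C, hC, h⟩
    · refine Or.inr (Or.inl ⟨h, fun W hW => ?_⟩)
      rcases hall W hW with rfl | rfl | rfl <;> omega
    · refine Or.inr (Or.inr (Or.inl ⟨h, fun W hW => ?_⟩))
      rcases hall W hW with rfl | rfl | rfl <;> omega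
    · exact Or.inr (Or.inr (Or.inr ⟨h, C, hC, t, hC'⟩))
  have hm : ∀ W ∈ [T, U, V], W = T ∨ W = U ∨ W = V := fun W hW => by simpa using hW
  rcases le_total T.h U.h with a | a <;> rcases le_total U.h V.h with b | b
  · exact key T U V (by simp) (by simp) (by simp) hm hT hU hV he a b
  · rcases le_total T.h V.h with c | c
    · exact key T V U (by simp) (by simp) (by simp) (fun W hW => by have := hm W hW; tauto) hT hV hU (by omega) c b
    · exact key V T U (by simp) (by simp) (by simp) (fun W hW => by have := hm W hW; tauto) hV hT hU (by omega) c a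
  · rcases le_total T.h V.h with c | c
    · exact key U T V (by simp) (by simp) (by simp) (fun W hW => by have := hm W hW; tauto) hU hT hV (by omega) a c
    · exact key U V T (by simp) (by simp) (by simp) (fun W hW => by have := hm W hW; tauto) hU hV hT (by omega) b c
  · exact key V U T (by simp) (by simp) (by simp) (fun W hW => by have := hm W hW; tauto) hV hU hT (by omega) b a

theorem p_small {N q : ℕ} (hq : 2 ≤ q) (hN : 2 ≤ N) (hg : g = N * q) (T : Term g)
    (he : N * (q - 1) + T.x + 1 = g) :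
    T.s = 2 ∧ ((q = 2 ∧ g = 2 * T.h) ∨ (q = 3 ∧ g = 12 ∧ T.h = 2)) := by
  obtain ⟨r, rfl⟩ := Nat.exists_eq_add_of_le hq
  rw [show 2 + r - 1 = 1 + r by omega] at he
  have hx : T.x + 1 = N := by nlinarith
  have := T.quarter
  have := T.M_le_x
  have := T.hM1
  have hs : T.s = 2 := T.hs.resolve_left fun h => by
    have := T.one h
    nlinarith
  have h2 := T.two hs
  have hq4 : r ≤ 1 := by
    by_contra hne
    nlinarith [show 2 ≤ r by omega]
  refine ⟨hs, ?_⟩
  have e := T.hM
  rw [hs] at e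
  have := T.hh
  rcases Nat.le_one_iff_eq_zero_or_eq_one.1 hq4 with rfl | rfl
  · left
    have hM : T.M = 1 := by omega
    rw [hM, one_mul] at e
    exact ⟨rfl, e.symm⟩
  · right
    have h22 : T.h = 2 := by
      by_contra hne
      have : 6 * T.M ≤ T.M * (2 * T.h) := by nlinarith [show 3 ≤ T.h by omega]
      omega
    rw [h22] at e
    omega

theorem p_big_first {N q d : ℕ} (hq : 2 ≤ q) (hd : 2 ≤ d) (hN : 2 ≤ N) (hg : g = N * (d * q)) (T : Term g)
    (hT : T.h = d) {S : ℕ} (hS : S = 0 ∨ g ≤ 4 * S) (he : N * (q - 1) + T.x + S + 1 = g) :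
    T.s = 2 ∧ 2 * S + N * (q - 2) + 2 = g ∧ g ≤ 4 * S := by
  obtain ⟨r, rfl⟩ := Nat.exists_eq_add_of_le hq
  rw [show 2 + r - 1 = 1 + r by omega] at he
  rw [show 2 + r - 2 = r by omega]
  have hq4 : 4 * N ≤ g := by
    have h4 : 4 ≤ d * (2 + r) := by nlinarith
    calc 4 * N = N * 4 := mul_comm _ _
      _ ≤ N * (d * (2 + r)) := Nat.mul_le_mul_left _ h4
      _ = g := hg.symm
  have e := T.hM
  rcases T.hs with h | h
  · exfalso
    rw [h, hT, one_mul] at e
    have hM : T.M = N * (2 + r) := Nat.eq_of_mul_eq_mul_right (show 0 < d by omega) (by linarith)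
    have := T.one h
    rw [hM] at this
    rcases hS with rfl | hS <;> nlinarith
  · rw [h, hT] at e
    have hM : 2 * T.M = N * (2 + r) :=
      Nat.eq_of_mul_eq_mul_right (show 0 < d by omega) (by linarith)
    have := T.two h
    refine ⟨h, by nlinarith, hS.resolve_left ?_⟩
    rintro rfl
    nlinarith

/-- The final equation. -/
theorem p_big {N q d k : ℕ} (hq : 2 ≤ q) (hd : 2 ≤ d) (hdvd : d ∣ q - 1) (hk : N = 1 + k * q) (hk1 : 1 ≤ k)
    (hg : g = N * (d * q)) (U : Term g) (he : 2 * U.x + N * (q - 2) + 2 = g) :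
    U.s = 2 ∧ ((k = 1 ∧ q - 1 ≤ 2 * d) ∨ (g = 60 ∧ U.h = 5)) := by
  have hs : U.s = 2 := U.hs.resolve_left fun h => by
    have := U.one h
    have := U.M_le_x
    omega
  refine ⟨hs, ?_⟩
  have h2 := U.two hs
  have e := U.hM
  rw [hs] at e
  obtain ⟨r, rfl⟩ := Nat.exists_eq_add_of_le hq
  rw [show 2 + r - 2 = r by omega] at he
  rw [show 2 + r - 1 = 1 + r by omega] at hdvd ⊢
  obtain ⟨c, hc⟩ := hdvd
  have hM : 2 * U.M = N * r + 2 := by omega
  have hgZ : (g : ℤ) = N * (d * (2 + r)) := by exact_mod_cast hg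
  have hkZ : (N : ℤ) = 1 + k * (2 + r) := by exact_mod_cast hk
  have hMZ : 2 * (U.M : ℤ) = N * r + 2 := by exact_mod_cast hM
  have heZ : (U.M : ℤ) * (2 * U.h) = g := by exact_mod_cast e
  have hcZ : (1 : ℤ) + r = d * c := by exact_mod_cast hc
  have hdZ : (2 : ℤ) ≤ d := by exact_mod_cast hd
  have hk1Z : (1 : ℤ) ≤ k := by exact_mod_cast hk1
  set j : ℤ := (U.h : ℤ) - d with hj
  have key : j * (1 + k * r) = 2 * k * d := by
    refine mul_right_cancel₀ (show (2 : ℤ) + r ≠ 0 by positivity) ?_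
    rw [hj]
    linear_combination heZ + hgZ - (U.h : ℤ) * hMZ + (d * (2 + (r : ℤ)) - (r : ℤ) * U.h) * hkZ
  have hr : (0 : ℤ) ≤ r := Int.natCast_nonneg r
  have hpos : (0 : ℤ) < 1 + k * r := by positivity
  have hj1 : 1 ≤ j := by
    by_contra hne
    have : j * (1 + k * r) ≤ 0 := mul_nonpos_of_nonpos_of_nonneg (by omega) hpos.le
    nlinarith
  have hcpos : (1 : ℤ) ≤ c := by
    rcases Nat.eq_zero_or_pos c with rfl | h
    · push_cast at hcZ; omega
    · exact_mod_cast h
  rcases eq_or_lt_of_le hj1 with h | h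
  · -- j = 1
    rw [← h, one_mul] at key
    have h1 : (k : ℤ) * (2 * d - r) = 1 := by linear_combination -key
    have hk' : (k : ℤ) = 1 := by
      rcases Int.eq_one_or_neg_one_of_mul_eq_one h1 with h' | h' <;> omega
    left
    rw [hk', one_mul] at h1
    omega
  rcases eq_or_lt_of_le (show (2 : ℤ) ≤ j by omega) with h' | h'
  · rw [← h'] at key
    have h1 : (k : ℤ) * (d - r) = 1 := by linarith
    have hk' : (k : ℤ) = 1 := by
      rcases Int.eq_one_or_neg_one_of_mul_eq_one h1 with h'' | h'' <;> omega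
    left
    rw [hk', one_mul] at h1
    omega
  · -- j ≥ 3
    right
    have hle : 3 * (1 + (k : ℤ) * r) ≤ 2 * k * d := key ▸ mul_le_mul_of_nonneg_right (by omega) hpos.le
    have hc1 : (c : ℤ) = 1 := by
      by_contra hne
      have h2c : (2 : ℤ) * d ≤ d * c := by nlinarith [show (2 : ℤ) ≤ c by omega]
      have : (k : ℤ) * (2 * d) ≤ k * (1 + r) := mul_le_mul_of_nonneg_left (by linarith) (by linarith)
      have hr1 : (3 : ℤ) ≤ r := by linarith
      nlinarith
    rw [hc1, mul_one] at hcZ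
    have hr1 : r = 1 := by
      have : (r : ℤ) ≤ 1 := by nlinarith
      omega
    subst hr1
    have hd2 : d = 2 := by omega
    subst hd2
    push_cast at key hle
    have hk3 : k ≥ 3 := by omega
    have hj4 : j ≤ 3 := by nlinarith
    have hj3 : j = 3 := by omega
    rw [hj3] at key
    have hk' : k = 3 := by omega
    subst hk'
    exact ⟨by rw [hg, hk], by omega⟩

end Cfsg.Agent.Dickson
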