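/-
Klein four-subgroups: construction from two commuting involutions, conjugacy class sizes, and the
recognition of A_4 and S_4 through a self-centralising normal four-group.
-/
import Cfsg.Agent.Lib.Classical.ProjLine
import Mathlib.GroupTheory.SpecificGroups.KleinFour
import Mathlib.GroupTheory.Sylow
import Mathlib.Algebra.Group.Subgroup.Finite

set_option autoImplicit false

namespace Cfsg.Agent.FourGroup

variable {G : Type*} [Group G]

/-- The number of conjugates times the order of the centraliser. -/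
theorem card_class_mul_centralizer [Finite G] (a : G) :
    Nat.card {y : G // IsConj a y} * Nat.card (Subgroup.centralizer ({a} : Set G)) = Nat.card G := by
  have h : ∀ g h : G, (QuotientGroup.leftRel (Subgroup.centralizer ({a} : Set G))) g h ↔
      g * a * g⁻¹ = h * a * h⁻¹ := by
    intro g h
    rw [QuotientGroup.leftRel_apply, Subgroup.mem_centralizer_singleton_iff]
    constructor
    · intro e
      calc g * a * g⁻¹ = g * (a * (g⁻¹ * h)) * h⁻¹ := by group
        _ = g * ((g⁻¹ * h) * a) * h⁻¹ := by rw [e]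
        _ = h * a * h⁻¹ := by group
    · intro e
      calc g⁻¹ * h * a = g⁻¹ * (h * a * h⁻¹) * h := by group
        _ = g⁻¹ * (g * a * g⁻¹) * h := by rw [e]
        _ = a * (g⁻¹ * h) := by group
  let f : G ⧸ Subgroup.centralizer ({a} : Set G) → {y : G // IsConj a y} :=
    Quotient.lift (fun g => ⟨g * a * g⁻¹, isConj_iff.2 ⟨g, rfl⟩⟩)
      (fun g k e => Subtype.ext ((h g k).1 e))
  have hb : Function.Bijective f := by
    constructor
    · intro x y
      induction x using Quotient.inductionOn with | h g =>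
      induction y using Quotient.inductionOn with | h k =>
      intro e
      exact Quotient.sound ((h g k).2 (congrArg Subtype.val e))
    · rintro ⟨y, hy⟩
      obtain ⟨c, hc⟩ := isConj_iff.1 hy
      exact ⟨QuotientGroup.mk c, Subtype.ext hc⟩
  rw [← Nat.card_congr (Equiv.ofBijective f hb), ← Subgroup.index_eq_card, mul_comm,
    Subgroup.card_mul_index]

/-- The subgroup `{1, a, b, a * b}` generated by two commuting involutions. -/
def four (a b : G) (ha : a * a = 1) (hb : b * b = 1) (hab : a * b = b * a) : Subgroup G where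
  carrier := {1, a, b, a * b}
  one_mem' := Or.inl rfl
  mul_mem' := by
    have e1 : a * (a * b) = b := by rw [← mul_assoc, ha, one_mul]
    have e2 : b * a = a * b := hab.symm
    have e3 : b * (a * b) = a := by rw [hab, ← mul_assoc, hb, one_mul]
    have e4 : a * b * a = b := by rw [hab, mul_assoc, ha, mul_one]
    have e5 : a * b * b = a := by rw [mul_assoc, hb, mul_one]
    have e6 : a * b * (a * b) = 1 := by rw [mul_assoc, e3, ha]
    intro x y hx hy
    simp only [Set.mem_insert_iff, Set.mem_singleton_iff] at hx hy ⊢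
    rcases hx with rfl | rfl | rfl | rfl <;> rcases hy with rfl | rfl | rfl | rfl <;>
      simp [ha, hb, e1, e2, e3, e4, e5, e6]
  inv_mem' := by
    have h1 : a⁻¹ = a := inv_eq_of_mul_eq_one_left ha
    have h2 : b⁻¹ = b := inv_eq_of_mul_eq_one_left hb
    intro x hx
    simp only [Set.mem_insert_iff, Set.mem_singleton_iff] at hx ⊢
    rcases hx with rfl | rfl | rfl | rfl <;> simp [h1, h2, hab]

theorem mem_four {a b : G} {ha : a * a = 1} {hb : b * b = 1} {hab : a * b = b * a} {x : G} :
    x ∈ four a b ha hb hab ↔ x = 1 ∨ x = a ∨ x = b ∨ x = a * b := by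
  show x ∈ ({1, a, b, a * b} : Set G) ↔ _
  simp

theorem isKleinFour_four {a b : G} {ha : a * a = 1} {hb : b * b = 1} {hab : a * b = b * a}
    (ha1 : a ≠ 1) (hb1 : b ≠ 1) (hne : a ≠ b) : IsKleinFour (four a b ha hb hab) := by
  have hab1 : a * b ≠ 1 := fun h => hne (by
    rw [← inv_eq_of_mul_eq_one_left hb]
    exact eq_inv_of_mul_eq_one_left h)
  refine ⟨?_, Nat.dvd_antisymm (Monoid.exponent_dvd_of_forall_pow_eq_one ?_) ?_⟩
  · show Nat.card ({1, a, b, a * b} : Set G) = 4
    rw [Nat.card_coe_set_eq, Set.ncard_insert_of_notMem, Set.ncard_insert_of_notMem,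
      Set.ncard_insert_of_notMem, Set.ncard_singleton]
    · simp [ha1]
    · simp [hne, hb1]
    · simp [ha1.symm, hb1.symm, hab1.symm]
  · rintro ⟨x, hx⟩
    apply Subtype.ext
    rw [Subgroup.coe_pow, pow_two]
    rcases mem_four.1 hx with rfl | rfl | rfl | rfl
    · exact one_mul 1
    · exact ha
    · exact hb
    · show a * b * (a * b) = 1
      rw [mul_assoc, ← mul_assoc b, ← hab, ← mul_assoc, ← mul_assoc, ha, one_mul, hb]
  · have h := Monoid.order_dvd_exponent (⟨a, mem_four.2 (Or.inr (Or.inl rfl))⟩ :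
      four a b ha hb hab)
    rwa [← Subgroup.orderOf_coe, orderOf_eq_prime (pow_two a ▸ ha) ha1] at h

theorem mul_self_of_mem {V : Subgroup G} (hV : IsKleinFour V) {a : G} (ha : a ∈ V) : a * a = 1 := by
  have h := Monoid.pow_exponent_eq_one (⟨a, ha⟩ : V)
  rw [hV.exponent_two, pow_two] at h
  exact congrArg Subtype.val h

theorem comm_of_mem {V : Subgroup G} (hV : IsKleinFour V) {a b : G} (ha : a ∈ V) (hb : b ∈ V) :
    a * b = b * a := by
  have h := inv_eq_of_mul_eq_one_left (mul_self_of_mem hV (mul_mem ha hb))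
  rw [mul_inv_rev, inv_eq_of_mul_eq_one_left (mul_self_of_mem hV ha),
    inv_eq_of_mul_eq_one_left (mul_self_of_mem hV hb)] at h
  exact h.symm

/-- A four-group containing two distinct involutions is generated by them. -/
theorem eq_four {V : Subgroup G} (hV : IsKleinFour V) {a b : G} (ha : a ∈ V) (hb : b ∈ V)
    (ha1 : a ≠ 1) (hb1 : b ≠ 1) (hne : a ≠ b) :
    V = four a b (mul_self_of_mem hV ha) (mul_self_of_mem hV hb) (comm_of_mem hV ha hb) := by
  haveI : Finite V := Nat.finite_of_card_ne_zero (by rw [hV.card_four]; norm_num)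
  refine (Subgroup.eq_of_le_of_card_ge ?_ ?_).symm
  · intro x hx
    rcases mem_four.1 hx with rfl | rfl | rfl | rfl
    exacts [one_mem _, ha, hb, mul_mem ha hb]
  · rw [hV.card_four, (isKleinFour_four ha1 hb1 hne).card_four]

theorem exists_two {V : Subgroup G} (hV : IsKleinFour V) {a : G} :
    ∃ b ∈ V, b ≠ 1 ∧ b ≠ a := by
  haveI : Finite V := Nat.finite_of_card_ne_zero (by rw [hV.card_four]; norm_num)
  by_contra! h
  have hsub : (V : Set G) ⊆ {1, a} := fun x hx => by
    by_cases hx1 : x = 1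
    · simp [hx1]
    · simp [h x hx hx1]
  have := Set.ncard_le_ncard hsub (by simp)
  have h2 : ({1, a} : Set G).ncard ≤ 2 := (Set.ncard_insert_le _ _).trans (by simp)
  rw [← Nat.card_coe_set_eq] at this
  have h4 : Nat.card (V : Set G) = 4 := hV.card_four
  omega

theorem isKleinFour_map {H : Type*} [Group H] (φ : G ≃* H) {V : Subgroup G} (hV : IsKleinFour V) :
    IsKleinFour (V.map φ.toMonoidHom) := by
  have e : V ≃* V.map φ.toMonoidHom := φ.subgroupMap V
  exact ⟨by rw [← Nat.card_congr e.toEquiv, hV.card_four],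
    by rw [← Monoid.exponent_eq_of_mulEquiv e, hV.exponent_two]⟩

/-- A group with a self-centralising normal four-group and an element of order 3 embeds in `S_4`
through its conjugation action on four Sylow 3-subgroups. -/
theorem exists_hom_perm_four [Finite G] (V : Subgroup G) [V.Normal] (hV : IsKleinFour V)
    (hC : Subgroup.centralizer (V : Set G) ≤ V) (t : G) (ht : orderOf t = 3)
    (h8 : Nat.card G ∣ 24) :
    ∃ f : G →* Equiv.Perm (Sylow 3 G), Function.Injective f ∧ Nat.card (Sylow 3 G) = 4 := by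
  haveI : Fact (Nat.Prime 3) := ⟨Nat.prime_three⟩
  obtain ⟨T, hT⟩ : ∃ T : Sylow 3 G, Subgroup.zpowers t ≤ T :=
    (IsPGroup.of_card (n := 1) (by rw [Nat.card_zpowers, ht, pow_one])).exists_le_sylow
  have hTcard : Nat.card (T : Subgroup G) = 3 := by
    obtain ⟨k, hk⟩ := IsPGroup.iff_card.1 T.isPGroup'
    have h1 : 3 ∣ Nat.card (T : Subgroup G) := by
      have h := Subgroup.card_dvd_of_le hT
      rwa [Nat.card_zpowers, ht] at h
    have h2 : Nat.card (T : Subgroup G) ∣ 24 := (Subgroup.card_subgroup_dvd_card _).trans h8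
    rw [hk] at h1 h2 ⊢
    have hle : 3 ^ k ≤ 24 := Nat.le_of_dvd (by norm_num) h2
    have : k < 3 := by
      by_contra! h
      have := Nat.pow_le_pow_right (show 1 ≤ 3 by norm_num) h
      omega
    interval_cases k <;> simp_all
  -- t acts without fixed points on V
  have hVmul : ∀ g : G, g ∈ Subgroup.normalizer (T : Set G) → g ∈ V → g = 1 := by
    intro g hgN hgV
    by_contra hg1
    have hTn : ∀ x ∈ (T : Subgroup G), g * x * g⁻¹ ∈ (T : Subgroup G) := fun x hx =>
      (Subgroup.mem_normalizer_iff.1 hgN x).1 hx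
    have hcomm : g * t = t * g := by
      have h1 : g * t * g⁻¹ * t⁻¹ ∈ (T : Subgroup G) :=
        mul_mem (hTn t (hT (Subgroup.mem_zpowers t))) (inv_mem (hT (Subgroup.mem_zpowers t)))
      have h2 : g * t * g⁻¹ * t⁻¹ ∈ V := by
        rw [mul_assoc, mul_assoc]
        exact mul_mem hgV (by
          rw [← mul_assoc]
          exact Subgroup.Normal.conj_mem inferInstance _ (inv_mem hgV) t)
      have h3 : orderOf (g * t * g⁻¹ * t⁻¹) ∣ 3 := by
        rw [← hTcard, ← Subgroup.orderOf_mk _ h1]
        exact orderOf_dvd_natCard _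
      have h4 : orderOf (g * t * g⁻¹ * t⁻¹) ∣ 4 := by
        rw [← hV.card_four, ← Subgroup.orderOf_mk _ h2]
        exact orderOf_dvd_natCard _
      have h5 := Nat.eq_one_of_dvd_coprimes (by norm_num : Nat.Coprime 3 4) h3 h4
      rw [orderOf_eq_one_iff, mul_inv_eq_one, mul_inv_eq_iff_eq_mul] at h5
      exact h5
    -- then t centralises V
    have htV : t ∈ Subgroup.centralizer (V : Set G) := by
      refine Subgroup.mem_centralizer_iff.2 fun x hx => ?_
      obtain ⟨b, hbV, hb1, hbg⟩ := exists_two hV (a := g)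
      have hfour := eq_four hV hgV hbV hg1 hb1 (Ne.symm hbg)
      have hb' : t * b * t⁻¹ ∈ V := Subgroup.Normal.conj_mem inferInstance _ hbV t
      have hbfix : t * b * t⁻¹ = b := by
        rw [hfour, mem_four] at hb'
        rcases hb' with h | h | h | h
        · exact absurd (conj_eq_one_iff.1 h) hb1
        · exfalso
          have : t * b * t⁻¹ = t * g * t⁻¹ := by rw [h, ← hcomm, mul_inv_cancel_right]
          exact hbg (mul_left_cancel (mul_right_cancel this))
        · exact h
        · exfalso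
          have hgg : t * g * t⁻¹ = g := by rw [← hcomm, mul_inv_cancel_right]
          have h2 : t * (t * b * t⁻¹) * t⁻¹ = b := by
            calc t * (t * b * t⁻¹) * t⁻¹ = t * (g * b) * t⁻¹ := by rw [h]
              _ = (t * g * t⁻¹) * (t * b * t⁻¹) := by group
              _ = b := by rw [hgg, h, ← mul_assoc, mul_self_of_mem hV hgV, one_mul]
          have h3 : t ^ 3 = 1 := by rw [← ht]; exact pow_orderOf_eq_one t
          have h4 : t * (t * (t * b * t⁻¹) * t⁻¹) * t⁻¹ = b := by
            calc t * (t * (t * b * t⁻¹) * t⁻¹) * t⁻¹ = t ^ 3 * b * (t ^ 3)⁻¹ := by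
                  simp [pow_succ, mul_assoc]
              _ = b := by rw [h3, one_mul, inv_one, mul_one]
          rw [h2, h] at h4
          exact hg1 (mul_eq_right.1 h4)
      rw [SetLike.mem_coe, hfour, mem_four] at hx
      have hcb : b * t = t * b := (mul_inv_eq_iff_eq_mul.1 hbfix).symm
      rcases hx with rfl | rfl | rfl | rfl
      · simp
      · exact hcomm
      · exact hcb
      · rw [mul_assoc, hcb, ← mul_assoc, hcomm, mul_assoc]
    have h6 : orderOf t ∣ 4 := by
      rw [← hV.card_four, ← Subgroup.orderOf_mk t (hC htV)]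
      exact orderOf_dvd_natCard _
    rw [ht] at h6
    norm_num at h6
  have hn : Nat.card (Sylow 3 G) = 4 := by
    have h1 : Nat.card (Sylow 3 G) ≡ 1 [MOD 3] := card_sylow_modEq_one 3 G
    have h2 : Nat.card (Sylow 3 G) ∣ 8 := by
      have ha := Subgroup.card_mul_index (T : Subgroup G)
      rw [hTcard] at ha
      exact (Sylow.card_dvd_index T).trans
        (Nat.dvd_of_mul_dvd_mul_left (show 0 < 3 by norm_num) (ha ▸ h8))
    have h3 : Nat.card (Sylow 3 G) ≠ 1 := by
      intro h
      obtain ⟨b, hbV, hb1, -⟩ := exists_two hV (a := (1 : G))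
      haveI : Subsingleton (Sylow 3 G) := (Nat.card_eq_one_iff_unique.1 h).1
      exact hb1 (hVmul b (Sylow.smul_eq_iff_mem_normalizer.1 (Subsingleton.elim (b • T) T)) hbV)
    have h4 : Nat.card (Sylow 3 G) ≤ 8 := Nat.le_of_dvd (by norm_num) h2
    unfold Nat.ModEq at h1
    interval_cases hh : Nat.card (Sylow 3 G) <;> omega
  refine ⟨MulAction.toPermHom G (Sylow 3 G), ?_, hn⟩
  rw [injective_iff_map_eq_one]
  intro g hg
  have hall : ∀ S : Sylow 3 G, g • S = S := fun S => Equiv.ext_iff.1 hg S
  have hK : g ∈ Subgroup.centralizer (V : Set G) := by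
    refine Subgroup.mem_centralizer_iff.2 fun x hx => ?_
    have hc : x * g * x⁻¹ * g⁻¹ = 1 := by
      apply hVmul
      · rw [← Sylow.smul_eq_iff_mem_normalizer, mul_smul, mul_smul, mul_smul]
        rw [inv_smul_eq_iff.2 (hall T).symm, hall, smul_inv_smul]
      · rw [mul_assoc, mul_assoc]
        exact mul_mem hx (by
          rw [← mul_assoc]
          exact Subgroup.Normal.conj_mem inferInstance _ (inv_mem hx) g)
    rw [mul_inv_eq_one, mul_inv_eq_iff_eq_mul] at hc
    exact hc
  exact hVmul g (Sylow.smul_eq_iff_mem_normalizer.1 (hall T)) (hC hK)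

theorem equiv_perm_four [Finite G] (V : Subgroup G) [V.Normal] (hV : IsKleinFour V)
    (hC : Subgroup.centralizer (V : Set G) ≤ V) (t : G) (ht : orderOf t = 3)
    (hG : Nat.card G = 24) : Nonempty (G ≃* Equiv.Perm (Fin 4)) := by
  obtain ⟨f, hf, h4⟩ := exists_hom_perm_four V hV hC t ht (dvd_of_eq hG)
  haveI := Fintype.ofFinite (Sylow 3 G)
  refine ⟨(MulEquiv.ofBijective f ((Nat.bijective_iff_injective_and_card f).2 ⟨hf, ?_⟩)).trans
    (Fintype.equivFinOfCardEq (by rw [← Nat.card_eq_fintype_card, h4])).permCongrHom⟩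
  rw [Nat.card_perm, h4, hG]
  rfl

theorem equiv_alternating_four [Finite G] (V : Subgroup G) [V.Normal] (hV : IsKleinFour V)
    (hC : Subgroup.centralizer (V : Set G) ≤ V) (t : G) (ht : orderOf t = 3)
    (hG : Nat.card G = 12) : Nonempty (G ≃* alternatingGroup (Fin 4)) := by
  obtain ⟨f, hf, h4⟩ := exists_hom_perm_four V hV hC t ht (by rw [hG]; norm_num)
  exact ProjLine.equiv_alternating h4 f hf (by rw [hG]; rfl)

theorem conj_mem_iff_of_map {V : Subgroup G} {t : G}
    (h : V.map (MulAut.conj t).toMonoidHom = V) (x : G) : x ∈ V ↔ t * x * t⁻¹ ∈ V := by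
  constructor
  · intro hx
    rw [← h]
    exact ⟨x, hx, rfl⟩
  · intro hx
    rw [← h] at hx
    obtain ⟨y, hy, e⟩ := hx
    have : y = x := mul_left_cancel (mul_right_cancel (show t * y * t⁻¹ = t * x * t⁻¹ from e))
    rwa [← this]

theorem mem_normalizer_of_map {V : Subgroup G} {t : G}
    (h : V.map (MulAut.conj t).toMonoidHom = V) : t ∈ Subgroup.normalizer (V : Set G) :=
  Subgroup.mem_normalizer_iff.2 (conj_mem_iff_of_map h)

theorem map_conj_of_generators {V : Subgroup G} (hV : IsKleinFour V) {a b t : G} (ha : a ∈ V)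
    (hb : b ∈ V) (ha1 : a ≠ 1) (hb1 : b ≠ 1) (hne : a ≠ b) (h1 : t * a * t⁻¹ ∈ V)
    (h2 : t * b * t⁻¹ ∈ V) : V.map (MulAut.conj t).toMonoidHom = V := by
  haveI : Finite V := Nat.finite_of_card_ne_zero (by rw [hV.card_four]; norm_num)
  refine Subgroup.eq_of_le_of_card_ge ?_ ?_
  · rintro _ ⟨x, hx, rfl⟩
    rw [SetLike.mem_coe, eq_four hV ha hb ha1 hb1 hne, mem_four] at hx
    show t * x * t⁻¹ ∈ V
    rcases hx with rfl | rfl | rfl | rfl
    · simp
    · exact h1
    · exact h2
    · rw [← conj_mul]; exact mul_mem h1 h2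
  · rw [hV.card_four, (isKleinFour_map (MulAut.conj t) hV).card_four]

theorem subgroupOf_isKleinFour {V H : Subgroup G} (hV : IsKleinFour V) (h : V ≤ H) :
    IsKleinFour (V.subgroupOf H) :=
  ⟨by rw [Nat.card_congr (Subgroup.subgroupOfEquivOfLe h).toEquiv, hV.card_four],
    by rw [Monoid.exponent_eq_of_mulEquiv (Subgroup.subgroupOfEquivOfLe h), hV.exponent_two]⟩

/-- A four-group acted on non-trivially by an element of order 3 lies in an `A_4`. -/
theorem exists_alternating_four [Finite G] (V : Subgroup G) (hV : IsKleinFour V) (t : G)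
    (ht : orderOf t = 3) (htn : t ∈ Subgroup.normalizer (V : Set G))
    (hnc : ∃ a ∈ V, t * a * t⁻¹ ≠ a) :
    ∃ H : Subgroup G, Nonempty (H ≃* alternatingGroup (Fin 4)) := by
  let N := Subgroup.normalizer (V : Set G)
  have hVN : V ≤ N := Subgroup.le_normalizer
  let W : Subgroup N := V.subgroupOf N
  haveI : W.Normal := Subgroup.normal_in_normalizer
  let t' : N := ⟨t, htn⟩
  let π : N →* N ⧸ W := QuotientGroup.mk' W
  have hWK : IsKleinFour W := subgroupOf_isKleinFour hV hVN
  have htπ : orderOf (π t') = 3 := by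
    haveI : Fact (Nat.Prime 3) := ⟨Nat.prime_three⟩
    refine orderOf_eq_prime ?_ ?_
    · rw [← map_pow, show t' ^ 3 = 1 from Subtype.ext (by
        show t ^ 3 = 1
        rw [← ht, pow_orderOf_eq_one]), map_one]
    · intro h
      have htV : t ∈ V := (QuotientGroup.eq_one_iff t').1 h
      obtain ⟨a, ha, hne⟩ := hnc
      exact hne (by rw [comm_of_mem hV htV ha, mul_inv_cancel_right])
  let H' : Subgroup N := (Subgroup.zpowers (π t')).comap π
  have hWH : W ≤ H' := fun x hx => by
    show π x ∈ Subgroup.zpowers (π t')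
    rw [show π x = 1 from (QuotientGroup.eq_one_iff x).2 hx]
    exact one_mem _
  have hH : Nat.card H' = 12 := by
    have h1 := Subgroup.card_mul_index H'
    rw [Subgroup.index_comap_of_surjective _ (QuotientGroup.mk'_surjective W)] at h1
    have h2 := Subgroup.card_mul_index W
    have h3 := Subgroup.card_mul_index (Subgroup.zpowers (π t'))
    rw [Nat.card_zpowers, htπ, ← Subgroup.index_eq_card] at h3
    rw [hWK.card_four, ← h3, ← h1, ← mul_assoc] at h2
    exact (Nat.eq_of_mul_eq_mul_right (Nat.pos_of_ne_zero Subgroup.index_ne_zero_of_finite) h2).symm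
  have htH : t' ∈ H' := Subgroup.mem_zpowers (π t')
  haveI : (W.subgroupOf H').Normal := Subgroup.Normal.comap inferInstance _
  have hWK' : IsKleinFour (W.subgroupOf H') := subgroupOf_isKleinFour hWK hWH
  have hC : Subgroup.centralizer ((W.subgroupOf H') : Set H') ≤ W.subgroupOf H' := by
    intro x hx
    rw [Subgroup.mem_subgroupOf]
    obtain ⟨i, hi⟩ := show π x.1 ∈ Subgroup.zpowers (π t') from x.2
    have hi' : π (t' ^ i) = π x.1 := by rw [map_zpow]; exact hi
    have hwx : x.1⁻¹ * t' ^ i ∈ W := by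
      rw [← QuotientGroup.eq_one_iff]
      show π (x.1⁻¹ * t' ^ i) = 1
      rw [map_mul, hi', ← map_mul, inv_mul_cancel, map_one]
    by_contra hxW
    obtain ⟨a, ha, hne⟩ := hnc
    apply hne
    let a' : N := ⟨a, hVN ha⟩
    have hax : a' * x.1 = x.1 * a' :=
      congrArg Subtype.val (Subgroup.mem_centralizer_iff.1 hx ⟨a', hWH ha⟩ ha)
    have hat : t' ^ i * a' = a' * t' ^ i := by
      have hc : (x.1⁻¹ * t' ^ i) * a' = a' * (x.1⁻¹ * t' ^ i) :=
        comm_of_mem hWK hwx (show a' ∈ W from ha)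
      calc t' ^ i * a' = x.1 * ((x.1⁻¹ * t' ^ i) * a') := by group
        _ = x.1 * (a' * (x.1⁻¹ * t' ^ i)) := by rw [hc]
        _ = (x.1 * a') * (x.1⁻¹ * t' ^ i) := by group
        _ = a' * t' ^ i := by rw [← hax]; group
    have hi3 : ¬ (3 : ℤ) ∣ i := fun h3 => hxW (by
      rw [← QuotientGroup.eq_one_iff]
      show π x.1 = 1
      rw [← hi]
      exact orderOf_dvd_iff_zpow_eq_one.1 (by rw [htπ]; exact_mod_cast h3))
    have hcop : IsCoprime i (3 : ℤ) :=
      ((Int.prime_three).coprime_iff_not_dvd.2 hi3).symm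
    obtain ⟨u, v, huv⟩ := hcop
    have e : t' = (t' ^ i) ^ u * ((t' ^ (3 : ℕ)) ^ v) := by
      conv_lhs => rw [← zpow_one t', ← huv, zpow_add]
      rw [mul_comm u i, mul_comm v 3, zpow_mul, zpow_mul]
      norm_cast
    have h3 : t' ^ (3 : ℕ) = 1 := Subtype.ext (by
      show t ^ 3 = 1
      rw [← ht, pow_orderOf_eq_one])
    rw [h3, one_zpow, mul_one] at e
    have : t' * a' = a' * t' := by
      rw [e]; exact ((show Commute (t' ^ i) a' from hat).zpow_left u)
    have := congrArg Subtype.val this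
    rw [mul_inv_eq_iff_eq_mul]
    exact this
  obtain ⟨e⟩ := equiv_alternating_four (W.subgroupOf H') hWK' hC ⟨t', htH⟩
    (by rw [Subgroup.orderOf_mk, Subgroup.orderOf_mk, ht]) hH
  exact ⟨H'.map N.subtype, ⟨(H'.equivMapOfInjective _ N.subtype_injective).symm.trans e⟩⟩

/-- A self-centralising four-group whose normaliser induces all of `S_3` has normaliser `S_4`. -/
theorem exists_perm_four [Finite G] (V : Subgroup G) (hV : IsKleinFour V)
    (hC : Subgroup.centralizer (V : Set G) ≤ V) (t s : G) (ht : orderOf t = 3)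
    (htn : t ∈ Subgroup.normalizer (V : Set G)) (hsn : s ∈ Subgroup.normalizer (V : Set G))
    {a b : G} (ha : a ∈ V) (hb : b ∈ V) (ha1 : a ≠ 1)
    (hne : a ≠ b) (hsa : s * a * s⁻¹ = a) (hsb : s * b * s⁻¹ = a * b) :
    ∃ H : Subgroup G, Nonempty (H ≃* Equiv.Perm (Fin 4)) := by
  let N := Subgroup.normalizer (V : Set G)
  have hVN : V ≤ N := Subgroup.le_normalizer
  haveI : (V.subgroupOf N).Normal := Subgroup.normal_in_normalizer
  let X := {x : G // x ∈ V ∧ x ≠ 1}
  let act : N → Equiv.Perm X := fun g =>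
    { toFun := fun x => ⟨g.1 * x.1 * g.1⁻¹, (Subgroup.mem_normalizer_iff.1 g.2 x.1).1 x.2.1,
        fun h => x.2.2 (conj_eq_one_iff.1 h)⟩
      invFun := fun x => ⟨g.1⁻¹ * x.1 * g.1, by
          have := (Subgroup.mem_normalizer_iff.1 (inv_mem g.2) x.1).1 x.2.1
          rwa [inv_inv] at this,
        fun h => x.2.2 (conj_eq_one_iff.1 (show g.1⁻¹ * x.1 * g.1⁻¹⁻¹ = 1 by rwa [inv_inv]))⟩
      left_inv := fun x => Subtype.ext (by simp [mul_assoc])
      right_inv := fun x => Subtype.ext (by simp [mul_assoc]) }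
  let φ : N →* Equiv.Perm X :=
    { toFun := act
      map_one' := Equiv.ext fun x => Subtype.ext (by simp [act])
      map_mul' := fun g k => Equiv.ext fun x => Subtype.ext (by simp [act, mul_assoc]) }
  have hker : φ.ker = V.subgroupOf N := by
    ext g
    rw [Subgroup.mem_subgroupOf, MonoidHom.mem_ker]
    constructor
    · intro h
      refine hC (Subgroup.mem_centralizer_iff.2 fun x hx => ?_)
      by_cases hx1 : x = 1
      · simp [hx1]
      · have hx' := congrArg Subtype.val (Equiv.ext_iff.1 h ⟨x, hx, hx1⟩)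
        exact (mul_inv_eq_iff_eq_mul.1 hx').symm
    · intro h
      refine Equiv.ext fun x => Subtype.ext ?_
      show g.1 * x.1 * g.1⁻¹ = x.1
      rw [comm_of_mem hV h x.2.1, mul_inv_cancel_right]
  have hX : Nat.card X = 3 := by
    have hset : {x : G | x ∈ V ∧ x ≠ 1} = (V : Set G) \ {1} := by ext; simp
    show Nat.card {x : G | x ∈ V ∧ x ≠ 1} = 3
    rw [Nat.card_coe_set_eq, hset, Set.ncard_diff_singleton_of_mem (one_mem _),
      ← Nat.card_coe_set_eq]
    show Nat.card V - 1 = 3
    rw [hV.card_four]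
  have htV : t ∉ V := fun h => by
    have := mul_self_of_mem hV h
    rw [← pow_two, ← orderOf_dvd_iff_pow_eq_one, ht] at this
    norm_num at this
  have hb1 : b ≠ 1 := fun h => ha1 (by
    rw [h] at hsb
    simpa using hsb.symm)
  have h3 : 3 ∣ Nat.card φ.range := by
    have e : φ ⟨t, htn⟩ ^ 3 = 1 := by
      rw [← map_pow, show (⟨t, htn⟩ : N) ^ 3 = 1 from Subtype.ext (by
        show t ^ 3 = 1
        rw [← ht, pow_orderOf_eq_one]), map_one]
    have e1 : φ ⟨t, htn⟩ ≠ 1 := fun h => htV (by
      have hm : (⟨t, htn⟩ : N) ∈ φ.ker := h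
      rwa [hker, Subgroup.mem_subgroupOf] at hm)
    haveI : Fact (Nat.Prime 3) := ⟨Nat.prime_three⟩
    rw [← orderOf_eq_prime e e1, ← Subgroup.orderOf_mk _ (show φ ⟨t, htn⟩ ∈ φ.range from ⟨_, rfl⟩)]
    exact orderOf_dvd_natCard _
  have h2 : 2 ∣ Nat.card φ.range := by
    have e : φ ⟨s, hsn⟩ ^ 2 = 1 := by
      refine Equiv.ext fun x => Subtype.ext ?_
      show s * (s * x.1 * s⁻¹) * s⁻¹ = x.1
      have hx := mem_four.1 ((eq_four hV ha hb ha1 hb1 hne).le x.2.1)
      have hab' : s * (a * b) * s⁻¹ = b := by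
        rw [← conj_mul, hsa, hsb, ← mul_assoc, mul_self_of_mem hV ha, one_mul]
      rcases hx with h | h | h | h
      · exact absurd h x.2.2
      · rw [h, hsa, hsa]
      · rw [h, hsb, hab']
      · rw [h, hab', hsb]
    have e1 : φ ⟨s, hsn⟩ ≠ 1 := fun h => by
      have := congrArg Subtype.val (Equiv.ext_iff.1 h ⟨b, hb, hb1⟩)
      exact ha1 (mul_eq_right.1 (hsb.symm.trans this))
    haveI : Fact (Nat.Prime 2) := ⟨Nat.prime_two⟩
    rw [← orderOf_eq_prime e e1, ← Subgroup.orderOf_mk _ (show φ ⟨s, hsn⟩ ∈ φ.range from ⟨_, rfl⟩)]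
    exact orderOf_dvd_natCard _
  haveI : Finite X := Nat.finite_of_card_ne_zero (by omega)
  have hrange : Nat.card φ.range = 6 := by
    have h := Subgroup.card_subgroup_dvd_card φ.range
    rw [Nat.card_perm, hX] at h
    exact Nat.dvd_antisymm h (Nat.Coprime.mul_dvd_of_dvd_of_dvd (by norm_num : Nat.Coprime 2 3) h2 h3)
  have hN : Nat.card N = 24 := by
    rw [← Subgroup.card_mul_index φ.ker, Subgroup.index_ker, hrange, hker,
      (subgroupOf_isKleinFour hV hVN).card_four]
  have hCN : Subgroup.centralizer ((V.subgroupOf N) : Set N) ≤ V.subgroupOf N := fun x hx =>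
    hC (Subgroup.mem_centralizer_iff.2 fun y hy =>
      congrArg Subtype.val (Subgroup.mem_centralizer_iff.1 hx ⟨y, hVN hy⟩ hy))
  exact ⟨N, equiv_perm_four (V.subgroupOf N) (subgroupOf_isKleinFour hV hVN) hCN ⟨t, htn⟩
    (by rw [Subgroup.orderOf_mk, ht]) hN⟩

end Cfsg.Agent.FourGroup
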