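/-
Abelian and Sylow subgroups of SL_2 of order prime to the characteristic: cyclicity, generalised
quaternion Sylow 2-subgroups.
-/
import Cfsg.Agent.Lib.Recog.SL2Orders
import Cfsg.Agent.Lib.OddOrder.Nilpotent
import Mathlib.GroupTheory.SpecificGroups.Quaternion
import Mathlib.GroupTheory.Sylow
import Mathlib.RingTheory.IntegralDomain
import Mathlib.LinearAlgebra.Eigenspace.Triangularizable
import Mathlib.NumberTheory.SumTwoSquares

set_option autoImplicit false

namespace Cfsg.Agent.SL2Sylow

open Matrix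

variable {F : Type*} [Field F]

/-- A generalised quaternion group recognised by generators. -/
theorem quaternion_equiv {G : Type*} [Group G] [Finite G] {n : ℕ} (hn : n ≠ 0) {a b : G}
    (ha : orderOf a = 2 * n) (hb : b ∉ Subgroup.zpowers a) (hb2 : b * b = a ^ n)
    (hab : b * a * b⁻¹ = a⁻¹) (hG : Nat.card G = 4 * n) :
    Nonempty (G ≃* QuaternionGroup n) := by
  haveI : NeZero n := ⟨hn⟩
  haveI : NeZero (2 * n) := ⟨by omega⟩
  have hpow : ∀ i j : ℕ, (i : ZMod (2 * n)) = j → a ^ i = a ^ j := fun i j h => by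
    rw [pow_eq_pow_iff_modEq, ha]
    exact (ZMod.natCast_eq_natCast_iff i j (2 * n)).1 h
  let P : ZMod (2 * n) → G := fun i => a ^ i.val
  have hP : ∀ i j : ZMod (2 * n), P (i + j) = P i * P j := fun i j => by
    simp only [P, ← pow_add]
    exact hpow _ _ (by simp)
  have hPn : P (n : ZMod (2 * n)) = a ^ n := hpow _ _ (by simp)
  have hP0 : P 0 = 1 := by simp [P]
  have hPneg : ∀ i : ZMod (2 * n), P (-i) = (P i)⁻¹ := fun i => by
    rw [eq_inv_iff_mul_eq_one, ← hP, neg_add_cancel, hP0]
  have hconj : ∀ i : ZMod (2 * n), P i * b = b * (P i)⁻¹ := by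
    intro i
    have h1 : b * (P i)⁻¹ * b⁻¹ = P i := by
      rw [← conj_inv, show b * P i * b⁻¹ = (b * a * b⁻¹) ^ i.val from (conj_pow).symm, hab, inv_pow,
        inv_inv]
    calc P i * b = (b * (P i)⁻¹ * b⁻¹) * b := by rw [h1]
      _ = b * (P i)⁻¹ := by rw [inv_mul_cancel_right]
  let f : QuaternionGroup n → G := fun x => match x with
    | .a i => P i
    | .xa i => b * P i
  have hmul : ∀ x y, f (x * y) = f x * f y := by
    rintro (i | i) (j | j)
    · exact hP i j
    · show b * P (j - i) = P i * (b * P j)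
      rw [← mul_assoc, hconj, mul_assoc, ← hPneg, ← hP]
      congr 2
      ring
    · show b * P (i + j) = b * P i * P j
      rw [hP, mul_assoc]
    · show P ((n : ZMod (2 * n)) + j - i) = b * P i * (b * P j)
      rw [mul_assoc, ← mul_assoc (P i) b, hconj, mul_assoc b, ← hPneg, ← hP, ← mul_assoc, hb2,
        ← hPn, ← hP]
      congr 1
      ring
  let φ : QuaternionGroup n →* G := MonoidHom.mk' f hmul
  have hinj : Function.Injective φ := by
    rw [injective_iff_map_eq_one]
    rintro (i | i) h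
    · have h1 : a ^ i.val = a ^ 0 := by simpa [φ, f, P] using h
      rw [pow_eq_pow_iff_modEq, ha] at h1
      have h2 : i.val = 0 :=
        Nat.eq_zero_of_dvd_of_lt ((Nat.modEq_zero_iff_dvd).1 h1) (ZMod.val_lt i)
      rw [ZMod.val_eq_zero] at h2
      rw [h2]; rfl
    · exfalso
      apply hb
      have h1 : b * a ^ i.val = 1 := h
      rw [eq_inv_of_mul_eq_one_left h1]
      exact inv_mem (pow_mem (Subgroup.mem_zpowers a) _)
  refine ⟨(MulEquiv.ofBijective φ ((Nat.bijective_iff_injective_and_card φ).2 ⟨hinj, ?_⟩)).symm⟩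
  rw [hG, Nat.card_eq_fintype_card, QuaternionGroup.card]

theorem scalar_of_common_fixed {x : SpecialLinearGroup (Fin 2) F} {c : F}
    (h : (x : Matrix (Fin 2) (Fin 2) F) = c • 1) :
    x ∈ Subgroup.center (SpecialLinearGroup (Fin 2) F) :=
  SL2Orders.mem_center_of_scalar x c h

/-- A finite subgroup of order prime to `p` all of whose elements commute with a fixed non-central
element is cyclic. -/
theorem isCyclic_of_commute (p : ℕ) [Fact p.Prime] [CharP F p]
    (A : Subgroup (SpecialLinearGroup (Fin 2) F)) [Finite A] (hA : (Nat.card A).Coprime p)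
    (z : SpecialLinearGroup (Fin 2) F) (hz : z ∉ Subgroup.center (SpecialLinearGroup (Fin 2) F))
    (hcomm : ∀ x ∈ A, x * z = z * x) : IsCyclic A := by
  let K := AlgebraicClosure F
  let f : F →+* K := algebraMap F K
  haveI : CharP K p := charP_of_injective_ringHom f.injective p
  let M : SpecialLinearGroup (Fin 2) F →* SpecialLinearGroup (Fin 2) K :=
    SpecialLinearGroup.map f
  obtain ⟨μ, hμ⟩ := Module.End.exists_eigenvalue (Matrix.toLin' (M z).1)
  obtain ⟨v, hv⟩ := hμ.exists_hasEigenvector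
  have hvz : (M z).1 *ᵥ v = μ • v := by
    simpa [Matrix.toLin'_apply] using hv.apply_eq_smul
  have hv0 : v ≠ 0 := hv.2
  -- the eigenspace is a line
  have hline : ∀ u : Fin 2 → K, (M z).1 *ᵥ u = μ • u → u ∈ Submodule.span K {v} := by
    intro u hu
    by_contra hspan
    have hli : LinearIndependent K ![v, u] := by
      rw [LinearIndependent.pair_iff' hv0]
      intro a ha
      exact hspan (Submodule.mem_span_singleton.2 ⟨a, ha⟩)
    have hall : ∀ x : Fin 2 → K, (M z).1 *ᵥ x = μ • x := by
      intro x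
      have htop : Submodule.span K (Set.range ![v, u]) = ⊤ :=
        hli.span_eq_top_of_card_eq_finrank (by simp)
      have hx : x ∈ Submodule.span K (Set.range ![v, u]) := htop ▸ Submodule.mem_top
      induction hx using Submodule.span_induction with
      | mem y hy =>
        obtain ⟨i, rfl⟩ := hy
        fin_cases i
        · simpa using hvz
        · simpa using hu
      | zero => simp
      | add a b _ _ iha ihb => rw [mulVec_add, iha, ihb, smul_add]
      | smul a b _ ihb => rw [mulVec_smul, ihb, smul_comm]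
    have hd : (M z).1 = μ • 1 := by
      apply Matrix.toLin'.injective
      refine LinearMap.ext fun x => ?_
      simp [Matrix.toLin'_apply, hall x, Matrix.smul_mulVec]
    apply hz
    refine scalar_of_common_fixed (c := z.1 0 0) ?_
    ext i j
    apply f.injective
    have e := congrFun (congrFun hd i) j
    have e0 := congrFun (congrFun hd 0) 0
    fin_cases i <;> fin_cases j <;> simp_all [M]
  have heig : ∀ x : A, ∃ l : K, (M x.1).1 *ᵥ v = l • v := by
    intro x
    have hmem := hline ((M x.1).1 *ᵥ v) (by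
      rw [mulVec_mulVec, ← SpecialLinearGroup.coe_mul, ← map_mul, ← hcomm x.1 x.2, map_mul,
        SpecialLinearGroup.coe_mul, ← mulVec_mulVec, hvz, mulVec_smul])
    obtain ⟨l, hl⟩ := Submodule.mem_span_singleton.1 hmem
    exact ⟨l, hl.symm⟩
  choose l hl using heig
  let χ : A →* K :=
    { toFun := l
      map_one' := smul_left_injective K hv0 (by
        show l 1 • v = (1 : K) • v
        rw [← hl 1]; simp [M])
      map_mul' := fun x y => smul_left_injective K hv0 (by
        show l (x * y) • v = (l x * l y) • v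
        rw [← hl (x * y), Subgroup.coe_mul, map_mul, SpecialLinearGroup.coe_mul, ← mulVec_mulVec,
          hl y, mulVec_smul, hl x, smul_smul, mul_comm]) }
  refine isCyclic_of_subgroup_isDomain χ ?_
  rw [injective_iff_map_eq_one]
  intro x hx
  have hfix : (M x.1).1 *ᵥ v = v := by
    rw [hl x, show l x = 1 from hx, one_smul]
  have hp : (M x.1) ^ p = 1 := SL2Orders.pow_char_of_fixed p _ v hv0 hfix
  have hMinj : Function.Injective M := fun a b h =>
    Subtype.ext (Matrix.map_injective f.injective (congrArg Subtype.val h))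
  have hp' : x.1 ^ p = 1 := hMinj (by rw [map_pow, hp, map_one])
  have h1 : orderOf x ∣ p := orderOf_dvd_of_pow_eq_one (Subtype.ext (by simpa using hp'))
  exact orderOf_eq_one_iff.1 (Nat.eq_one_of_dvd_coprimes hA (orderOf_dvd_natCard x) h1)

theorem isCyclic_of_isMulCommutative (p : ℕ) [Fact p.Prime] [CharP F p] [Finite F]
    (A : Subgroup (SpecialLinearGroup (Fin 2) F)) (hA : (Nat.card A).Coprime p)
    [hc : IsMulCommutative A] : IsCyclic A := by
  by_cases h : A ≤ Subgroup.center (SpecialLinearGroup (Fin 2) F)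
  · haveI : IsCyclic (Subgroup.center (SpecialLinearGroup (Fin 2) F)) :=
      isCyclic_of_injective
        (SpecialLinearGroup.center_equiv_rootsOfUnity' (R := F) (0 : Fin 2)).toMonoidHom
        (MulEquiv.injective _)
    exact isCyclic_of_injective (Subgroup.inclusion h) (Subgroup.inclusion_injective h)
  · obtain ⟨z, hz, hzc⟩ := SetLike.not_le_iff_exists.1 h
    exact isCyclic_of_commute p A hA z hzc fun x hx =>
      congrArg Subtype.val (hc.is_comm.comm (⟨x, hx⟩ : A) ⟨z, hz⟩)

theorem sylow_odd_cyclic (p : ℕ) [Fact p.Prime] [CharP F p] [Finite F] (r : ℕ) [hr' : Fact r.Prime]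
    (hr : r ≠ 2) (hrp : r ≠ p) (R : Subgroup (SpecialLinearGroup (Fin 2) F)) (hR : IsPGroup r R) :
    IsCyclic R := by
  obtain ⟨k, hk⟩ := IsPGroup.iff_card.1 hR
  have hcop : (Nat.card R).Coprime p := by
    rw [hk]
    exact ((Nat.coprime_primes hr'.out (Fact.out : p.Prime)).2 hrp).pow_left k
  rcases subsingleton_or_nontrivial R with h | h
  · infer_instance
  · haveI := hR.center_nontrivial
    obtain ⟨⟨z, hzc⟩, hz1⟩ := exists_ne (1 : Subgroup.center R)
    have hznot : z.1 ∉ Subgroup.center (SpecialLinearGroup (Fin 2) F) := by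
      intro hmem
      obtain ⟨c, hc, hzc'⟩ := SL2Orders.exists_scalar_of_mem_center z.1 hmem
      have h2 : z ^ 2 = 1 := by
        apply Subtype.ext; apply Subtype.ext
        rw [Subgroup.coe_pow, SpecialLinearGroup.coe_pow, hzc', smul_pow, one_pow, pow_two, hc,
          one_smul]
        rfl
      apply hz1
      apply Subtype.ext
      have h3 : orderOf z ∣ 2 := orderOf_dvd_of_pow_eq_one h2
      obtain ⟨j, hj⟩ := IsPGroup.iff_orderOf.1 hR z
      exact orderOf_eq_one_iff.1 (Nat.eq_one_of_dvd_coprimes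
        (((Nat.coprime_primes hr'.out Nat.prime_two).2 hr).pow_left j) (dvd_of_eq hj) h3)
    exact isCyclic_of_commute p R hcop z.1 hznot fun x hx =>
      congrArg Subtype.val (Subgroup.mem_center_iff.1 hzc ⟨x, hx⟩)

/-- The Sylow 2-subgroups of SL_2 in odd characteristic are generalised quaternion. -/
theorem quaternion_of_twoGroup (p : ℕ) [Fact p.Prime] [CharP F p] [Finite F] (hp : p ≠ 2)
    (S : Subgroup (SpecialLinearGroup (Fin 2) F)) (hS : IsPGroup 2 S)
    (hnc : ∃ x ∈ S, ∃ y ∈ S, x * y ≠ y * x) :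
    ∃ k : ℕ, 1 ≤ k ∧ Nonempty (S ≃* QuaternionGroup (2 ^ k)) := by
  haveI hnil : Group.IsNilpotent S := hS.isNilpotent
  obtain ⟨A, hAn, hAc, hAcent⟩ :=
    OddOrder.Nilp.exists_normal_abelian_self_centralizing (G := S)
  obtain ⟨k₀, hk₀⟩ := IsPGroup.iff_card.1 hS
  obtain ⟨j, hj⟩ := IsPGroup.iff_card.1 (hS.to_subgroup A)
  have h2p : (2 : F) ≠ 0 := by
    have : ringChar F ≠ 2 := by rwa [ringChar.eq F p]
    exact Ring.two_ne_zero this
  have hcopA : (Nat.card A).Coprime p := by
    rw [hj]
    exact ((Nat.coprime_primes Nat.prime_two (Fact.out : p.Prime)).2 (Ne.symm hp)).pow_left j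
  let A' : Subgroup (SpecialLinearGroup (Fin 2) F) := A.map S.subtype
  haveI : IsMulCommutative A' := by
    haveI := hAc
    exact Subgroup.map_isMulCommutative _ _
  have hcard' : Nat.card A' = Nat.card A :=
    (Nat.card_congr (A.equivMapOfInjective S.subtype S.subtype_injective).toEquiv).symm
  haveI : IsCyclic A' := isCyclic_of_isMulCommutative p A' (hcard' ▸ hcopA)
  haveI : IsCyclic A := isCyclic_of_surjective
    (A.equivMapOfInjective S.subtype S.subtype_injective).symm.toMonoidHom (MulEquiv.surjective _)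
  obtain ⟨a, ha⟩ := IsCyclic.exists_generator (α := A)
  have hmemA : ∀ g : S, g ∈ A ↔ g ∈ Subgroup.zpowers (a : S) := by
    intro g
    constructor
    · intro hg
      obtain ⟨i, hi⟩ := ha ⟨g, hg⟩
      exact ⟨i, congrArg Subtype.val hi⟩
    · rintro ⟨i, rfl⟩
      exact zpow_mem a.2 i
  -- commuting with the generator means lying in A
  have hcent : ∀ g : S, g * a = a * g → g ∈ A := by
    intro g hg
    rw [← hAcent]
    refine Subgroup.mem_centralizer_iff.2 fun h hh => ?_
    obtain ⟨i, rfl⟩ := (hmemA h).1 hh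
    exact ((show Commute g (a : S) from hg).zpow_right i).symm
  obtain ⟨x, hx, y, hy, hxy⟩ := hnc
  have hAtop : A ≠ ⊤ := by
    intro h
    apply hxy
    exact congrArg (fun g : A => (g.1 : SpecialLinearGroup (Fin 2) F))
      (hAc.is_comm.comm ⟨⟨x, hx⟩, h ▸ trivial⟩ ⟨⟨y, hy⟩, h ▸ trivial⟩)
  have hanc : ((a : S) : SpecialLinearGroup (Fin 2) F) ∉
      Subgroup.center (SpecialLinearGroup (Fin 2) F) := by
    intro h
    exact hAtop (eq_top_iff.2 fun g _ => hcent g
      (Subtype.ext (Subgroup.mem_center_iff.1 h g.1)))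
  -- conjugation inverts or centralises the generator
  have hinv : ∀ g : S, g ∉ A → g * a * g⁻¹ = (a : S)⁻¹ := by
    intro g hg
    obtain ⟨i, hi⟩ := (hmemA _).1 (hAn.conj_mem a a.2 g)
    have hi' : (a : S) ^ i = g * a * g⁻¹ := hi
    set z : SpecialLinearGroup (Fin 2) F := ((a : S) : SpecialLinearGroup (Fin 2) F) with hz
    have htr : ((z ^ i : SpecialLinearGroup (Fin 2) F) : Matrix (Fin 2) (Fin 2) F).trace =
        (z : Matrix (Fin 2) (Fin 2) F).trace := by
      have e := congrArg Subtype.val hi'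
      simp only [Subgroup.coe_zpow, Subgroup.coe_mul, Subgroup.coe_inv] at e
      rw [← hz] at e
      rw [e, SpecialLinearGroup.coe_mul, Matrix.trace_mul_comm, ← SpecialLinearGroup.coe_mul,
        ← mul_assoc, inv_mul_cancel, one_mul]
    let K := AlgebraicClosure F
    let f : F →+* K := algebraMap F K
    let M : SpecialLinearGroup (Fin 2) F →* SpecialLinearGroup (Fin 2) K :=
      SpecialLinearGroup.map f
    haveI : CharP K p := charP_of_injective_ringHom f.injective p
    obtain ⟨μ, hμ⟩ := Module.End.exists_eigenvalue (Matrix.toLin' (M z).1)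
    obtain ⟨v, hv⟩ := hμ.exists_hasEigenvector
    have hv0 : v ≠ 0 := hv.2
    have hvz : (M z).1 *ᵥ v = μ • v := by
      simpa [Matrix.toLin'_apply] using hv.apply_eq_smul
    have hμ0 : μ ≠ 0 := by
      intro h0
      have := congrArg (fun u => (M z⁻¹).1 *ᵥ u) hvz
      simp only [h0, zero_smul, mulVec_zero] at this
      rw [mulVec_mulVec, ← SpecialLinearGroup.coe_mul, ← map_mul, inv_mul_cancel, map_one,
        SpecialLinearGroup.coe_one, one_mulVec] at this
      exact hv0 this
    have hpow : ∀ m : ℤ, (M (z ^ m)).1 *ᵥ v = μ ^ m • v := by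
      intro m
      induction m with
      | zero => simp
      | succ m ih =>
        rw [zpow_add_one, map_mul, SpecialLinearGroup.coe_mul, ← mulVec_mulVec, hvz, mulVec_smul,
          ih, smul_smul, zpow_add_one₀ hμ0, mul_comm]
      | pred m ih =>
        have h1 : (M z⁻¹).1 *ᵥ v = μ⁻¹ • v := by
          have hvv : (M z⁻¹).1 *ᵥ ((M z).1 *ᵥ v) = v := by
            rw [mulVec_mulVec, ← SpecialLinearGroup.coe_mul, ← map_mul, inv_mul_cancel, map_one,
              SpecialLinearGroup.coe_one, one_mulVec]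
          rw [hvz, mulVec_smul] at hvv
          exact (eq_inv_smul_iff₀ hμ0).2 hvv
        rw [zpow_sub_one, map_mul, SpecialLinearGroup.coe_mul, ← mulVec_mulVec, h1, mulVec_smul,
          ih, smul_smul, zpow_sub_one₀ hμ0, mul_comm]
    -- an element with an eigenvector of eigenvalue l has trace l + l⁻¹
    have htrace : ∀ (w : SpecialLinearGroup (Fin 2) K) (l : K), w.1 *ᵥ v = l • v →
        l * l - w.1.trace * l + 1 = 0 := by
      intro w l hl
      have h := congrArg (fun N => N *ᵥ v) (SL2Orders.sq_eq w)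
      simp only [pow_two, add_mulVec, sub_mulVec, ← mulVec_mulVec, hl, mulVec_smul, smul_smul,
        Matrix.smul_mulVec, one_mulVec, zero_mulVec] at h
      have h' : (l * l - w.1.trace * l + 1) • v = 0 := by
        rw [add_smul, sub_smul, one_smul]; exact h
      exact (smul_eq_zero.1 h').resolve_right hv0
    have htr' : (M (z ^ i)).1.trace = (M z).1.trace := by
      have := congrArg f htr
      simpa [M, Matrix.trace_fin_two, -map_zpow] using this
    have e1 := htrace _ _ (hpow i)
    have e2 := htrace _ _ hvz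
    rw [htr'] at e1
    have hne : μ ^ i ≠ 0 := zpow_ne_zero _ hμ0
    have hcases : μ ^ i = μ ∨ μ ^ i = μ⁻¹ := by
      have h3 : (μ ^ i - μ) * (μ ^ i * μ - 1) = 0 := by linear_combination μ * e1 - μ ^ i * e2
      rcases mul_eq_zero.1 h3 with h | h
      · exact Or.inl (sub_eq_zero.1 h)
      · exact Or.inr (eq_inv_of_mul_eq_one_left (sub_eq_zero.1 h))
    -- the map z^m ↦ μ^m is injective
    have hinj : ∀ m : ℤ, μ ^ m = 1 → (a : S) ^ m = 1 := by
      intro m hm
      apply Subtype.ext
      rw [Subgroup.coe_zpow, ← hz, OneMemClass.coe_one]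
      have hfix : (M (z ^ m)).1 *ᵥ v = v := by rw [hpow, hm, one_smul]
      have hp' := SL2Orders.pow_char_of_fixed p _ v hv0 hfix
      have hMinj : Function.Injective M := fun a b h =>
        Subtype.ext (Matrix.map_injective f.injective (congrArg Subtype.val h))
      have hp'' : (z ^ m) ^ p = 1 := hMinj (by rw [map_pow, hp', map_one])
      have hdvd : orderOf (z ^ m) ∣ 2 ^ k₀ := by
        rw [← hk₀]
        have := orderOf_dvd_natCard ((a : S) ^ m)
        rwa [← Subgroup.orderOf_coe, Subgroup.coe_zpow, ← hz] at this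
      exact orderOf_eq_one_iff.1 (Nat.eq_one_of_dvd_coprimes
        (((Nat.coprime_primes Nat.prime_two (Fact.out : p.Prime)).2 (Ne.symm hp)).pow_left k₀)
        hdvd (orderOf_dvd_of_pow_eq_one hp''))
    rcases hcases with h | h
    · exfalso
      apply hg
      apply hcent
      have h1 := hinj (i - 1) (by rw [zpow_sub_one₀ hμ0, h, mul_inv_cancel₀ hμ0])
      rw [zpow_sub_one, mul_inv_eq_one] at h1
      rw [h1] at hi'
      calc g * (a : S) = g * a * g⁻¹ * g := by rw [inv_mul_cancel_right]
        _ = a * g := by rw [← hi']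
    · rw [← hi']
      have h1 := hinj (i + 1) (by rw [zpow_add_one₀ hμ0, h, inv_mul_cancel₀ hμ0])
      rw [zpow_add_one, mul_eq_one_iff_eq_inv] at h1
      exact h1
  obtain ⟨b, hb⟩ : ∃ b, b ∉ A := by
    by_contra! h
    exact hAtop (eq_top_iff.2 fun g _ => h g)
  have hb' := hinv b hb
  -- index two
  have hidx : A.index = 2 := by
    refine Subgroup.index_eq_two_iff.2 ⟨b, fun g => ?_⟩
    by_cases hg : g ∈ A
    · refine Or.inr ⟨hg, fun h => hb ?_⟩
      simpa using mul_mem (inv_mem hg) h
    · refine Or.inl ⟨hcent _ ?_, hg⟩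
      have hg' := hinv g hg
      have e1 : g * b * a * (g * b)⁻¹ = a := by
        rw [show g * b * (a : S) * (g * b)⁻¹ = g * (b * a * b⁻¹) * g⁻¹ by group, hb', ← conj_inv,
          hg', inv_inv]
      calc g * b * (a : S) = g * b * a * (g * b)⁻¹ * (g * b) := by rw [inv_mul_cancel_right]
        _ = a * (g * b) := by rw [e1]
  have hb2A : b * b ∈ A := Subgroup.mul_self_mem_of_index_two hidx b
  have hb4 : (b * b) * (b * b) = 1 := by
    obtain ⟨i, hi⟩ := (hmemA _).1 hb2A
    have hi' : (a : S) ^ i = b * b := hi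
    have h1 : b * (b * b) * b⁻¹ = (b * b)⁻¹ := by
      rw [← hi', ← conj_zpow, hb', inv_zpow]
    rw [show b * (b * b) * b⁻¹ = b * b by group] at h1
    calc (b * b) * (b * b) = (b * b)⁻¹ * (b * b) := by rw [← h1]
      _ = 1 := inv_mul_cancel _
  have hneg : ∀ g : S, g * g = 1 → g ≠ 1 →
      ((g : SpecialLinearGroup (Fin 2) F) : Matrix (Fin 2) (Fin 2) F) = -1 := by
    intro g hg hg1
    have hgg : (g : SpecialLinearGroup (Fin 2) F) * g = 1 := congrArg Subtype.val hg
    have hinv' : (g : SpecialLinearGroup (Fin 2) F)⁻¹ = g := inv_eq_of_mul_eq_one_right hgg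
    have h : Matrix.adjugate g.1.1 = g.1.1 := congrArg Subtype.val hinv'
    rw [Matrix.adjugate_fin_two] at h
    have h00 := congrFun (congrFun h 0) 0
    have h01 := congrFun (congrFun h 0) 1
    have h10 := congrFun (congrFun h 1) 0
    simp at h00 h01 h10
    have hb0 : g.1.1 0 1 = 0 := (mul_eq_zero.1
      (show (2 : F) * g.1.1 0 1 = 0 by linear_combination -h01)).resolve_left h2p
    have hc0 : g.1.1 1 0 = 0 := (mul_eq_zero.1
      (show (2 : F) * g.1.1 1 0 = 0 by linear_combination -h10)).resolve_left h2p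
    have hd := g.1.2
    rw [Matrix.det_fin_two, hb0, hc0, h00] at hd
    simp at hd
    rcases mul_self_eq_one_iff.1 hd with ha' | ha'
    · exact absurd (Subtype.ext (Subtype.ext (by
        ext i j; fin_cases i <;> fin_cases j <;> simp [ha', hb0, hc0, h00]))) hg1
    · ext i j; fin_cases i <;> fin_cases j <;> simp [ha', hb0, hc0, h00]
  have huniq : ∀ g h : S, g * g = 1 → g ≠ 1 → h * h = 1 → h ≠ 1 → g = h := fun g h g1 g2 h1 h2 =>
    Subtype.ext (Subtype.ext ((hneg g g1 g2).trans (hneg h h1 h2).symm))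
  have hb1 : b * b ≠ 1 := by
    intro h
    apply hb
    apply hcent
    have hbn : b ≠ 1 := fun hb1 => hb (hb1 ▸ one_mem A)
    apply Subtype.ext
    apply Subtype.ext
    simp only [Subgroup.coe_mul, SpecialLinearGroup.coe_mul, hneg b h hbn]
    simp
  have hordA : orderOf (a : S) = 2 ^ j := by
    rw [Subgroup.orderOf_coe, orderOf_eq_card_of_forall_mem_zpowers ha, hj]
  have hcardS : Nat.card S = 2 ^ (j + 1) := by
    rw [← Subgroup.card_mul_index A, hidx, hj, pow_succ]
  have hj2 : 2 ≤ j := by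
    by_contra hlt
    have ha2 : (a : S) * a = 1 := by
      rw [← pow_two, ← orderOf_dvd_iff_pow_eq_one, hordA]
      exact (pow_dvd_pow 2 (show j ≤ 1 by omega)).trans (by norm_num)
    apply hb
    apply hcent
    calc b * (a : S) = b * a * b⁻¹ * b := by rw [inv_mul_cancel_right]
      _ = a * b := by rw [hb', inv_eq_of_mul_eq_one_left ha2]
  obtain ⟨i, rfl⟩ : ∃ i, j = i + 2 := ⟨j - 2, by omega⟩
  have hn : 2 * 2 ^ (i + 1) = 2 ^ (i + 2) := by rw [← pow_succ']
  have hhalf : (a : S) ^ 2 ^ (i + 1) * (a : S) ^ 2 ^ (i + 1) = 1 := by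
    rw [← pow_add, ← two_mul, hn, ← hordA, pow_orderOf_eq_one]
  have hhalf1 : (a : S) ^ 2 ^ (i + 1) ≠ 1 := by
    intro h
    have h' := orderOf_dvd_of_pow_eq_one h
    rw [hordA] at h'
    have := (Nat.pow_dvd_pow_iff_le_right (show 1 < 2 by norm_num)).1 h'
    omega
  refine ⟨i + 1, by omega, quaternion_equiv (a := (a : S)) (b := b) (by positivity) (by rw [hn, hordA])
    (fun h => hb ((hmemA b).2 h)) (huniq _ _ hb4 hb1 hhalf hhalf1) hb' ?_⟩
  rw [hcardS]; ring

theorem exists_noncomm_twoGroup [Finite F] (p : ℕ) [Fact p.Prime] [CharP F p] (hp : p ≠ 2) :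
    ∃ Q : Subgroup (SpecialLinearGroup (Fin 2) F), IsPGroup 2 Q ∧
      ∃ x ∈ Q, ∃ y ∈ Q, x * y ≠ y * x := by
  have hc : ringChar F ≠ 2 := by rwa [ringChar.eq F p]
  have h2 : (2 : F) ≠ 0 := Ring.two_ne_zero hc
  obtain ⟨x, y, hxy⟩ := ZMod.sq_add_sq p (-1)
  obtain ⟨X, Y, hXY⟩ : ∃ X Y : F, X ^ 2 + Y ^ 2 = -1 :=
    ⟨ZMod.castHom (dvd_refl p) F x, ZMod.castHom (dvd_refl p) F y, by
      rw [← map_pow, ← map_pow, ← map_add, hxy, map_neg, map_one]⟩
  let w : SpecialLinearGroup (Fin 2) F := ⟨!![0, -1; 1, 0], by simp [Matrix.det_fin_two]⟩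
  let j : SpecialLinearGroup (Fin 2) F := ⟨!![X, Y; Y, -X], by
    simp [Matrix.det_fin_two]; linear_combination -hXY⟩
  have hw2 : (w * w).1 = -1 := by
    rw [SpecialLinearGroup.coe_mul]
    ext a b; fin_cases a <;> fin_cases b <;> simp [w, Matrix.mul_apply, Fin.sum_univ_two]
  have hj2 : (j * j).1 = -1 := by
    rw [SpecialLinearGroup.coe_mul]
    ext a b; fin_cases a <;> fin_cases b <;>
      simp [j, Matrix.mul_apply, Fin.sum_univ_two] <;>
      first | ring1 | linear_combination hXY
  have hwj : w * j * w = j := by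
    apply Subtype.ext
    rw [SpecialLinearGroup.coe_mul, SpecialLinearGroup.coe_mul]
    ext a b; fin_cases a <;> fin_cases b <;> simp [w, j, Matrix.mul_apply, Fin.sum_univ_two]
  have hpow4 : ∀ g : SpecialLinearGroup (Fin 2) F, (g * g).1 = -1 → g ^ 4 = 1 := by
    intro g hg
    apply Subtype.ext
    rw [show g ^ 4 = (g * g) * (g * g) by simp [pow_succ, mul_assoc], SpecialLinearGroup.coe_mul, hg]
    simp
  have hpgrp : ∀ g : SpecialLinearGroup (Fin 2) F, g ^ 4 = 1 → IsPGroup 2 (Subgroup.zpowers g) := by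
    rintro g hg ⟨h, k, rfl⟩
    refine ⟨2, Subtype.ext ?_⟩
    show ((g ^ k) ^ (2 ^ 2) : SpecialLinearGroup (Fin 2) F) = 1
    rw [← zpow_natCast, ← zpow_mul, mul_comm, zpow_mul, zpow_natCast,
      show (2 : ℕ) ^ 2 = 4 from rfl, hg, one_zpow]
  have hnorm : Subgroup.zpowers j ≤ Subgroup.normalizer (Subgroup.zpowers w : Set _) := by
    rw [Subgroup.zpowers_le]
    refine Subgroup.mem_normalizer_iff_map_conj_eq.2 ?_
    rw [MonoidHom.map_zpowers]
    show Subgroup.zpowers (j * w * j⁻¹) = Subgroup.zpowers w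
    have h : j * w * j⁻¹ = w⁻¹ := by
      calc j * w * j⁻¹ = w⁻¹ * (w * j * w) * j⁻¹ := by group
        _ = w⁻¹ := by rw [hwj]; group
    rw [h, Subgroup.zpowers_inv]
  refine ⟨Subgroup.zpowers j ⊔ Subgroup.zpowers w,
    IsPGroup.to_sup_of_normal_right' (hpgrp _ (hpow4 _ hj2)) (hpgrp _ (hpow4 _ hw2)) hnorm,
    w, Subgroup.mem_sup_right (Subgroup.mem_zpowers w), j,
    Subgroup.mem_sup_left (Subgroup.mem_zpowers j), ?_⟩
  intro h
  have h' : w.1 * j.1 = j.1 * w.1 := by
    rw [← SpecialLinearGroup.coe_mul, ← SpecialLinearGroup.coe_mul, h]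
  have e00 := congrFun (congrFun h' 0) 0
  have e01 := congrFun (congrFun h' 0) 1
  simp [w, j, Matrix.mul_apply, Fin.sum_univ_two] at e00 e01
  have hY : Y = 0 := (mul_eq_zero.1
    (show (2 : F) * Y = 0 by linear_combination -e00)).resolve_left h2
  have hX : X = 0 := (mul_eq_zero.1
    (show (2 : F) * X = 0 by linear_combination e01)).resolve_left h2
  rw [hX, hY] at hXY
  simp at hXY

end Cfsg.Agent.SL2Sylow
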