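/-
Elements of trace zero in SL_2 in odd characteristic: conjugacy, centralisers, the quaternion
frame.
-/
import Cfsg.Agent.Lib.Classical.SL2Sylow
import Cfsg.Agent.Lib.Classical.GL2
import Cfsg.Agent.Lib.Classical.FourGroup
import Mathlib.FieldTheory.Finite.Basic

set_option autoImplicit false

namespace Cfsg.Agent.SL2Inv

open Matrix

variable {F : Type*} [Field F]

local notation "S" => Matrix.SpecialLinearGroup (Fin 2) F

/-- Minus the identity. -/
def negOne : S := ⟨-1, by simp [Matrix.det_fin_two]⟩

/-- The standard element of trace zero. -/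
def w : S := ⟨!![0, -1; 1, 0], by simp [Matrix.det_fin_two]⟩

theorem coe_negOne : (negOne : S).1 = -1 := rfl

theorem negOne_mul_self : (negOne : S) * negOne = 1 := Subtype.ext (by
  rw [Matrix.SpecialLinearGroup.coe_mul, coe_negOne]; simp)

theorem negOne_comm (g : S) : negOne * g = g * negOne := Subtype.ext (by
  rw [Matrix.SpecialLinearGroup.coe_mul, Matrix.SpecialLinearGroup.coe_mul, coe_negOne]; simp)

theorem trace_negOne_mul (g : S) : (negOne * g).1.trace = -g.1.trace := by
  rw [Matrix.SpecialLinearGroup.coe_mul, coe_negOne]; simp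

theorem negOne_mem_center : (negOne : S) ∈ Subgroup.center S :=
  Subgroup.mem_center_iff.2 fun g => (negOne_comm g).symm

theorem mem_center_iff {g : S} : g ∈ Subgroup.center S ↔ g = 1 ∨ g = negOne := by
  constructor
  · intro h
    obtain ⟨c, hc, hg⟩ := SL2Orders.exists_scalar_of_mem_center g h
    rcases mul_self_eq_one_iff.1 hc with rfl | rfl
    · exact Or.inl (Subtype.ext (by rw [hg, one_smul]; simp))
    · exact Or.inr (Subtype.ext (by rw [hg, coe_negOne]; simp))
  · rintro (rfl | rfl)
    · exact one_mem _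
    · exact negOne_mem_center

theorem negOne_ne_one (h2 : (2 : F) ≠ 0) : (negOne : S) ≠ 1 := by
  intro h
  have := congrFun (congrFun (congrArg Subtype.val h) 0) 0
  simp [coe_negOne] at this
  exact h2 (by linear_combination -this)

theorem trace_w : (w : S).1.trace = 0 := by simp [w, Matrix.trace_fin_two]

theorem mul_self_eq_negOne_iff (g : S) : g * g = negOne ↔ g.1.trace = 0 := by
  have h := SL2Orders.sq_eq g
  rw [pow_two] at h
  constructor
  · intro hg
    rw [← Matrix.SpecialLinearGroup.coe_mul, hg, coe_negOne] at h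
    have h' : g.1.trace • g.1 = 0 := by
      rw [← neg_eq_zero, ← h]; abel
    rcases smul_eq_zero.1 h' with h0 | h0
    · exact h0
    · exfalso
      have := g.2
      rw [h0] at this
      simp [Matrix.det_fin_two] at this
  · intro hg
    rw [hg, zero_smul, sub_zero] at h
    exact Subtype.ext (by rw [Matrix.SpecialLinearGroup.coe_mul, coe_negOne]; exact eq_neg_of_add_eq_zero_left h)

theorem w_mul_self : (w : S) * w = negOne := (mul_self_eq_negOne_iff w).2 trace_w

theorem inv_eq_of_trace (g : S) (hg : g.1.trace = 0) : g⁻¹ = negOne * g := by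
  refine inv_eq_of_mul_eq_one_right ?_
  rw [← mul_assoc, ← negOne_comm, mul_assoc, (mul_self_eq_negOne_iff g).2 hg, negOne_mul_self]

/-- The square roots of the identity. -/
theorem eq_or_eq_negOne_of_mul_self (h2 : (2 : F) ≠ 0) {g : S} (hg : g * g = 1) :
    g = 1 ∨ g = negOne := by
  have h := SL2Orders.sq_eq g
  rw [pow_two, ← Matrix.SpecialLinearGroup.coe_mul, hg, Matrix.SpecialLinearGroup.coe_one] at h
  have h' : g.1.trace • g.1 = (2 : F) • 1 := by
    rw [two_smul]
    have := sub_add_eq_add_sub (1 : Matrix (Fin 2) (Fin 2) F) (g.1.trace • g.1) 1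
    rw [h] at this
    exact (sub_eq_zero.1 this.symm).symm
  have ht : g.1.trace ≠ 0 := by
    intro h0
    rw [h0, zero_smul] at h'
    exact h2 (by simpa using (congrFun (congrFun h' 0) 0).symm)
  refine mem_center_iff.1 (SL2Orders.mem_center_of_scalar g (g.1.trace⁻¹ * 2) ?_)
  rw [← smul_smul, ← h', smul_smul, inv_mul_cancel₀ ht, one_smul]

/-- Conjugation does not change traces. -/
theorem trace_conj (g x : S) : (g * x * g⁻¹).1.trace = x.1.trace := by
  rw [Matrix.SpecialLinearGroup.coe_mul, Matrix.trace_mul_comm, ← Matrix.SpecialLinearGroup.coe_mul,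
    ← mul_assoc, inv_mul_cancel, one_mul]

variable [Finite F]

theorem exists_sum_two_squares (h2 : (2 : F) ≠ 0) (c : F) : ∃ x y : F, x ^ 2 + y ^ 2 = c := by
  haveI := Fintype.ofFinite F
  have hodd : Fintype.card F % 2 = 1 := by
    rw [← Nat.not_even_iff]
    intro h
    exact h2 (by
      have h2' := FiniteField.even_card_of_char_two (F := F)
      have hc : ringChar F = 2 := by
        by_contra hc
        have := FiniteField.odd_card_of_char_ne_two hc
        rw [Nat.even_iff] at h
        omega
      haveI := ringChar.of_eq hc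
      exact CharTwo.two_eq_zero)
  obtain ⟨a, b, h⟩ := FiniteField.exists_root_sum_quadratic (f := Polynomial.X ^ 2)
    (g := Polynomial.X ^ 2 - Polynomial.C c) (Polynomial.degree_X_pow 2)
    (Polynomial.degree_X_pow_sub_C (by norm_num) c) hodd
  exact ⟨a, b, by simp at h; linear_combination h⟩

/-- The elements of trace zero form one conjugacy class. -/
theorem exists_conj (h2 : (2 : F) ≠ 0) (g : S) (hg : g.1.trace = 0) :
    ∃ h : S, g = h * w * h⁻¹ := by
  set a := g.1 0 0 with ha
  set b := g.1 0 1 with hb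
  set c := g.1 1 0 with hc
  have hd : g.1 1 1 = -a := by
    rw [Matrix.trace_fin_two] at hg
    exact eq_neg_of_add_eq_zero_right hg
  have hdet := g.2
  rw [Matrix.det_fin_two, hd, ← ha, ← hb, ← hc] at hdet
  obtain ⟨u, v, huv⟩ : ∃ u v : F, c * u ^ 2 - 2 * a * u * v - b * v ^ 2 = 1 := by
    by_cases hc0 : c = 0
    · rw [hc0, mul_zero, sub_zero] at hdet
      have ha0 : a ≠ 0 := by
        intro h; rw [h] at hdet; simp at hdet
      refine ⟨-(1 + b) / (2 * a), 1, ?_⟩
      rw [hc0]; field_simp; ring
    · obtain ⟨X, Y, hXY⟩ := exists_sum_two_squares h2 c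
      refine ⟨(X + a * Y) / c, Y, ?_⟩
      field_simp
      linear_combination hXY + (Y ^ 2) * hdet
  let h : S := ⟨!![u, a * u + b * v; v, c * u - a * v], by
    simp [Matrix.det_fin_two]; linear_combination huv⟩
  refine ⟨h, ?_⟩
  rw [eq_mul_inv_iff_mul_eq]
  apply Subtype.ext
  rw [Matrix.SpecialLinearGroup.coe_mul, Matrix.SpecialLinearGroup.coe_mul, Matrix.eta_fin_two g.1, hd, ← ha,
    ← hb, ← hc]
  ext i j
  fin_cases i <;> fin_cases j <;> simp [h, w, Matrix.mul_apply, Fin.sum_univ_two]
  · linear_combination (-u) * hdet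
  · ring
  · linear_combination (-v) * hdet

/-- The centraliser of the standard trace-zero element. -/
def C : Subgroup S := Subgroup.centralizer {w}

omit [Finite F] in
theorem mem_C {g : S} : g ∈ (C : Subgroup S) ↔ g * w = w * g :=
  Subgroup.mem_centralizer_singleton_iff

omit [Finite F] in
theorem w_mem_C : (w : S) ∈ (C : Subgroup S) := mem_C.2 rfl

omit [Finite F] in
theorem negOne_mem_C : (negOne : S) ∈ (C : Subgroup S) := mem_C.2 (negOne_comm w)

theorem card_pairs (t : F) [Decidable (t = 0)] :
    Nat.card {p : F × F // p.1 * p.2 = t} =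
      if t = 0 then 2 * Nat.card F - 1 else Nat.card F - 1 := by
  classical
  haveI := Fintype.ofFinite F
  split_ifs with ht
  · subst ht
    let e : {p : F × F // p.1 * p.2 = 0} ≃ {p : F × F // ¬ (p.1 ≠ 0 ∧ p.2 ≠ 0)} :=
      Equiv.subtypeEquivRight fun p => by simp only [mul_eq_zero]; tauto
    let e' : {p : F × F // p.1 ≠ 0 ∧ p.2 ≠ 0} ≃ Fˣ × Fˣ :=
      { toFun := fun p => (Units.mk0 _ p.2.1, Units.mk0 _ p.2.2)
        invFun := fun p => ⟨(p.1, p.2), p.1.ne_zero, p.2.ne_zero⟩
        left_inv := fun p => rfl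
        right_inv := fun p => Prod.ext (Units.ext rfl) (Units.ext rfl) }
    rw [Nat.card_congr e, Nat.card_eq_fintype_card, Fintype.card_subtype_compl, Fintype.card_prod,
      ← Nat.card_eq_fintype_card (α := {p : F × F // p.1 ≠ 0 ∧ p.2 ≠ 0}), Nat.card_congr e',
      Nat.card_prod, Nat.card_units, Nat.card_eq_fintype_card]
    obtain ⟨q, hq⟩ : ∃ q, Fintype.card F = q + 1 :=
      ⟨Fintype.card F - 1, by have := Fintype.card_pos (α := F); omega⟩
    have h3 : (q + 1) * (q + 1) = q * q + (2 * q + 1) := by ring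
    rw [hq, show q + 1 - 1 = q by omega, h3]
    omega
  · let e : {p : F × F // p.1 * p.2 = t} ≃ Fˣ :=
      { toFun := fun p => Units.mk0 p.1.1 (left_ne_zero_of_mul (p.2.symm ▸ ht))
        invFun := fun u => ⟨(u, (u : F)⁻¹ * t), mul_inv_cancel_left₀ u.ne_zero t⟩
        left_inv := fun p => by
          have h1 : p.1.1 ≠ 0 := left_ne_zero_of_mul (p.2.symm ▸ ht)
          refine Subtype.ext (Prod.ext rfl ?_)
          show p.1.1⁻¹ * t = p.1.2
          exact (inv_mul_eq_iff_eq_mul₀ h1).2 p.2.symm
        right_inv := fun u => Units.ext rfl }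
    rw [Nat.card_congr e, Nat.card_units]

theorem card_roots (h2 : (2 : F) ≠ 0) :
    Nat.card {a : F // a * a = -1} = if Nat.card F % 4 = 1 then 2 else 0 := by
  classical
  haveI := Fintype.ofFinite F
  have hc : ringChar F ≠ 2 := fun h => by
    haveI := ringChar.of_eq h
    exact h2 CharTwo.two_eq_zero
  have hodd := FiniteField.odd_card_of_char_ne_two hc
  have hsq := FiniteField.isSquare_iff hc (neg_ne_zero.2 (one_ne_zero (α := F)))
  rw [Nat.card_eq_fintype_card (α := F)]
  split_ifs with h4
  · have h : IsSquare (-1 : F) := hsq.2 (Even.neg_one_pow (by rw [Nat.even_iff]; omega))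
    obtain ⟨r, hr⟩ := h
    have hset : {a : F | a * a = -1} = {r, -r} := by
      ext a
      simp [hr, mul_self_eq_mul_self_iff]
    show Nat.card {a : F | a * a = -1} = 2
    rw [hset, Nat.card_coe_set_eq, Set.ncard_pair]
    intro e
    have : (2 : F) * r = 0 := by linear_combination e
    rw [(mul_eq_zero.1 this).resolve_left h2] at hr
    simp at hr
  · refine Nat.card_eq_zero.2 (Or.inl ⟨fun a => h2 ?_⟩)
    have h1 := hsq.1 ⟨a.1, a.2.symm⟩
    rw [Odd.neg_one_pow (by rw [Nat.odd_iff]; omega)] at h1
    linear_combination -h1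

theorem card_sl2 :
    Nat.card S = Nat.card F * (Nat.card F - 1) * (Nat.card F + 1) := by
  have h := ClassicalSL.card_sl_mul (ι := Fin 2) (F := F)
  rw [ClassicalGL2.card_gl2] at h
  refine Nat.eq_of_mul_eq_mul_left (show 0 < Nat.card F - 1 by
    have := Finite.one_lt_card (α := F); omega) (h.trans ?_)
  ring

theorem card_trace_zero (h2 : (2 : F) ≠ 0) :
    Nat.card {g : S // g.1.trace = 0} =
      Nat.card F * (if Nat.card F % 4 = 1 then Nat.card F + 1 else Nat.card F - 1) := by
  classical
  haveI := Fintype.ofFinite F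
  let e : {g : S // g.1.trace = 0} ≃ Σ a : F, {p : F × F // p.1 * p.2 = -1 - a * a} :=
    { toFun := fun g => ⟨g.1.1 0 0, (g.1.1 0 1, g.1.1 1 0), by
        have h1 := g.1.2
        have h2 := g.2
        rw [Matrix.trace_fin_two] at h2
        rw [Matrix.det_fin_two] at h1
        show g.1.1 0 1 * g.1.1 1 0 = _
        linear_combination g.1.1 0 0 * h2 - h1⟩
      invFun := fun x => ⟨⟨!![x.1, x.2.1.1; x.2.1.2, -x.1], by
        simp [Matrix.det_fin_two]; linear_combination -x.2.2⟩, by simp [Matrix.trace_fin_two]⟩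
      left_inv := fun g => by
        have h2 := g.2
        rw [Matrix.trace_fin_two] at h2
        apply Subtype.ext; apply Subtype.ext
        show !![g.1.1 0 0, g.1.1 0 1; g.1.1 1 0, -g.1.1 0 0] = g.1.1
        rw [show -g.1.1 0 0 = g.1.1 1 1 by linear_combination -h2]
        exact (Matrix.eta_fin_two _).symm
      right_inv := fun x => rfl }
  rw [Nat.card_congr e, Nat.card_sigma]
  have hpt : ∀ a : F, Nat.card {p : F × F // p.1 * p.2 = -1 - a * a} =
      (Nat.card F - 1) + if a * a = -1 then Nat.card F else 0 := by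
    intro a
    have hq := Finite.one_lt_card (α := F)
    rw [card_pairs]
    by_cases h : a * a = -1
    · rw [if_pos (by rw [h]; ring), if_pos h]; omega
    · rw [if_neg (fun h' => h (by linear_combination -h')), if_neg h]; omega
  rw [Finset.sum_congr rfl fun a _ => hpt a, Finset.sum_add_distrib, Finset.sum_const,
    Finset.card_univ, Finset.sum_ite, Finset.sum_const_zero, add_zero, Finset.sum_const,
    ← Fintype.card_subtype, ← Nat.card_eq_fintype_card, ← Nat.card_eq_fintype_card, card_roots h2,
    smul_eq_mul, smul_eq_mul]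
  split_ifs with h4
  · have hq := Finite.one_lt_card (α := F)
    obtain ⟨q, hq'⟩ : ∃ q, Nat.card F = q + 1 := ⟨Nat.card F - 1, by omega⟩
    rw [hq', show q + 1 - 1 = q by omega]
    ring
  · rw [zero_mul, add_zero]

/-- The order of the centraliser of an element of trace zero. -/
theorem card_C (h2 : (2 : F) ≠ 0) :
    Nat.card (C : Subgroup S) = if Nat.card F % 4 = 1 then Nat.card F - 1 else Nat.card F + 1 := by
  have e : {y : S // IsConj w y} ≃ {g : S // g.1.trace = 0} :=
    Equiv.subtypeEquivRight fun y => by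
      constructor
      · intro hy
        obtain ⟨h, rfl⟩ := isConj_iff.1 hy
        rw [trace_conj, trace_w]
      · intro hy
        obtain ⟨h, hh⟩ := exists_conj h2 y hy
        exact isConj_iff.2 ⟨h, hh.symm⟩
  have h := FourGroup.card_class_mul_centralizer (w : S)
  rw [Nat.card_congr e, card_trace_zero h2, card_sl2] at h
  have hq := Finite.one_lt_card (α := F)
  show Nat.card (Subgroup.centralizer {(w : S)}) = _
  split_ifs with h4
  · rw [if_pos h4] at h
    exact Nat.eq_of_mul_eq_mul_left (Nat.mul_pos (by omega) (show 0 < Nat.card F + 1 by omega))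
      (h.trans (by ring))
  · rw [if_neg h4] at h
    exact Nat.eq_of_mul_eq_mul_left (Nat.mul_pos (by omega) (by omega)) (h.trans (by ring))

theorem isCyclic_C (h2 : (2 : F) ≠ 0) : IsCyclic (C : Subgroup S) := by
  obtain ⟨p, hcp⟩ := CharP.exists F
  haveI := Fintype.ofFinite F
  obtain ⟨n, hp, hcard⟩ := FiniteField.card F p
  haveI := Fact.mk hp
  refine SL2Sylow.isCyclic_of_commute p C ?_ w ?_ fun x hx => mem_C.1 hx
  · refine Nat.Coprime.symm ((hp.coprime_iff_not_dvd).2 fun h => ?_)
    have hq : p ∣ Nat.card F := by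
      rw [Nat.card_eq_fintype_card, hcard]; exact dvd_pow_self p n.ne_zero
    have h1 := Finite.one_lt_card (α := F)
    rw [card_C h2] at h
    split_ifs at h with h4
    · have := Nat.dvd_sub hq h
      rw [show Nat.card F - (Nat.card F - 1) = 1 by omega] at this
      exact hp.one_lt.ne' (Nat.dvd_one.1 this)
    · exact hp.one_lt.ne' (Nat.dvd_one.1 ((Nat.dvd_add_right hq).1 h))
  · intro h
    rcases mem_center_iff.1 h with h | h <;>
      · have := congrFun (congrFun (congrArg Subtype.val h) 1) 0
        simp [w, coe_negOne] at this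

end Cfsg.Agent.SL2Inv
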