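/-
Involutions and four-groups of PSL_2 in odd characteristic.
-/
import Cfsg.Agent.Lib.Classical.SL2Involutions

set_option autoImplicit false

namespace Cfsg.Agent.PSL2Inv

open Matrix SL2Inv

variable {F : Type*} [Field F]

local notation "S" => Matrix.SpecialLinearGroup (Fin 2) F
local notation "P" => Matrix.ProjectiveSpecialLinearGroup (Fin 2) F

/-- The projection to `PSL_2`. -/
def pr : S →* P := QuotientGroup.mk' _

theorem pr_surjective : Function.Surjective (pr : S → P) := QuotientGroup.mk'_surjective _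

theorem pr_eq_iff {x y : S} : pr x = pr y ↔ y = x ∨ y = negOne * x := by
  show (QuotientGroup.mk x : P) = QuotientGroup.mk y ↔ _
  rw [QuotientGroup.eq, mem_center_iff, inv_mul_eq_iff_eq_mul, inv_mul_eq_iff_eq_mul, mul_one,
    negOne_comm]

theorem pr_eq_one_iff {x : S} : pr x = 1 ↔ x = 1 ∨ x = negOne := by
  rw [← mem_center_iff]
  exact QuotientGroup.eq_one_iff x

theorem pr_negOne : pr (negOne : S) = 1 := pr_eq_one_iff.2 (Or.inr rfl)

theorem ne_of_trace_zero (h2 : (2 : F) ≠ 0) {g : S} (hg : g.1.trace = 0) :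
    g ≠ 1 ∧ g ≠ negOne := by
  constructor <;> rintro rfl <;> simp [coe_negOne, Matrix.trace_fin_two] at hg <;>
    exact h2 (by linear_combination hg)

theorem pr_ne_one (h2 : (2 : F) ≠ 0) {g : S} (hg : g.1.trace = 0) : pr g ≠ 1 := fun h => by
  rcases pr_eq_one_iff.1 h with h | h
  · exact (ne_of_trace_zero h2 hg).1 h
  · exact (ne_of_trace_zero h2 hg).2 h

theorem pr_mul_self {g : S} (hg : g.1.trace = 0) : pr g * pr g = 1 := by
  rw [← map_mul, (mul_self_eq_negOne_iff g).2 hg, pr_negOne]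

theorem orderOf_pr (h2 : (2 : F) ≠ 0) {g : S} (hg : g.1.trace = 0) : orderOf (pr g) = 2 :=
  orderOf_eq_prime (by rw [pow_two, pr_mul_self hg]) (pr_ne_one h2 hg)

theorem exists_lift (h2 : (2 : F) ≠ 0) {x : P} (hx : x * x = 1) (hx1 : x ≠ 1) :
    ∃ g : S, g.1.trace = 0 ∧ pr g = x := by
  obtain ⟨g, rfl⟩ := pr_surjective x
  refine ⟨g, ?_, rfl⟩
  rw [← map_mul, pr_eq_one_iff] at hx
  rcases hx with h | h
  · exact absurd (pr_eq_one_iff.2 (eq_or_eq_negOne_of_mul_self h2 h)) hx1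
  · exact (mul_self_eq_negOne_iff g).1 h

/-- Trace-zero elements anticommuting with `w`. -/
def Anti (g : S) : Prop := g.1.trace = 0 ∧ g * w = negOne * (w * g)

theorem Anti.entries {g : S} (hg : Anti g) : g.1 1 1 = -g.1 0 0 ∧ g.1 0 1 = g.1 1 0 := by
  have h1 := hg.1
  rw [Matrix.trace_fin_two] at h1
  have h := congrArg Subtype.val hg.2
  rw [Matrix.SpecialLinearGroup.coe_mul, Matrix.SpecialLinearGroup.coe_mul,
    Matrix.SpecialLinearGroup.coe_mul, coe_negOne] at h
  have e := congrFun (congrFun h 0) 0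
  simp [w, Matrix.mul_apply, Fin.sum_univ_two, Matrix.vecMul, dotProduct] at e
  exact ⟨eq_neg_of_add_eq_zero_right h1, e⟩

theorem C_entries {c : S} (hc : c ∈ (C : Subgroup S)) :
    c.1 1 1 = c.1 0 0 ∧ c.1 0 1 = -c.1 1 0 := by
  have h := congrArg Subtype.val (mem_C.1 hc)
  rw [Matrix.SpecialLinearGroup.coe_mul, Matrix.SpecialLinearGroup.coe_mul] at h
  have e := congrFun (congrFun h 0) 0
  have e' := congrFun (congrFun h 1) 0
  simp [w, Matrix.mul_apply, Fin.sum_univ_two] at e e'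
  exact ⟨e', e⟩

theorem Anti.mul_C {j c : S} (hj : Anti j) (hc : c ∈ (C : Subgroup S)) : Anti (j * c) := by
  refine ⟨?_, ?_⟩
  · obtain ⟨h1, h2⟩ := hj.entries
    obtain ⟨h3, h4⟩ := C_entries hc
    rw [Matrix.SpecialLinearGroup.coe_mul, Matrix.trace_fin_two]
    simp [Matrix.mul_apply, Fin.sum_univ_two, h1, h2, h3, h4]
  · rw [mul_assoc, mem_C.1 hc, ← mul_assoc, hj.2]
    simp only [mul_assoc]

theorem Anti.mem_C_of {j g : S} (hj : Anti j) (hg : Anti g) : j⁻¹ * g ∈ (C : Subgroup S) := by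
  rw [mem_C, mul_assoc, hg.2, inv_mul_eq_iff_eq_mul, ← mul_assoc j, hj.2]
  simp only [mul_assoc, mul_inv_cancel_left]

theorem Anti.conj_C {j c : S} (hj : Anti j) (hc : c ∈ (C : Subgroup S)) : j * c * j⁻¹ = c⁻¹ := by
  have h := (mul_self_eq_negOne_iff _).2 (hj.mul_C hc).1
  refine eq_inv_of_mul_eq_one_left ?_
  rw [inv_eq_of_trace j hj.1]
  calc j * c * (negOne * j) * c = negOne * (j * c * (j * c)) := by
        rw [← mul_assoc (j * c) negOne j, ← negOne_comm (j * c)]
        simp only [mul_assoc]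
    _ = 1 := by rw [h, negOne_mul_self]

theorem exists_anti [Finite F] (h2 : (2 : F) ≠ 0) : ∃ j : S, Anti j := by
  obtain ⟨X, Y, h⟩ := exists_sum_two_squares h2 (-1 : F)
  refine ⟨⟨!![X, Y; Y, -X], by simp [Matrix.det_fin_two]; linear_combination -h⟩,
    by simp [Matrix.trace_fin_two], Subtype.ext ?_⟩
  show !![X, Y; Y, -X] * (w : S).1 = (negOne : S).1 * ((w : S).1 * !![X, Y; Y, -X])
  rw [coe_negOne]
  ext a b
  fin_cases a <;> fin_cases b <;> simp [w, Matrix.mul_apply, Fin.sum_univ_two]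

/-- The cyclic permutation of the quaternion frame. -/
theorem Anti.exists_cycle {j : S} (h2 : (2 : F) ≠ 0) (hj : Anti j) :
    ∃ h : S, h ^ 3 = 1 ∧ h * w * h⁻¹ = w * j ∧ h * (w * j) * h⁻¹ = j ∧ h * j * h⁻¹ = w := by
  obtain ⟨h11, h01⟩ := hj.entries
  have hdet := j.2
  rw [Matrix.det_fin_two, h11, h01] at hdet
  set X := j.1 0 0 with hX
  set Y := j.1 1 0 with hY
  have hjm : j.1 = !![X, Y; Y, -X] := by rw [Matrix.eta_fin_two j.1, h11, h01]
  let h : S := ⟨!![(-1 + X - Y) / 2, (-1 + Y + X) / 2; (1 + Y + X) / 2, (-1 - X + Y) / 2], by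
    simp [Matrix.det_fin_two]; field_simp; linear_combination 2 * hdet⟩
  refine ⟨h, ?_, ?_, ?_, ?_⟩
  · apply Subtype.ext
    rw [pow_succ, pow_two, Matrix.SpecialLinearGroup.coe_mul, Matrix.SpecialLinearGroup.coe_mul,
      Matrix.SpecialLinearGroup.coe_one]
    ext a b
    fin_cases a <;> fin_cases b <;> simp [h, Matrix.mul_apply, Fin.sum_univ_two] <;> field_simp <;>
      grind
  all_goals
    rw [mul_inv_eq_iff_eq_mul]
    apply Subtype.ext
    simp only [Matrix.SpecialLinearGroup.coe_mul, hjm]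
    ext a b
    fin_cases a <;> fin_cases b <;> simp [h, w, Matrix.mul_apply, Fin.sum_univ_two] <;>
      field_simp <;> grind

/-- The four-group containing the image of `w` and that of `g`. -/
def W (g : S) (hg : Anti g) : Subgroup P :=
  FourGroup.four (pr w) (pr g) (pr_mul_self trace_w) (pr_mul_self hg.1) (by
    rw [← map_mul pr g w, hg.2]; simp [pr_negOne])

theorem pr_w_ne {g : S} (h2 : (2 : F) ≠ 0) (hg : Anti g) : pr w ≠ pr g := by
  intro h
  have h1 := hg.2
  have hne : ∀ x : S, x = negOne * x → False := fun x hx => by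
    exact negOne_ne_one h2 (mul_eq_right.1 hx.symm)
  rcases pr_eq_iff.1 h with rfl | rfl
  · exact hne _ h1
  · exact hne (negOne * w * w) (h1.trans (by rw [← mul_assoc w negOne w, ← negOne_comm w]))

theorem isKleinFour_W (h2 : (2 : F) ≠ 0) {g : S} (hg : Anti g) : IsKleinFour (W g hg) :=
  FourGroup.isKleinFour_four (pr_ne_one h2 trace_w) (pr_ne_one h2 hg.1) (pr_w_ne h2 hg)

theorem pr_mem_W {g : S} (hg : Anti g) : pr g ∈ W g hg :=
  FourGroup.mem_four.2 (Or.inr (Or.inr (Or.inl rfl)))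

theorem pr_w_mem_W {g : S} (hg : Anti g) : pr w ∈ W g hg :=
  FourGroup.mem_four.2 (Or.inr (Or.inl rfl))

theorem eq_W (h2 : (2 : F) ≠ 0) {V : Subgroup P} (hV : IsKleinFour V) (hw : pr w ∈ V) {g : S}
    (hg : Anti g) (hgV : pr g ∈ V) : V = W g hg :=
  FourGroup.eq_four hV hw hgV (pr_ne_one h2 trace_w) (pr_ne_one h2 hg.1) (pr_w_ne h2 hg)

theorem exists_eq_W (h2 : (2 : F) ≠ 0) {V : Subgroup P} (hV : IsKleinFour V) (hw : pr w ∈ V) :
    ∃ g : S, ∃ hg : Anti g, V = W g hg := by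
  obtain ⟨y, hyV, hy1, hyw⟩ := FourGroup.exists_two hV (a := pr (w : S))
  obtain ⟨g, hg, rfl⟩ := exists_lift h2 (FourGroup.mul_self_of_mem hV hyV) hy1
  have hc := FourGroup.comm_of_mem hV hyV hw
  rw [← map_mul, ← map_mul, pr_eq_iff] at hc
  have hanti : Anti g := by
    refine ⟨hg, ?_⟩
    rcases hc with h | h
    · exfalso
      have h1 : (g * w) * (g * w) = 1 := by
        rw [show g * w * (g * w) = g * (w * g) * w by simp only [mul_assoc], h, ← mul_assoc g g,
          mul_assoc (g * g), (mul_self_eq_negOne_iff g).2 hg, w_mul_self, negOne_mul_self]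
      have h3 : pr g * pr w = 1 := by
        rw [← map_mul]
        exact pr_eq_one_iff.2 (eq_or_eq_negOne_of_mul_self h2 h1)
      exact hyw (by rw [eq_inv_of_mul_eq_one_left h3, inv_eq_of_mul_eq_one_left (pr_mul_self trace_w)])
    · rw [h, ← mul_assoc, negOne_mul_self, one_mul]
  exact ⟨g, hanti, eq_W h2 hV hw hanti hyV⟩

theorem mem_zpowers_w_iff {z : S} :
    z ∈ Subgroup.zpowers (w : S) ↔ z = 1 ∨ z = w ∨ z = negOne ∨ z = negOne * w := by
  have hw4 : (w : S) ^ 4 = 1 := by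
    rw [show (4 : ℕ) = 2 * 2 from rfl, pow_mul, pow_two w, w_mul_self, pow_two, negOne_mul_self]
  constructor
  · rintro ⟨k, rfl⟩
    dsimp only
    have hr : (w : S) ^ k = w ^ (k % 4).toNat := by
      conv_lhs => rw [← Int.mul_ediv_add_emod k 4]
      rw [zpow_add, zpow_mul, show ((w : S) ^ (4 : ℤ)) = 1 by exact_mod_cast hw4, one_zpow, one_mul,
        ← zpow_natCast, Int.toNat_of_nonneg (Int.emod_nonneg k (by norm_num))]
    rw [hr]
    have : (k % 4).toNat < 4 := by omega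
    interval_cases (k % 4).toNat
    · exact Or.inl (pow_zero _)
    · exact Or.inr (Or.inl (pow_one _))
    · exact Or.inr (Or.inr (Or.inl (by rw [pow_two, w_mul_self])))
    · exact Or.inr (Or.inr (Or.inr (by rw [pow_succ, pow_two, w_mul_self])))
  · have hm := Subgroup.mem_zpowers (w : S)
    rintro (rfl | rfl | rfl | rfl)
    · exact one_mem _
    · exact hm
    · rw [← w_mul_self]; exact mul_mem hm hm
    · rw [← w_mul_self]; exact mul_mem (mul_mem hm hm) hm

theorem W_eq_iff (h2 : (2 : F) ≠ 0) {g g' : S} (hg : Anti g) (hg' : Anti g') :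
    W g hg = W g' hg' ↔ g⁻¹ * g' ∈ Subgroup.zpowers (w : S) := by
  have key : pr g' ∈ W g hg ↔ g⁻¹ * g' ∈ Subgroup.zpowers (w : S) := by
    rw [mem_zpowers_w_iff, inv_mul_eq_iff_eq_mul, inv_mul_eq_iff_eq_mul, inv_mul_eq_iff_eq_mul,
      inv_mul_eq_iff_eq_mul, mul_one, ← mul_assoc g, ← negOne_comm g, mul_assoc negOne]
    have hgw : g * w = negOne * (w * g) := hg.2
    constructor
    · intro h
      rcases FourGroup.mem_four.1 h with h | h | h | h
      · exact absurd h (pr_ne_one h2 hg'.1)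
      · exact absurd h.symm (pr_w_ne h2 hg')
      · rcases pr_eq_iff.1 h.symm with h' | h'
        · exact Or.inl h'
        · exact Or.inr (Or.inr (Or.inl h'))
      · rw [← map_mul] at h
        rcases pr_eq_iff.1 h.symm with h' | h'
        · exact Or.inr (Or.inr (Or.inr (by
            rw [h', hgw, ← mul_assoc, negOne_mul_self, one_mul])))
        · exact Or.inr (Or.inl (by rw [h', hgw]))
    · rintro (rfl | rfl | rfl | rfl) <;> apply FourGroup.mem_four.2
      · exact Or.inr (Or.inr (Or.inl rfl))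
      · exact Or.inr (Or.inr (Or.inr (by rw [hgw, map_mul, pr_negOne, one_mul, map_mul])))
      · exact Or.inr (Or.inr (Or.inl (by rw [map_mul, pr_negOne, one_mul])))
      · exact Or.inr (Or.inr (Or.inr (by
          rw [hgw, map_mul, map_mul, pr_negOne, one_mul, one_mul, map_mul])))
  rw [← key]
  constructor
  · intro h
    rw [h]
    exact pr_mem_W hg'
  · intro h
    exact eq_W h2 (isKleinFour_W h2 hg) (pr_w_mem_W hg) hg' h

theorem map_W (h2 : (2 : F) ≠ 0) (d : S) {g : S} (hg : Anti g) (hdw : pr (d * w * d⁻¹) = pr w)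
    (hg' : Anti (d * g * d⁻¹)) :
    (W g hg).map (MulAut.conj (pr d)).toMonoidHom = W (d * g * d⁻¹) hg' := by
  refine eq_W h2 (FourGroup.isKleinFour_map _ (isKleinFour_W h2 hg)) ⟨pr w, pr_w_mem_W hg, ?_⟩ hg'
    ⟨pr g, pr_mem_W hg, ?_⟩
  · show pr d * pr w * (pr d)⁻¹ = pr w
    rw [← map_inv, ← map_mul, ← map_mul, hdw]
  · show pr d * pr g * (pr d)⁻¹ = pr (d * g * d⁻¹)
    rw [map_mul, map_mul, map_inv]

theorem map_W_C (h2 : (2 : F) ≠ 0) {j c d : S} (hj : Anti j) (hc : c ∈ (C : Subgroup S))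
    (hd : d ∈ (C : Subgroup S)) :
    (W (j * c) (hj.mul_C hc)).map (MulAut.conj (pr d)).toMonoidHom =
      W (j * (c * (d⁻¹ * d⁻¹))) (hj.mul_C (mul_mem hc (mul_mem (inv_mem hd) (inv_mem hd)))) := by
  have hcd : c * d⁻¹ = d⁻¹ * c := by
    haveI : IsMulCommutative (C : Subgroup S) := ⟨⟨fun a b => Subtype.ext ?_⟩⟩
    · exact congrArg Subtype.val (mul_comm' (⟨c, hc⟩ : C (F := F)) ⟨d⁻¹, inv_mem hd⟩)
    · obtain ⟨h3, h4⟩ := C_entries a.2
      obtain ⟨h5, h6⟩ := C_entries b.2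
      apply Subtype.ext
      rw [Subgroup.coe_mul, Subgroup.coe_mul, Matrix.SpecialLinearGroup.coe_mul,
        Matrix.SpecialLinearGroup.coe_mul]
      ext x y
      fin_cases x <;> fin_cases y <;> simp [Matrix.mul_apply, Fin.sum_univ_two, h3, h4, h5, h6] <;>
        ring
  have hd' : d * j = j * d⁻¹ := by
    have h := hj.conj_C (inv_mem hd)
    rw [inv_inv, mul_inv_eq_iff_eq_mul] at h
    exact h.symm
  have e : d * (j * c) * d⁻¹ = j * (c * (d⁻¹ * d⁻¹)) := by
    rw [← mul_assoc d, hd', mul_assoc j, ← hcd]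
    simp only [mul_assoc]
  have hw' : pr (d * w * d⁻¹) = pr w := by rw [mem_C.1 hd, mul_inv_cancel_right]
  have hanti : Anti (d * (j * c) * d⁻¹) := by
    rw [e]; exact hj.mul_C (mul_mem hc (mul_mem (inv_mem hd) (inv_mem hd)))
  rw [map_W h2 d (hj.mul_C hc) hw' hanti]
  congr 1

theorem map_W_j (h2 : (2 : F) ≠ 0) {j c : S} (hj : Anti j) (hc : c ∈ (C : Subgroup S)) :
    (W (j * c) (hj.mul_C hc)).map (MulAut.conj (pr j)).toMonoidHom =
      W (j * c⁻¹) (hj.mul_C (inv_mem hc)) := by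
  have e : j * (j * c) * j⁻¹ = j * c⁻¹ := by rw [mul_assoc j (j * c), hj.conj_C hc]
  have hw' : pr (j * w * j⁻¹) = pr w := by
    rw [hj.2, mul_assoc negOne, mul_inv_cancel_right, map_mul, pr_negOne, one_mul]
  have hanti : Anti (j * (j * c) * j⁻¹) := by rw [e]; exact hj.mul_C (inv_mem hc)
  rw [map_W h2 j (hj.mul_C hc) hw' hanti]
  congr 1

section finite

variable [Finite F]

theorem isConj_pr_w (h2 : (2 : F) ≠ 0) {x : P} (hx : x * x = 1) (hx1 : x ≠ 1) :
    IsConj (pr w) x := by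
  obtain ⟨g, hg, rfl⟩ := exists_lift h2 hx hx1
  obtain ⟨h, rfl⟩ := exists_conj h2 g hg
  exact isConj_iff.2 ⟨pr h, by simp⟩

theorem exists_conj_W (h2 : (2 : F) ≠ 0) {j : S} (hj : Anti j) {V : Subgroup P}
    (hV : IsKleinFour V) : ∃ x : P, ∃ c : S, ∃ hc : c ∈ (C : Subgroup S),
      V.map (MulAut.conj x).toMonoidHom = W (j * c) (hj.mul_C hc) := by
  obtain ⟨a, haV, ha1, -⟩ := FourGroup.exists_two hV (a := (1 : P))
  obtain ⟨x, hx⟩ := isConj_iff.1 (isConj_pr_w h2 (FourGroup.mul_self_of_mem hV haV) ha1)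
  obtain ⟨g, hg, he⟩ := exists_eq_W h2 (FourGroup.isKleinFour_map (MulAut.conj x⁻¹) hV)
    ⟨a, haV, by show x⁻¹ * a * x⁻¹⁻¹ = _; rw [← hx]; group⟩
  refine ⟨x⁻¹, j⁻¹ * g, hj.mem_C_of hg, ?_⟩
  rw [he]
  simp only [mul_inv_cancel_left]

/-- The elements of `C` congruent to squares modulo `⟨w⟩`. -/
def Even' (c : S) : Prop := ∃ d ∈ (C : Subgroup S), ∃ z ∈ Subgroup.zpowers (w : S), c = d * d * z

theorem exists_generator (h2 : (2 : F) ≠ 0) : ∃ γ : S, γ ∈ (C : Subgroup S) ∧
    (∀ c ∈ (C : Subgroup S), ∃ e : ℤ, c = γ ^ e) ∧ orderOf γ = Nat.card (C : Subgroup S) := by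
  haveI := isCyclic_C (F := F) h2
  obtain ⟨γ, hγ⟩ := IsCyclic.exists_generator (α := (C : Subgroup S))
  refine ⟨γ, γ.2, fun c hc => ?_, ?_⟩
  · obtain ⟨e, he⟩ := hγ ⟨c, hc⟩
    exact ⟨e, (congrArg Subtype.val he).symm⟩
  · rw [Subgroup.orderOf_coe, orderOf_eq_card_of_forall_mem_zpowers hγ]

theorem four_dvd_card_C (h2 : (2 : F) ≠ 0) :
    4 ∣ Nat.card (C : Subgroup S) ∧ (8 ∣ Nat.card (C : Subgroup S) ↔
      (Nat.card F % 8 = 1 ∨ Nat.card F % 8 = 7)) := by
  haveI := Fintype.ofFinite F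
  have hodd : Nat.card F % 2 = 1 := by
    rw [Nat.card_eq_fintype_card]
    exact FiniteField.odd_card_of_char_ne_two fun h => by
      haveI := ringChar.of_eq h
      exact h2 CharTwo.two_eq_zero
  rw [card_C h2]
  split_ifs with h4 <;> constructor <;> omega

/-- The parity dichotomy in `C`. -/
theorem even_dichotomy (h2 : (2 : F) ≠ 0) :
    ((Nat.card F % 8 = 3 ∨ Nat.card F % 8 = 5) → ∀ c ∈ (C : Subgroup S), Even' c) ∧
    ((Nat.card F % 8 = 1 ∨ Nat.card F % 8 = 7) → ∃ γ ∈ (C : Subgroup S), ¬ Even' γ ∧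
      ∀ c ∈ (C : Subgroup S), Even' c ∨ Even' (γ⁻¹ * c)) := by
  obtain ⟨γ, hγC, hgen, hord⟩ := exists_generator (F := F) h2
  obtain ⟨h4, h8⟩ := four_dvd_card_C (F := F) h2
  obtain ⟨M, hM⟩ := h4
  obtain ⟨k, hk⟩ := hgen w w_mem_C
  have hN0 : 0 < Nat.card (C : Subgroup S) := Nat.card_pos
  have hdvd4 : ((4 * M : ℕ) : ℤ) ∣ 4 * k := by
    rw [← hM, ← hord, orderOf_dvd_iff_zpow_eq_one, mul_comm, zpow_mul, ← hk,
      show ((4 : ℤ)) = 2 * 2 from rfl, zpow_mul, zpow_two w, w_mul_self, zpow_two, negOne_mul_self]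
  have hndvd2 : ¬ ((4 * M : ℕ) : ℤ) ∣ 2 * k := by
    rw [← hM, ← hord, orderOf_dvd_iff_zpow_eq_one, mul_comm, zpow_mul, ← hk, zpow_two, w_mul_self]
    exact negOne_ne_one h2
  obtain ⟨m, hm⟩ := hdvd4
  have hkm : k = (M : ℤ) * m := by push_cast at hm; linarith
  have hmodd : m % 2 = 1 := by
    by_contra hm2
    apply hndvd2
    refine ⟨m / 2, ?_⟩
    have : m = 2 * (m / 2) := by omega
    rw [hkm]
    conv_lhs => rw [this]
    push_cast
    ring
  have hMpar : k % 2 = (M : ℤ) % 2 := by rw [hkm, Int.mul_emod, hmodd, mul_one, Int.emod_emod]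
  constructor
  · intro hq c hc
    have hk1 : k % 2 = 1 := by
      rw [hMpar]
      have : ¬ 8 ∣ 4 * M := by rw [← hM, h8]; omega
      omega
    obtain ⟨e, rfl⟩ := hgen c hc
    rcases Int.emod_two_eq_zero_or_one e with he | he
    · refine ⟨γ ^ (e / 2), zpow_mem hγC _, 1, one_mem _, ?_⟩
      rw [mul_one, ← zpow_add]; congr 1; omega
    · refine ⟨γ ^ ((e - k) / 2), zpow_mem hγC _, w, Subgroup.mem_zpowers _, ?_⟩
      rw [hk, ← zpow_add, ← zpow_add]; congr 1; omega
  · intro hq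
    have hk0 : k % 2 = 0 := by
      rw [hMpar]
      have : 8 ∣ 4 * M := by rw [← hM, h8]; exact hq
      omega
    refine ⟨γ, hγC, ?_, fun c hc => ?_⟩
    · rintro ⟨d, hd, z, ⟨i, rfl⟩, he⟩
      obtain ⟨e, rfl⟩ := hgen d hd
      have he' : γ ^ (1 : ℤ) = γ ^ (e + e + k * i) := by
        rw [zpow_one, zpow_add, zpow_add, zpow_mul, ← hk]
        exact he
      rw [zpow_eq_zpow_iff_modEq, hord, hM] at he'
      have h2' := Int.ModEq.of_dvd (show (2 : ℤ) ∣ ((4 * M : ℕ) : ℤ) by omega) he'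
      unfold Int.ModEq at h2'
      rw [Int.add_emod, Int.mul_emod, hk0] at h2'
      omega
    · obtain ⟨e, rfl⟩ := hgen c hc
      rcases Int.emod_two_eq_zero_or_one e with he | he
      · refine Or.inl ⟨γ ^ (e / 2), zpow_mem hγC _, 1, one_mem _, ?_⟩
        rw [mul_one, ← zpow_add]; congr 1; omega
      · refine Or.inr ⟨γ ^ ((e - 1) / 2), zpow_mem hγC _, 1, one_mem _, ?_⟩
        rw [mul_one, ← zpow_add, ← _root_.zpow_neg_one, ← zpow_add]; congr 1; omega

theorem W_eq_of_eq {g g' : S} {hg : Anti g} {hg' : Anti g'} (h : g = g') : W g hg = W g' hg' := by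
  subst h; rfl

theorem conj_of_even (h2 : (2 : F) ≠ 0) {j : S} (hj : Anti j) {c c' : S}
    (hc : c ∈ (C : Subgroup S)) (hc' : c' ∈ (C : Subgroup S)) (h : Even' (c⁻¹ * c')) :
    ∃ x : P, W (j * c') (hj.mul_C hc') = (W (j * c) (hj.mul_C hc)).map (MulAut.conj x).toMonoidHom := by
  obtain ⟨d, hd, z, hz, he⟩ := h
  refine ⟨pr d⁻¹, ?_⟩
  rw [map_W_C h2 hj hc (inv_mem hd)]
  symm
  rw [W_eq_iff h2]
  convert hz using 1
  rw [inv_inv, inv_mul_eq_iff_eq_mul, inv_mul_eq_iff_eq_mul.1 he]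
  simp only [mul_assoc]

/-- The centraliser of the image of `w`, pulled back to SL_2. -/
def D : Subgroup S := (Subgroup.centralizer {pr (w : S)}).comap pr

omit [Finite F] in
theorem mem_D {g : S} : g ∈ (D : Subgroup S) ↔ g * w = w * g ∨ g * w = negOne * (w * g) := by
  show pr g ∈ Subgroup.centralizer {pr (w : S)} ↔ _
  rw [Subgroup.mem_centralizer_singleton_iff, ← map_mul, ← map_mul, eq_comm, pr_eq_iff]

omit [Finite F] in
theorem D_dichotomy {j g : S} (hj : Anti j) (hg : g ∈ (D : Subgroup S)) :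
    g ∈ (C : Subgroup S) ∨ j⁻¹ * g ∈ (C : Subgroup S) := by
  rcases mem_D.1 hg with h | h
  · exact Or.inl (mem_C.2 h)
  · refine Or.inr (mem_C.2 ?_)
    rw [mul_assoc, h, inv_mul_eq_iff_eq_mul, ← mul_assoc j, hj.2]
    simp only [mul_assoc, mul_inv_cancel_left]

theorem card_D (h2 : (2 : F) ≠ 0) :
    Nat.card (D : Subgroup S) = 2 * Nat.card (C : Subgroup S) := by
  obtain ⟨j, hj⟩ := exists_anti (F := F) h2
  have hCD : (C : Subgroup S) ≤ D := fun g hg => mem_D.2 (Or.inl (mem_C.1 hg))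
  have hjC : j ∉ (C : Subgroup S) := fun h => by
    have h1 := hj.2
    rw [mem_C.1 h] at h1
    exact negOne_ne_one h2 (mul_eq_right.1 h1.symm)
  have hjD : j ∈ (D : Subgroup S) := mem_D.2 (Or.inr hj.2)
  have hj' : j * j ∈ (C : Subgroup S) := by
    rw [(mul_self_eq_negOne_iff j).2 hj.1]; exact negOne_mem_C
  have hidx : ((C : Subgroup S).subgroupOf D).index = 2 := by
    refine Subgroup.index_eq_two_iff.2 ⟨⟨j, hjD⟩, fun g => ?_⟩
    simp only [Subgroup.mem_subgroupOf, Subgroup.coe_mul]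
    rcases D_dichotomy hj g.2 with h | h
    · exact Or.inr ⟨h, fun h' => hjC (by simpa using mul_mem (inv_mem h) h')⟩
    · have hgC : g.1 ∉ (C : Subgroup S) := fun h' => hjC (by
        have := mul_mem h' (inv_mem h)
        simpa using this)
      refine Or.inl ⟨?_, hgC⟩
      have hcj : j⁻¹ * g.1 * j = j⁻¹ * (j⁻¹ * g.1)⁻¹ * (j * j) := by
        rw [← hj.conj_C h]
        group
      have : g.1 * j = j * (j⁻¹ * g.1 * j) := by group
      rw [this, hcj]
      have e : j * (j⁻¹ * (j⁻¹ * g.1)⁻¹ * (j * j)) = (j⁻¹ * g.1)⁻¹ * (j * j) := by group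
      rw [e]
      exact mul_mem (inv_mem h) hj'
  rw [← Subgroup.card_mul_index ((C : Subgroup S).subgroupOf D), hidx,
    Nat.card_congr (Subgroup.subgroupOfEquivOfLe hCD).toEquiv, mul_comm]

theorem card_sl_eq (h2 : (2 : F) ≠ 0) : Nat.card S = 2 * Nat.card P := by
  rw [← Subgroup.card_mul_index (Subgroup.center S), Subgroup.index_eq_card]
  have : Nat.card (Subgroup.center S) = 2 := by
    rw [show Nat.card (Subgroup.center S) = Nat.card ({1, negOne} : Set S) from
      Nat.card_congr (Equiv.subtypeEquivRight fun g => by simp [mem_center_iff]),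
      Nat.card_coe_set_eq, Set.ncard_pair (negOne_ne_one h2).symm]
  rw [this]

theorem card_centralizer (h2 : (2 : F) ≠ 0) :
    Nat.card (Subgroup.centralizer {pr (w : S)}) = Nat.card (C : Subgroup S) := by
  have hD := card_D (F := F) h2
  have h1 := Subgroup.card_mul_index (D : Subgroup S)
  have h3 := Subgroup.card_mul_index (Subgroup.centralizer {pr (w : S)})
  rw [show (D : Subgroup S).index = _ from Subgroup.index_comap_of_surjective _ pr_surjective, hD,
    card_sl_eq h2, ← h3, mul_assoc] at h1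
  exact (Nat.eq_of_mul_eq_mul_right (Nat.pos_of_ne_zero Subgroup.index_ne_zero_of_finite)
    (Nat.eq_of_mul_eq_mul_left (by norm_num) h1)).symm

theorem card_involutions_mul (h2 : (2 : F) ≠ 0) :
    Nat.card {y : P // y * y = 1 ∧ y ≠ 1} * Nat.card (C : Subgroup S) = Nat.card P := by
  rw [← card_centralizer h2, ← FourGroup.card_class_mul_centralizer (pr (w : S))]
  congr 1
  refine Nat.card_congr (Equiv.subtypeEquivRight fun y => ⟨fun h => isConj_pr_w h2 h.1 h.2, ?_⟩)
  intro hy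
  obtain ⟨c, rfl⟩ := isConj_iff.1 hy
  refine ⟨?_, fun h => pr_ne_one h2 trace_w (conj_eq_one_iff.1 h)⟩
  rw [conj_mul, pr_mul_self trace_w, mul_one, mul_inv_cancel]

theorem card_fours_through (h2 : (2 : F) ≠ 0) :
    4 * Nat.card {V : Subgroup P // IsKleinFour V ∧ pr w ∈ V} = Nat.card (C : Subgroup S) := by
  obtain ⟨j, hj⟩ := exists_anti (F := F) h2
  let Z := (Subgroup.zpowers (w : S)).subgroupOf C
  let f : (C : Subgroup S) ⧸ Z → {V : Subgroup P // IsKleinFour V ∧ pr w ∈ V} :=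
    Quotient.lift (fun c => ⟨W (j * c.1) (hj.mul_C c.2), isKleinFour_W h2 _, pr_w_mem_W _⟩)
      (fun a b hab => Subtype.ext ((W_eq_iff h2 (hj.mul_C a.2) (hj.mul_C b.2)).2 (by
        have h := QuotientGroup.leftRel_apply.1 hab
        rw [Subgroup.mem_subgroupOf] at h
        simpa [mul_assoc] using h)))
  have hb : Function.Bijective f := by
    constructor
    · intro x y
      induction x using Quotient.inductionOn with | h a =>
      induction y using Quotient.inductionOn with | h b =>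
      intro e
      refine Quotient.sound (QuotientGroup.leftRel_apply.2 ?_)
      rw [Subgroup.mem_subgroupOf]
      simpa [mul_assoc] using (W_eq_iff h2 (hj.mul_C a.2) (hj.mul_C b.2)).1 (congrArg Subtype.val e)
    · rintro ⟨V, hV, hw⟩
      obtain ⟨g, hg, rfl⟩ := exists_eq_W h2 hV hw
      exact ⟨QuotientGroup.mk ⟨j⁻¹ * g, hj.mem_C_of hg⟩,
        Subtype.ext (W_eq_of_eq (hg := hj.mul_C (hj.mem_C_of hg)) (hg' := hg) (mul_inv_cancel_left j g))⟩
  have hZ : Nat.card Z = 4 := by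
    rw [Nat.card_congr (Subgroup.subgroupOfEquivOfLe
      (Subgroup.zpowers_le.2 (w_mem_C (F := F)))).toEquiv, Nat.card_zpowers,
      show 4 = 2 ^ (1 + 1) from rfl]
    refine orderOf_eq_prime_pow ?_ ?_
    · rw [pow_one, pow_two, w_mul_self]; exact negOne_ne_one h2
    · rw [show (2 : ℕ) ^ (1 + 1) = 2 * 2 from rfl, pow_mul, pow_two w, w_mul_self, pow_two,
        negOne_mul_self]
  rw [← Nat.card_congr (Equiv.ofBijective f hb), ← hZ, ← Subgroup.index_eq_card,
    Subgroup.card_mul_index]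

theorem twelve_mul_card (h2 : (2 : F) ≠ 0) :
    12 * Nat.card {V : Subgroup P // IsKleinFour V} = Nat.card P := by
  classical
  let I := {y : P // y * y = 1 ∧ y ≠ 1}
  let K := {V : Subgroup P // IsKleinFour V}
  haveI := Fintype.ofFinite I
  haveI := Fintype.ofFinite K
  let e : (Σ y : I, {V : Subgroup P // IsKleinFour V ∧ y.1 ∈ V}) ≃
      Σ V : K, {y : P // y ∈ V.1 ∧ y ≠ 1} :=
    { toFun := fun x => ⟨⟨x.2.1, x.2.2.1⟩, x.1.1, x.2.2.2, x.1.2.2⟩
      invFun := fun x => ⟨⟨x.2.1, FourGroup.mul_self_of_mem x.1.2 x.2.2.1, x.2.2.2⟩,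
        x.1.1, x.1.2, x.2.2.1⟩
      left_inv := fun x => rfl
      right_inv := fun x => rfl }
  have h := Nat.card_congr e
  rw [Nat.card_sigma, Nat.card_sigma] at h
  have hK : ∀ V : K, Nat.card {y : P // y ∈ V.1 ∧ y ≠ 1} = 3 := by
    intro V
    have hset : {y : P | y ∈ V.1 ∧ y ≠ 1} = (V.1 : Set P) \ {1} := by ext; simp
    show Nat.card {y : P | y ∈ V.1 ∧ y ≠ 1} = 3
    rw [Nat.card_coe_set_eq, hset, Set.ncard_diff_singleton_of_mem (one_mem _),
      ← Nat.card_coe_set_eq]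
    show Nat.card V.1 - 1 = 3
    rw [V.2.card_four]
  have hI : ∀ y : I, Nat.card {V : Subgroup P // IsKleinFour V ∧ y.1 ∈ V} =
      Nat.card {V : Subgroup P // IsKleinFour V ∧ pr w ∈ V} := by
    intro y
    obtain ⟨x, hx⟩ := isConj_iff.1 (isConj_pr_w h2 y.2.1 y.2.2)
    refine Nat.card_congr
      { toFun := fun V => ⟨V.1.map (MulAut.conj x⁻¹).toMonoidHom,
          FourGroup.isKleinFour_map _ V.2.1, y.1, V.2.2, by
            show x⁻¹ * y.1 * x⁻¹⁻¹ = _; rw [← hx]; group⟩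
        invFun := fun V => ⟨V.1.map (MulAut.conj x).toMonoidHom,
          FourGroup.isKleinFour_map _ V.2.1, pr w, V.2.2, hx⟩
        left_inv := fun V => Subtype.ext (by
          ext z; simp [Subgroup.mem_map, MulAut.conj_apply, mul_assoc])
        right_inv := fun V => Subtype.ext (by
          ext z; simp [Subgroup.mem_map, MulAut.conj_apply, mul_assoc]) }
  rw [Finset.sum_congr rfl fun y _ => hI y, Finset.sum_congr rfl fun V _ => hK V, Finset.sum_const,
    Finset.sum_const, Finset.card_univ, Finset.card_univ, ← Nat.card_eq_fintype_card,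
    ← Nat.card_eq_fintype_card, smul_eq_mul, smul_eq_mul] at h
  calc 12 * Nat.card K = 4 * (Nat.card K * 3) := by ring
    _ = Nat.card I * (4 * Nat.card {V : Subgroup P // IsKleinFour V ∧ pr w ∈ V}) := by
      rw [← h]; ring
    _ = Nat.card P := by rw [card_fours_through h2, card_involutions_mul h2]

end finite

end Cfsg.Agent.PSL2Inv
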