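/-
An abelian subgroup extended by an element inverting it: order and class number.
-/
import Mathlib.GroupTheory.CommutingProbability
import Mathlib.Data.Fintype.BigOperators
import Mathlib.Tactic

set_option autoImplicit false

namespace Cfsg.Agent.InvertedTorus

variable {G : Type*} [Group G]

/-- `T` is abelian, `w ∉ T` inverts it and squares into it, and `N = T ∪ T w`. -/
structure Data (T N : Subgroup G) (w : G) : Prop where
  comm : ∀ s ∈ T, ∀ t ∈ T, s * t = t * s
  notMem : w ∉ T
  inv : ∀ t ∈ T, w * t * w⁻¹ = t⁻¹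
  sq : w * w ∈ T
  mem_iff : ∀ x, x ∈ N ↔ x ∈ T ∨ x * w⁻¹ ∈ T

variable {T N : Subgroup G} {w : G}

theorem Data.w_mul (d : Data T N w) {t : G} (ht : t ∈ T) : w * t = t⁻¹ * w := by
  rw [← d.inv t ht, inv_mul_cancel_right]

/-- The parametrisation `T × Bool → N`. -/
def param (d : Data T N w) : T × Bool → N
  | (t, false) => ⟨t.1, (d.mem_iff _).2 (Or.inl t.2)⟩
  | (t, true) => ⟨t.1 * w, (d.mem_iff _).2 (Or.inr (by rw [mul_inv_cancel_right]; exact t.2))⟩

theorem param_bijective (d : Data T N w) : Function.Bijective (param d) := by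
  refine ⟨?_, fun x => ?_⟩
  · rintro ⟨s, _ | _⟩ ⟨t, _ | _⟩ h <;> have h' := congrArg Subtype.val h <;> simp [param] at h'
    · rw [h']
    · exact absurd ((mul_mem_cancel_left t.2).1 (h' ▸ s.2)) d.notMem
    · exact absurd ((mul_mem_cancel_left s.2).1 (h' ▸ t.2)) d.notMem
    · rw [h']
  · rcases (d.mem_iff x.1).1 x.2 with h | h
    · exact ⟨(⟨x.1, h⟩, false), rfl⟩
    · exact ⟨(⟨x.1 * w⁻¹, h⟩, true), Subtype.ext (inv_mul_cancel_right x.1 w)⟩

theorem card_N (d : Data T N w) : Nat.card N = 2 * Nat.card T := by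
  rw [← Nat.card_eq_of_bijective _ (param_bijective d), Nat.card_prod, Nat.card_eq_fintype_card (α := Bool),
    Fintype.card_bool, mul_comm]

theorem commute_iff (d : Data T N w) (s t : T) (i j : Bool) :
    Commute (param d (s, i)) (param d (t, j)) ↔
      match i, j with
      | false, false => True
      | false, true => s ^ 2 = 1
      | true, false => t ^ 2 = 1
      | true, true => s ^ 2 = t ^ 2 := by
  have key : ∀ x y : N, Commute x y ↔ x.1 * y.1 = y.1 * x.1 := fun x y =>
    ⟨fun h => congrArg Subtype.val h, fun h => Subtype.ext h⟩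
  have sq : ∀ a : T, (a ^ 2 = 1) ↔ a.1 = a.1⁻¹ := fun a => by
    rw [Subtype.ext_iff, pow_two, Subgroup.coe_mul, Subgroup.coe_one, mul_eq_one_iff_eq_inv]
  have mixed : ∀ a b : T, a.1 * (b.1 * w) = b.1 * w * a.1 ↔ a.1 = a.1⁻¹ := fun a b => by
    rw [mul_assoc b.1 w, d.w_mul a.2, ← mul_assoc, ← mul_assoc, mul_left_inj,
      d.comm a.1 a.2 b.1 b.2, mul_right_inj]
  rw [key]
  cases i <;> cases j <;> simp only [param]
  · simp [d.comm s.1 s.2 t.1 t.2]
  · rw [sq, mixed]
  · rw [sq, eq_comm, mixed]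
  · have e : ∀ a b : T, a.1 * w * (b.1 * w) = a.1 * b.1⁻¹ * (w * w) := fun a b => by
      rw [mul_assoc a.1 w, ← mul_assoc w, d.w_mul b.2, mul_assoc b.1⁻¹, ← mul_assoc a.1]
    rw [e, e, mul_left_inj, Subtype.ext_iff, pow_two, pow_two, Subgroup.coe_mul, Subgroup.coe_mul]
    constructor
    · intro h
      calc s.1 * s.1 = (s.1 * t.1⁻¹) * (t.1 * s.1) := by group
        _ = (t.1 * s.1⁻¹) * (s.1 * t.1) := by rw [h, d.comm t.1 t.2 s.1 s.2]
        _ = t.1 * t.1 := by group
    · intro h
      have hc := d.comm _ (T.inv_mem t.2) _ (T.inv_mem s.2)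
      calc s.1 * t.1⁻¹ = s.1 * s.1 * (s.1⁻¹ * t.1⁻¹) := by group
        _ = t.1 * t.1 * (t.1⁻¹ * s.1⁻¹) := by rw [h, hc]
        _ = t.1 * s.1⁻¹ := by group

theorem card_conjClasses (d : Data T N w) [Finite G] {I : ℕ}
    (hI : Nat.card {t : T // t ^ 2 = 1} = I) :
    Nat.card (ConjClasses N) * 2 = Nat.card T + 3 * I := by
  classical
  have := Fintype.ofFinite G
  have hcomm : ∀ a b : T, a * b = b * a := fun a b => Subtype.ext (d.comm _ a.2 _ b.2)
  have h0 : ∀ u : T, (∑ c : T, if u ^ 2 = c ^ 2 then 1 else 0) = I := by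
    intro u
    rw [Finset.sum_boole, ← hI, Nat.cast_id, ← Fintype.card_subtype, ← Nat.card_eq_fintype_card]
    refine Nat.card_congr ((Equiv.mulLeft u⁻¹).subtypeEquiv fun c => ?_)
    show _ ↔ (u⁻¹ * c) ^ 2 = 1
    rw [(Commute.mul_pow (hcomm _ _) 2 : ((u⁻¹ * c) ^ 2 = u⁻¹ ^ 2 * c ^ 2)) , inv_pow, inv_mul_eq_one]
  have h1 : (∑ c : T, if c ^ 2 = 1 then 1 else 0) = I := by
    simpa [eq_comm] using h0 1
  let W : T × Bool → T × Bool → ℕ := fun x y =>
    match x.2, y.2 with
    | false, false => 1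
    | false, true => if x.1 ^ 2 = 1 then 1 else 0
    | true, false => if y.1 ^ 2 = 1 then 1 else 0
    | true, true => if x.1 ^ 2 = y.1 ^ 2 then 1 else 0
  have hW : ∀ x y : T × Bool, (if Commute (param d x) (param d y) then 1 else 0) = W x y := by
    rintro ⟨s, _ | _⟩ ⟨t, _ | _⟩
    · exact if_pos ((commute_iff d s t false false).2 trivial)
    · exact if_congr (commute_iff d s t false true) rfl rfl
    · exact if_congr (commute_iff d s t true false) rfl rfl
    · exact if_congr (commute_iff d s t true true) rfl rfl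
  have hp : Nat.card {z : N × N // Commute z.1 z.2} =
      Nat.card T * (Nat.card T + 3 * I) := by
    let e := Equiv.ofBijective _ (param_bijective d)
    rw [← Nat.card_congr ((Equiv.prodCongr e e).subtypeEquiv
      (p := fun z => Commute (param d z.1) (param d z.2)) fun z => Iff.rfl),
      Nat.card_eq_fintype_card, Fintype.card_subtype, Finset.card_filter, Fintype.sum_prod_type]
    simp only [hW]
    simp only [Fintype.sum_prod_type, Fintype.sum_bool, Finset.sum_add_distrib, W,
      Finset.sum_const, Finset.card_univ, smul_eq_mul, mul_one]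
    simp only [h0, h1, ← Finset.mul_sum, Finset.sum_const, Finset.card_univ, smul_eq_mul,
      Nat.card_eq_fintype_card]
    ring
  rw [card_comm_eq_card_conjClasses_mul_card, card_N d] at hp
  have hpos : 0 < Nat.card T := Nat.card_pos
  exact Nat.eq_of_mul_eq_mul_left hpos (by linarith)

end Cfsg.Agent.InvertedTorus
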