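/-
Conjugacy of 2x2 matrices: companion form via cyclic vectors, conjugacy in GL_2 and in SL_2,
centralisers, class counting.
-/
import Cfsg.Agent.Lib.Classical.GL2
import Mathlib.LinearAlgebra.Matrix.ToLin
import Mathlib.LinearAlgebra.Matrix.Trace
import Mathlib.GroupTheory.GroupAction.Quotient

set_option autoImplicit false

namespace Cfsg.Agent.TwoByTwo

open Matrix

variable {F : Type*} [Field F]

/-- The companion matrix of `X^2 - t X + d`. -/
def comp (t d : F) : Matrix (Fin 2) (Fin 2) F := !![0, -d; 1, t]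

theorem trace_comp (t d : F) : (comp t d).trace = t := by simp [comp, Matrix.trace_fin_two]

theorem det_comp (t d : F) : (comp t d).det = d := by simp [comp, Matrix.det_fin_two]

/-- The matrix with columns `v` and `M v`. -/
def cyc (M : Matrix (Fin 2) (Fin 2) F) (v : Fin 2 → F) : Matrix (Fin 2) (Fin 2) F :=
  !![v 0, (M *ᵥ v) 0; v 1, (M *ᵥ v) 1]

/-- The quadratic form `det [v | M v]`. -/
def form (M : Matrix (Fin 2) (Fin 2) F) (v : Fin 2 → F) : F := (cyc M v).det

theorem form_eq (M : Matrix (Fin 2) (Fin 2) F) (v : Fin 2 → F) :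
    form M v = M 1 0 * v 0 ^ 2 + (M 1 1 - M 0 0) * (v 0 * v 1) - M 0 1 * v 1 ^ 2 := by
  simp [form, cyc, Matrix.det_fin_two, Matrix.mulVec, dotProduct, Fin.sum_univ_two]
  ring

theorem form_smul (M : Matrix (Fin 2) (Fin 2) F) (v : Fin 2 → F) (c : F) :
    form M (c • v) = c ^ 2 * form M v := by
  simp only [form_eq, Pi.smul_apply, smul_eq_mul]
  ring

theorem mul_cyc (M : Matrix (Fin 2) (Fin 2) F) (v : Fin 2 → F) :
    M * cyc M v = cyc M v * comp M.trace M.det := by
  ext i j
  fin_cases i <;> fin_cases j <;>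
    simp [cyc, comp, Matrix.mulVec, dotProduct, Matrix.mul_apply, Fin.sum_univ_two,
      Matrix.trace_fin_two, Matrix.det_fin_two] <;> ring

/-- A scalar matrix, read off from its entries. -/
def IsScalar (M : Matrix (Fin 2) (Fin 2) F) : Prop := M 0 1 = 0 ∧ M 1 0 = 0 ∧ M 0 0 = M 1 1

theorem isScalar_iff {M : Matrix (Fin 2) (Fin 2) F} :
    IsScalar M ↔ M = (M 0 0) • (1 : Matrix (Fin 2) (Fin 2) F) := by
  constructor
  · rintro ⟨h1, h2, h3⟩
    ext i j; fin_cases i <;> fin_cases j <;> simp [h1, h2, h3]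
  · intro h
    have h01 := congrFun (congrFun h 0) 1
    have h10 := congrFun (congrFun h 1) 0
    have h11 := congrFun (congrFun h 1) 1
    simp at h01 h10 h11
    exact ⟨h01, h10, h11.symm⟩

theorem isScalar_smul_one (a : F) : IsScalar (a • (1 : Matrix (Fin 2) (Fin 2) F)) := by
  simp [IsScalar]

theorem form_scalar {M : Matrix (Fin 2) (Fin 2) F} (h : IsScalar M) (v : Fin 2 → F) :
    form M v = 0 := by
  obtain ⟨h1, h2, h3⟩ := h
  simp [form_eq, h1, h2, h3]

theorem exists_form_ne_zero {M : Matrix (Fin 2) (Fin 2) F} (h : ¬ IsScalar M) :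
    ∃ v, form M v ≠ 0 := by
  by_cases h10 : M 1 0 = 0
  · by_cases h01 : M 0 1 = 0
    · refine ⟨![1, 1], ?_⟩
      have : M 1 1 - M 0 0 ≠ 0 := fun e => h ⟨h01, h10, (sub_eq_zero.1 e).symm⟩
      simpa [form_eq, h10, h01] using this
    · refine ⟨![0, 1], ?_⟩
      simpa [form_eq] using h01
  · refine ⟨![1, 0], ?_⟩
    simpa [form_eq] using h10

theorem not_isScalar_of_form {M : Matrix (Fin 2) (Fin 2) F} {v : Fin 2 → F}
    (h : form M v ≠ 0) : ¬ IsScalar M := fun hs => h (form_scalar hs v)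

/-- Two non-scalar matrices with the same trace and determinant are similar, with a prescribed
determinant of the conjugating matrix. -/
theorem similar {M N : Matrix (Fin 2) (Fin 2) F} {v w : Fin 2 → F} (hv : form M v ≠ 0)
    (ht : M.trace = N.trace) (hd : M.det = N.det) :
    ∃ X : Matrix (Fin 2) (Fin 2) F, X * M = N * X ∧ X.det = form N w / form M v := by
  have hu : IsUnit (cyc M v).det := isUnit_iff_ne_zero.2 hv
  refine ⟨cyc N w * (cyc M v)⁻¹, ?_, ?_⟩
  · have h1 : (cyc M v)⁻¹ * M = comp M.trace M.det * (cyc M v)⁻¹ := by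
      have h0 := congrArg (fun T => (cyc M v)⁻¹ * T * (cyc M v)⁻¹) (mul_cyc M v)
      simp only [Matrix.mul_assoc, Matrix.mul_nonsing_inv _ hu, Matrix.mul_one] at h0
      rw [← Matrix.mul_assoc (cyc M v)⁻¹ (cyc M v), Matrix.nonsing_inv_mul _ hu,
        Matrix.one_mul] at h0
      exact h0
    rw [Matrix.mul_assoc, h1, ← Matrix.mul_assoc, ht, hd, ← mul_cyc, Matrix.mul_assoc]
  · rw [Matrix.det_mul, Matrix.det_nonsing_inv, Ring.inverse_eq_inv, div_eq_mul_inv]
    rfl

theorem form_conj {M N X : Matrix (Fin 2) (Fin 2) F} (h : X * M = N * X) (v : Fin 2 → F) :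
    form N (X *ᵥ v) = X.det * form M v := by
  have hc : cyc N (X *ᵥ v) = X * cyc M v := by
    have h2 : N *ᵥ (X *ᵥ v) = X *ᵥ (M *ᵥ v) := by rw [mulVec_mulVec, mulVec_mulVec, h]
    rw [cyc, h2]
    ext i j
    fin_cases i <;> fin_cases j <;>
      simp [cyc, Matrix.mul_apply, Fin.sum_univ_two, Matrix.mulVec, dotProduct]
  rw [form, hc, Matrix.det_mul, form]

/-- A matrix commuting with a non-scalar matrix is a linear combination of it and the identity. -/
theorem commute_eq {M N : Matrix (Fin 2) (Fin 2) F} (hM : ¬ IsScalar M) (hc : M * N = N * M) :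
    ∃ a b : F, N = a • 1 + b • M := by
  obtain ⟨v, hv⟩ := exists_form_ne_zero hM
  have hu : IsUnit (cyc M v).det := isUnit_iff_ne_zero.2 hv
  set c := (cyc M v)⁻¹ *ᵥ (N *ᵥ v) with hc'
  have hNv : cyc M v *ᵥ c = N *ᵥ v := by
    rw [hc', mulVec_mulVec, Matrix.mul_nonsing_inv _ hu, one_mulVec]
  have hlin : cyc M v *ᵥ c = c 0 • v + c 1 • (M *ᵥ v) := by
    ext i; fin_cases i <;> simp [cyc, Matrix.mulVec, dotProduct, Fin.sum_univ_two] <;> ring
  refine ⟨c 0, c 1, ?_⟩
  set L := c 0 • (1 : Matrix (Fin 2) (Fin 2) F) + c 1 • M with hL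
  have hLv : L *ᵥ v = N *ᵥ v := by
    rw [← hNv, hlin, hL, add_mulVec, smul_mulVec, one_mulVec, smul_mulVec]
  have hLM : M * L = L * M := by
    rw [hL, mul_add, add_mul, mul_smul_comm, smul_mul_assoc, mul_one, one_mul, mul_smul_comm,
      smul_mul_assoc]
  have key : (N - L) * cyc M v = 0 := by
    have hLMv : L *ᵥ (M *ᵥ v) = N *ᵥ (M *ᵥ v) := by
      rw [mulVec_mulVec, mulVec_mulVec, ← hLM, ← hc, ← mulVec_mulVec, ← mulVec_mulVec, hLv]
    have e0 : ∀ i, ((N - L) *ᵥ v) i = 0 := fun i => by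
      rw [sub_mulVec, Pi.sub_apply, hLv, sub_self]
    have e1 : ∀ i, ((N - L) *ᵥ (M *ᵥ v)) i = 0 := fun i => by
      rw [sub_mulVec, Pi.sub_apply, hLMv, sub_self]
    ext i j
    fin_cases j
    · have := e0 i
      simpa [cyc, Matrix.mul_apply, Fin.sum_univ_two, Matrix.mulVec, dotProduct] using this
    · have := e1 i
      simpa [cyc, Matrix.mul_apply, Fin.sum_univ_two, Matrix.mulVec, dotProduct] using this
  have := congrArg (fun T => T * (cyc M v)⁻¹) key
  simp only [Matrix.mul_assoc, Matrix.mul_nonsing_inv _ hu, Matrix.mul_one, Matrix.zero_mul,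
    sub_eq_zero] at this
  exact this

theorem commute_lin (M : Matrix (Fin 2) (Fin 2) F) (a b : F) :
    M * (a • 1 + b • M) = (a • 1 + b • M) * M := by
  rw [mul_add, add_mul, mul_smul_comm, smul_mul_assoc, mul_one, one_mul, mul_smul_comm,
    smul_mul_assoc]

theorem det_lin (M : Matrix (Fin 2) (Fin 2) F) (a b : F) :
    (a • (1 : Matrix (Fin 2) (Fin 2) F) + b • M).det = a ^ 2 + a * b * M.trace + b ^ 2 * M.det := by
  simp [Matrix.det_fin_two, Matrix.trace_fin_two]
  ring

theorem lin_injective {M : Matrix (Fin 2) (Fin 2) F} (hM : ¬ IsScalar M) {a b a' b' : F}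
    (h : a • (1 : Matrix (Fin 2) (Fin 2) F) + b • M = a' • 1 + b' • M) : a = a' ∧ b = b' := by
  by_cases hb : b = b'
  · refine ⟨?_, hb⟩
    have h00 := congrFun (congrFun h 0) 0
    simp [hb] at h00
    exact h00
  · refine absurd ?_ hM
    have hne : b - b' ≠ 0 := sub_ne_zero.2 hb
    have h01 := congrFun (congrFun h 0) 1
    have h10 := congrFun (congrFun h 1) 0
    have h00 := congrFun (congrFun h 0) 0
    have h11 := congrFun (congrFun h 1) 1
    simp at h01 h10 h00 h11
    refine ⟨h01.resolve_left hb, ?_, ?_⟩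
    · rcases h10 with h10 | h10
      · exact absurd h10 hb
      · exact h10
    · exact mul_left_cancel₀ hne (by linear_combination h00 - h11)

/-- Counting conjugacy classes with a complete invariant. -/
theorem card_conjClasses_of_invariant {G : Type*} [Group G] {X : Type*} (f : G → X)
    (hsurj : Function.Surjective f) (hf : ∀ a b, IsConj a b ↔ f a = f b) :
    Nat.card (ConjClasses G) = Nat.card X := by
  refine Nat.card_congr (Equiv.ofBijective (Quotient.lift f fun a b h => (hf a b).1 h) ⟨?_, ?_⟩)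
  · intro a b
    refine Quotient.inductionOn₂ a b fun a b h => ?_
    exact Quotient.sound ((hf a b).2 h)
  · intro x
    obtain ⟨a, rfl⟩ := hsurj x
    exact ⟨Quotient.mk'' a, rfl⟩

/-! ### GL_2 -/

theorem gl_coe_eq (g h x : GL (Fin 2) F) (e : x.1 * g.1 = h.1 * x.1) : x * g * x⁻¹ = h := by
  have : x * g = h * x := Units.ext e
  rw [this, mul_inv_cancel_right]

theorem isConj_gl_iff (g h : GL (Fin 2) F) :
    IsConj g h ↔ g.1.trace = h.1.trace ∧ g.1.det = h.1.det ∧ (IsScalar g.1 ↔ IsScalar h.1) := by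
  constructor
  · rw [isConj_iff]
    rintro ⟨x, rfl⟩
    have e : x.1 * g.1 = (x * g * x⁻¹ : GL (Fin 2) F).1 * x.1 := by
      rw [← Units.val_mul, ← Units.val_mul, inv_mul_cancel_right]
    have hx : x.1.det ≠ 0 := x.det_ne_zero
    refine ⟨?_, ?_, ?_⟩
    · rw [Units.val_mul, Units.val_mul, Matrix.trace_units_conj]
    · rw [Units.val_mul, Units.val_mul, Matrix.det_units_conj]
    · constructor
      · intro hs
        rw [isScalar_iff] at hs
        have : (x * g * x⁻¹ : GL (Fin 2) F).1 = (g.1 0 0) • 1 := by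
          rw [Units.val_mul, Units.val_mul]
          conv_lhs => rw [hs]
          rw [mul_smul_comm, mul_one, smul_mul_assoc, ← Units.val_mul, mul_inv_cancel,
            Units.val_one]
        rw [this]
        exact isScalar_smul_one _
      · intro hs
        by_contra hg
        obtain ⟨v, hv⟩ := exists_form_ne_zero hg
        have := form_conj e v
        rw [form_scalar hs] at this
        exact mul_ne_zero hx hv this.symm
  · rintro ⟨ht, hd, hs⟩
    by_cases hg : IsScalar g.1
    · have hh := hs.1 hg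
      have hgh : g.1 = h.1 := by
        obtain ⟨g01, g10, g11⟩ := hg
        obtain ⟨h01, h10, h11⟩ := hh
        have hd' : g.1 0 0 ^ 2 = h.1 0 0 ^ 2 := by
          rw [Matrix.det_fin_two, Matrix.det_fin_two] at hd
          simp [g01, g10, ← g11, h01, h10, ← h11] at hd
          linear_combination hd
        have ht' : 2 * (g.1 0 0 - h.1 0 0) = 0 := by
          rw [Matrix.trace_fin_two, Matrix.trace_fin_two] at ht
          linear_combination ht + g11 - h11
        have : g.1 0 0 = h.1 0 0 := by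
          rcases mul_eq_zero.1 ht' with h2 | h2
          · have : (g.1 0 0 - h.1 0 0) ^ 2 = 0 := by
              linear_combination hd' + (h.1 0 0 ^ 2 - g.1 0 0 * h.1 0 0) * h2
            exact sub_eq_zero.1 (pow_eq_zero_iff two_ne_zero |>.1 this)
          · exact sub_eq_zero.1 h2
        ext i j
        fin_cases i <;> fin_cases j <;> simp [g01, g10, ← g11, h01, h10, ← h11, this]
      rw [Units.ext hgh]
    · obtain ⟨v, hv⟩ := exists_form_ne_zero hg
      obtain ⟨w, hw⟩ := exists_form_ne_zero fun h' => hg (hs.2 h')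
      obtain ⟨X, hX, hXd⟩ := similar (w := w) hv ht hd
      have hXd' : X.det ≠ 0 := by rw [hXd]; exact div_ne_zero hw hv
      exact isConj_iff.2 ⟨GeneralLinearGroup.mkOfDetNeZero X hXd', gl_coe_eq _ _ _ hX⟩

/-- The centraliser of a non-scalar element of GL_2 is the unit group of `F[g]`. -/
noncomputable def centralizerEquiv (g : GL (Fin 2) F) (hg : ¬ IsScalar g.1) :
    {ab : F × F // ab.1 ^ 2 + ab.1 * ab.2 * g.1.trace + ab.2 ^ 2 * g.1.det ≠ 0} ≃
      Subgroup.centralizer ({g} : Set (GL (Fin 2) F)) :=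
  Equiv.ofBijective
    (fun ab => ⟨GeneralLinearGroup.mkOfDetNeZero (ab.1.1 • 1 + ab.1.2 • g.1)
      (by rw [det_lin]; exact ab.2),
      Subgroup.mem_centralizer_singleton_iff.2 (Units.ext (commute_lin g.1 _ _).symm)⟩)
    ⟨fun a b h => by
      have := congrArg (fun x : Subgroup.centralizer ({g} : Set (GL (Fin 2) F)) => (x.1.1)) h
      obtain ⟨h1, h2⟩ := lin_injective hg this
      exact Subtype.ext (Prod.ext h1 h2),
    fun x => by
      have hx : g.1 * x.1.1 = x.1.1 * g.1 := by
        have := Subgroup.mem_centralizer_singleton_iff.1 x.2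
        rw [← Units.val_mul, ← Units.val_mul, this]
      obtain ⟨a, b, hab⟩ := commute_eq hg hx
      refine ⟨⟨(a, b), ?_⟩, Subtype.ext (Units.ext hab.symm)⟩
      rw [← det_lin g.1 a b, ← hab]
      exact x.1.det_ne_zero⟩

/-! ### SL_2 -/

theorem isConj_sl_iff (g h : SpecialLinearGroup (Fin 2) F) (hg : ¬ IsScalar g.1) :
    IsConj g h ↔ g.1.trace = h.1.trace ∧
      ∃ v w, form g.1 v ≠ 0 ∧ form h.1 w = form g.1 v := by
  constructor
  · rw [isConj_iff]
    rintro ⟨x, rfl⟩
    have e : x.1 * g.1 = (x * g * x⁻¹ : SpecialLinearGroup (Fin 2) F).1 * x.1 :=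
      (congrArg Subtype.val (inv_mul_cancel_right (x * g) x)).symm
    refine ⟨?_, ?_⟩
    · have h1 : (x * g * x⁻¹ : SpecialLinearGroup (Fin 2) F).1.trace = g.1.trace := by
        show ((x * g).1 * (x⁻¹).1).trace = _
        rw [Matrix.trace_mul_comm]
        exact congrArg Matrix.trace (congrArg Subtype.val (inv_mul_cancel_left x g))
      exact h1.symm
    · obtain ⟨v, hv⟩ := exists_form_ne_zero hg
      refine ⟨v, x.1 *ᵥ v, hv, ?_⟩
      rw [form_conj e v, x.det_coe, one_mul]
  · rintro ⟨ht, v, w, hv, hw⟩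
    obtain ⟨X, hX, hXd⟩ := similar (w := w) hv ht (by rw [g.det_coe, h.det_coe])
    rw [hw, div_self hv] at hXd
    let x : SpecialLinearGroup (Fin 2) F := ⟨X, hXd⟩
    have e : x * g = h * x := Subtype.ext hX
    exact isConj_iff.2 ⟨x, by rw [e, mul_inv_cancel_right]⟩

theorem isConj_sl_scalar (g h : SpecialLinearGroup (Fin 2) F) (hg : IsScalar g.1) :
    IsConj g h ↔ g = h := by
  refine ⟨fun hc => ?_, fun e => e ▸ IsConj.refl _⟩
  obtain ⟨x, hx⟩ := isConj_iff.1 hc
  have hcomm : x * g = g * x := by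
    apply Subtype.ext
    show x.1 * g.1 = g.1 * x.1
    rw [isScalar_iff.1 hg, mul_smul_comm, smul_mul_assoc, mul_one, one_mul]
  rw [← hx, hcomm, mul_inv_cancel_right]

theorem card_carrier_mul {G : Type*} [Group G] [Finite G] (g : G) :
    Nat.card (ConjClasses.mk g).carrier * Nat.card (Subgroup.centralizer ({g} : Set G)) =
      Nat.card G := by
  classical
  have := Fintype.ofFinite G
  rw [Subgroup.nat_card_centralizer_nat_card_stabilizer]
  have h := MulAction.card_orbit_mul_card_stabilizer_eq_card_group (ConjAct G) g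
  have hG : Nat.card (ConjAct G) = Nat.card G := Nat.card_congr ConjAct.ofConjAct.toEquiv
  rw [← ConjAct.orbit_eq_carrier_conjClasses, ← hG]
  simpa only [Nat.card_eq_fintype_card] using h

theorem card_sl_two [Finite F] :
    Nat.card (SpecialLinearGroup (Fin 2) F) = Nat.card F * ((Nat.card F) ^ 2 - 1) := by
  have h := ClassicalSL.card_sl_mul (ι := Fin 2) (F := F)
  rw [ClassicalGL2.card_gl2] at h
  have h1 : 1 < Nat.card F := Finite.one_lt_card
  refine Nat.eq_of_mul_eq_mul_left (show 0 < Nat.card F - 1 by omega) (h.trans ?_)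
  rw [show Nat.card F ^ 2 - 1 = (Nat.card F + 1) * (Nat.card F - 1) by
    simpa using Nat.sq_sub_sq (Nat.card F) 1]
  ring

end Cfsg.Agent.TwoByTwo
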