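/-
Class numbers, centraliser orders and unipotent elements of GL_2; counting matrices by first column.
-/
import Cfsg.Agent.Lib.Classical.TwoByTwo
import Mathlib.FieldTheory.Finite.Basic
import Mathlib.LinearAlgebra.Matrix.CharP

set_option autoImplicit false

namespace Cfsg.Agent.GL2Count

open Matrix TwoByTwo

variable {F : Type*} [Field F]

theorem trace_det_of_pow_char (p : ℕ) [Fact p.Prime] [CharP F p]
    {M : Matrix (Fin 2) (Fin 2) F} (h : M ^ p = 1) (hne : M ≠ 1) :
    M.trace = 2 ∧ M.det = 1 ∧ ¬ IsScalar M := by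
  have hp := (Fact.out : p.Prime)
  have frob : ∀ {a : F}, a ^ p = 1 → a = 1 := fun {a} ha =>
    frobenius_inj F p (by simp [frobenius_def, ha])
  have hd : M.det = 1 := frob (by rw [← det_pow, h, det_one])
  have h0 : (M - 1) ^ p = 0 := by
    rw [sub_pow_char_of_commute p (Commute.one_right _), h, one_pow, sub_self]
  have hdet : (M - 1).det = 0 := by
    have := congrArg Matrix.det h0
    rw [det_pow, det_zero] at this
    exact (pow_eq_zero_iff hp.ne_zero).1 this
  refine ⟨?_, hd, ?_⟩
  · rw [det_fin_two] at hd hdet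
    simp at hdet
    rw [trace_fin_two]
    linear_combination -hdet + hd
  · intro hs
    rw [isScalar_iff] at hs
    apply hne
    rw [hs] at h ⊢
    rw [smul_pow, one_pow] at h
    have := congrFun (congrFun h 0) 0
    simp at this
    rw [frob this, one_smul]

theorem upper_pow_char (p : ℕ) [Fact p.Prime] [CharP F p] (b : F) :
    (!![1, b; 0, 1] : Matrix (Fin 2) (Fin 2) F) ^ p = 1 := by
  have h : ((!![1, b; 0, 1] : Matrix (Fin 2) (Fin 2) F) - 1) ^ 2 = 0 := by
    ext i j; fin_cases i <;> fin_cases j <;> simp [pow_two, Matrix.mul_apply, Fin.sum_univ_two]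
  have h2 := pow_eq_zero_of_le (Fact.out : p.Prime).two_le h
  rwa [sub_pow_char_of_commute p (Commute.one_right _), one_pow, sub_eq_zero] at h2

theorem card_conjClasses_gl [Fintype F] :
    Nat.card (ConjClasses (GL (Fin 2) F)) = Fintype.card F ^ 2 - 1 := by
  classical
  let f : GL (Fin 2) F → Fˣ ⊕ (F × Fˣ) := fun g =>
    if h : IsScalar g.1 then
      Sum.inl (Units.mk0 (g.1 0 0) fun e => g.det_ne_zero (by simp [det_fin_two, e, h.1]))
    else Sum.inr (g.1.trace, GeneralLinearGroup.det g)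
  have hsurj : Function.Surjective f := by
    rintro (a | ⟨t, d⟩)
    · refine ⟨GeneralLinearGroup.mkOfDetNeZero ((a : F) • 1) (by simp), ?_⟩
      have hs : IsScalar (GeneralLinearGroup.mkOfDetNeZero ((a : F) • (1 : Matrix (Fin 2) (Fin 2) F))
        (by simp)).1 := isScalar_smul_one (a : F)
      simp only [f]
      rw [dif_pos hs]
      refine congrArg Sum.inl (Units.ext ?_)
      simp [GeneralLinearGroup.mkOfDetNeZero]
    · refine ⟨GeneralLinearGroup.mkOfDetNeZero (comp t d) (by rw [det_comp]; exact d.ne_zero), ?_⟩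
      have hs : ¬ IsScalar (GeneralLinearGroup.mkOfDetNeZero (comp t (d : F))
        (by rw [det_comp]; exact d.ne_zero)).1 := by
        simp [GeneralLinearGroup.mkOfDetNeZero, IsScalar, TwoByTwo.comp]
      simp only [f]
      rw [dif_neg hs]
      refine congrArg Sum.inr (Prod.ext ?_ (Units.ext ?_))
      · exact trace_comp t _
      · exact det_comp t _
  rw [card_conjClasses_of_invariant f hsurj ?_, Nat.card_eq_fintype_card, Fintype.card_sum,
    Fintype.card_prod, Fintype.card_units]
  · rw [pow_two]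
    have h1 : 1 < Fintype.card F := Fintype.one_lt_card
    obtain ⟨k, hk⟩ : ∃ k, Fintype.card F = k + 2 := ⟨_, (Nat.sub_add_cancel h1).symm⟩
    rw [hk]
    simp only [show k + 2 - 1 = k + 1 from rfl]
    have : (k + 2) * (k + 2) = (k + 1) + (k + 2) * (k + 1) + 1 := by ring
    omega
  · intro a b
    rw [isConj_gl_iff]
    by_cases ha : IsScalar a.1 <;> by_cases hb : IsScalar b.1
    · simp only [f, dif_pos ha, dif_pos hb]
      constructor
      · intro h
        have hab : IsConj a b := (isConj_gl_iff a b).2 h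
        obtain ⟨x, hx⟩ := isConj_iff.1 hab
        have hcomm : x * a = a * x := by
          apply Units.ext
          rw [Units.val_mul, Units.val_mul, isScalar_iff.1 ha, mul_smul_comm, smul_mul_assoc,
            mul_one, one_mul]
        rw [hcomm, mul_inv_cancel_right] at hx
        subst hx
        rfl
      · intro h
        have h00 : a.1 0 0 = b.1 0 0 := congrArg Units.val (Sum.inl.inj h)
        have : a.1 = b.1 := by rw [isScalar_iff.1 ha, isScalar_iff.1 hb, h00]
        simp [this]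
    · simp [f, ha, hb]
    · simp [f, ha, hb]
    · simp only [f, dif_neg ha, dif_neg hb, Sum.inr.injEq, Prod.ext_iff, Units.ext_iff, ha, hb,
        iff_self, and_true]
      rfl

theorem card_centralizer_diag [Fintype F] (g : GL (Fin 2) F) (h01 : g.1 0 1 = 0)
    (h10 : g.1 1 0 = 0) (hne : g.1 0 0 ≠ g.1 1 1) :
    Nat.card (Subgroup.centralizer ({g} : Set (GL (Fin 2) F))) = (Fintype.card F - 1) ^ 2 := by
  classical
  set s := g.1 0 0 with hs
  set d := g.1 1 1 with hd
  have hns : ¬ IsScalar g.1 := fun h => hne h.2.2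
  have htr : g.1.trace = s + d := trace_fin_two _
  have hdet : g.1.det = s * d := by simp [det_fin_two, h01, h10, hs, hd]
  have hfac : ∀ a b : F, a ^ 2 + a * b * g.1.trace + b ^ 2 * g.1.det = (a + b * s) * (a + b * d) :=
    fun a b => by rw [htr, hdet]; ring
  rw [← Nat.card_congr (centralizerEquiv g hns), pow_two, ← Fintype.card_units,
    ← Fintype.card_prod, ← Nat.card_eq_fintype_card]
  have hsd : s - d ≠ 0 := sub_ne_zero.2 hne
  refine Nat.card_congr
    { toFun := fun ab => (Units.mk0 (ab.1.1 + ab.1.2 * s) ?_, Units.mk0 (ab.1.1 + ab.1.2 * d) ?_)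
      invFun := fun u => ⟨((s * (u.2 : F) - d * u.1) / (s - d), ((u.1 : F) - u.2) / (s - d)), ?_⟩
      left_inv := fun ab => ?_
      right_inv := fun u => ?_ }
  · intro e; exact ab.2 (by rw [hfac, e, zero_mul])
  · intro e; exact ab.2 (by rw [hfac, e, mul_zero])
  · rw [hfac]
    refine mul_ne_zero ?_ ?_
    · rw [show (s * (u.2 : F) - d * u.1) / (s - d) + ((u.1 : F) - u.2) / (s - d) * s = u.1 by
        field_simp; ring]
      exact u.1.ne_zero
    · rw [show (s * (u.2 : F) - d * u.1) / (s - d) + ((u.1 : F) - u.2) / (s - d) * d = u.2 by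
        field_simp; ring]
      exact u.2.ne_zero
  · refine Subtype.ext (Prod.ext ?_ ?_) <;> simp <;> field_simp <;> ring
  · refine Prod.ext (Units.ext ?_) (Units.ext ?_) <;> simp <;> field_simp <;> ring

theorem card_centralizer_irred [Fintype F] (g : GL (Fin 2) F)
    (h : ∀ (c : F) (v : Fin 2 → F), v ≠ 0 → g.1 *ᵥ v ≠ c • v) :
    Nat.card (Subgroup.centralizer ({g} : Set (GL (Fin 2) F))) = Fintype.card F ^ 2 - 1 := by
  classical
  have hns : ¬ IsScalar g.1 := by
    intro hs
    refine h (g.1 0 0) ![1, 0] (fun e => by simpa using congrFun e 0) ?_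
    conv_lhs => rw [isScalar_iff.1 hs]
    rw [smul_mulVec, one_mulVec]
  have key : ∀ ab : F × F, ab.1 ^ 2 + ab.1 * ab.2 * g.1.trace + ab.2 ^ 2 * g.1.det ≠ 0 ↔ ab ≠ 0 := by
    rintro ⟨a, b⟩
    refine ⟨fun h' e => h' (by simp [Prod.mk_eq_zero.1 e]), fun hab e => ?_⟩
    rw [← det_lin, ← exists_mulVec_eq_zero_iff] at e
    obtain ⟨v, hv, hv0⟩ := e
    rw [add_mulVec, smul_mulVec, one_mulVec, smul_mulVec] at hv0
    by_cases hb : b = 0
    · rw [hb, zero_smul, add_zero] at hv0
      rcases smul_eq_zero.1 hv0 with ha | ha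
      · exact hab (Prod.ext ha hb)
      · exact hv ha
    · refine h (-(a / b)) v hv ?_
      have := congrArg (fun w => b⁻¹ • w) hv0
      simp only [smul_add, smul_smul, inv_mul_cancel₀ hb, one_smul, smul_zero] at this
      rw [neg_smul, eq_neg_iff_add_eq_zero, div_eq_inv_mul, add_comm]
      exact this
  rw [← Nat.card_congr (centralizerEquiv g hns), Nat.card_congr (Equiv.subtypeEquivRight key),
    Nat.card_eq_fintype_card, Fintype.card_subtype_compl, Fintype.card_subtype_eq,
    Fintype.card_prod, pow_two]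

/-- Non-zero vectors are first columns: a complementary column with determinant one. -/
theorem exists_second (v : Fin 2 → F) (hv : v ≠ 0) :
    ∃ w : Fin 2 → F, v 0 * w 1 - w 0 * v 1 = 1 := by
  by_cases h0 : v 0 = 0
  · have h1 : v 1 ≠ 0 := fun h1 => hv (funext fun i => by fin_cases i <;> assumption)
    exact ⟨![-(v 1)⁻¹, 0], by simp [h1]⟩
  · exact ⟨![0, (v 0)⁻¹], by simp [h0]⟩

/-- The first column of a matrix. -/
def col₀ (M : Matrix (Fin 2) (Fin 2) F) : Fin 2 → F := fun i => M i 0

theorem col₀_ne_zero {M : Matrix (Fin 2) (Fin 2) F} (h : M.det ≠ 0) : col₀ M ≠ 0 := fun e => h (by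
  have h0 := congrFun e 0
  have h1 := congrFun e 1
  simp [col₀] at h0 h1
  simp [det_fin_two, h0, h1])

theorem card_gl_col₀ [Fintype F] (v : Fin 2 → F) (hv : v ≠ 0) :
    Nat.card {x : GL (Fin 2) F // col₀ x.1 = v} = Fintype.card F * (Fintype.card F - 1) := by
  classical
  obtain ⟨w, hw⟩ := exists_second v hv
  rw [← Fintype.card_units, ← Fintype.card_prod, ← Nat.card_eq_fintype_card]
  refine (Nat.card_congr (Equiv.ofBijective (fun st : F × Fˣ =>
    (⟨GeneralLinearGroup.mkOfDetNeZero !![v 0, st.1 * v 0 + st.2 * w 0; v 1, st.1 * v 1 + st.2 * w 1]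
      (by
        have : (!![v 0, st.1 * v 0 + st.2 * w 0; v 1, st.1 * v 1 + st.2 * w 1] :
            Matrix (Fin 2) (Fin 2) F).det = st.2 := by
          rw [det_fin_two_of]; linear_combination (st.2 : F) * hw
        rw [this]; exact st.2.ne_zero),
      funext fun i => by fin_cases i <;> simp [col₀, GeneralLinearGroup.mkOfDetNeZero]⟩ :
      {x : GL (Fin 2) F // col₀ x.1 = v})) ⟨?_, ?_⟩)).symm
  · rintro ⟨s, t⟩ ⟨s', t'⟩ h
    have h0 := congrArg (fun x : {x : GL (Fin 2) F // col₀ x.1 = v} => x.1.1 0 1) h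
    have h1 := congrArg (fun x : {x : GL (Fin 2) F // col₀ x.1 = v} => x.1.1 1 1) h
    simp [GeneralLinearGroup.mkOfDetNeZero] at h0 h1
    refine Prod.ext (?_ : s = s') (Units.ext (?_ : (t : F) = t'))
    · linear_combination (w 1) * h0 - (w 0) * h1 + (s' - s) * hw
    · linear_combination (v 0) * h1 - (v 1) * h0 + ((t' : F) - t) * hw
  · rintro ⟨x, hx⟩
    have e0 : x.1 0 0 = v 0 := congrFun hx 0
    have e1 : x.1 1 0 = v 1 := congrFun hx 1
    have ht : v 0 * x.1 1 1 - x.1 0 1 * v 1 ≠ 0 := by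
      have := x.det_ne_zero
      rwa [det_fin_two, e0, e1] at this
    refine ⟨(x.1 0 1 * w 1 - w 0 * x.1 1 1, Units.mk0 _ ht), Subtype.ext (Units.ext ?_)⟩
    ext i j
    fin_cases i <;> fin_cases j <;> simp [GeneralLinearGroup.mkOfDetNeZero, e0, e1]
    · linear_combination (x.1 0 1) * hw
    · linear_combination (x.1 1 1) * hw

theorem conj_mem_upper_iff {M x : Matrix (Fin 2) (Fin 2) F} (hx : x.det ≠ 0) (c : F) :
    ((x⁻¹ * M * x) 1 0 = 0 ∧ (x⁻¹ * M * x) 0 0 = c) ↔ M *ᵥ col₀ x = c • col₀ x := by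
  have hu : IsUnit x.det := isUnit_iff_ne_zero.2 hx
  have hcol : ∀ T : Matrix (Fin 2) (Fin 2) F, T *ᵥ col₀ x = col₀ (T * x) := fun T => by
    funext i; simp [col₀, mulVec, dotProduct, Matrix.mul_apply]
  constructor
  · rintro ⟨h1, h2⟩
    have : M *ᵥ col₀ x = x *ᵥ col₀ (x⁻¹ * M * x) := by
      rw [hcol]
      conv_lhs => rw [show M * x = x * (x⁻¹ * M * x) by
        rw [Matrix.mul_assoc, Matrix.mul_nonsing_inv_cancel_left _ _ hu]]
      funext i; simp [col₀, mulVec, dotProduct, Matrix.mul_apply]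
    rw [this]
    funext i
    simp only [col₀, mulVec, dotProduct, Fin.sum_univ_two, h1, h2, Pi.smul_apply, smul_eq_mul]
    ring
  · intro h
    have key : col₀ (x⁻¹ * M * x) = x⁻¹ *ᵥ (M *ᵥ col₀ x) := by
      funext i; simp [col₀, mulVec, dotProduct, Matrix.mul_apply, Fin.sum_univ_two]; ring
    have h1 : x⁻¹ *ᵥ col₀ x = ![1, 0] := by
      rw [hcol, Matrix.nonsing_inv_mul _ hu]
      funext i; fin_cases i <;> simp [col₀, Matrix.one_apply]
    rw [h, mulVec_smul, h1] at key
    have k0 := congrFun key 0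
    have k1 := congrFun key 1
    simp [col₀] at k0 k1
    exact ⟨k1, k0⟩

end Cfsg.Agent.GL2Count
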