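/-
Unipotent classes of SL_2, centralisers, class number in characteristic two.
-/
import Cfsg.Agent.Lib.Classical.GL2Count

set_option autoImplicit false

namespace Cfsg.Agent.SL2Classes

open Matrix TwoByTwo

variable {F : Type*} [Field F]

/-- `[[1,b],[0,1]]` in SL_2. -/
def upper (b : F) : Matrix.SpecialLinearGroup (Fin 2) F := ⟨!![1, b; 0, 1], by simp [det_fin_two_of]⟩

@[simp] theorem upper_val (b : F) : (upper b).1 = !![1, b; 0, 1] := rfl

theorem form_upper (b : F) (v : Fin 2 → F) : form (upper b).1 v = -(b * v 1 ^ 2) := by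
  simp [form_eq]

theorem not_isScalar_upper {b : F} (hb : b ≠ 0) : ¬ IsScalar (upper b).1 := fun h => hb (by simpa using h.1)

theorem trace_upper (b : F) : (upper b).1.trace = 2 := by simp [trace_fin_two]; norm_num

theorem eq_upper (g : Matrix.SpecialLinearGroup (Fin 2) F) (h00 : g.1 0 0 = 1) (h11 : g.1 1 1 = 1)
    (h10 : g.1 1 0 = 0) : g = upper (g.1 0 1) := by
  apply Subtype.ext
  ext i j; fin_cases i <;> fin_cases j <;> simp [h00, h11, h10]

theorem isConj_upper_iff {b b' : F} (hb : b ≠ 0) (hb' : b' ≠ 0) :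
    IsConj (upper b) (upper b') ↔ IsSquare (b * b') := by
  rw [isConj_sl_iff _ _ (not_isScalar_upper hb)]
  simp only [form_upper, trace_upper, true_and, neg_inj, neg_ne_zero]
  constructor
  · rintro ⟨v, w, hv, hw⟩
    have hw1 : w 1 ≠ 0 := fun e => hv (by rw [← hw, e]; ring)
    refine ⟨b * v 1 / w 1, ?_⟩
    field_simp
    linear_combination hw
  · rintro ⟨r, hr⟩
    refine ⟨![0, b'], ![0, r], by simp [hb, hb'], ?_⟩
    simp only [Matrix.cons_val_one, Matrix.cons_val_zero]
    linear_combination -b' * hr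

theorem orderOf_upper (p : ℕ) [Fact p.Prime] [CharP F p] {b : F} (hb : b ≠ 0) :
    orderOf (upper b) = p := by
  refine orderOf_eq_prime (Subtype.ext ?_) fun h => hb ?_
  · exact (Matrix.SpecialLinearGroup.coe_pow (upper b) p).trans
      ((GL2Count.upper_pow_char p b).trans Matrix.SpecialLinearGroup.coe_one.symm)
  · have := congrArg (fun x : Matrix.SpecialLinearGroup (Fin 2) F => x.1 0 1) h
    simpa using this

theorem trace_of_order (p : ℕ) [Fact p.Prime] [CharP F p] (g : Matrix.SpecialLinearGroup (Fin 2) F)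
    (hg : orderOf g = p) : g.1.trace = 2 ∧ ¬ IsScalar g.1 := by
  have h : g.1 ^ p = 1 := by
    rw [← hg]
    exact (Matrix.SpecialLinearGroup.coe_pow g _).symm.trans
      ((congrArg Subtype.val (pow_orderOf_eq_one g)).trans Matrix.SpecialLinearGroup.coe_one)
  have hne : g.1 ≠ 1 := fun e => by
    have : g = 1 := Subtype.ext e
    rw [this, orderOf_one] at hg
    exact (Fact.out : p.Prime).one_lt.ne hg
  obtain ⟨h1, -, h3⟩ := GL2Count.trace_det_of_pow_char p h hne
  exact ⟨h1, h3⟩

theorem exists_conj_upper (p : ℕ) [Fact p.Prime] [CharP F p] (g : Matrix.SpecialLinearGroup (Fin 2) F)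
    (hg : orderOf g = p) : ∃ b : F, b ≠ 0 ∧ IsConj g (upper b) := by
  obtain ⟨ht, hns⟩ := trace_of_order p g hg
  obtain ⟨v, hv⟩ := exists_form_ne_zero hns
  refine ⟨-form g.1 v, neg_ne_zero.2 hv, (isConj_sl_iff _ _ hns).2 ⟨?_, v, ![0, 1], hv, ?_⟩⟩
  · rw [trace_upper, ht]
  · rw [form_upper]; simp

/-- The element `a + b g` of SL_2. -/
def lin (g : Matrix.SpecialLinearGroup (Fin 2) F)
    (ab : {ab : F × F // ab.1 ^ 2 + ab.1 * ab.2 * g.1.trace + ab.2 ^ 2 = 1}) :
    Matrix.SpecialLinearGroup (Fin 2) F :=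
  ⟨ab.1.1 • 1 + ab.1.2 • g.1, by rw [det_lin, g.det_coe, mul_one]; exact ab.2⟩

/-- The centraliser in SL_2 of a non-scalar element. -/
noncomputable def centralizerEquiv (g : Matrix.SpecialLinearGroup (Fin 2) F) (hg : ¬ IsScalar g.1) :
    {ab : F × F // ab.1 ^ 2 + ab.1 * ab.2 * g.1.trace + ab.2 ^ 2 = 1} ≃
      Subgroup.centralizer ({g} : Set (Matrix.SpecialLinearGroup (Fin 2) F)) :=
  Equiv.ofBijective
    (fun ab => ⟨lin g ab,
      Subgroup.mem_centralizer_singleton_iff.2 (Subtype.ext (commute_lin g.1 _ _).symm)⟩)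
    ⟨fun a b h => by
      have := congrArg
        (fun x : Subgroup.centralizer ({g} : Set (Matrix.SpecialLinearGroup (Fin 2) F)) => x.1.1) h
      obtain ⟨h1, h2⟩ := lin_injective hg this
      exact Subtype.ext (Prod.ext h1 h2),
    fun x => by
      have h1 : x.1 * g = g * x.1 := Subgroup.mem_centralizer_singleton_iff.1 x.2
      have hx : g.1 * x.1.1 = x.1.1 * g.1 := (congrArg Subtype.val h1).symm
      obtain ⟨a, b, hab⟩ := commute_eq hg hx
      refine ⟨⟨(a, b), ?_⟩, Subtype.ext ?_⟩
      swap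
      · exact Subtype.ext hab.symm
      have := det_lin g.1 a b
      rw [← hab, x.1.det_coe, g.det_coe, mul_one] at this
      exact this.symm⟩

theorem card_centralizer_upper {b : F} (hb : b ≠ 0) :
    Nat.card (Subgroup.centralizer ({upper b} : Set (Matrix.SpecialLinearGroup (Fin 2) F))) =
      Nat.card {e : F // e * e = 1} * Nat.card F := by
  rw [← Nat.card_congr (centralizerEquiv _ (not_isScalar_upper hb)), ← Nat.card_prod]
  refine Nat.card_congr
    { toFun := fun ab => (⟨ab.1.1 + ab.1.2, ?_⟩, ab.1.2)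
      invFun := fun x => ⟨(x.1.1 - x.2, x.2), ?_⟩
      left_inv := fun ab => ?_
      right_inv := fun x => ?_ }
  · have := ab.2
    simp only [trace_upper] at this
    linear_combination this
  · simp only [trace_upper]
    linear_combination x.1.2
  · exact Subtype.ext (Prod.ext (add_sub_cancel_right _ _) rfl)
  · exact Prod.ext (Subtype.ext (sub_add_cancel _ _)) rfl

theorem card_sq_one_odd (h2 : (2 : F) ≠ 0) : Nat.card {e : F // e * e = 1} = 2 := by
  have hne : (1 : F) ≠ -1 := fun h => h2 (by linear_combination h)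
  refine Nat.card_eq_two_iff.2 ⟨⟨1, one_mul 1⟩, ⟨-1, by ring⟩, fun h => hne (congrArg Subtype.val h), ?_⟩
  refine Set.eq_univ_of_forall fun x => ?_
  rcases mul_self_eq_one_iff.1 x.2 with h | h
  · exact Or.inl (Subtype.ext h)
  · exact Or.inr (Subtype.ext h)

theorem card_sq_one_two (h2 : (2 : F) = 0) : Nat.card {e : F // e * e = 1} = 1 := by
  refine Nat.card_eq_one_iff_unique.2 ⟨⟨fun x y => ?_⟩, ⟨⟨1, one_mul 1⟩⟩⟩
  have hn : (-1 : F) = 1 := by linear_combination -h2
  have key : ∀ z : {e : F // e * e = 1}, z.1 = 1 := fun z => by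
    rcases mul_self_eq_one_iff.1 z.2 with h | h
    · exact h
    · exact h.trans hn
  exact Subtype.ext ((key x).trans (key y).symm)

theorem centralizer_conj_card {G : Type*} [Group G] [Finite G] {g h : G} (hc : IsConj g h) :
    Nat.card (Subgroup.centralizer ({g} : Set G)) = Nat.card (Subgroup.centralizer ({h} : Set G)) := by
  have e := ConjClasses.mk_eq_mk_iff_isConj.2 hc
  have h1 := card_carrier_mul g
  have h2 := card_carrier_mul h
  rw [← e] at h2
  have hpos : 0 < Nat.card (ConjClasses.mk g).carrier := by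
    rcases Nat.eq_zero_or_pos (Nat.card (ConjClasses.mk g).carrier) with h0 | h0
    · rw [h0, zero_mul] at h1
      exact absurd h1.symm Nat.card_pos.ne'
    · exact h0
  exact Nat.eq_of_mul_eq_mul_left hpos (h1.trans h2.symm)

/-- Size of the class of an element of order `p`. -/
theorem card_carrier_order_p [Finite F] (p : ℕ) [Fact p.Prime] [CharP F p]
    (g : Matrix.SpecialLinearGroup (Fin 2) F) (hg : orderOf g = p) :
    Nat.card (ConjClasses.mk g).carrier * Nat.card {e : F // e * e = 1} = Nat.card F ^ 2 - 1 := by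
  obtain ⟨b, hb, hc⟩ := exists_conj_upper p g hg
  have h := card_carrier_mul g
  rw [centralizer_conj_card hc, card_centralizer_upper hb, card_sl_two, ← mul_assoc,
    mul_comm (Nat.card F) (Nat.card F ^ 2 - 1)] at h
  exact Nat.eq_of_mul_eq_mul_right Nat.card_pos h

theorem exists_sqrt_two [Fintype F] [CharP F 2] (x : F) : ∃ r : F, r ^ 2 = x := by
  obtain ⟨r, hr⟩ := FiniteField.isSquare_of_char_two (ringChar.eq F 2) x
  exact ⟨r, by rw [hr, pow_two]⟩

theorem isConj_two [Fintype F] [CharP F 2] {g h : Matrix.SpecialLinearGroup (Fin 2) F}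
    (hg : ¬ IsScalar g.1) (hh : ¬ IsScalar h.1) (ht : g.1.trace = h.1.trace) : IsConj g h := by
  obtain ⟨v, hv⟩ := exists_form_ne_zero hg
  obtain ⟨w, hw⟩ := exists_form_ne_zero hh
  obtain ⟨r, hr⟩ := exists_sqrt_two (form g.1 v / form h.1 w)
  exact (isConj_sl_iff _ _ hg).2 ⟨ht, v, r • w, hv, by rw [form_smul, hr, div_mul_cancel₀ _ hw]⟩

theorem card_conjClasses_two [Fintype F] [CharP F 2] :
    Nat.card (ConjClasses (Matrix.SpecialLinearGroup (Fin 2) F)) = Fintype.card F + 1 := by
  classical
  let f : Matrix.SpecialLinearGroup (Fin 2) F → Option F := fun g =>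
    if IsScalar g.1 then none else some g.1.trace
  have hsurj : Function.Surjective f := by
    rintro (_ | t)
    · exact ⟨1, if_pos (by simp [IsScalar])⟩
    · refine ⟨⟨TwoByTwo.comp t 1, det_comp t 1⟩, ?_⟩
      show (if IsScalar (TwoByTwo.comp t (1 : F)) then none else some _) = some t
      rw [if_neg (by simp [IsScalar, TwoByTwo.comp]), trace_comp]
  rw [card_conjClasses_of_invariant f hsurj ?_, Nat.card_eq_fintype_card, Fintype.card_option]
  intro a b
  by_cases ha : IsScalar a.1 <;> by_cases hb : IsScalar b.1 <;> simp only [f, ha, hb, if_true, if_false]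
  · have key : ∀ c : Matrix.SpecialLinearGroup (Fin 2) F, IsScalar c.1 → c = 1 := by
      intro c hc
      have hd := c.det_coe
      rw [det_fin_two, hc.1, hc.2.1, ← hc.2.2] at hd
      simp at hd
      have hc1 : c.1 0 0 = 1 := by
        rcases mul_self_eq_one_iff.1 hd with h | h
        · exact h
        · rw [h, CharTwo.neg_eq]
      apply Subtype.ext
      rw [Matrix.SpecialLinearGroup.coe_one, isScalar_iff.1 hc, hc1, one_smul]
    simp [key a ha, key b hb]
  · simp only [reduceCtorEq, iff_false]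
    intro h
    exact hb ((isConj_sl_scalar a b ha).1 h ▸ ha)
  · simp only [reduceCtorEq, iff_false]
    intro h
    exact ha ((isConj_sl_scalar b a hb).1 h.symm ▸ hb)
  · simp only [Option.some.injEq]
    exact ⟨fun h => ((isConj_sl_iff a b ha).1 h).1, isConj_two ha hb⟩

end Cfsg.Agent.SL2Classes
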