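/-
Non-split tori of SL_2 over a finite field, in every characteristic.
-/
import Cfsg.Agent.Lib.Classical.SL2Classes
import Cfsg.Agent.Lib.Classical.InvertedTorus
import Mathlib.FieldTheory.IsAlgClosed.AlgebraicClosure
import Mathlib.RingTheory.IntegralDomain

set_option autoImplicit false

namespace Cfsg.Agent.SL2Tori

open Matrix TwoByTwo

variable {F : Type*} [Field F]

local notation "SL2" => Matrix.SpecialLinearGroup (Fin 2) F

/-- No eigenvector in `F²`. -/
def NoEigen (M : Matrix (Fin 2) (Fin 2) F) : Prop :=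
  ∀ (c : F) (v : Fin 2 → F), v ≠ 0 → M *ᵥ v ≠ c • v

theorem noEigen_iff {M : Matrix (Fin 2) (Fin 2) F} :
    NoEigen M ↔ ∀ a : F, a ^ 2 - a * M.trace + M.det ≠ 0 := by
  constructor
  · intro h a ha
    have hd : ((-a) • (1 : Matrix (Fin 2) (Fin 2) F) + (1 : F) • M).det = 0 := by
      rw [det_lin]; linear_combination ha
    obtain ⟨v, hv, hv0⟩ := exists_mulVec_eq_zero_iff.2 hd
    rw [add_mulVec, smul_mulVec, one_mulVec, one_smul, neg_smul, neg_add_eq_zero] at hv0
    exact h a v hv hv0.symm
  · intro h a v hv he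
    refine h a ?_
    have hd : ((-a) • (1 : Matrix (Fin 2) (Fin 2) F) + (1 : F) • M).det = 0 := by
      refine exists_mulVec_eq_zero_iff.1 ⟨v, hv, ?_⟩
      rw [add_mulVec, smul_mulVec, one_mulVec, one_smul, he, neg_smul, neg_add_cancel]
    rw [det_lin] at hd
    linear_combination hd

theorem not_scalar {M : Matrix (Fin 2) (Fin 2) F} (h : NoEigen M) : ¬ IsScalar M := fun hs =>
  h (M 0 0) ![1, 0] (fun e => by simpa using congrFun e 0) (by
    conv_lhs => rw [isScalar_iff.1 hs]
    rw [smul_mulVec, one_mulVec])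

theorem det_lin_ne_zero {M : Matrix (Fin 2) (Fin 2) F} (h : NoEigen M) {a b : F}
    (hab : ¬(a = 0 ∧ b = 0)) : a ^ 2 + a * b * M.trace + b ^ 2 * M.det ≠ 0 := by
  intro e
  by_cases hb : b = 0
  · simp [hb] at e
    exact hab ⟨e, hb⟩
  · refine noEigen_iff.1 h (-a / b) ?_
    field_simp
    linear_combination e

/-- The binary form of an irreducible quadratic takes every value. -/
theorem exists_repr [Finite F] {M : Matrix (Fin 2) (Fin 2) F} (h : NoEigen M) (c : F) :
    ∃ a b : F, a ^ 2 + a * b * M.trace + b ^ 2 * M.det = c := by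
  classical
  have := Fintype.ofFinite F
  by_cases h2 : ringChar F = 2
  · obtain ⟨r, hr⟩ := FiniteField.isSquare_of_char_two h2 c
    exact ⟨r, 0, by rw [hr]; ring⟩
  · have hodd := FiniteField.odd_card_of_char_ne_two h2
    have t2 : (2 : F) ≠ 0 := Ring.two_ne_zero h2
    have hD : M.det - M.trace ^ 2 / 4 ≠ 0 := by
      intro e
      refine noEigen_iff.1 h (M.trace / 2) ?_
      rw [show (4 : F) = 2 * 2 by norm_num] at e
      field_simp at e ⊢
      linear_combination e
    have hC : (Polynomial.C (M.det - M.trace ^ 2 / 4) * Polynomial.X ^ 2 +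
        Polynomial.C (-c)).degree = 2 := by
      rw [Polynomial.degree_add_C (by rw [Polynomial.degree_C_mul_X_pow 2 hD]; decide),
        Polynomial.degree_C_mul_X_pow 2 hD]
      rfl
    obtain ⟨x, y, hxy⟩ := FiniteField.exists_root_sum_quadratic (Polynomial.degree_X_pow 2) hC hodd
    simp at hxy
    refine ⟨x - y * M.trace / 2, y, ?_⟩
    rw [show (4 : F) = 2 * 2 by norm_num] at hxy
    field_simp at hxy ⊢
    linear_combination hxy

theorem exists_commute_det [Finite F] {M : Matrix (Fin 2) (Fin 2) F} (h : NoEigen M) (c : F) :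
    ∃ Z : Matrix (Fin 2) (Fin 2) F, M * Z = Z * M ∧ Z.det = c := by
  obtain ⟨a, b, hab⟩ := exists_repr h c
  exact ⟨a • 1 + b • M, commute_lin M a b, by rw [det_lin, hab]⟩

theorem form_surj [Finite F] {M : Matrix (Fin 2) (Fin 2) F} (h : NoEigen M) {c : F} :
    ∃ v, form M v = c := by
  obtain ⟨v, hv⟩ := exists_form_ne_zero (not_scalar h)
  obtain ⟨Z, hZ, hd⟩ := exists_commute_det h (c / form M v)
  exact ⟨Z *ᵥ v, by rw [form_conj hZ.symm v, hd, div_mul_cancel₀ _ hv]⟩

theorem trace_conj (x g : SL2) : (x * g * x⁻¹).1.trace = g.1.trace := by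
  show ((x * g).1 * (x⁻¹).1).trace = _
  rw [Matrix.trace_mul_comm]
  exact congrArg Matrix.trace (congrArg Subtype.val (inv_mul_cancel_left x g))

theorem noEigen_of_trace {g h : SL2} (hg : NoEigen g.1) (ht : g.1.trace = h.1.trace) :
    NoEigen h.1 :=
  noEigen_iff.2 fun a => by
    have := noEigen_iff.1 hg a
    intro e
    refine this ?_
    rw [g.det_coe, ht]
    rw [h.det_coe] at e
    exact e

theorem isConj_of_trace [Finite F] {g h : SL2} (hg : NoEigen g.1) (ht : g.1.trace = h.1.trace) :
    IsConj g h := by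
  obtain ⟨w, hw⟩ := exists_form_ne_zero (not_scalar (noEigen_of_trace hg ht))
  obtain ⟨v, hv⟩ := form_surj hg (c := form h.1 w)
  exact (isConj_sl_iff g h (not_scalar hg)).2 ⟨ht, v, w, hv ▸ hw, hv.symm⟩

theorem exists_noEigen [Finite F] : ∃ g : SL2, NoEigen g.1 := by
  classical
  have := Fintype.ofFinite F
  obtain ⟨s, hs⟩ : ∃ s : F, ∀ a : Fˣ, (a : F) + (a⁻¹ : Fˣ) ≠ s := by
    by_contra hc
    simp only [not_exists, not_forall, ne_eq, not_not] at hc
    have := Fintype.card_le_of_surjective (fun a : Fˣ => (a : F) + (a⁻¹ : Fˣ)) hc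
    rw [Fintype.card_units] at this
    have := Fintype.card_pos (α := F)
    omega
  refine ⟨⟨TwoByTwo.comp s 1, det_comp s 1⟩, noEigen_iff.2 fun a e => ?_⟩
  rw [trace_comp, det_comp] at e
  have ha : a ≠ 0 := fun h0 => by simp [h0] at e
  refine hs (Units.mk0 a ha) ?_
  simp only [Units.val_mk0, Units.val_inv_eq_inv_val]
  field_simp
  linear_combination e

/-- The centraliser of `g`. -/
abbrev torus (g : Matrix.SpecialLinearGroup (Fin 2) F) :
    Subgroup (Matrix.SpecialLinearGroup (Fin 2) F) := Subgroup.centralizer ({g} : Set SL2)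

theorem mem_torus (g : Matrix.SpecialLinearGroup (Fin 2) F) {x : SL2} : x ∈ torus g ↔ x.1 * g.1 = g.1 * x.1 := by
  rw [Subgroup.mem_centralizer_singleton_iff]
  exact ⟨fun h => congrArg Subtype.val h, fun h => Subtype.ext h⟩

variable {g : Matrix.SpecialLinearGroup (Fin 2) F}

theorem exists_lin (hg : ¬ IsScalar g.1) {x : SL2} (hx : x ∈ torus g) :
    ∃ a b : F, x.1 = a • 1 + b • g.1 := commute_eq hg ((mem_torus g).1 hx).symm

theorem lin_mem {x : SL2} {a b : F} (h : x.1 = a • 1 + b • g.1) : x ∈ torus g :=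
  (mem_torus g).2 (by rw [h]; exact (commute_lin g.1 a b).symm)

theorem torus_comm (hg : ¬ IsScalar g.1) (x : SL2) (hx : x ∈ torus g) (y : SL2) (hy : y ∈ torus g) :
    x * y = y * x := by
  obtain ⟨a, b, h⟩ := exists_lin hg hx
  apply Subtype.ext
  show x.1 * y.1 = y.1 * x.1
  rw [h, add_mul, mul_add, smul_mul_assoc, smul_mul_assoc, one_mul, mul_smul_comm, mul_smul_comm,
    mul_one, (mem_torus g).1 hy]

theorem card_torus [Finite F] (hg : NoEigen g.1) : Nat.card (torus g) = Nat.card F + 1 := by
  classical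
  have := Fintype.ofFinite F
  set G : GL (Fin 2) F := Matrix.SpecialLinearGroup.toGL g with hG
  let K := Subgroup.centralizer ({G} : Set (GL (Fin 2) F))
  have hK : Nat.card K = Fintype.card F ^ 2 - 1 :=
    GL2Count.card_centralizer_irred G (fun c v hv => hg c v hv)
  let φ : K →* Fˣ := GeneralLinearGroup.det.comp K.subtype
  have hrange : φ.range = ⊤ := by
    rw [MonoidHom.range_eq_top]
    intro c
    obtain ⟨Z, hZ, hd⟩ := exists_commute_det hg (c : F)
    refine ⟨⟨GeneralLinearGroup.mkOfDetNeZero Z (by rw [hd]; exact c.ne_zero), ?_⟩, Units.ext hd⟩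
    exact Subgroup.mem_centralizer_singleton_iff.2 (Units.ext hZ.symm)
  let f : torus g → φ.ker := fun x =>
    ⟨⟨Matrix.SpecialLinearGroup.toGL x.1,
      Subgroup.mem_centralizer_singleton_iff.2 (Units.ext ((mem_torus g).1 x.2))⟩,
      Units.ext x.1.det_coe⟩
  have hbij : Function.Bijective f := by
    refine ⟨fun x y h => ?_, fun k => ?_⟩
    · have h1 := congrArg (fun k : φ.ker => k.1.1.1) h
      exact Subtype.ext (Subtype.ext h1)
    · have hd : k.1.1.1.det = 1 := congrArg Units.val k.2
      have hc : k.1.1.1 * g.1 = g.1 * k.1.1.1 :=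
        congrArg Units.val (Subgroup.mem_centralizer_singleton_iff.1 k.1.2 : k.1.1 * G = G * k.1.1)
      exact ⟨⟨⟨k.1.1.1, hd⟩, (mem_torus g).2 hc⟩, Subtype.ext (Subtype.ext (Units.ext rfl))⟩
  have h1 := Subgroup.card_mul_index φ.ker
  rw [Subgroup.index_ker, hrange, Subgroup.card_top, Nat.card_units, ← Nat.card_eq_of_bijective f hbij,
    hK, ← Nat.card_eq_fintype_card] at h1
  have h2 : 1 < Nat.card F := Finite.one_lt_card
  refine Nat.eq_of_mul_eq_mul_right (show 0 < Nat.card F - 1 by omega) (h1.trans ?_)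
  simpa using Nat.sq_sub_sq (Nat.card F) 1

theorem isCyclic_torus [Finite F] (hg : NoEigen g.1) : IsCyclic (torus g) := by
  classical
  have hns := not_scalar hg
  let K := AlgebraicClosure F
  obtain ⟨μ, hμ⟩ : ∃ μ : K, μ ^ 2 - algebraMap F K g.1.trace * μ + 1 = 0 := by
    obtain ⟨μ, hμ⟩ := IsAlgClosed.exists_root
      (Polynomial.X ^ 2 - Polynomial.C (algebraMap F K g.1.trace) * Polynomial.X + 1 : Polynomial K)
      (by
        rw [show (Polynomial.X ^ 2 - Polynomial.C (algebraMap F K g.1.trace) * Polynomial.X + 1 :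
          Polynomial K).degree = 2 by compute_degree!]
        decide)
    exact ⟨μ, by simpa using hμ⟩
  have hμF : ∀ a : F, algebraMap F K a ≠ μ := by
    intro a e
    refine noEigen_iff.1 hg a ?_
    rw [g.det_coe]
    apply (algebraMap F K).injective
    rw [← e] at hμ
    simp only [map_add, map_sub, map_mul, map_pow, map_one, map_zero]
    linear_combination hμ
  choose a b hab using fun x : torus g => exists_lin hns x.2
  let φ : torus g → K := fun x => algebraMap F K (a x) + algebraMap F K (b x) * μ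
  have hone : φ 1 = 1 := by
    have e : (1 : torus g).1.1 = (1 : F) • (1 : Matrix (Fin 2) (Fin 2) F) + (0 : F) • g.1 := by
      rw [one_smul, zero_smul, add_zero]; rfl
    obtain ⟨h1, h2⟩ := lin_injective hns ((hab 1).symm.trans e)
    show algebraMap F K (a 1) + algebraMap F K (b 1) * μ = 1
    rw [h1, h2, map_one, map_zero, zero_mul, add_zero]
  have hmul : ∀ x y : torus g, φ (x * y) = φ x * φ y := by
    intro x y
    have hxy : (x * y : torus g).1.1 = (a x * a y - b x * b y) • (1 : Matrix (Fin 2) (Fin 2) F) +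
          (a x * b y + b x * a y + b x * b y * g.1.trace) • g.1 := by
      show x.1.1 * y.1.1 = _
      have hd := g.det_coe
      rw [Matrix.det_fin_two] at hd
      rw [hab x, hab y, Matrix.trace_fin_two]
      ext i j
      fin_cases i <;> fin_cases j <;> simp [Matrix.mul_apply, Fin.sum_univ_two]
      · linear_combination b x * b y * (-hd)
      · ring
      · ring
      · linear_combination b x * b y * (-hd)
    obtain ⟨h1, h2⟩ := lin_injective hns ((hab (x * y)).symm.trans hxy)
    show algebraMap F K (a (x * y)) + algebraMap F K (b (x * y)) * μ = _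
    rw [h1, h2]
    simp only [φ, map_add, map_sub, map_mul]
    linear_combination -(algebraMap F K (b x) * algebraMap F K (b y)) * hμ
  let f : torus g →* K := { toFun := φ, map_one' := hone, map_mul' := hmul }
  refine isCyclic_of_subgroup_isDomain f fun x y h => ?_
  have h' : algebraMap F K (a x) + algebraMap F K (b x) * μ =
      algebraMap F K (a y) + algebraMap F K (b y) * μ := h
  by_cases hb : b x = b y
  · rw [hb, add_left_inj] at h'
    exact Subtype.ext (Subtype.ext (by rw [hab x, hab y, (algebraMap F K).injective h', hb]))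
  · refine absurd ?_ (hμF ((a y - a x) / (b x - b y)))
    have hne : algebraMap F K (b x) - algebraMap F K (b y) ≠ 0 :=
      sub_ne_zero.2 fun e => hb ((algebraMap F K).injective e)
    rw [map_div₀, map_sub, map_sub, div_eq_iff hne]
    linear_combination -h'

theorem val_eq_pm_one {x : SL2} (h : IsScalar x.1) : x.1 = 1 ∨ x.1 = -1 := by
  have hd := x.det_coe
  rw [det_fin_two, h.1, h.2.1, ← h.2.2, mul_zero, sub_zero] at hd
  rcases mul_self_eq_one_iff.1 hd with e | e
  · exact Or.inl (by rw [isScalar_iff.1 h, e, one_smul])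
  · exact Or.inr (by rw [isScalar_iff.1 h, e, neg_one_smul])

theorem noEigen_of_mem (hg : NoEigen g.1) {x : SL2} (hx : x ∈ torus g) (hs : ¬ IsScalar x.1) :
    NoEigen x.1 := by
  obtain ⟨a, b, h⟩ := exists_lin (not_scalar hg) hx
  have hb : b ≠ 0 := fun e => hs (by rw [h, e, zero_smul, add_zero]; exact isScalar_smul_one a)
  intro c v hv he
  refine hg ((c - a) / b) v hv ?_
  rw [h, add_mulVec, smul_mulVec, one_mulVec, smul_mulVec] at he
  have h2 : b • (g.1 *ᵥ v) = (c - a) • v := by rw [sub_smul, ← he, add_sub_cancel_left]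
  rw [div_eq_inv_mul, mul_smul, ← h2, inv_smul_smul₀ hb]

theorem torus_eq (hns : ¬ IsScalar g.1) {x : SL2} (hx : x ∈ torus g) (hs : ¬ IsScalar x.1) :
    torus x = torus g := by
  ext y
  refine ⟨fun hy => ?_, fun hy => ?_⟩
  · obtain ⟨a, b, h⟩ := exists_lin hns hx
    obtain ⟨a', b', h'⟩ := exists_lin hs hy
    refine lin_mem (a := a' + b' * a) (b := b' * b) ?_
    rw [h', h, smul_add, smul_smul, smul_smul, add_smul, add_assoc]
  · exact Subgroup.mem_centralizer_singleton_iff.2 (torus_comm hns y hy x hx)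

theorem centralizer_torus (hg : NoEigen g.1) :
    Subgroup.centralizer ((torus g : Subgroup SL2) : Set SL2) = torus g := by
  refine le_antisymm (fun y hy => ?_) fun y hy => ?_
  · rw [Subgroup.mem_centralizer_singleton_iff]
    exact (Subgroup.mem_centralizer_iff.1 hy g (Subgroup.mem_centralizer_singleton_iff.2 rfl)).symm
  · exact Subgroup.mem_centralizer_iff.2 fun x hx => torus_comm (not_scalar hg) x hx y hy

theorem sub_inv_eq {x : SL2} : (x⁻¹).1 = x.1.trace • (1 : Matrix (Fin 2) (Fin 2) F) - x.1 := by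
  show x.1.adjugate = _
  rw [Matrix.adjugate_fin_two, Matrix.trace_fin_two]
  ext i j; fin_cases i <;> fin_cases j <;> simp

/-- In a torus an element is determined by its trace up to inversion. -/
theorem eq_or_eq_inv (hg : NoEigen g.1) {x y : SL2} (hx : x ∈ torus g) (hy : y ∈ torus g)
    (ht : x.1.trace = y.1.trace) : y = x ∨ y = x⁻¹ := by
  have hns := not_scalar hg
  obtain ⟨a, b, ha⟩ := exists_lin hns hx
  obtain ⟨a', b', hb⟩ := exists_lin hns hy
  by_cases h : a' - a = 0 ∧ b' - b = 0
  · exact Or.inl (Subtype.ext (by rw [ha, hb, sub_eq_zero.1 h.1, sub_eq_zero.1 h.2]))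
  · refine Or.inr (Subtype.ext ?_)
    have hprod : (y.1 - x.1) * (y.1 - (x⁻¹).1) = 0 := by
      have hc := congrArg Subtype.val (torus_comm hns y hy x hx)
      have hxx : x.1 * x.1 = x.1.trace • x.1 - 1 := by
        have hd := x.det_coe
        rw [det_fin_two] at hd
        rw [trace_fin_two]
        ext i j; fin_cases i <;> fin_cases j <;> simp [Matrix.mul_apply, Fin.sum_univ_two] <;>
          first | linear_combination -hd | ring
      have hyy : y.1 * y.1 = y.1.trace • y.1 - 1 := by
        have hd := y.det_coe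
        rw [det_fin_two] at hd
        rw [trace_fin_two]
        ext i j; fin_cases i <;> fin_cases j <;> simp [Matrix.mul_apply, Fin.sum_univ_two] <;>
          first | linear_combination -hd | ring
      have hc' : y.1 * x.1 = x.1 * y.1 := hc
      rw [sub_inv_eq, sub_mul, mul_sub, mul_sub, mul_sub, mul_sub, mul_smul_comm, mul_smul_comm,
        mul_one, mul_one, hxx, hyy, hc', ht]
      abel
    have hdet : (y.1 - x.1).det ≠ 0 := by
      rw [ha, hb, add_sub_add_comm, ← sub_smul, ← sub_smul, det_lin]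
      exact det_lin_ne_zero hg h
    have := congrArg (fun M => (y.1 - x.1)⁻¹ * M) hprod
    simp only [Matrix.nonsing_inv_mul_cancel_left _ _ (isUnit_iff_ne_zero.2 hdet),
      Matrix.mul_zero] at this
    exact sub_eq_zero.1 this

theorem inv_mem_trace (x : SL2) : (x⁻¹).1.trace = x.1.trace := by
  rw [sub_inv_eq, Matrix.trace_sub, Matrix.trace_smul, Matrix.trace_one, Fintype.card_fin]
  simp
  ring

theorem inv_ne_self (hg : NoEigen g.1) : g⁻¹ ≠ g := by
  intro h
  have h1 := sub_inv_eq (x := g)
  rw [h] at h1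
  have h2 : (2 : F) • g.1 = g.1.trace • (1 : Matrix (Fin 2) (Fin 2) F) := by
    rw [two_smul]; nth_rewrite 1 [h1]; rw [sub_add_cancel]
  by_cases ht : (2 : F) = 0
  · rw [ht, zero_smul] at h2
    have h00 := congrFun (congrFun h2.symm 0) 0
    simp at h00
    refine noEigen_iff.1 hg 1 ?_
    rw [g.det_coe, h00]
    linear_combination ht
  · refine not_scalar hg ?_
    rw [show g.1 = (2 : F)⁻¹ • ((2 : F) • g.1) by rw [inv_smul_smul₀ ht], h2, smul_smul]
    exact isScalar_smul_one _

theorem exists_inverter [Finite F] (hg : NoEigen g.1) :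
    ∃ w : SL2, InvertedTorus.Data (torus g)
      (Subgroup.normalizer ((torus g : Subgroup SL2) : Set SL2)) w ∧ w * g * w⁻¹ = g⁻¹ ∧
      w.1 * w.1 = -1 := by
  obtain ⟨w, hw⟩ := isConj_iff.1 (isConj_of_trace hg (inv_mem_trace g).symm)
  have hns := not_scalar hg
  have hgm : g ∈ torus g := Subgroup.mem_centralizer_singleton_iff.2 rfl
  have hwm : w.1 * g.1 = (g.1.trace • (1 : Matrix (Fin 2) (Fin 2) F) - g.1) * w.1 := by
    rw [← sub_inv_eq, ← hw]
    exact (congrArg Subtype.val (inv_mul_cancel_right (w * g) w)).symm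
  have hnot : w ∉ torus g := by
    intro h
    rw [(Subgroup.mem_centralizer_singleton_iff.1 h : w * g = g * w), mul_inv_cancel_right] at hw
    exact inv_ne_self hg hw.symm
  have hinv : ∀ t ∈ torus g, w * t * w⁻¹ = t⁻¹ := by
    intro t ht
    obtain ⟨a, b, hab⟩ := exists_lin hns ht
    have htr : t.1.trace = 2 * a + b * g.1.trace := by
      rw [hab, Matrix.trace_add, Matrix.trace_smul, Matrix.trace_smul, Matrix.trace_one,
        Fintype.card_fin, smul_eq_mul, smul_eq_mul]
      push_cast
      ring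
    rw [mul_inv_eq_iff_eq_mul]
    apply Subtype.ext
    show w.1 * t.1 = (t⁻¹).1 * w.1
    rw [sub_inv_eq, htr, hab, mul_add, mul_smul_comm, mul_smul_comm, mul_one, hwm, ← smul_mul_assoc,
      show a • w.1 = (a • (1 : Matrix (Fin 2) (Fin 2) F)) * w.1 by rw [smul_mul_assoc, one_mul],
      ← add_mul]
    congr 1
    ext i j
    fin_cases i <;> fin_cases j <;> simp <;> ring
  have hmem : ∀ x, x ∈ Subgroup.normalizer ((torus g : Subgroup SL2) : Set SL2) ↔
      x ∈ torus g ∨ x * w⁻¹ ∈ torus g := by
    intro x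
    have hwN : w ∈ Subgroup.normalizer ((torus g : Subgroup SL2) : Set SL2) := by
      rw [Subgroup.mem_normalizer_iff]
      refine fun y => ⟨fun hy => by rw [hinv y hy]; exact inv_mem hy, fun hy => ?_⟩
      have h := hinv _ hy
      have : y = w⁻¹ * (w * y * w⁻¹) * w := by group
      rw [this]
      have h' : w⁻¹ * (w * y * w⁻¹) * w = (w * y * w⁻¹)⁻¹ := by
        conv_lhs => rw [show w * y * w⁻¹ = (w * (w * y * w⁻¹) * w⁻¹)⁻¹ by rw [h, inv_inv]]
        group
      rw [h']
      exact inv_mem hy
    constructor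
    · intro hx
      rcases eq_or_eq_inv hg hgm ((Subgroup.mem_normalizer_iff.1 hx g).1 hgm) (trace_conj x g).symm
        with h | h
      · exact Or.inl (Subgroup.mem_centralizer_singleton_iff.2 (by
          conv_rhs => rw [← h, inv_mul_cancel_right]))
      · refine Or.inr (Subgroup.mem_centralizer_singleton_iff.2 ?_)
        have hgi : w * g⁻¹ * w⁻¹ = g := by rw [hinv _ (inv_mem hgm), inv_inv]
        have h2 : w⁻¹ * g = g⁻¹ * w⁻¹ := by
          calc w⁻¹ * g = w⁻¹ * (w * g⁻¹ * w⁻¹) := by rw [hgi]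
            _ = g⁻¹ * w⁻¹ := by group
        calc x * w⁻¹ * g = x * g⁻¹ * w⁻¹ := by rw [mul_assoc, h2, ← mul_assoc]
          _ = (x * g * x⁻¹)⁻¹ * (x * w⁻¹) := by group
          _ = g * (x * w⁻¹) := by rw [h, inv_inv]
    · rintro (h | h)
      · exact Subgroup.le_normalizer h
      · rw [show x = (x * w⁻¹) * w by group]
        exact mul_mem (Subgroup.le_normalizer h) hwN
  have hsq : w * w ∈ torus g := by
    refine Subgroup.mem_centralizer_singleton_iff.2 ?_
    have h1 : w * g = g⁻¹ * w := by rw [← hw, inv_mul_cancel_right]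
    have h2 : w * g⁻¹ = g * w := by
      have := hinv g⁻¹ (inv_mem hgm)
      rw [inv_inv, mul_inv_eq_iff_eq_mul] at this
      exact this
    rw [mul_assoc, h1, ← mul_assoc, h2, mul_assoc]
  refine ⟨w, ⟨fun s hs t ht => torus_comm hns s hs t ht, hnot, hinv, hsq, hmem⟩, hw, ?_⟩
  -- `w² - τ w + 1 = 0` with `w²` in the torus forces `τ = 0`
  have hww : w.1 * w.1 = w.1.trace • w.1 - 1 := by
    have hd := w.det_coe
    rw [det_fin_two] at hd
    rw [trace_fin_two]
    ext i j; fin_cases i <;> fin_cases j <;> simp [Matrix.mul_apply, Fin.sum_univ_two] <;>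
      first | linear_combination -hd | ring
  have hτ : w.1.trace = 0 := by
    by_contra hne
    have h1 := (mem_torus g).1 hsq
    rw [show (w * w).1 = w.1 * w.1 from rfl, hww, sub_mul, mul_sub, one_mul, mul_one,
      smul_mul_assoc, mul_smul_comm, sub_left_inj] at h1
    exact hnot ((mem_torus g).2 (smul_right_injective _ hne h1))
  rw [hww, hτ, zero_smul, zero_sub]

theorem card_normalizer [Finite F] (hg : NoEigen g.1) :
    Nat.card (Subgroup.normalizer ((torus g : Subgroup SL2) : Set SL2)) = 2 * (Nat.card F + 1) := by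
  obtain ⟨w, d, -, -⟩ := exists_inverter hg
  rw [InvertedTorus.card_N d, card_torus hg]

theorem sq_outside [Finite F] (hg : NoEigen g.1) {x : SL2}
    (hx : x ∈ Subgroup.normalizer ((torus g : Subgroup SL2) : Set SL2)) (hx' : x ∉ torus g) :
    x.1 * x.1 = -1 := by
  obtain ⟨w, d, -, hw⟩ := exists_inverter hg
  have h := ((d.mem_iff x).1 hx).resolve_left hx'
  have e : x * x = w * w := by
    have hx2 : x = (x * w⁻¹) * w := by group
    calc x * x = (x * w⁻¹) * (w * (x * w⁻¹) * w⁻¹) * (w * w) := by group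
      _ = w * w := by rw [d.inv _ h, mul_inv_cancel, one_mul]
  exact (congrArg Subtype.val e).trans hw

theorem card_sq_one [Finite F] (h2 : (2 : F) ≠ 0) :
    Nat.card {t : torus g // t ^ 2 = 1} = 2 := by
  have hm : (-1 : SL2) ∈ torus g := (mem_torus g).2 (by simp)
  have hne : (1 : SL2) ≠ -1 := fun h => h2 (by
    have := congrFun (congrFun (congrArg Subtype.val h) 0) 0
    simp at this
    linear_combination this)
  refine Nat.card_eq_two_iff.2 ⟨⟨1, one_pow 2⟩, ⟨⟨-1, hm⟩, Subtype.ext (neg_one_sq)⟩,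
    fun h => hne (congrArg (fun t : {t : torus g // t ^ 2 = 1} => t.1.1) h), ?_⟩
  refine Set.eq_univ_of_forall fun t => ?_
  have hinv : t.1.1⁻¹ = t.1.1 := by
    have h := congrArg Subtype.val t.2
    rw [SubmonoidClass.coe_pow, OneMemClass.coe_one, pow_two] at h
    exact (mul_eq_one_iff_eq_inv.1 h).symm
  have h1 := sub_inv_eq (x := t.1.1)
  rw [hinv] at h1
  have hs : IsScalar t.1.1.1 := by
    have e : (2 : F) • t.1.1.1 = t.1.1.1.trace • (1 : Matrix (Fin 2) (Fin 2) F) := by
      rw [two_smul]; nth_rewrite 1 [h1]; rw [sub_add_cancel]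
    rw [show t.1.1.1 = (2 : F)⁻¹ • ((2 : F) • t.1.1.1) by rw [inv_smul_smul₀ h2], e, smul_smul]
    exact isScalar_smul_one _
  rcases val_eq_pm_one hs with e | e
  · exact Or.inl (Subtype.ext (Subtype.ext (Subtype.ext e)))
  · exact Or.inr (Subtype.ext (Subtype.ext (Subtype.ext e)))

/-- Traces of split and non-split elements exhaust the field. -/
theorem exists_conj_mem [Finite F] (hg : NoEigen g.1) {h : SL2} (hh : NoEigen h.1) :
    ∃ x : SL2, x * h * x⁻¹ ∈ torus g := by
  classical
  have := Fintype.ofFinite F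
  suffices ∃ y ∈ torus g, y.1.trace = h.1.trace by
    obtain ⟨y, hy, ht⟩ := this
    obtain ⟨x, hx⟩ := isConj_iff.1 (isConj_of_trace hh ht.symm)
    exact ⟨x, hx ▸ hy⟩
  by_contra hno
  let f : Fˣ ⊕ torus g → F := Sum.elim (fun a => (a : F) + (a⁻¹ : Fˣ)) fun y => y.1.1.trace
  have hU : ∀ a b : Fˣ, (a : F) + (a⁻¹ : Fˣ) = (b : F) + (b⁻¹ : Fˣ) → b = a ∨ b = a⁻¹ := by
    intro a b e
    have hp : ((b : F) - a) * ((b : F) - (a⁻¹ : Fˣ)) = 0 := by
      have hb : (b : F) * (b⁻¹ : Fˣ) = 1 := Units.mul_inv b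
      have ha : (a : F) * (a⁻¹ : Fˣ) = 1 := Units.mul_inv a
      linear_combination -(b : F) * e + ha - hb
    rcases mul_eq_zero.1 hp with e1 | e1
    · exact Or.inl (Units.ext (sub_eq_zero.1 e1))
    · exact Or.inr (Units.ext (sub_eq_zero.1 e1))
  have hmix : ∀ (a : Fˣ) (y : torus g), (a : F) + (a⁻¹ : Fˣ) = y.1.1.trace →
      a = a⁻¹ ∧ y⁻¹ = y := by
    intro a y e
    have hs : IsScalar y.1.1 := by
      by_contra hs
      refine noEigen_iff.1 (noEigen_of_mem hg y.2 hs) a ?_
      rw [y.1.det_coe, ← e]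
      have ha : (a : F) * (a⁻¹ : Fˣ) = 1 := Units.mul_inv a
      linear_combination -ha
    have ha : (a : F) * (a⁻¹ : Fˣ) = 1 := Units.mul_inv a
    have key : ∀ ε : F, ε * ε = 1 → (a : F) + (a⁻¹ : Fˣ) = 2 * ε → a = a⁻¹ := by
      intro ε hε he
      have hz : ((a : F) - ε) ^ 2 = 0 := by linear_combination (a : F) * he - ha + hε
      have hae : (a : F) = ε := sub_eq_zero.1 ((pow_eq_zero_iff two_ne_zero).1 hz)
      apply Units.ext
      rw [hae] at he ⊢
      linear_combination -he
    refine ⟨?_, ?_⟩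
    · rcases val_eq_pm_one hs with e' | e'
      · exact key 1 (by ring) (by rw [e, e', Matrix.trace_one, Fintype.card_fin]; norm_num)
      · exact key (-1) (by ring) (by
          rw [e, e', Matrix.trace_neg, Matrix.trace_one, Fintype.card_fin]; norm_num)
    · apply Subtype.ext
      rw [InvMemClass.coe_inv]
      refine inv_eq_of_mul_eq_one_right (Subtype.ext ?_)
      show y.1.1 * y.1.1 = 1
      rcases val_eq_pm_one hs with e' | e' <;> rw [e'] <;> simp
  have hfib : ∀ s : F, (Finset.univ.filter fun z => f z = s).card ≤ 2 := by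
    intro s
    by_cases hA : ∃ a : Fˣ, (a : F) + (a⁻¹ : Fˣ) = s
    · obtain ⟨a, ha⟩ := hA
      by_cases hB : ∃ y : torus g, y.1.1.trace = s
      · obtain ⟨y, hy⟩ := hB
        obtain ⟨haa, hyy⟩ := hmix a y (ha.trans hy.symm)
        refine (Finset.card_le_card (t := {Sum.inl a, Sum.inr y}) ?_).trans Finset.card_le_two
        intro z hz
        simp only [Finset.mem_filter, Finset.mem_univ, true_and] at hz
        rcases z with b | y'
        · rcases hU a b (ha.trans hz.symm) with e | e
          · simp [e]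
          · simp [e, ← haa]
        · rcases eq_or_eq_inv hg y.2 y'.2 (hy.trans hz.symm) with e | e
          · have e' : y' = y := Subtype.ext e
            simp [e']
          · have : y' = y⁻¹ := Subtype.ext e
            simp [this, hyy]
      · refine (Finset.card_le_card (t := {Sum.inl a, Sum.inl a⁻¹}) ?_).trans Finset.card_le_two
        intro z hz
        simp only [Finset.mem_filter, Finset.mem_univ, true_and] at hz
        rcases z with b | y'
        · rcases hU a b (ha.trans hz.symm) with e | e <;> simp [e]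
        · exact absurd ⟨y', hz⟩ hB
    · by_cases hB : ∃ y : torus g, y.1.1.trace = s
      · obtain ⟨y, hy⟩ := hB
        refine (Finset.card_le_card (t := {Sum.inr y, Sum.inr y⁻¹}) ?_).trans Finset.card_le_two
        intro z hz
        simp only [Finset.mem_filter, Finset.mem_univ, true_and] at hz
        rcases z with b | y'
        · exact absurd ⟨b, hz⟩ hA
        · rcases eq_or_eq_inv hg y.2 y'.2 (hy.trans hz.symm) with e | e
          · have e' : y' = y := Subtype.ext e
            simp [e']
          · have e' : y' = y⁻¹ := Subtype.ext e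
            simp [e']
      · rw [Finset.card_eq_zero.2]
        · omega
        · refine Finset.filter_eq_empty_iff.2 fun z _ hz => ?_
          rcases z with b | y'
          · exact hA ⟨b, hz⟩
          · exact hB ⟨y', hz⟩
  have hsum := Finset.card_eq_sum_card_fiberwise (s := (Finset.univ : Finset (Fˣ ⊕ torus g)))
    (t := Finset.univ.erase h.1.trace) (f := f) (fun z _ => by
      refine Finset.mem_coe.2 (Finset.mem_erase.2 ⟨?_, Finset.mem_univ _⟩)
      rcases z with b | y
      · intro e
        refine noEigen_iff.1 hh b ?_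
        rw [h.det_coe, ← e]
        show (b : F) ^ 2 - b * ((b : F) + (b⁻¹ : Fˣ)) + 1 = 0
        have hb : (b : F) * (b⁻¹ : Fˣ) = 1 := Units.mul_inv b
        linear_combination -hb
      · exact fun e => hno ⟨y.1, y.2, e⟩)
  have hle := Finset.sum_le_sum (s := Finset.univ.erase h.1.trace) fun s _ => hfib s
  rw [← hsum, Finset.card_univ, Fintype.card_sum, Fintype.card_units, Finset.sum_const,
    Finset.card_erase_of_mem (Finset.mem_univ _), Finset.card_univ, smul_eq_mul] at hle
  have hT := card_torus hg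
  rw [Nat.card_eq_fintype_card, Nat.card_eq_fintype_card] at hT
  have := Fintype.one_lt_card (α := F)
  omega

end Cfsg.Agent.SL2Tori
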