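/-
Subgroups of SL_2 containing the scalars, and their images in PSL_2.
-/
import Cfsg.Agent.Lib.PStable.DicksonMain
import Cfsg.Agent.Lib.Classical.PSL2Involutions
import Cfsg.Agent.Lib.Classical.SL2Tori

set_option autoImplicit false

namespace Cfsg.Agent.Dickson

open Matrix PStable

variable {F : Type*} [Field F]

local notation "SL2" => Matrix.SpecialLinearGroup (Fin 2) F
local notation "M2" => Matrix (Fin 2) (Fin 2) F
local notation "P" => Matrix.ProjectiveSpecialLinearGroup (Fin 2) F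

/-- `H` contains the scalars. -/
def Saturated (H : Subgroup SL2) : Prop := ∀ x : SL2, IsSc x → x ∈ H

theorem center_eq : Subgroup.center SL2 = scPart (⊤ : Subgroup SL2) := by
  ext x
  rw [SL2Inv.mem_center_iff]
  constructor
  · rintro (rfl | rfl)
    · exact ⟨trivial, 1, by simp⟩
    · exact ⟨trivial, -1, by rw [SL2Inv.coe_negOne]; simp⟩
  · rintro ⟨-, h⟩
    rcases h.eq_or_eq with h | h
    · exact Or.inl (Subtype.ext h)
    · exact Or.inr (Subtype.ext h)

theorem pr_eq_one {x : SL2} : PSL2Inv.pr x = 1 ↔ IsSc x := by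
  have h : PSL2Inv.pr x = 1 ↔ x ∈ Subgroup.center SL2 := QuotientGroup.eq_one_iff x
  rw [h, center_eq]
  exact ⟨fun h => h.2, fun h => ⟨trivial, h⟩⟩

theorem scPart_eq {H : Subgroup SL2} (hH : Saturated H) : scPart H = Subgroup.center SL2 := by
  rw [center_eq]
  ext x
  exact ⟨fun h => ⟨trivial, h.2⟩, fun h => ⟨hH x h.2, h.2⟩⟩

theorem saturated_cent {H : Subgroup SL2} (hH : Saturated H) (x : SL2) : Saturated (cent H x) :=
  fun y hy => scPart_le_cent H x ⟨hH y hy, hy⟩

theorem mem_of_pr_mem {H : Subgroup SL2} (hH : Saturated H) {x : SL2}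
    (h : PSL2Inv.pr x ∈ H.map (PSL2Inv.pr (F := F))) : x ∈ H := by
  obtain ⟨y, hy, e⟩ := h
  have : IsSc (y⁻¹ * x) := pr_eq_one.1 (by rw [map_mul, map_inv, e, inv_mul_cancel])
  simpa using H.mul_mem hy (hH _ this)

theorem card_map [Finite F] {H : Subgroup SL2} (hH : Saturated H) :
    Nat.card H = Nat.card (Subgroup.center SL2) * Nat.card (H.map (PSL2Inv.pr (F := F))) := by
  set f := (PSL2Inv.pr (F := F)).domRestrict H with hf
  have hr : f.range = H.map (PSL2Inv.pr (F := F)) := MonoidHom.domRestrict_range _ _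
  have hk : f.ker = (scPart H).subgroupOf H := by
    ext x
    rw [MonoidHom.mem_ker, Subgroup.mem_subgroupOf]
    exact ⟨fun h => ⟨x.2, pr_eq_one.1 h⟩, fun h => pr_eq_one.2 h.2⟩
  have h1 := f.ker.card_mul_index
  rw [Subgroup.index_ker, hr, hk, Nat.card_congr (Subgroup.subgroupOfEquivOfLe (show scPart H ≤ H from
    fun x hx => hx.1)).toEquiv, scPart_eq hH] at h1
  exact h1.symm

theorem card_center [Finite F] : Nat.card (Subgroup.center SL2) = Nat.gcd 2 (Nat.card F - 1) := by
  simpa using ClassicalSL.card_center_sl (ι := Fin 2) (F := F)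

theorem commute_eq_or_inv' {x y : SL2} (hx : ¬ IsSc x) (h : x * y = y * x)
    (htr : Matrix.trace (y : M2) = Matrix.trace (x : M2)) (hτ : Matrix.trace (x : M2) ^ 2 ≠ 4) :
    y = x ∨ y = x⁻¹ := by
  by_cases h2 : (2 : F) ≠ 0
  · exact commute_eq_or_inv h2 hx h htr hτ
  push Not at h2
  obtain ⟨α, β, hy⟩ := exists_repr hx h
  have hdx := det_one x
  have hdy := det_one y
  rw [Matrix.trace_fin_two] at hτ
  rw [hy, Matrix.trace_fin_two, Matrix.trace_fin_two] at htr
  rw [hy] at hdy
  simp [Matrix.add_apply, Matrix.smul_apply] at htr hdy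
  set τ := (x : M2) 0 0 + (x : M2) 1 1 with hτ'
  have hτ0 : τ ≠ 0 := fun h0 => hτ (by rw [h0]; linear_combination (-2 : F) * h2)
  have hb : β = 1 := by
    refine sub_eq_zero.1 ((mul_eq_zero.1 (show (β - 1) * τ = 0 by
      rw [hτ']; linear_combination htr - α * h2)).resolve_right hτ0)
  subst hb
  have ha : α * (α + τ) = 0 := by rw [hτ']; linear_combination hdy - hdx
  rcases mul_eq_zero.1 ha with ha | ha
  · left
    apply Subtype.ext
    rw [hy, ha, zero_smul, zero_add, one_smul]
  · right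
    have hn : ∀ u : F, -u = u := fun u => by linear_combination -u * h2
    apply Subtype.ext
    show ((y : SL2) : M2) = ((x⁻¹ : SL2) : M2)
    rw [Matrix.SpecialLinearGroup.coe_inv, hy, eq_neg_of_add_eq_zero_left ha, hn, hτ', one_smul,
      Matrix.adjugate_fin_two]
    exact ext2 (by simp; linear_combination (x : M2) 0 0 * h2) (by simp [hn]) (by simp [hn])
      (by simp; linear_combination (x : M2) 1 1 * h2)

theorem trace_ne_of_mem_cent {H : Subgroup SL2} {x y : SL2} (hx : ¬ IsSc x)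
    (hτ : Matrix.trace (x : M2) ^ 2 ≠ 4) (hy : y ∈ cent H x) (hys : ¬ IsSc y) :
    Matrix.trace (y : M2) ^ 2 ≠ 4 := by
  obtain ⟨α, β, e⟩ := exists_repr hx (mem_cent.1 hy).2.symm
  have hdx := det_one x
  have hdy := det_one y
  rw [e] at hdy
  simp [Matrix.add_apply, Matrix.smul_apply] at hdy
  intro h4
  rw [Matrix.trace_fin_two] at hτ
  rw [e, Matrix.trace_fin_two] at h4
  simp [Matrix.add_apply, Matrix.smul_apply] at h4
  have h0 : β ^ 2 * (((x : M2) 0 0 + (x : M2) 1 1) ^ 2 - 4) = 0 := by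
    linear_combination h4 - 4 * hdy + 4 * β ^ 2 * hdx
  have hb : β = 0 := by simpa [sub_ne_zero.2 hτ] using h0
  exact hys ⟨α, by rw [e, hb, zero_smul, add_zero]⟩

theorem cent_cyclic [Finite F] {H : Subgroup SL2} {x : SL2} (hx : ¬ IsSc x)
    (hτ : Matrix.trace (x : M2) ^ 2 ≠ 4) :
    IsCyclic (cent H x) ∧ (Nat.card (cent H x) ∣ Nat.card F - 1 ∨ Nat.card (cent H x) ∣ Nat.card F + 1) := by
  classical
  by_cases hn : SL2Tori.NoEigen (x : M2)
  · have hle : cent H x ≤ SL2Tori.torus x := fun y hy =>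
      (SL2Tori.mem_torus x).2 (congrArg Subtype.val (mem_cent.1 hy).2)
    haveI := SL2Tori.isCyclic_torus hn
    exact ⟨isCyclic_of_injective (Subgroup.inclusion hle) (Subgroup.inclusion_injective hle),
      Or.inr (SL2Tori.card_torus hn ▸ Subgroup.card_dvd_of_le hle)⟩
  · have hn' := hn
    simp only [SL2Tori.NoEigen, not_forall, not_not] at hn'
    obtain ⟨a, v, hv0, hv⟩ := hn'
    have hc : a ^ 2 - a * Matrix.trace (x : M2) + 1 = 0 := by
      have hd : ((-a) • (1 : M2) + (x : M2)).det = 0 := exists_mulVec_eq_zero_iff.1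
        ⟨v, hv0, by rw [add_mulVec, smul_mulVec, one_mulVec, hv, neg_smul, neg_add_cancel]⟩
      have hdx := det_one x
      rw [Matrix.det_fin_two] at hd
      simp at hd
      rw [Matrix.trace_fin_two]
      linear_combination hd - hdx
    obtain ⟨i, hi⟩ : ∃ i, v i ≠ 0 := Function.ne_iff.1 hv0
    have heig : ∀ y : cent H x, ∃ c : F, ((y : SL2) : M2) *ᵥ v = c • v ∧
        ∃ α β : F, ((y : SL2) : M2) = α • (1 : M2) + β • (x : M2) ∧ c = α + β * a := fun y => by
      obtain ⟨α, β, e⟩ := exists_repr hx (mem_cent.1 y.2).2.symm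
      exact ⟨α + β * a, by rw [e, add_mulVec, smul_mulVec, smul_mulVec, one_mulVec, hv, smul_smul, add_smul],
        α, β, e, rfl⟩
    let χ : cent H x →* F :=
      { toFun := fun y => (((y : SL2) : M2) *ᵥ v) i / v i
        map_one' := by simp [hi]
        map_mul' := fun y z => by
          obtain ⟨c, hc', -⟩ := heig z
          show ((((y : SL2) : M2) * ((z : SL2) : M2)) *ᵥ v) i / v i = _
          rw [← mulVec_mulVec, hc', mulVec_smul]
          simp [Pi.smul_apply]
          field_simp }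
    have hinj : Function.Injective χ.toHomUnits := by
      rw [injective_iff_map_eq_one]
      intro y hy
      have hy' : χ y = 1 := congrArg Units.val hy
      obtain ⟨c, hcv, α, β, e, rfl⟩ := heig y
      have h1 : α + β * a = 1 := by
        have : (((y : SL2) : M2) *ᵥ v) i / v i = 1 := hy'
        rw [hcv, Pi.smul_apply, smul_eq_mul, mul_div_cancel_right₀ _ hi] at this
        exact this
      have hdy := det_one (y : SL2)
      have hdx := det_one x
      rw [e] at hdy
      simp [Matrix.add_apply, Matrix.smul_apply] at hdy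
      rw [Matrix.trace_fin_two] at hc hτ
      have hb : β = 0 := by
        refine (mul_eq_zero.1 (show β * (2 * a - ((x : M2) 0 0 + (x : M2) 1 1)) = 0 by
          linear_combination (α - β * a + β * ((x : M2) 0 0 + (x : M2) 1 1) + 1) * h1 +
            β ^ 2 * hc - hdy + β ^ 2 * hdx)).resolve_right fun h0 => hτ ?_
        linear_combination (2 * a - ((x : M2) 0 0 + (x : M2) 1 1)) * h0 - 4 * hc
      subst hb
      rw [zero_mul, add_zero] at h1
      exact Subtype.ext (Subtype.ext (by rw [e, h1, zero_smul, add_zero, one_smul]; rfl))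
    haveI := Fintype.ofFinite F
    refine ⟨isCyclic_of_injective _ hinj, Or.inl ?_⟩
    rw [← Nat.card_units]
    exact Subgroup.card_dvd_of_injective _ hinj

theorem class_data [Finite F] {H : Subgroup SL2} (hH : Saturated H) {x : SL2} (hxH : x ∈ H)
    (hx : ¬ IsSc x) (hτ : Matrix.trace (x : M2) ^ 2 ≠ 4) :
    ∃ M s h, (s = 1 ∨ s = 2) ∧ 2 ≤ h ∧ M * (s * h) = Nat.card (H.map (PSL2Inv.pr (F := F))) ∧
      (cls H x).ncard = Nat.card (Subgroup.center SL2) * (M * (h - 1)) ∧
      Nat.card (cent H x) = Nat.card (Subgroup.center SL2) * h ∧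
      Nat.card (nz H x) = s * Nat.card (cent H x) := by
  classical
  have hcard := card_map hH
  have hsc : Nat.card (scPart H) = Nat.card (Subgroup.center SL2) := by rw [scPart_eq hH]
  set z := Nat.card (Subgroup.center SL2)
  have hz0 : 0 < z := Nat.card_pos
  obtain ⟨h, hh⟩ := Subgroup.card_dvd_of_le (scPart_le_cent H x)
  rw [hsc] at hh
  have hlt : z < Nat.card (cent H x) := by
    rw [← hsc]
    refine Set.ncard_lt_ncard (SetLike.coe_ssubset_coe.2
      (lt_of_le_of_ne (scPart_le_cent H x) fun h => hx ?_)) (Set.toFinite _)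
    have : x ∈ scPart H := h ▸ mem_cent.2 ⟨hxH, rfl⟩
    exact this.2
  have hh2 : 2 ≤ h := by
    by_contra hc
    rcases Nat.lt_or_ge h 1 with h0 | h0 <;> nlinarith
  obtain ⟨s, hs⟩ := Subgroup.card_dvd_of_le (cent_le_nz H x)
  have hs2 : s ≤ 2 := by
    by_cases hall : ∀ n ∈ nz H x, n ∈ cent H x
    · have h1 := Subgroup.card_le_of_le (show nz H x ≤ cent H x from hall)
      nlinarith [Nat.card_pos (α := cent H x)]
    push Not at hall
    obtain ⟨n₁, hn₁, hn₁'⟩ := hall
    have hconj : ∀ n ∈ nz H x, n * x * n⁻¹ = x ∨ n * x * n⁻¹ = x⁻¹ := by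
      intro n hn
      refine commute_eq_or_inv' hx ?_ (trace_conj n x) hτ
      exact ((mem_cent.1 ((Subgroup.mem_normalizer_iff.1 (Subgroup.mem_inf.1 hn).2 x).1
        (mem_cent.2 ⟨hxH, rfl⟩))).2).symm
    have hmem : ∀ n ∈ nz H x, n * x * n⁻¹ = x → n ∈ cent H x := fun n hn h =>
      mem_cent.2 ⟨(Subgroup.mem_inf.1 hn).1, mul_inv_eq_iff_eq_mul.1 h⟩
    have hle : Nat.card (nz H x) ≤ Nat.card (Bool × cent H x) := by
      refine Nat.card_le_card_of_injective (fun n : nz H x =>
        if h : (n : SL2) * x * (n : SL2)⁻¹ = x then (true, ⟨n, hmem _ n.2 h⟩)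
        else (false, ⟨n₁⁻¹ * n, hmem _ ((nz H x).mul_mem ((nz H x).inv_mem hn₁) n.2) ?_⟩)) ?_
      · have e1 := (hconj n n.2).resolve_left h
        have e2 := (hconj n₁ hn₁).resolve_left fun e => hn₁' (hmem _ hn₁ e)
        rw [show n₁⁻¹ * (n : SL2) * x * (n₁⁻¹ * (n : SL2))⁻¹ =
          n₁⁻¹ * ((n : SL2) * x * (n : SL2)⁻¹) * n₁ by group, e1, ← e2]
        group
      · intro a b hab
        simp only at hab
        split_ifs at hab with ha hb hb
        · exact Subtype.ext (congrArg Subtype.val (Prod.ext_iff.1 hab).2 :)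
        · simp at hab
        · simp at hab
        · exact Subtype.ext (mul_left_cancel (congrArg Subtype.val (Prod.ext_iff.1 hab).2 :))
    rw [Nat.card_prod, Nat.card_eq_fintype_card (α := Bool), Fintype.card_bool, hs,
      mul_comm 2] at hle
    exact Nat.le_of_mul_le_mul_left hle Nat.card_pos
  have hs1 : 1 ≤ s := Nat.pos_of_ne_zero fun h0 => by
    rw [h0, mul_zero] at hs; exact absurd hs Nat.card_pos.ne'
  obtain ⟨M, hM⟩ := Subgroup.card_dvd_of_le (show nz H x ≤ H from inf_le_left)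
  refine ⟨M, s, h, by omega, hh2, ?_, ?_, hh, by rw [hs, mul_comm]⟩
  · refine Nat.eq_of_mul_eq_mul_left hz0 ?_
    rw [← hcard, hM, hs, hh]
    ring
  · refine Nat.eq_of_mul_eq_mul_right (Nat.card_pos (α := nz H x)) ?_
    rw [cls_card hx, Set.ncard_diff (scPart_le_cent H x) (Set.toFinite _),
      ← Nat.card_coe_set_eq, ← Nat.card_coe_set_eq]
    change Nat.card H * (Nat.card (cent H x) - Nat.card (scPart H)) = _
    rw [hsc, hh, hM, show z * h - z = z * (h - 1) by rw [Nat.mul_sub, mul_one]]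
    ring

theorem cls_self {H : Subgroup SL2} {y : SL2} (hy : y ∈ H) (hys : ¬ IsSc y) : y ∈ cls H y :=
  ⟨hy, hys, 1, H.one_mem, mem_cent.2 ⟨by simpa using hy, by simp⟩⟩

theorem card_map_cent [Finite F] {H : Subgroup SL2} (hH : Saturated H) {x : SL2} {h : ℕ}
    (hc : Nat.card (cent H x) = Nat.card (Subgroup.center SL2) * h) :
    Nat.card ((cent H x).map (PSL2Inv.pr (F := F))) = h := by
  rw [card_map (saturated_cent hH x)] at hc
  exact Nat.eq_of_mul_eq_mul_left Nat.card_pos hc

/-- Orders in the image. -/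
theorem pow_eq_one_of_cls [Finite F] {H : Subgroup SL2} (hH : Saturated H) {x y : SL2} {h : ℕ}
    (hc : Nat.card (cent H x) = Nat.card (Subgroup.center SL2) * h) (hy : y ∈ cls H x) :
    PSL2Inv.pr y ^ h = 1 := by
  obtain ⟨-, -, k, -, hk⟩ := hy
  have h1 : PSL2Inv.pr (k⁻¹ * y * k) ^ h = 1 := by
    rw [← card_map_cent hH hc]
    have := pow_card_eq_one' (x := (⟨_, Subgroup.mem_map_of_mem (PSL2Inv.pr (F := F)) hk⟩ :
      (cent H x).map (PSL2Inv.pr (F := F))))
    simpa using congrArg Subtype.val this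
  rw [show k⁻¹ * y * k = k⁻¹ * y * (k⁻¹)⁻¹ by rw [inv_inv], map_mul, map_mul, map_inv (PSL2Inv.pr) k⁻¹,
    conj_pow, conj_eq_one_iff] at h1
  exact h1

end Cfsg.Agent.Dickson
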