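/-
Subgroups of SL_2 with unipotent elements: normalisation and the triangular part.
-/
import Cfsg.Agent.Lib.Classical.DicksonBasics

set_option autoImplicit false
set_option linter.style.haveILetI false

namespace Cfsg.Agent.Dickson

open Matrix PStable

variable {F : Type*} [Field F]

local notation "SL2" => Matrix.SpecialLinearGroup (Fin 2) F
local notation "M2" => Matrix (Fin 2) (Fin 2) F
local notation "P" => Matrix.ProjectiveSpecialLinearGroup (Fin 2) F
local notation "prH" => PSL2Inv.pr (F := F)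

section sign

variable {p : ℕ} [hp : Fact p.Prime] [CharP F p]

/-- Up to sign, trace `±2` means unipotent. -/
theorem exists_sign {x : SL2} (hx : ¬ IsSc x) (ht : Matrix.trace (x : M2) ^ 2 = 4) :
    ∃ s : SL2, IsSc s ∧ s * s = 1 ∧ (s * x) ^ p = 1 ∧ s * x ≠ 1 := by
  obtain ⟨c, hc, hct⟩ : ∃ c : F, c * c = 1 ∧ Matrix.trace (x : M2) = 2 * c := by
    by_cases h2 : (2 : F) = 0
    · refine ⟨1, one_mul 1, ?_⟩
      have h0 : Matrix.trace (x : M2) = 0 :=
        pow_eq_zero_iff two_ne_zero |>.1 (by rw [ht]; linear_combination (2 : F) * h2)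
      rw [h0, h2, zero_mul]
    · exact ⟨Matrix.trace (x : M2) / 2, by field_simp; linear_combination ht, by field_simp⟩
  have h3 : ((x : M2) - c • (1 : M2)) ^ p = 0 := by
    obtain ⟨k, hk⟩ := Nat.exists_eq_add_of_le hp.out.two_le
    rw [hk, pow_add, sub_sq_of_trace hc hct, zero_mul]
  rw [sub_pow_char_of_commute _ ((Commute.one_right _).smul_right c), sub_eq_zero, smul_pow,
    one_pow] at h3
  let s : SL2 := ⟨c • (1 : M2), by simp [Matrix.det_smul, sq, hc]⟩
  have hs : IsSc s := ⟨c, rfl⟩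
  have hss : s * s = 1 := Subtype.ext (by
    show (c • (1 : M2)) * (c • (1 : M2)) = 1
    rw [smul_mul_smul_comm, mul_one, hc, one_smul])
  refine ⟨s, hs, hss, Subtype.ext ?_, fun h => hx ?_⟩
  · rw [Matrix.SpecialLinearGroup.coe_pow, Matrix.SpecialLinearGroup.coe_mul, Matrix.SpecialLinearGroup.coe_one]
    show ((c • (1 : M2)) * (x : M2)) ^ p = 1
    rw [smul_mul_assoc, one_mul, smul_pow, h3, smul_smul, ← mul_pow, hc, one_pow, one_smul]
  · have : x = s := by rw [← one_mul x, ← hss, mul_assoc, h, mul_one]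
    rwa [this]

theorem exists_of_dvd [Finite F] {H : Subgroup SL2} (hH : Saturated H)
    (hd : p ∣ Nat.card (H.map prH)) : ∃ u ∈ H, u ^ p = 1 ∧ u ≠ 1 := by
  have hd' : p ∣ Nat.card H := by rw [card_map hH]; exact dvd_mul_of_dvd_right hd _
  obtain ⟨u, hu⟩ := exists_prime_orderOf_dvd_card' p hd'
  refine ⟨u, u.2, ?_, ?_⟩
  · rw [← hu, ← Subgroup.orderOf_coe]; exact pow_orderOf_eq_one _
  · intro h
    rw [← Subgroup.orderOf_coe, h, orderOf_one] at hu
    exact hp.out.one_lt.ne hu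

end sign

theorem isSc_conjGL {g : GL (Fin 2) F} {x : SL2} : IsSc (conjGL g x) ↔ IsSc x := by
  have key : ∀ (g : GL (Fin 2) F) (x : SL2), IsSc x → IsSc (conjGL g x) := by
    rintro g x ⟨c, hc⟩
    exact ⟨c, by rw [conjGL_val, hc, Matrix.mul_smul, Matrix.smul_mul, mul_one, ← Units.val_mul,
      inv_mul_cancel, Units.val_one]⟩
  refine ⟨fun h => ?_, key g x⟩
  have := key g⁻¹ _ h
  rwa [← conjGL_comp, mul_inv_cancel, conjGL_one] at this

theorem saturated_map {H : Subgroup SL2} (hH : Saturated H) (g : GL (Fin 2) F) :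
    Saturated (H.map (conjGL g)) := fun x hx =>
  ⟨conjGL g⁻¹ x, hH _ (isSc_conjGL.2 hx), by rw [← conjGL_comp, inv_mul_cancel, conjGL_one]⟩

theorem exists_aut [Finite F] (g : GL (Fin 2) F) :
    ∃ φ : P ≃* P, ∀ H : Subgroup SL2, (H.map prH).map φ.toMonoidHom = (H.map (conjGL g)).map prH := by
  have hk : Subgroup.center SL2 ≤ ((prH).comp (conjGL g)).ker := fun x hx => by
    rw [center_eq] at hx
    exact pr_eq_one.2 (isSc_conjGL.2 hx.2)
  let φ : P →* P := QuotientGroup.lift _ ((prH).comp (conjGL g)) hk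
  have hφ : Function.Injective φ := by
    rw [injective_iff_map_eq_one]
    intro y hy
    obtain ⟨x, rfl⟩ := QuotientGroup.mk_surjective y
    exact pr_eq_one.2 (isSc_conjGL.1 (pr_eq_one.1 hy))
  refine ⟨MulEquiv.ofBijective φ ⟨hφ, Finite.injective_iff_surjective.1 hφ⟩, fun H => ?_⟩
  rw [Subgroup.map_map, Subgroup.map_map]
  rfl

theorem map_equiv [Finite F] (H : Subgroup SL2) (g : GL (Fin 2) F) :
    Nonempty (H.map prH ≃* (H.map (conjGL g)).map prH) := by
  obtain ⟨φ, hφ⟩ := exists_aut g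
  exact ⟨((H.map prH).equivMapOfInjective φ.toMonoidHom φ.injective).trans (MulEquiv.subgroupCongr (hφ H))⟩

section normal

variable {p : ℕ} [hp : Fact p.Prime] [CharP F p]

/-- A conjugate contains the standard translation. -/
theorem exists_normalised [Finite F] {H : Subgroup SL2} (hH : Saturated H) {u : SL2} (hu : u ∈ H)
    (hup : u ^ p = 1) (hu1 : u ≠ 1) :
    ∃ H' : Subgroup SL2, Saturated H' ∧ (1 : F) ∈ addPart H' ∧ Nonempty (H.map prH ≃* H'.map prH) ∧
      (∃ g : GL (Fin 2) F, H' = H.map (conjGL g)) ∧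
      ∃ φ : P ≃* P, (H.map prH).map φ.toMonoidHom = H'.map prH := by
  obtain ⟨g, hg⟩ := exists_conj_upp hup hu1
  refine ⟨H.map (conjGL g), saturated_map hH g, ⟨u, hu, Subtype.ext ?_⟩, map_equiv H g, ⟨g, rfl⟩,
    (exists_aut g).imp fun φ h => h H⟩
  rw [conjGL_val, mul_assoc, hg, ← mul_assoc, ← Units.val_mul, inv_mul_cancel, Units.val_one, one_mul]

/-- The upper triangular subgroups normalise a Sylow subgroup. -/
theorem exists_sylow_normalizer [Finite F] {H : Subgroup SL2} (hB : ∀ x ∈ H, (x : M2) 1 0 = 0) :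
    ∃ S : Sylow p P, H.map prH ≤ Subgroup.normalizer ((S : Subgroup P) : Set P) := by
  classical
  set U := transPart (⊤ : Subgroup SL2)
  have hcardU : Nat.card U = Nat.card F := by
    rw [card_transPart]
    exact Nat.card_congr { toFun := Subtype.val, invFun := fun a => ⟨a, trivial⟩,
                           left_inv := fun _ => rfl, right_inv := fun _ => rfl }
  have hUp : IsPGroup p U := fun x => ⟨1, by
    obtain ⟨a, -, ha⟩ := x.2
    apply Subtype.ext
    rw [pow_one, SubmonoidClass.coe_pow, ha, upp_pow_char]; rfl⟩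
  have hidx : ¬ p ∣ U.index := by
    have h1 := U.card_mul_index
    rw [hcardU, SL2Inv.card_sl2] at h1
    haveI := Fintype.ofFinite F
    obtain ⟨n, -, hn⟩ := FiniteField.card F p
    rw [← Nat.card_eq_fintype_card] at hn
    have hq : p ∣ Nat.card F := hn ▸ dvd_pow_self p n.ne_zero
    have h2 : U.index = Nat.card F ^ 2 - 1 :=
      Nat.eq_of_mul_eq_mul_left Nat.card_pos (h1.trans (by
        rw [mul_assoc, ← one_pow (M := ℕ) 2, Nat.sq_sub_sq, one_pow, mul_comm (Nat.card F - 1)]))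
    rw [h2]
    intro h
    have h3 := Nat.dvd_sub (dvd_pow hq two_ne_zero) h
    rw [Nat.sub_sub_self (Nat.one_le_pow _ _ Nat.card_pos)] at h3
    exact hp.out.not_dvd_one h3
  have hi : ¬ p ∣ (U.map prH).index := fun h =>
    hidx (h.trans (U.index_map_dvd PSL2Inv.pr_surjective))
  refine ⟨(hUp.map prH).toSylow hi, ?_⟩
  rw [IsPGroup.toSylow_coe]
  rintro _ ⟨x, hx, rfl⟩
  refine Subgroup.le_normalizer_map prH ⟨x, ?_, rfl⟩
  refine Subgroup.mem_normalizer_fintype fun y hy => ?_
  obtain ⟨a, -, rfl⟩ := hy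
  exact ⟨(x : M2) 0 0 ^ 2 * a, trivial, borel_conj_upp (show x ∈ borel (⊤ : Subgroup SL2) from
    ⟨trivial, hB x hx⟩) a⟩

/-- The data of a subgroup containing the standard translation. -/
structure UniData (H : Subgroup SL2) where
  /-- size of the translations -/
  q : ℕ
  d : ℕ
  N : ℕ
  k : ℕ
  hq : 2 ≤ q
  hd : 1 ≤ d
  hdvd : d ∣ q - 1
  hqA : Nat.card (addPart H) = q
  hN : N = 1 + k * q
  hpts : (points H).ncard = k * q
  hcard : Nat.card (H.map prH) = N * (d * q)
  hborel : Nat.card (borel H) = Nat.card (Subgroup.center SL2) * (q * d)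
  hcu : Nat.card (cent H (upp 1)) = Nat.card (Subgroup.center SL2) * q
  hcls : (cls H (upp 1)).ncard = Nat.card (Subgroup.center SL2) * (N * (q - 1))
  hall : ∀ y ∈ H, ¬ IsSc y → Matrix.trace (y : M2) ^ 2 = 4 → y ∈ cls H (upp 1)

theorem card_cent_upp' [Finite F] {H : Subgroup SL2} (hH : Saturated H) :
    Nat.card (cent H (upp 1)) = Nat.card (Subgroup.center SL2) * Nat.card (addPart H) := by
  rw [← scPart_eq hH, ← Nat.card_prod]
  refine (Nat.card_eq_of_bijective (fun a : scPart H × addPart H =>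
    (⟨(a.1 : SL2) * upp (a.2 : F), mem_cent.2 ⟨H.mul_mem a.1.2.1 a.2.2, ?_⟩⟩ : cent H (upp 1)))
    ⟨?_, ?_⟩).symm
  · rw [mul_assoc, upp_mul, ← mul_assoc, ← a.1.2.2.commute (upp 1), mul_assoc, upp_mul, add_comm]
  · rintro ⟨s, a⟩ ⟨s', a'⟩ h
    have h1 : (s : SL2) * upp (a : F) = (s' : SL2) * upp (a' : F) := congrArg Subtype.val h
    have h2 : (s' : SL2)⁻¹ * s = upp (a' : F) * (upp (a : F))⁻¹ := by
      rw [eq_mul_inv_iff_mul_eq, mul_assoc, h1, inv_mul_cancel_left]
    have h3 : IsSc ((s' : SL2)⁻¹ * (s : SL2)) :=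
      ((scPart H).mul_mem ((scPart H).inv_mem s'.2) s.2).2
    rw [h2, upp_inv, upp_mul] at h3
    have h4 : (a' : F) + -a = 0 := by
      by_contra hne; exact not_isSc_upp hne h3
    have h5 : a' = a := Subtype.ext (add_neg_eq_zero.1 h4)
    subst h5
    exact Prod.ext (Subtype.ext (mul_right_cancel h1)) rfl
  · rintro ⟨x, hx⟩
    obtain ⟨hxH, hc, hdiag⟩ := mem_cent_upp_iff.1 hx
    have hd := det_one x
    rw [hc, mul_zero, sub_zero, ← hdiag] at hd
    set c := (x : M2) 0 0
    set b := (x : M2) 0 1 with hb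
    let s : SL2 := ⟨c • (1 : M2), by simp [Matrix.det_smul, sq, hd]⟩
    have hs : s ∈ scPart H := ⟨hH s ⟨c, rfl⟩, c, rfl⟩
    have hsx : s * x = upp (c * b) := by
      apply Subtype.ext
      show (c • (1 : M2)) * (x : M2) = _
      rw [upp_val]
      apply ext2 <;> simp [hc, ← hdiag, ← hb]
      all_goals exact hd
    have hss : s * s = 1 := Subtype.ext (by
      show (c • (1 : M2)) * (c • (1 : M2)) = 1
      rw [smul_mul_smul_comm, mul_one, hd, one_smul])
    refine ⟨(⟨s, hs⟩, ⟨c * b, show upp (c * b) ∈ H from hsx ▸ H.mul_mem hs.1 hxH⟩), Subtype.ext ?_⟩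
    show s * upp (c * b) = x
    rw [← hsx, ← mul_assoc, hss, one_mul]

theorem exists_uniData (p : ℕ) [hp : Fact p.Prime] [CharP F p] [Finite F] {H : Subgroup SL2} (hH : Saturated H) (hone : (1 : F) ∈ addPart H) :
    Nonempty (UniData H) := by
  classical
  set u : SL2 := upp 1
  have hu : ¬ IsSc u := not_isSc_upp one_ne_zero
  set q := Nat.card (addPart H) with hq
  set z := Nat.card (Subgroup.center SL2) with hz
  have hz0 : 0 < z := Nat.card_pos
  have hUp : IsPGroup p (transPart H) := fun x => ⟨1, by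
    obtain ⟨a, -, ha⟩ := x.2
    apply Subtype.ext
    rw [pow_one, SubmonoidClass.coe_pow, ha, upp_pow_char]; rfl⟩
  obtain ⟨n, hn⟩ := IsPGroup.iff_card.1 hUp
  rw [card_transPart, ← hq] at hn
  have hn0 : n ≠ 0 := fun h0 => by
    rw [h0, pow_zero, hq] at hn
    have := (Nat.card_eq_one_iff_unique.1 hn).1
    exact one_ne_zero (congrArg Subtype.val
      (Subsingleton.elim (⟨1, hone⟩ : addPart H) ⟨0, (addPart H).zero_mem⟩))
  have hq2 : 2 ≤ q := hn ▸ hp.out.two_le.trans (Nat.le_self_pow hn0 p)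
  have hpq : p ∣ q := hn ▸ dvd_pow_self p hn0
  have hcu : Nat.card (cent H u) = z * q := card_cent_upp' hH
  have hle : cent H u ≤ borel H := fun x hx =>
    ⟨(mem_cent_upp_iff.1 hx).1, (mem_cent_upp_iff.1 hx).2.1⟩
  obtain ⟨d, hd⟩ := Subgroup.card_dvd_of_le hle
  have hdvd := dvd_of_borel hone hd
  rw [hcu] at hd
  have hd0 : 0 < d := Nat.pos_of_ne_zero fun h0 => by
    rw [h0, mul_zero] at hd; exact Nat.card_pos.ne' hd
  obtain ⟨k, hk⟩ := card_dvd_points H
  rw [← hq] at hk
  set N := (points H).ncard + 1 with hN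
  have hNk : N = 1 + k * q := by rw [hN, hk]; ring
  have hH' : Nat.card H = N * (d * q) * z := by rw [card_cosets, hd, hN]; ring
  have hcard : Nat.card (H.map prH) = N * (d * q) :=
    Nat.eq_of_mul_eq_mul_left hz0 ((card_map hH).symm.trans (hH'.trans (mul_comm _ _)))
  have hpz : ¬ p ∣ z := by
    intro h
    rw [hz, card_center] at h
    haveI := Fintype.ofFinite F
    obtain ⟨m, -, hm⟩ := FiniteField.card F p
    rw [← Nat.card_eq_fintype_card] at hm
    have h1 : p ∣ Nat.card F - 1 := h.trans (Nat.gcd_dvd_right _ _)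
    have h2 := Nat.dvd_sub (hm ▸ dvd_pow_self p m.ne_zero : p ∣ Nat.card F) h1
    rw [Nat.sub_sub_self Nat.card_pos] at h2
    exact hp.out.not_dvd_one h2
  have hpn : ¬ p ∣ N * (d * z) := by
    intro h
    rcases (Nat.Prime.dvd_mul hp.out).1 h with h1 | h1
    · rw [hNk, Nat.dvd_add_left (dvd_mul_of_dvd_right hpq k)] at h1
      exact hp.out.not_dvd_one h1
    · rcases (Nat.Prime.dvd_mul hp.out).1 h1 with h2 | h2
      · have h3 : p ∣ q - 1 := h2.trans hdvd
        have h4 := Nat.dvd_sub hpq h3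
        rw [show q - (q - 1) = 1 by omega] at h4
        exact hp.out.not_dvd_one h4
      · exact hpz h2
  have hsyl : ∀ y ∈ H, y ^ p = 1 → ∃ h ∈ H, h⁻¹ * y * h ∈ transPart H := by
    intro y hy hyp
    set U' := (transPart H).subgroupOf H with hU'
    have hUle : transPart H ≤ H := by rintro _ ⟨a, ha, rfl⟩; exact ha
    have hP : IsPGroup p (Subgroup.zpowers (⟨y, hy⟩ : H)) := by
      rcases (Nat.dvd_prime hp.out).1 (orderOf_dvd_of_pow_eq_one (x := (⟨y, hy⟩ : H)) (n := p)
        (Subtype.ext (by simpa using hyp))) with hi | hi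
      · exact IsPGroup.of_card (n := 0) (by rw [Nat.card_zpowers, hi, pow_zero])
      · exact IsPGroup.of_card (n := 1) (by rw [Nat.card_zpowers, hi, pow_one])
    have hidx : Nat.card (H ⧸ U') = N * (d * z) := by
      have h1 := U'.card_eq_card_quotient_mul_card_subgroup
      rw [Nat.card_congr (Subgroup.subgroupOfEquivOfLe hUle).toEquiv, card_transPart, ← hq, hH'] at h1
      exact (Nat.eq_of_mul_eq_mul_right (show 0 < q by omega) (by linarith)).symm
    obtain ⟨c, hc⟩ := hP.nonempty_fixed_point_of_prime_not_dvd_card (α := H ⧸ U') (hidx ▸ hpn)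
    induction c using QuotientGroup.induction_on with
    | H h =>
      have := hc ⟨_, Subgroup.mem_zpowers _⟩
      change ((⟨y, hy⟩ * h : H) : H ⧸ U') = (h : H ⧸ U') at this
      rw [eq_comm, QuotientGroup.eq, Subgroup.mem_subgroupOf] at this
      exact ⟨h, h.2, by simpa [mul_assoc] using this⟩
  have htrans_cent : transPart H ≤ cent H u := by
    rintro _ ⟨a, ha, rfl⟩
    exact mem_cent.2 ⟨ha, by rw [upp_mul, upp_mul, add_comm]⟩
  refine ⟨⟨q, d, N, k, hq2, hd0, hdvd, rfl, hNk, by rw [hk, mul_comm], hcard, by rw [hd]; ring, hcu, ?_, ?_⟩⟩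
  · have h1 := cls_card (H := H) hu
    rw [nz_upp_eq_borel hone, hd, hH', Set.ncard_sdiff (scPart_le_cent H u) (Set.toFinite _),
      ← Nat.card_coe_set_eq, ← Nat.card_coe_set_eq] at h1
    change _ = N * (d * q) * z * (Nat.card (cent H u) - Nat.card (scPart H)) at h1
    rw [hcu, scPart_eq hH, ← hz, show z * q - z = z * (q - 1) by rw [Nat.mul_sub, mul_one]] at h1
    exact Nat.eq_of_mul_eq_mul_right (show 0 < z * q * d by positivity) (h1.trans (by ring))
  · intro y hy hys htr
    obtain ⟨s, hs, hss, hsy, -⟩ := exists_sign (p := p) hys htr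
    obtain ⟨h, hh, hmem⟩ := hsyl (s * y) (H.mul_mem (hH s hs) hy) hsy
    refine ⟨hy, hys, h, hh, ?_⟩
    have := (cent H u).mul_mem (scPart_le_cent H u ⟨hH s hs, hs⟩) (htrans_cent hmem)
    rwa [show s * (h⁻¹ * (s * y) * h) = h⁻¹ * y * h by
      rw [← mul_assoc h⁻¹ s y, ← hs.commute h⁻¹, ← mul_assoc, ← mul_assoc, ← mul_assoc, hss, one_mul]] at this

end normal

end Cfsg.Agent.Dickson
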