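/-
The subfield groups: when the translations have as many elements as there are finite points.
-/
import Cfsg.Agent.Lib.Classical.DicksonUnipotent
import Mathlib.FieldTheory.Finite.GaloisField

set_option autoImplicit false
set_option linter.style.haveILetI false

namespace Cfsg.Agent.Dickson

open Matrix PStable

variable {F : Type*} [Field F]

local notation "SL2" => Matrix.SpecialLinearGroup (Fin 2) F
local notation "M2" => Matrix (Fin 2) (Fin 2) F
local notation "prH" => PSL2Inv.pr (F := F)

/-- `G` sits in a conjugate of the projective linear group over the image of `f`. -/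
def SubfieldLike {K : Type*} [Field K] (f : K →+* F)
    (G : Subgroup (Matrix.ProjectiveSpecialLinearGroup (Fin 2) F)) : Prop :=
  ∃ g : Matrix.ProjGenLinGroup (Fin 2) F, ∀ x ∈ G,
    g * Matrix.ProjectiveSpecialLinearGroup.toPGL x * g⁻¹ ∈ (ProjGenLinGroup.map f).range

/-- Translate so that zero becomes a point. -/
theorem exists_translated [Finite F] {H : Subgroup SL2} (hH : Saturated H) (hone : (1 : F) ∈ addPart H)
    (hne : (points H).Nonempty) :
    ∃ H' : Subgroup SL2, Saturated H' ∧ (1 : F) ∈ addPart H' ∧ (0 : F) ∈ points H' ∧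
      Nonempty (H.map prH ≃* H'.map prH) ∧ addPart H' = addPart H ∧
      (points H').ncard = (points H).ncard ∧ Nat.card (borel H') = Nat.card (borel H) ∧
      ∃ g : GL (Fin 2) F, H' = H.map (conjGL g) := by
  obtain ⟨r, h, hh, h0, hr⟩ := hne
  let g : GL (Fin 2) F := Matrix.SpecialLinearGroup.toGL (upp r)
  have hconj : ∀ x : SL2, conjGL g x = upp (-r) * x * upp r := fun x => Subtype.ext (by
    show ((g⁻¹ : GL (Fin 2) F) : M2) * (x : M2) * (g : M2) = _
    simp only [g, ← map_inv, upp_inv]
    rfl)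
  have hiff : ∀ x : SL2, x ∈ H.map (conjGL g) ↔ upp r * x * upp (-r) ∈ H := fun x => by
    constructor
    · rintro ⟨y, hy, rfl⟩
      rw [hconj, ← mul_assoc, ← mul_assoc, upp_mul, add_neg_cancel, upp_zero, one_mul, mul_assoc, upp_mul,
        add_neg_cancel, upp_zero, mul_one]
      exact hy
    · intro hx
      refine ⟨_, hx, ?_⟩
      rw [hconj, ← mul_assoc, ← mul_assoc, upp_mul, neg_add_cancel, upp_zero, one_mul, mul_assoc, upp_mul,
        neg_add_cancel, upp_zero, mul_one]
  have hA : addPart (H.map (conjGL g)) = addPart H := AddSubgroup.ext fun a => by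
    show upp a ∈ H.map (conjGL g) ↔ upp a ∈ H
    rw [hiff, upp_mul, upp_mul, show r + a + -r = a by ring]
  have hB : Nat.card (borel (H.map (conjGL g))) = Nat.card (borel H) := by
    have e : borel (H.map (conjGL g)) = (borel H).map (conjGL g) := by
      ext x
      constructor
      · rintro ⟨⟨y, hy, rfl⟩, h10⟩
        refine ⟨y, ⟨hy, ?_⟩, rfl⟩
        rw [hconj] at h10
        simp only [Matrix.SpecialLinearGroup.coe_mul, Matrix.mul_apply, Fin.sum_univ_two] at h10
        simpa [upp_val] using h10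
      · rintro ⟨y, ⟨hy, h10⟩, rfl⟩
        refine ⟨⟨y, hy, rfl⟩, ?_⟩
        rw [hconj]
        simp only [Matrix.SpecialLinearGroup.coe_mul, Matrix.mul_apply, Fin.sum_univ_two]
        simp [upp_val, h10]
    rw [e, Subgroup.card_map_of_injective (conjGL_injective g)]
  refine ⟨H.map (conjGL g), saturated_map hH g, ⟨upp 1, hone, Subtype.ext ?_⟩,
    ⟨conjGL g h, Subgroup.mem_map_of_mem _ hh, ?_, ?_⟩, map_equiv H g, hA, ?_, hB, g, rfl⟩
  rotate_left 3
  · have h1 := card_cosets (H.map (conjGL g))
    rw [Subgroup.card_map_of_injective (conjGL_injective g), card_cosets H, hB] at h1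
    exact (Nat.succ_injective (Nat.eq_of_mul_eq_mul_right Nat.card_pos h1)).symm
  · show ((g⁻¹ : GL (Fin 2) F) : M2) * (upp 1 : SL2).1 * (g : M2) = _
    simp only [g, ← map_inv, upp_inv]
    show (upp (-r) : SL2).1 * (upp 1 : SL2).1 * (upp r : SL2).1 = _
    rw [← Matrix.SpecialLinearGroup.coe_mul, ← Matrix.SpecialLinearGroup.coe_mul, upp_mul, upp_mul,
      show -r + 1 + r = 1 by ring]
  · show (((g⁻¹ : GL (Fin 2) F) : M2) * (h : M2) * (g : M2)) 1 0 ≠ 0
    simp only [g, ← map_inv, upp_inv]
    show ((upp (-r) : SL2).1 * (h : M2) * (upp r : SL2).1) 1 0 ≠ 0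
    simp only [Matrix.mul_apply, Fin.sum_univ_two]
    simpa [upp_val] using h0
  · show (((g⁻¹ : GL (Fin 2) F) : M2) * (h : M2) * (g : M2)) 0 0 /
      (((g⁻¹ : GL (Fin 2) F) : M2) * (h : M2) * (g : M2)) 1 0 = 0
    simp only [g, ← map_inv, upp_inv]
    show ((upp (-r) : SL2).1 * (h : M2) * (upp r : SL2).1) 0 0 /
      ((upp (-r) : SL2).1 * (h : M2) * (upp r : SL2).1) 1 0 = 0
    rw [div_eq_iff h0] at hr
    simp only [Matrix.mul_apply, Fin.sum_univ_two]
    simp [upp_val, div_eq_zero_iff, hr]

variable [Finite F]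

/-- The stabiliser of an additive subgroup, a subfield. -/
def stabField (A : AddSubgroup F) : Subfield F where
  carrier := {c | ∀ a ∈ A, c * a ∈ A}
  zero_mem' a _ := by simp
  one_mem' a ha := by simpa using ha
  add_mem' hc hd a ha := by rw [add_mul]; exact A.add_mem (hc a ha) (hd a ha)
  neg_mem' hc a ha := by rw [neg_mul]; exact A.neg_mem (hc a ha)
  mul_mem' hc hd a ha := by rw [mul_assoc]; exact hc _ (hd a ha)
  inv_mem' c hc a ha := by
    rcases eq_or_ne c 0 with rfl | hc0
    · simp
    obtain ⟨b, hb⟩ := (Finite.injective_iff_surjective (f := fun x : A => (⟨c * x, hc x x.2⟩ : A))).1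
      (fun x y h => Subtype.ext (mul_left_cancel₀ hc0 (congrArg Subtype.val h))) ⟨a, ha⟩
    have hb' : c * (b : F) = a := congrArg Subtype.val hb
    rw [← hb', inv_mul_cancel_left₀ hc0]
    exact b.2

theorem exists_field (p : ℕ) [Fact p.Prime] [CharP F p] (L : Subfield F) :
    ∃ (K : Type) (_ : Field K) (_ : Fintype K) (m : ℕ) (f : K →+* F),
      Fintype.card K ^ m = Nat.card F ∧ Fintype.card K = Nat.card L ∧ ∀ x, x ∈ L ↔ x ∈ Set.range f := by
  classical
  haveI := Fintype.ofFinite L
  haveI : CharP L p := (RingHom.charP_iff L.subtype L.subtype_injective p).2 inferInstance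
  obtain ⟨n, -, hn⟩ := FiniteField.card L p
  let K := GaloisField p n
  haveI := Fintype.ofFinite K
  have hK : Fintype.card K = Fintype.card L := by
    rw [hn, ← Nat.card_eq_fintype_card, GaloisField.card p n n.ne_zero]
  let e : K ≃+* L := FiniteField.ringEquivOfCardEq hK
  refine ⟨K, inferInstance, inferInstance, Module.finrank L F, L.subtype.comp e.toRingHom, ?_, ?_, fun x => ?_⟩
  · rw [hK, ← Nat.card_eq_fintype_card]
    exact (Module.natCard_eq_pow_finrank (K := L) (V := F)).symm
  · rw [hK, Nat.card_eq_fintype_card]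
  · constructor
    · intro hx
      exact ⟨e.symm ⟨x, hx⟩, by simp⟩
    · rintro ⟨y, rfl⟩
      exact (e y).2

omit [Finite F] in
theorem card_psl_aux {K : Type*} [Field K] [Finite K] :
    Nat.card (Matrix.ProjGenLinGroup (Fin 2) K) ≤
      2 * Nat.card (Matrix.ProjectiveSpecialLinearGroup (Fin 2) K) := by
  rw [ClassicalSL.card_pgl,
    ← Subgroup.card_mul_index (Subgroup.center (SpecialLinearGroup (Fin 2) K)), ClassicalSL.card_center_sl]
  exact Nat.mul_le_mul_right _ (Nat.gcd_le_left _ (by simp))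

theorem recognise (p : ℕ) [Fact p.Prime] [CharP F p] {H : Subgroup SL2} (hH : Saturated H)
    (hone : (1 : F) ∈ addPart H) (hzero : (0 : F) ∈ points H)
    (hpts : (points H).ncard = Nat.card (addPart H))
    (hbig : ∀ d, Nat.card (borel H) = Nat.card (cent H (upp 1)) * d → Nat.card (addPart H) - 1 ≤ 2 * d) :
    ∃ (K : Type) (_ : Field K) (_ : Fintype K) (m : ℕ), Fintype.card K ^ m = Nat.card F ∧
      (∃ f : K →+* F, ∀ x ∈ H, Matrix.SpecialLinearGroup.toPGL x ∈ (ProjGenLinGroup.map f).range) ∧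
      (Nonempty (H.map prH ≃* Matrix.ProjectiveSpecialLinearGroup (Fin 2) K) ∨
        Nonempty (H.map prH ≃* Matrix.ProjGenLinGroup (Fin 2) K)) := by
  classical
  set A := addPart H with hA
  set L := stabField A with hL
  have hu : ∀ x : borel H, ((x : SL2) : M2) 0 0 ≠ 0 := fun x h => by
    have := det_one (x : SL2)
    rw [h, x.2.2, zero_mul, mul_zero, sub_zero] at this
    exact zero_ne_one this
  have hsqL : ∀ x ∈ borel H, (x : M2) 0 0 ^ 2 ∈ L := fun x hx a ha => by
    show upp _ ∈ H
    rw [← borel_conj_upp hx]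
    exact H.mul_mem (H.mul_mem hx.1 ha) (H.inv_mem hx.1)
  have hLA : ∀ c ∈ L, c ∈ A := fun c hc => by simpa using hc 1 hone
  have hpts' : points H = (A : Set F) := by
    refine (Set.eq_of_subset_of_ncard_le (fun a ha => ?_) ?_ (Set.toFinite _)).symm
    · simpa using points_add hzero ha
    · rw [hpts, ← Nat.card_coe_set_eq]
      exact le_rfl
  -- the multipliers
  let χ : borel H →* Lˣ :=
    { toFun := fun x => Units.mk0 ⟨((x : SL2) : M2) 0 0 ^ 2, hsqL x x.2⟩
        (fun h => pow_ne_zero 2 (hu x) (congrArg Subtype.val h))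
      map_one' := Units.ext (Subtype.ext (by simp))
      map_mul' := fun x y => Units.ext (Subtype.ext (by
        simp [Matrix.mul_apply, Fin.sum_univ_two, y.2.2, mul_pow])) }
  have hker : χ.ker = (cent H (upp 1)).subgroupOf (borel H) := by
    ext x
    rw [MonoidHom.mem_ker, Subgroup.mem_subgroupOf, mem_cent_upp_iff, Units.ext_iff, Subtype.ext_iff]
    simp only [χ, MonoidHom.coe_mk, OneHom.coe_mk, Units.val_mk0, Units.val_one, OneMemClass.coe_one]
    have h10 := x.2.2
    have hd := det_one (x : SL2)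
    rw [h10, mul_zero, sub_zero] at hd
    refine ⟨fun h => ⟨x.2.1, h10, ?_⟩, fun h => ?_⟩
    · refine mul_left_cancel₀ (hu x) ?_
      rw [hd, ← pow_two, h]
    · rw [← h.2.2] at hd
      rw [pow_two, hd]
  have hle : cent H (upp 1) ≤ borel H := fun x hx =>
    ⟨(mem_cent_upp_iff.1 hx).1, (mem_cent_upp_iff.1 hx).2.1⟩
  have hLbig : Nat.card A - 1 ≤ 2 * (Nat.card L - 1) := by
    have h1 := χ.ker.card_mul_index
    rw [Subgroup.index_ker, hker, Nat.card_congr (Subgroup.subgroupOfEquivOfLe hle).toEquiv] at h1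
    refine (hbig _ h1.symm).trans (Nat.mul_le_mul_left 2 ?_)
    rw [← Nat.card_units]
    exact Subgroup.card_le_card_group _
  -- so the translations form a subfield
  have hAL : (A : Set F) = L := by
    let V : Submodule L F :=
      { carrier := A, add_mem' := A.add_mem, zero_mem' := A.zero_mem,
        smul_mem' := fun c a ha => c.2 a ha }
    have h1 : Nat.card A = Nat.card L ^ Module.finrank L V := Module.natCard_eq_pow_finrank (K := L) (V := V)
    have h2 : 1 < Nat.card L := Finite.one_lt_card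
    have h3 : Nat.card L ≤ Nat.card A :=
      Nat.card_le_card_of_injective (fun c => (⟨c, hLA c c.2⟩ : A)) fun a b h =>
        Subtype.ext (congrArg Subtype.val h :)
    have h4 : Nat.card A ≤ Nat.card L := by
      rcases Nat.lt_or_ge (Module.finrank L V) 2 with h | h
      · rw [h1]; calc _ ≤ Nat.card L ^ 1 := Nat.pow_le_pow_right (by omega) (by omega)
          _ = _ := pow_one _
      · exfalso
        have h5 : Nat.card L ^ 2 ≤ Nat.card A := h1 ▸ Nat.pow_le_pow_right (by omega) h
        obtain ⟨c, hc⟩ := Nat.exists_eq_add_of_le h2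
        rw [hc] at hLbig h5
        have : 2 * ((1 : ℕ).succ + c - 1) + 2 ≤ (1 : ℕ).succ + c + ((1 : ℕ).succ + c) := by omega
        nlinarith [hLbig, h5, Nat.sub_add_cancel (show 1 ≤ Nat.card A from Nat.card_pos)]
    refine (Set.eq_of_subset_of_ncard_le hLA ?_ (Set.toFinite _)).symm
    rw [← Nat.card_coe_set_eq, ← Nat.card_coe_set_eq]
    exact h4
  obtain ⟨K, _, _, m, f, hm, -, hrange⟩ := exists_field p L
  refine ⟨K, inferInstance, inferInstance, m, hm, ?_⟩
  have hAf : ∀ a, a ∈ A → ∃ b, f b = a := fun a ha => (hrange a).1 (show a ∈ L from by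
    rw [← SetLike.mem_coe, ← hAL]; exact ha)
  have hfA : ∀ b, f b ∈ A := fun b => hLA _ ((hrange _).2 ⟨b, rfl⟩)
  -- an element exchanging zero and infinity
  obtain ⟨h, hh, h10, h00⟩ := hzero
  rw [div_eq_zero_iff, or_iff_left h10] at h00
  have hinv : (-((h : M2) 1 1) / (h : M2) 1 0) ∈ A := by
    rw [← SetLike.mem_coe, ← hpts']
    refine ⟨h⁻¹, H.inv_mem hh, ?_, ?_⟩
    · simp [Matrix.SpecialLinearGroup.coe_inv, Matrix.adjugate_fin_two, h10]
    · simp [Matrix.SpecialLinearGroup.coe_inv, Matrix.adjugate_fin_two]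
      field_simp
  set w : SL2 := h * upp (-((h : M2) 1 1) / (h : M2) 1 0) with hw
  have hwH : w ∈ H := H.mul_mem hh hinv
  have w00 : (w : M2) 0 0 = 0 := by simp [hw, upp_val, Matrix.mul_apply, Fin.sum_univ_two, h00]
  have w11 : (w : M2) 1 1 = 0 := by
    simp [hw, upp_val, Matrix.mul_apply, Fin.sum_univ_two]
    field_simp
    ring
  have hdw := det_one w
  rw [w00, w11, zero_mul, zero_sub] at hdw
  set b := (w : M2) 0 1 with hb
  set e := (w : M2) 1 0 with he
  have hwval : (w : M2) = !![0, b; e, 0] :=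
    ext2 (by simp [w00]) (by simp [hb]) (by simp [he]) (by simp [w11])
  have he0 : e ≠ 0 := fun h0 => by rw [h0, mul_zero, neg_zero] at hdw; exact zero_ne_one hdw
  have hb0 : b ≠ 0 := fun h0 => by rw [h0, zero_mul, neg_zero] at hdw; exact zero_ne_one hdw
  have hc : b / e ∈ A := by
    rw [← SetLike.mem_coe, ← hpts']
    refine ⟨w * upp 1 * w, H.mul_mem (H.mul_mem hwH hone) hwH, ?_, ?_⟩
    · simp [hwval, upp_val, Matrix.mul_apply, Fin.sum_univ_two, he0]
    · simp [hwval, upp_val, Matrix.mul_apply, Fin.sum_univ_two]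
      field_simp
  obtain ⟨c, hcb⟩ := hAf _ hc
  have hc0 : c ≠ 0 := fun h0 => by
    rw [h0, map_zero] at hcb
    exact div_ne_zero hb0 he0 hcb.symm
  let φ : Matrix.ProjGenLinGroup (Fin 2) K →* Matrix.ProjGenLinGroup (Fin 2) F := ProjGenLinGroup.map f
  have hφ : Function.Injective φ := by
    rw [injective_iff_map_eq_one]
    intro x hx
    induction x using ProjGenLinGroup.induction_on with | mk g =>
    rw [ProjGenLinGroup.map_mk, ProjGenLinGroup.mk_eq_one, GeneralLinearGroup.center_eq_range_scalar] at hx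
    obtain ⟨s, hs⟩ := hx
    have hent : ∀ i j, f (g.1 i j) = if i = j then (s : F) else 0 := fun i j => by
      have := congrArg (fun M : GL (Fin 2) F => M.1 i j) hs
      simp [GeneralLinearGroup.coe_scalar, Matrix.diagonal_apply] at this
      exact this.symm
    have h01 : g.1 0 1 = 0 := f.injective (by rw [hent, map_zero]; simp)
    have h10' : g.1 1 0 = 0 := f.injective (by rw [hent, map_zero]; simp)
    have h11 : g.1 1 1 = g.1 0 0 := f.injective (by rw [hent, hent]; simp)
    have h0 : g.1 0 0 ≠ 0 := fun h0 => GeneralLinearGroup.det_ne_zero g (by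
      rw [Matrix.det_fin_two, h01, h0]; ring)
    rw [ProjGenLinGroup.mk_eq_one, GeneralLinearGroup.center_eq_range_scalar]
    refine ⟨Units.mk0 _ h0, Units.ext ?_⟩
    rw [GeneralLinearGroup.coe_scalar]
    ext i j
    fin_cases i <;> fin_cases j <;> simp [h01, h10', h11]
  let ι : SL2 →* Matrix.ProjGenLinGroup (Fin 2) F := Matrix.SpecialLinearGroup.toPGL
  have himg : ∀ x : SL2, (∃ (M : Matrix (Fin 2) (Fin 2) K) (s : F), s ≠ 0 ∧ M.map f = s • (x : M2)) →
      ι x ∈ φ.range := by
    rintro x ⟨M, s, hs, hM⟩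
    have hdet : M.det ≠ 0 := fun h0 => by
      have h1 := congrArg Matrix.det hM
      rw [show (M.map f).det = f M.det from (f.map_det M).symm, h0, map_zero, Matrix.det_smul, x.2, mul_one] at h1
      exact pow_ne_zero _ hs h1.symm
    refine ⟨ProjGenLinGroup.mk (GeneralLinearGroup.mkOfDetNeZero M hdet), ?_⟩
    rw [ProjGenLinGroup.map_mk]
    refine ((ProjGenLinGroup.mk_eq_mk_iff).2 ⟨Units.mk0 s hs, Units.ext ?_⟩).symm
    rw [Units.val_mul, GeneralLinearGroup.coe_scalar]
    show (x : M2) * Matrix.scalar (Fin 2) s = M.map f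
    rw [hM, ← Matrix.scalar_commute s (fun r => Commute.all s r), Matrix.scalar_apply,
      ← Matrix.smul_eq_diagonal_mul]
  have hupp : ∀ a ∈ A, ι (upp a) ∈ φ.range := fun a ha => by
    obtain ⟨a', ha'⟩ := hAf a ha
    exact himg _ ⟨!![1, a'; 0, 1], 1, one_ne_zero, by ext i j; fin_cases i <;> fin_cases j <;> simp [ha', upp_val]⟩
  have hwι : ι w ∈ φ.range := himg _ ⟨!![0, c; 1, 0], e⁻¹, inv_ne_zero he0, by
    ext i j
    fin_cases i <;> fin_cases j <;> simp [hwval, hcb, he0, div_eq_inv_mul]⟩
  have hbor : ∀ x ∈ borel H, ι x ∈ φ.range := fun x hx => by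
    obtain ⟨s, hs⟩ := (hrange _).1 (hsqL x hx)
    have hd := det_one x
    rw [hx.2, mul_zero, sub_zero] at hd
    have ha0 : (x : M2) 0 0 ≠ 0 := fun h0 => by rw [h0, zero_mul] at hd; exact zero_ne_one hd
    have hab : (x : M2) 0 0 * (x : M2) 0 1 ∈ A := by
      rw [← SetLike.mem_coe, ← hpts']
      have hd11 : (x : M2) 1 1 ≠ 0 := fun h0 => by rw [h0, mul_zero] at hd; exact zero_ne_one hd
      refine ⟨x * w, H.mul_mem hx.1 hwH, ?_, ?_⟩
      · simp [hwval, Matrix.mul_apply, Fin.sum_univ_two, hx.2, he0, hd11]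
      · simp [hwval, Matrix.mul_apply, Fin.sum_univ_two, hx.2]
        field_simp
        linear_combination (-(x : M2) 0 1) * hd
    obtain ⟨t, ht⟩ := hAf _ hab
    refine himg _ ⟨!![s, t; 0, 1], (x : M2) 0 0, ha0, ?_⟩
    ext i j
    fin_cases i <;> fin_cases j <;> simp [hs, ht, hx.2, hd, sq]
  have hmem : ∀ x ∈ H, ι x ∈ φ.range := by
    intro x hx
    by_cases hx10 : (x : M2) 1 0 = 0
    · exact hbor x ⟨hx, hx10⟩
    have hr : (x : M2) 0 0 / (x : M2) 1 0 ∈ A := by
      rw [← SetLike.mem_coe, ← hpts']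
      exact ⟨x, hx, hx10, rfl⟩
    set r := (x : M2) 0 0 / (x : M2) 1 0 with hr'
    have hy : w⁻¹ * (upp (-r) * x) ∈ borel H := by
      refine ⟨H.mul_mem (H.inv_mem hwH) (H.mul_mem (A.neg_mem hr) hx), ?_⟩
      simp only [Matrix.SpecialLinearGroup.coe_mul, Matrix.mul_apply, Fin.sum_univ_two]
      simp [Matrix.SpecialLinearGroup.coe_inv, Matrix.adjugate_fin_two, hwval, upp_val, hr']
      right
      field_simp
      ring
    have e1 : x = upp r * (w * (w⁻¹ * (upp (-r) * x))) := by
      rw [mul_inv_cancel_left, ← mul_assoc, upp_mul, add_neg_cancel, upp_zero, one_mul]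
    rw [e1, map_mul, map_mul]
    exact mul_mem (hupp r hr) (mul_mem hwι (hbor _ hy))
  let ιP : Matrix.ProjectiveSpecialLinearGroup (Fin 2) F →* Matrix.ProjGenLinGroup (Fin 2) F :=
    Matrix.ProjectiveSpecialLinearGroup.toPGL
  have hιP : ιP.comp prH = ι := rfl
  haveI : Finite (Matrix.ProjGenLinGroup (Fin 2) K) := Finite.of_surjective _ ProjGenLinGroup.mk_surjective
  set J : Subgroup (Matrix.ProjGenLinGroup (Fin 2) K) := ((H.map prH).map ιP).comap φ with hJ
  have hJmap : J.map φ = (H.map prH).map ιP := Subgroup.map_comap_eq_self (by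
    rw [Subgroup.map_map, hιP]
    rintro _ ⟨x, hx, rfl⟩
    exact hmem x hx)
  have eJ : Nonempty (H.map prH ≃* J) :=
    ⟨((Subgroup.equivMapOfInjective _ ιP Matrix.ProjectiveSpecialLinearGroup.toPGL_injective).trans
      (MulEquiv.subgroupCongr hJmap.symm)).trans (J.equivMapOfInjective φ hφ).symm⟩
  obtain ⟨eJ⟩ := eJ
  have hlowH : ∀ k : K, low (f k) ∈ H := fun k => by
    have hk : f (k * c) ∈ A := hfA _
    have e1 : w * upp (f (k * c)) * w⁻¹ = low (f k) := by
      rw [mul_inv_eq_iff_eq_mul]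
      apply Subtype.ext
      simp only [Matrix.SpecialLinearGroup.coe_mul, hwval, upp_val, low_val]
      apply ext2 <;> simp [Matrix.mul_apply, Fin.sum_univ_two, hcb]
      field_simp
    rw [← e1]
    exact H.mul_mem (H.mul_mem hwH hk) (H.inv_mem hwH)
  set S := (Matrix.ProjectiveSpecialLinearGroup.toPGL (n := Fin 2) (R := K)).range with hS
  have hSJ : S ≤ J := by
    rintro _ ⟨x, rfl⟩
    obtain ⟨M, rfl⟩ := QuotientGroup.mk_surjective x
    have hM : M ∈ Subgroup.closure (ClassicalSL.elemTransvections (Fin 2) K) := by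
      rw [ClassicalSL.closure_elemTransvections]; trivial
    have hgoal : Matrix.SpecialLinearGroup.map f M ∈ H := by
      refine Subgroup.closure_induction (p := fun M _ => Matrix.SpecialLinearGroup.map f M ∈ H) ?_
        (by simp) (fun a b _ _ ha hb => by rw [map_mul]; exact mul_mem ha hb)
        (fun a _ ha => by rw [map_inv]; exact inv_mem ha) hM
      rintro _ ⟨i, j, hij, k, rfl⟩
      fin_cases i <;> fin_cases j
      · exact absurd rfl hij
      · convert (show upp (f k) ∈ H from hfA k) using 1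
        apply Subtype.ext
        ext a b
        fin_cases a <;> fin_cases b <;>
          simp [Matrix.SpecialLinearGroup.transvection_coe, upp_val, Matrix.single]
      · convert hlowH k using 1
        apply Subtype.ext
        ext a b
        fin_cases a <;> fin_cases b <;>
          simp [Matrix.SpecialLinearGroup.transvection_coe, low_val, Matrix.single]
      · exact absurd rfl hij
    refine ⟨prH (Matrix.SpecialLinearGroup.map f M), Subgroup.mem_map_of_mem _ hgoal, ?_⟩
    show ProjGenLinGroup.mk (Matrix.SpecialLinearGroup.toGL _) = φ (ProjGenLinGroup.mk _)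
    rw [ProjGenLinGroup.map_mk]
    congr 1
    exact Units.ext rfl
  have hScard : Nat.card S = Nat.card (Matrix.ProjectiveSpecialLinearGroup (Fin 2) K) :=
    (Nat.card_congr (MonoidHom.ofInjective Matrix.ProjectiveSpecialLinearGroup.toPGL_injective).toEquiv).symm
  refine ⟨⟨f, hmem⟩, ?_⟩
  by_cases hJtop : J = ⊤
  · exact Or.inr ⟨eJ.trans ((MulEquiv.subgroupCongr hJtop).trans Subgroup.topEquiv)⟩
  left
  have hJS : J = S := by
    have hidx : S.index ≤ 2 := by
      have h1 := S.card_mul_index
      rw [hScard] at h1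
      have h2 := card_psl_aux (K := K)
      rw [← h1, mul_comm 2] at h2
      exact Nat.le_of_mul_le_mul_left h2 Nat.card_pos
    have h2 : J.index ≠ 1 := fun h => hJtop (Subgroup.index_eq_one.1 h)
    have h3 := Subgroup.relIndex_mul_index hSJ
    have h4 : 0 < J.index := Nat.pos_of_ne_zero Subgroup.index_ne_zero_of_finite
    have h5 : S.relIndex J = 1 := by
      by_contra hne
      have h6 : 0 < S.relIndex J := Nat.pos_of_ne_zero fun h0 => by
        rw [h0, zero_mul] at h3
        exact Subgroup.index_ne_zero_of_finite h3.symm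
      have : 2 * 2 ≤ S.relIndex J * J.index := Nat.mul_le_mul (by omega) (by omega)
      omega
    exact le_antisymm (Subgroup.relIndex_eq_one.1 h5) hSJ
  exact ⟨eJ.trans ((MulEquiv.subgroupCongr hJS).trans
    (MonoidHom.ofInjective Matrix.ProjectiveSpecialLinearGroup.toPGL_injective).symm)⟩

end Cfsg.Agent.Dickson
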