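/-
The small cases: dihedral, A_4, S_4, A_5.
-/
import Cfsg.Agent.Lib.Classical.DicksonBasics
import Cfsg.Agent.Lib.Classical.ProjLine
import Cfsg.Agent.Lib.Recog.OrderSixty
import Cfsg.Agent.Lib.TwoGroups.Lifts
import Cfsg.Agent.S1012

set_option autoImplicit false
set_option linter.style.haveILetI false

namespace Cfsg.Agent.Dickson

open Matrix PStable

theorem equiv_A4 {G : Type*} [Group G] [Finite G] (h : Nat.card G = 12) (h6 : ∀ g : G, orderOf g ≠ 6) :
    Nonempty (G ≃* alternatingGroup (Fin 4)) := by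
  haveI : Fact (Nat.Prime 3) := ⟨Nat.prime_three⟩
  haveI : Fact (Nat.Prime 2) := ⟨Nat.prime_two⟩
  have hk : Nat.card G = 3 ^ 1 * 4 := by rw [h]; norm_num
  have hn := Small.sylow_number_mem hk (by norm_num)
  rw [show (Nat.divisors 4).filter (fun d => d % 3 = 1) = {1, 4} by decide +kernel] at hn
  simp only [Finset.mem_insert, Finset.mem_singleton] at hn
  obtain ⟨S⟩ : Nonempty (Sylow 3 G) := inferInstance
  have hS : Nat.card (S : Subgroup G) = 3 := (Small.sylow_card hk (by norm_num) S).trans (pow_one 3)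
  set N := Subgroup.normalizer ((S : Subgroup G) : Set G) with hNdef
  have hN : Nat.card N * Nat.card (Sylow 3 G) = 12 := by rw [Small.card_normalizer_mul S, h]
  have hne1 : Nat.card (Sylow 3 G) ≠ 1 := by
    intro h1
    rw [h1, mul_one] at hN
    obtain ⟨v, hv⟩ := exists_prime_orderOf_dvd_card' (G := (S : Subgroup G)) 3 (by rw [hS])
    have hvG : orderOf (v : G) = 3 := by rw [Subgroup.orderOf_coe, hv]
    have hd := Small.card_normalizer_dvd (S : Subgroup G) hS
    rw [← hNdef, hN] at hd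
    have h2C : 2 ∣ Nat.card (Subgroup.centralizer ((S : Subgroup G) : Set G)) := by omega
    obtain ⟨w, hw⟩ := exists_prime_orderOf_dvd_card' 2 h2C
    have hc : Commute (w : G) v := (Subgroup.mem_centralizer_iff.mp w.2 v v.2).symm
    refine h6 ((w : G) * v) ?_
    rw [hc.orderOf_mul_eq_mul_orderOf_of_coprime (by rw [Subgroup.orderOf_coe, hw, hvG]; norm_num),
      Subgroup.orderOf_coe, hw, hvG]
  have hn4 : Nat.card (Sylow 3 G) = 4 := hn.resolve_left hne1
  rw [hn4] at hN
  have hNS : N = (S : Subgroup G) :=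
    (Subgroup.eq_of_le_of_card_ge Subgroup.le_normalizer (by rw [hS]; show Nat.card N ≤ 3; omega)).symm
  have hcore : N.normalCore = ⊥ := by
    have hd := Subgroup.card_dvd_of_le (Subgroup.normalCore_le N)
    rw [show Nat.card N = 3 by omega] at hd
    rcases (Nat.dvd_prime Nat.prime_three).1 hd with h1 | h1
    · exact Subgroup.eq_bot_of_card_eq _ h1
    · exfalso
      have he : N.normalCore = N := Subgroup.eq_of_le_of_card_ge (Subgroup.normalCore_le N) (by omega)
      have hNn : N.Normal := he ▸ Subgroup.normalCore_normal N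
      have : N = ⊤ := by
        rw [hNdef, Subgroup.normalizer_eq_top_iff]
        exact hNS ▸ hNn
      rw [this, Subgroup.card_top, h] at hN
      omega
  have hinj : Function.Injective (MulAction.toPermHom G (G ⧸ N)) := by
    rw [← MonoidHom.ker_eq_bot_iff, ← Subgroup.normalCore_eq_ker]; exact hcore
  refine ProjLine.equiv_alternating (α := G ⧸ N) ?_ _ hinj (by rw [h]; rfl)
  rw [← Subgroup.index, ← Small.card_eq_index S, hn4]

variable {F : Type*} [Field F] [Finite F]

local notation "SL2" => Matrix.SpecialLinearGroup (Fin 2) F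
local notation "M2" => Matrix (Fin 2) (Fin 2) F
local notation "P" => Matrix.ProjectiveSpecialLinearGroup (Fin 2) F
local notation "prH" => PSL2Inv.pr (F := F)

/-- An index two self-centralising cyclic subgroup makes the image dihedral. -/
theorem dihedral_of_class {H : Subgroup SL2} (hH : Saturated H) {x : SL2} (hxH : x ∈ H) (hx : ¬ IsSc x)
    (hτ : Matrix.trace (x : M2) ^ 2 ≠ 4) {h : ℕ}
    (hc : Nat.card (cent H x) = Nat.card (Subgroup.center SL2) * h)
    (hnz : Nat.card (nz H x) = 2 * Nat.card (cent H x)) (hg : Nat.card (H.map prH) = 2 * h) :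
    Nonempty (H.map prH ≃* DihedralGroup h) := by
  have hnzH : nz H x = H := Subgroup.eq_of_le_of_card_ge inf_le_left (by
    rw [hnz, hc, card_map hH, hg]
    exact le_of_eq (by ring))
  have hne : ¬ H ≤ cent H x := fun hle => by
    have h1 := Subgroup.card_le_of_le hle
    have h2 := Nat.card_pos (α := cent H x)
    have h3 : Nat.card H = 2 * Nat.card (cent H x) := by rw [← hnz, hnzH]
    omega
  obtain ⟨n, hn, hnc⟩ := SetLike.not_le_iff_exists.1 hne
  have hnz' : n ∈ nz H x := hnzH.symm ▸ hn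
  have hconj : ∀ y ∈ cent H x, n * y * n⁻¹ ∈ cent H x := fun y hy =>
    (Subgroup.mem_normalizer_iff.1 (Subgroup.mem_inf.1 hnz').2 y).1 hy
  have hinv : ∀ y ∈ cent H x, ¬ IsSc y → n * y * n⁻¹ = y⁻¹ := by
    intro y hy hys
    have hcy := cent_eq_of_mem hx hys hy
    have hc' : y * (n * y * n⁻¹) = n * y * n⁻¹ * y :=
      ((mem_cent.1 (hcy.symm ▸ hconj y hy : n * y * n⁻¹ ∈ cent H y)).2).symm
    refine (commute_eq_or_inv' hys hc' (trace_conj n y) (trace_ne_of_mem_cent hx hτ hy hys)).resolve_left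
      fun e => hnc ?_
    rw [← hcy]
    exact mem_cent.2 ⟨hn, mul_inv_eq_iff_eq_mul.1 e⟩
  have hn2c : n * n ∈ cent H x := by
    refine mem_cent.2 ⟨H.mul_mem hn hn, ?_⟩
    have h1 := hinv x (mem_cent.2 ⟨hxH, rfl⟩) hx
    have h2 : n * x⁻¹ * n⁻¹ = x := by
      have := congrArg Inv.inv h1
      rwa [inv_inv, show (n * x * n⁻¹)⁻¹ = n * x⁻¹ * n⁻¹ by group] at this
    rw [← h1] at h2
    calc n * n * x = n * (n * x * n⁻¹) * n⁻¹ * (n * n) := by group
      _ = x * (n * n) := by rw [h2]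
  have hn2 : IsSc (n * n) := by
    by_contra hs
    refine hnc ?_
    rw [← cent_eq_of_mem hx hs hn2c]
    exact mem_cent.2 ⟨hn, by group⟩
  haveI := (cent_cyclic (H := H) hx hτ).1
  obtain ⟨c, hgen⟩ := IsCyclic.exists_generator (α := cent H x)
  have hz : Subgroup.zpowers (prH (c : SL2)) = (cent H x).map prH := by
    refine le_antisymm (Subgroup.zpowers_le.2 ⟨c, c.2, rfl⟩) ?_
    rintro _ ⟨y, hy, rfl⟩
    obtain ⟨i, hi⟩ := Subgroup.mem_zpowers_iff.1 (hgen ⟨y, hy⟩)
    exact Subgroup.mem_zpowers_iff.2 ⟨i, by rw [← map_zpow, ← Subgroup.coe_zpow, hi]⟩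
  have hinvc : n * (c : SL2) * n⁻¹ = (c : SL2)⁻¹ := by
    refine hinv c c.2 fun hs => hx ?_
    obtain ⟨i, hi⟩ := Subgroup.mem_zpowers_iff.1 (hgen ⟨x, mem_cent.2 ⟨hxH, rfl⟩⟩)
    have : x ∈ scPart H := by
      have h1 : (c : SL2) ^ i = x := by rw [← Subgroup.coe_zpow, hi]
      rw [← h1]
      exact Subgroup.zpow_mem (scPart H) (show (c : SL2) ∈ scPart H from ⟨(mem_cent.1 c.2).1, hs⟩) i
    exact this.2
  let K : Subgroup P := H.map prH
  let a : K := ⟨prH c, Subgroup.mem_map_of_mem _ (mem_cent.1 c.2).1⟩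
  let g : K := ⟨prH n, Subgroup.mem_map_of_mem _ hn⟩
  have ha : orderOf a = h := by
    rw [← Subgroup.orderOf_coe]
    show orderOf (prH (c : SL2)) = h
    rw [← Nat.card_zpowers, hz, card_map_cent hH hc]
  have hgg : g * g = 1 := Subtype.ext (by
    show prH n * prH n = 1
    rw [← map_mul]; exact pr_eq_one.2 hn2)
  have hga : g * a * g⁻¹ = a⁻¹ := Subtype.ext (by
    show prH n * prH c * (prH n)⁻¹ = (prH c)⁻¹
    rw [← map_mul, ← map_inv, ← map_mul, ← map_inv, hinvc])
  have hmem : g ∉ Subgroup.zpowers a := by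
    intro h1
    obtain ⟨i, hi⟩ := Subgroup.mem_zpowers_iff.1 h1
    have h2 : prH (c : SL2) ^ i = prH n := by
      have := congrArg Subtype.val hi
      rwa [Subgroup.coe_zpow] at this
    refine hnc (mem_of_pr_mem (saturated_cent hH x) ?_)
    rw [← h2, ← map_zpow]
    exact Subgroup.mem_map_of_mem _ ((cent H x).zpow_mem c.2 i)
  obtain ⟨e⟩ := TwoLift.dihedral_equiv ha hgg hga hmem (H := Subgroup.closure ({a, g} : Set K)) rfl
  have htop : Subgroup.closure ({a, g} : Set K) = ⊤ :=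
    Subgroup.eq_top_of_card_eq _ (by rw [Nat.card_congr e.toEquiv, DihedralGroup.nat_card, hg])
  exact ⟨(Subgroup.topEquiv.symm.trans (MulEquiv.subgroupCongr htop.symm)).trans e⟩

/-- All element orders come from the centralisers. -/
theorem no_six {H : Subgroup SL2} (hH : Saturated H)
    (hcov : ∀ y ∈ H, ¬ IsSc y → ∃ (x : SL2) (h : ℕ), y ∈ cls H x ∧
      Nat.card (cent H x) = Nat.card (Subgroup.center SL2) * h ∧ h ≠ 0 ∧ h < 6) :
    ∀ g : H.map prH, orderOf g ≠ 6 := by
  rintro ⟨_, y, hy, rfl⟩ he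
  rw [← Subgroup.orderOf_coe] at he
  change orderOf (prH y) = 6 at he
  by_cases hs : IsSc y
  · rw [pr_eq_one.2 hs, orderOf_one] at he
    omega
  obtain ⟨x, h, hyx, hc, h0, h6⟩ := hcov y hy hs
  have := Nat.le_of_dvd (by omega) (he ▸ orderOf_dvd_of_pow_eq_one (pow_eq_one_of_cls hH hc hyx))
  omega

theorem equiv_A5 {H : Subgroup SL2} (hH : Saturated H) (hg : Nat.card (H.map prH) = 60) {x : SL2} (hx : ¬ IsSc x)
    (hxH : x ∈ H) (hc : Nat.card (cent H x) = Nat.card (Subgroup.center SL2) * 5)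
    (hnz : Nat.card (nz H x) = 2 * Nat.card (cent H x)) :
    Nonempty (H.map prH ≃* alternatingGroup (Fin 5)) := by
  haveI : Fact (Nat.Prime 5) := ⟨by norm_num⟩
  set K := H.map prH
  rcases OrderSixty.sylow_card_cases hg with h1 | h6
  swap
  · exact OrderSixty.equiv_A5 hg h6
  exfalso
  have hle : (cent H x).map prH ≤ K := Subgroup.map_mono inf_le_left
  set C := ((cent H x).map prH).subgroupOf K
  have hC : Nat.card C = 5 :=
    (Nat.card_congr (Subgroup.subgroupOfEquivOfLe hle).toEquiv).trans (card_map_cent hH hc)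
  haveI hsub : Subsingleton (Sylow 5 K) := (Nat.card_eq_one_iff_unique.1 h1).1
  obtain ⟨S, hS⟩ := (IsPGroup.of_card (p := 5) (n := 1) (by rw [hC, pow_one]) : IsPGroup 5 C).exists_le_sylow
  have hCS : C = (S : Subgroup K) :=
    Subgroup.eq_of_le_of_card_ge hS (by rw [OrderSixty.card_sylow_five hg S, hC])
  haveI hnorm : C.Normal := hCS ▸ Sylow.normal_of_subsingleton S
  have hle2 : H ≤ nz H x := fun k hk => by
    refine mem_nz_of_conj_mem hx hk (mem_cent.2 ⟨hxH, rfl⟩) hx (mem_of_pr_mem (saturated_cent hH x) ?_)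
    have hxK : (⟨prH x, Subgroup.mem_map_of_mem _ hxH⟩ : K) ∈ C :=
      Subgroup.mem_map_of_mem _ (mem_cent.2 ⟨hxH, rfl⟩)
    have := hnorm.conj_mem _ hxK ⟨prH k, Subgroup.mem_map_of_mem _ hk⟩
    rw [Subgroup.mem_subgroupOf] at this
    rw [map_mul, map_mul, map_inv]
    exact this
  have h2 := Subgroup.card_le_of_le hle2
  rw [hnz, hc, card_map hH, hg] at h2
  have := Nat.card_pos (α := Subgroup.center SL2)
  nlinarith

end Cfsg.Agent.Dickson
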