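/-
Dickson's classification of the subgroups of PSL_2.
-/
import Cfsg.Agent.Lib.Classical.DicksonArith
import Cfsg.Agent.Lib.Classical.DicksonGroups
import Cfsg.Agent.Lib.Classical.DicksonField

set_option autoImplicit false
set_option linter.style.haveILetI false

namespace Cfsg.Agent.Dickson

open Matrix PStable

variable {F : Type*} [Field F] [Finite F]

local notation "SL2" => Matrix.SpecialLinearGroup (Fin 2) F
local notation "M2" => Matrix (Fin 2) (Fin 2) F
local notation "P" => Matrix.ProjectiveSpecialLinearGroup (Fin 2) F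
local notation "prH" => PSL2Inv.pr (F := F)
local notation "zz" => Nat.card (Subgroup.center SL2)

theorem exists_term {H : Subgroup SL2} (hH : Saturated H) {x : SL2} (hxH : x ∈ H)
    (hx : ¬ IsSc x) (hτ : Matrix.trace (x : M2) ^ 2 ≠ 4) :
    ∃ T : Term (Nat.card (H.map prH)), (cls H x).ncard = zz * T.x ∧ Nat.card (cent H x) = zz * T.h ∧
      Nat.card (nz H x) = T.s * Nat.card (cent H x) := by
  obtain ⟨M, s, h, hs, hh, hM, h1, h2, h3⟩ := class_data hH hxH hx hτ
  refine ⟨⟨M, s, h, hs, hh, hM, Nat.pos_of_ne_zero fun h0 => ?_⟩, h1, h2, h3⟩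
  rw [h0, zero_mul] at hM
  exact Nat.card_pos.ne' hM.symm

theorem trace_of_cls_upp {H : Subgroup SL2} {x : SL2} (hx : x ∈ cls H (upp 1)) :
    Matrix.trace (x : M2) ^ 2 = 4 := by
  obtain ⟨-, -, k, -, hk⟩ := hx
  obtain ⟨-, h10, hd⟩ := mem_cent_upp_iff.1 hk
  have htr := trace_conj k⁻¹ x
  rw [inv_inv] at htr
  rw [← htr, Matrix.trace_fin_two, ← hd]
  have h1 := det_one (k⁻¹ * x * k)
  rw [h10, mul_zero, sub_zero, ← hd] at h1
  linear_combination 4 * h1

theorem card_cent_of_cls {H : Subgroup SL2} {a y : SL2} (ha : ¬ IsSc a) (hy : y ∈ cls H a) :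
    Nat.card (cent H y) = Nat.card (cent H a) := by
  obtain ⟨-, hys, k, hk, hka⟩ := hy
  have hs : ¬ IsSc (k⁻¹ * y * k) := fun h => hys (by
    have := (isSc_conj_iff (g := k⁻¹) (x := y)).1
    rw [inv_inv] at this
    exact this h)
  rw [← cent_eq_of_mem ha hs hka]
  refine Nat.card_congr ((MulAut.conj k⁻¹).toEquiv.subtypeEquiv fun w => ?_)
  show w ∈ cent H y ↔ k⁻¹ * w * k⁻¹⁻¹ ∈ cent H (k⁻¹ * y * k)
  have h1 := mem_cent_conj (H := H) (x := y) (y := w) (H.inv_mem hk)
  rw [show k⁻¹ * y * k = k⁻¹ * y * k⁻¹⁻¹ by rw [inv_inv]]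
  exact h1.symm

/-- Semisimple elements of `H`. -/
def Semis (H : Subgroup SL2) (x : SL2) : Prop := x ∈ H ∧ ¬ IsSc x ∧ Matrix.trace (x : M2) ^ 2 ≠ 4

theorem exists_reps {H : Subgroup SL2} (hH : Saturated H) :
    ∃ L : List SL2, L.length ≤ 3 ∧ (∀ a ∈ L, Semis H a) ∧
      L.Pairwise (fun a b => Disjoint (cls H a) (cls H b)) ∧
      (∀ y, Semis H y → ∃ a ∈ L, y ∈ cls H a) := by
  classical
  by_contra hno
  have key : ∀ n, n ≤ 4 → ∃ L : List SL2, L.length = n ∧ (∀ a ∈ L, Semis H a) ∧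
      L.Pairwise (fun a b => Disjoint (cls H a) (cls H b)) := by
    intro n
    induction n with
    | zero => exact fun _ => ⟨[], rfl, by simp, List.Pairwise.nil⟩
    | succ n ih =>
      intro hn
      obtain ⟨L, hl, hs, hp⟩ := ih (by omega)
      obtain ⟨y, hy, hyn⟩ : ∃ y, Semis H y ∧ ∀ a ∈ L, y ∉ cls H a := by
        by_contra h
        push Not at h
        exact hno ⟨L, by omega, hs, hp, h⟩
      refine ⟨y :: L, by simp [hl], ?_, List.pairwise_cons.2 ⟨fun a ha => ?_, hp⟩⟩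
      · intro a ha
        rcases List.mem_cons.1 ha with rfl | h
        exacts [hy, hs a h]
      · exact (cls_disjoint (hs a ha).2.1 hy.2.1 hy.1 (hyn a ha)).symm
  obtain ⟨L, hl, hs, hp⟩ := key 4 le_rfl
  have h1 := cls_sum_le L hp
  rw [scPart_eq hH, card_map hH] at h1
  have hz : 0 < zz := Nat.card_pos
  match L, hl with
  | [a, b, c, d], _ =>
    obtain ⟨A, hA, -⟩ := exists_term hH (hs a (by simp)).1 (hs a (by simp)).2.1 (hs a (by simp)).2.2
    obtain ⟨B, hB, -⟩ := exists_term hH (hs b (by simp)).1 (hs b (by simp)).2.1 (hs b (by simp)).2.2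
    obtain ⟨C, hC, -⟩ := exists_term hH (hs c (by simp)).1 (hs c (by simp)).2.1 (hs c (by simp)).2.2
    obtain ⟨D, hD, -⟩ := exists_term hH (hs d (by simp)).1 (hs d (by simp)).2.1 (hs d (by simp)).2.2
    simp only [List.map_cons, List.map_nil, List.sum_cons, List.sum_nil, add_zero, hA, hB, hC, hD] at h1
    have := A.quarter; have := B.quarter; have := C.quarter; have := D.quarter
    nlinarith

/-- The conclusion of Dickson's theorem. -/
def Conclusion (p : ℕ) (G : Subgroup P) : Prop :=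
  (∃ k : ℕ, (zz * k ∣ Nat.card F + 1 ∨ zz * k ∣ Nat.card F - 1) ∧
    ((IsCyclic G ∧ Nat.card G = k) ∨ Nonempty (G ≃* DihedralGroup k))) ∨
  (∃ S : Sylow p P, G ≤ Subgroup.normalizer ((S : Subgroup P) : Set P)) ∨
  (p ≠ 2 ∧ p ≠ 3 ∧ Nonempty (G ≃* alternatingGroup (Fin 4))) ∨
  (p ≠ 2 ∧ p ≠ 3 ∧ Nonempty (G ≃* Equiv.Perm (Fin 4))) ∨
  (p ≠ 2 ∧ p ≠ 5 ∧ Nonempty (G ≃* alternatingGroup (Fin 5))) ∨
  (∃ (K : Type) (_ : Field K) (_ : Fintype K) (m : ℕ), Fintype.card K ^ m = Nat.card F ∧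
    (∃ f : K →+* F, SubfieldLike f G) ∧
    (Nonempty (G ≃* Matrix.ProjectiveSpecialLinearGroup (Fin 2) K) ∨
      Nonempty (G ≃* Matrix.ProjGenLinGroup (Fin 2) K)))

/-- The list for subgroups of order prime to the characteristic. -/
def CoprimeConclusion (p : ℕ) (G : Subgroup P) : Prop :=
  (∃ k : ℕ, (zz * k ∣ Nat.card F + 1 ∨ zz * k ∣ Nat.card F - 1) ∧
    ((IsCyclic G ∧ Nat.card G = k) ∨ Nonempty (G ≃* DihedralGroup k))) ∨
  (p ≠ 2 ∧ p ≠ 3 ∧ Nonempty (G ≃* alternatingGroup (Fin 4))) ∨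
  (p ≠ 2 ∧ p ≠ 3 ∧ Nonempty (G ≃* Equiv.Perm (Fin 4))) ∨
  (p ≠ 2 ∧ p ≠ 5 ∧ Nonempty (G ≃* alternatingGroup (Fin 5)))

theorem a5_chars {p q d N k j : ℕ} (hp : p.Prime) (hj : q = p ^ j) (hq : 2 ≤ q) (hd : 2 ≤ d)
    (hdvd : d ∣ q - 1) (hN : N = 1 + k * q) (h60 : 60 = N * (d * q)) (hne : ¬ (k = 1 ∧ q - 1 ≤ 2 * d)) :
    p ≠ 2 ∧ p ≠ 5 := by
  have hq60 : q ∣ 60 := ⟨N * d, by rw [h60]; ring⟩
  have hdle : d ≤ q - 1 := Nat.le_of_dvd (by omega) hdvd
  constructor <;> rintro rfl
  · obtain ⟨i, hi, e⟩ : ∃ i, i ≤ 2 ∧ q = 2 ^ i := by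
      refine ⟨j, ?_, hj⟩
      by_contra h
      have : 2 ^ 3 ∣ 60 := (pow_dvd_pow 2 (by omega)).trans (hj ▸ hq60)
      norm_num at this
    interval_cases i <;> norm_num at e <;> subst e <;> interval_cases d <;> omega
  · obtain ⟨i, hi, e⟩ : ∃ i, i ≤ 1 ∧ q = 5 ^ i := by
      refine ⟨j, ?_, hj⟩
      by_contra h
      have : 5 ^ 2 ∣ 60 := (pow_dvd_pow 5 (by omega)).trans (hj ▸ hq60)
      norm_num at this
    interval_cases i <;> norm_num at e <;> subst e <;> interval_cases d <;> omega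

theorem cyclic_dihedral_case (p : ℕ) {H : Subgroup SL2} (hH : Saturated H) {x : SL2} (hx : Semis H x)
    {T : Term (Nat.card (H.map prH))} (hc : Nat.card (cent H x) = zz * T.h)
    (hnz : Nat.card (nz H x) = T.s * Nat.card (cent H x))
    (h : (T.s = 1 ∧ Nat.card (H.map prH) = T.h) ∨ (T.s = 2 ∧ Nat.card (H.map prH) = 2 * T.h)) :
    CoprimeConclusion p (H.map prH) := by
  obtain ⟨hcyc, hdvd⟩ := cent_cyclic (H := H) hx.2.1 hx.2.2
  rw [hc] at hdvd
  refine Or.inl ⟨T.h, hdvd.symm, ?_⟩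
  rcases h with ⟨hs, hg⟩ | ⟨hs, hg⟩
  · left
    have hcH : cent H x = H := Subgroup.eq_of_le_of_card_ge inf_le_left
      (le_of_eq ((card_map hH).trans ((congrArg (zz * ·) hg).trans hc.symm)))
    rw [hcH] at hcyc
    exact ⟨isCyclic_of_surjective _ (PSL2Inv.pr.subgroupMap_surjective H), hg⟩
  · exact Or.inr (dihedral_of_class hH hx.1 hx.2.1 hx.2.2 hc (by rw [hnz, hs]) hg)

variable (p : ℕ) [hp : Fact p.Prime] [CharP F p]

theorem classify_coprime' {H : Subgroup SL2} (hH : Saturated H) (hd : ¬ p ∣ Nat.card (H.map prH)) :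
    CoprimeConclusion p (H.map prH) := by
  have hzpos : 0 < zz := Nat.card_pos
  have hsem : ∀ y ∈ H, ¬ IsSc y → Semis H y := fun y hy hys => ⟨hy, hys, fun h4 => hd (by
    obtain ⟨s, hs, -, hsy, hne⟩ := exists_sign (p := p) hys h4
    have hmem : s * y ∈ H := H.mul_mem (hH s hs) hy
    have hord : orderOf (prH (s * y)) = p := orderOf_eq_prime (by rw [← map_pow, hsy, map_one]) fun h1 => by
      obtain ⟨c, hc⟩ := pr_eq_one.1 h1
      refine hys ?_
      have e : y = s⁻¹ * (s * y) := by group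
      rw [e]
      exact isSc_mul ((scPart (⊤ : Subgroup SL2)).inv_mem ⟨trivial, hs⟩).2 ⟨c, hc⟩
    rw [← hord]
    exact Subgroup.orderOf_dvd_natCard _ (Subgroup.mem_map_of_mem _ hmem))⟩
  obtain ⟨L, hl, hs, hdisj, hcov⟩ := exists_reps hH
  have heq := cls_sum_eq L hdisj fun y hy hys => hcov y (hsem y hy hys)
  rw [scPart_eq hH, card_map hH] at heq
  match L, hl with
  | [], _ =>
    simp only [List.map_nil, List.sum_nil, zero_add] at heq
    refine Or.inl ⟨1, ?_, Or.inl ⟨?_, ?_⟩⟩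
    · right
      rw [mul_one, card_center]
      exact Nat.gcd_dvd_right _ _
    · have h1 : Nat.card (H.map prH) = 1 := by nlinarith
      haveI := (Nat.card_eq_one_iff_unique.1 h1).1
      exact isCyclic_of_subsingleton
    · nlinarith
  | [a], _ =>
    obtain ⟨A, hA, hAc, hAn⟩ := exists_term hH (hs a (by simp)).1 (hs a (by simp)).2.1 (hs a (by simp)).2.2
    simp only [List.map_cons, List.map_nil, List.sum_cons, List.sum_nil, add_zero, hA] at heq
    obtain ⟨h1, h2⟩ := p'_one A (Nat.eq_of_mul_eq_mul_left hzpos (by linarith))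
    exact cyclic_dihedral_case p hH (hs a (by simp)) hAc hAn (Or.inl ⟨h1, h2.symm⟩)
  | [a, b], _ =>
    obtain ⟨A, hA, hAc, hAn⟩ := exists_term hH (hs a (by simp)).1 (hs a (by simp)).2.1 (hs a (by simp)).2.2
    obtain ⟨B, hB, hBc, hBn⟩ := exists_term hH (hs b (by simp)).1 (hs b (by simp)).2.1 (hs b (by simp)).2.2
    simp only [List.map_cons, List.map_nil, List.sum_cons, List.sum_nil, add_zero, hA, hB] at heq
    have he : A.x + B.x + 1 = Nat.card (H.map prH) := Nat.eq_of_mul_eq_mul_left hzpos (by linarith)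
    have hA4 : Nat.card (H.map prH) = 12 → A.h ≤ 3 → B.h ≤ 3 → CoprimeConclusion p (H.map prH) := fun h12 ha hb =>
      Or.inr (Or.inl ⟨fun hp => hd (by rw [h12, hp]; norm_num), fun hp => hd (by rw [h12, hp]; norm_num), equiv_A4 h12 (no_six hH fun y hy hys => by
        obtain ⟨c, hc, hyc⟩ := hcov y (hsem y hy hys)
        rcases List.mem_pair.1 hc with rfl | rfl
        · exact ⟨_, A.h, hyc, hAc, by have := A.hh; omega, by omega⟩
        · exact ⟨_, B.h, hyc, hBc, by have := B.hh; omega, by omega⟩)⟩)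
    rcases p'_two_ne A B he with h | h
    · rcases p'_two A B h he with ⟨h1, h2⟩ | ⟨h1, h2, h3⟩
      · exact cyclic_dihedral_case p hH (hs b (by simp)) hBc hBn (Or.inr ⟨h1, h2⟩)
      · exact hA4 h1 (by omega) (by omega)
    · rcases p'_two B A h (by omega) with ⟨h1, h2⟩ | ⟨h1, h2, h3⟩
      · exact cyclic_dihedral_case p hH (hs a (by simp)) hAc hAn (Or.inr ⟨h1, h2⟩)
      · exact hA4 h1 (by omega) (by omega)
  | [a, b, c], _ =>
    obtain ⟨A, hA, hAc, hAn⟩ := exists_term hH (hs a (by simp)).1 (hs a (by simp)).2.1 (hs a (by simp)).2.2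
    obtain ⟨B, hB, hBc, hBn⟩ := exists_term hH (hs b (by simp)).1 (hs b (by simp)).2.1 (hs b (by simp)).2.2
    obtain ⟨C, hC, hCc, hCn⟩ := exists_term hH (hs c (by simp)).1 (hs c (by simp)).2.1 (hs c (by simp)).2.2
    simp only [List.map_cons, List.map_nil, List.sum_cons, List.sum_nil, add_zero, hA, hB, hC] at heq
    have he : A.x + B.x + C.x + 1 = Nat.card (H.map prH) := Nat.eq_of_mul_eq_mul_left hzpos (by linarith)
    have hfind : ∀ W ∈ [A, B, C], ∃ x, Semis H x ∧ Nat.card (cent H x) = zz * W.h ∧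
        Nat.card (nz H x) = W.s * Nat.card (cent H x) := by
      intro W hW
      simp only [List.mem_cons, List.not_mem_nil, or_false] at hW
      rcases hW with rfl | rfl | rfl
      · exact ⟨a, hs a (by simp), hAc, hAn⟩
      · exact ⟨b, hs b (by simp), hBc, hBn⟩
      · exact ⟨c, hs c (by simp), hCc, hCn⟩
    have hord : (∀ W ∈ [A, B, C], W.h < 6) → ∀ g : H.map prH, orderOf g ≠ 6 := fun hW =>
      no_six hH fun y hy hys => by
        obtain ⟨d, hd', hyd⟩ := hcov y (hsem y hy hys)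
        simp only [List.mem_cons, List.not_mem_nil, or_false] at hd'
        rcases hd' with rfl | rfl | rfl
        · exact ⟨_, A.h, hyd, hAc, by have := A.hh; omega, hW A (by simp)⟩
        · exact ⟨_, B.h, hyd, hBc, by have := B.hh; omega, hW B (by simp)⟩
        · exact ⟨_, C.h, hyd, hCc, by have := C.hh; omega, hW C (by simp)⟩
    rcases p'_three A B C he with ⟨W, hW, hM, hs2⟩ | ⟨h12, hh⟩ | ⟨h24, hh⟩ | ⟨h60, W, hW, h5, hs2⟩
    · obtain ⟨x, hx, hxc, hxn⟩ := hfind W hW
      exact cyclic_dihedral_case p hH hx hxc hxn (Or.inr ⟨hs2, W.hM.symm.trans (by rw [hM, hs2, one_mul])⟩)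
    · exact Or.inr (Or.inl ⟨fun hp => hd (by rw [h12, hp]; norm_num),
        fun hp => hd (by rw [h12, hp]; norm_num), equiv_A4 h12 (hord fun W hW => by
          have := hh W hW; omega)⟩)
    · exact Or.inr (Or.inr (Or.inl ⟨fun hp => hd (by rw [h24, hp]; norm_num),
        fun hp => hd (by rw [h24, hp]; norm_num), S1012.result h24 (hord fun W hW => by
          have := hh W hW; omega)⟩))
    · obtain ⟨x, hx, hxc, hxn⟩ := hfind W hW
      rw [h5] at hxc
      rw [hs2] at hxn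
      exact Or.inr (Or.inr (Or.inr ( ⟨fun hp => hd (by rw [h60, hp]; norm_num),
        fun hp => hd (by rw [h60, hp]; norm_num), equiv_A5 hH h60 hx.2.1 hx.1 hxc hxn⟩)))

theorem classify_coprime {H : Subgroup SL2} (hH : Saturated H) (hd : ¬ p ∣ Nat.card (H.map prH)) :
    Conclusion p (H.map prH) :=
  (classify_coprime' p hH hd).imp id fun h => Or.inr (h.imp id (Or.imp id Or.inl))

theorem classify_one_point {H : Subgroup SL2} (hH : Saturated H) {u : SL2} (hu : u ∈ H)
    (hup : u ^ p = 1) (hu1 : u ≠ 1) : Conclusion p (H.map prH) := by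
  have hzpos : 0 < zz := Nat.card_pos
  obtain ⟨H', hH', hone, ⟨e⟩, hconj, φ, hφ⟩ := exists_normalised hH hu hup hu1
  obtain ⟨D⟩ := exists_uniData p hH' hone
  by_cases hN1 : D.k = 0
  · right; left
    have hB : ∀ x ∈ H', (x : M2) 1 0 = 0 := fun x hx => by
      by_contra h0
      have h1 : ((x : M2) 0 0 / (x : M2) 1 0) ∈ points H' := ⟨x, hx, h0, rfl⟩
      have h2 := D.hpts
      rw [hN1, zero_mul, Set.ncard_eq_zero (Set.toFinite _)] at h2
      rw [h2] at h1
      exact h1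
    obtain ⟨S, hS⟩ := exists_sylow_normalizer (p := p) hB
    rw [← hφ] at hS
    have hle : H.map prH ≤ (Subgroup.normalizer ((S : Subgroup P) : Set P)).comap φ.toMonoidHom :=
      Subgroup.map_le_iff_le_comap.1 hS
    rw [Subgroup.comap_normalizer_eq_of_surjective _ φ.surjective] at hle
    have hc : Nat.card ((S : Subgroup P).comap φ.toMonoidHom) = Nat.card (S : Subgroup P) := by
      rw [show (S : Subgroup P).comap φ.toMonoidHom = _ from Subgroup.comap_equiv_eq_map_symm φ _]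
      exact Subgroup.card_map_of_injective φ.symm.injective
    exact ⟨Sylow.ofCard ((S : Subgroup P).comap φ.toMonoidHom) (by rw [hc, S.card_eq_multiplicity]), by
      rwa [Sylow.coe_ofCard]⟩
  -- transport the conclusion
  suffices hmain : (∃ (x : SL2) (T : Term (Nat.card (H'.map prH))), Semis H' x ∧
      Nat.card (cent H' x) = zz * T.h ∧ Nat.card (nz H' x) = T.s * Nat.card (cent H' x) ∧
      T.s = 2 ∧ Nat.card (H'.map prH) = 2 * T.h) ∨
      (p ≠ 2 ∧ p ≠ 5 ∧ Nonempty (H'.map prH ≃* alternatingGroup (Fin 5))) ∨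
      (D.k = 1 ∧ D.q - 1 ≤ 2 * D.d) by
    rcases hmain with ⟨x, T, hx, hc, hn, hs, hg⟩ | ⟨h2, h5, ⟨e'⟩⟩ | ⟨hk, hd⟩
    · obtain ⟨hcyc, hdvd⟩ := cent_cyclic (H := H') hx.2.1 hx.2.2
      rw [hc] at hdvd
      obtain ⟨e'⟩ := dihedral_of_class hH' hx.1 hx.2.1 hx.2.2 hc (by rw [hn, hs]) hg
      exact Or.inl ⟨T.h, hdvd.symm, Or.inr ⟨e.trans e'⟩⟩
    · exact Or.inr (Or.inr (Or.inr (Or.inr (Or.inl ⟨h2, h5, ⟨e.trans e'⟩⟩))))
    · have hpts := D.hpts
      rw [hk, one_mul, ← D.hqA] at hpts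
      obtain ⟨H'', hH'', hone'', hzero, ⟨e2⟩, hA, hP, hB, g2, hg2⟩ := exists_translated hH' hone
        (Set.nonempty_of_ncard_ne_zero (by rw [hpts]; exact Nat.card_pos.ne'))
      obtain ⟨K, i1, i2, m, hm, ⟨f, hf⟩, hiso⟩ := recognise p hH'' hone'' hzero
        (by rw [hP, hA, hpts]) (fun d hdd => by
          rw [hB, D.hborel, card_cent_upp' hH'', hA, D.hqA, ← mul_assoc] at hdd
          have : D.d = d := Nat.eq_of_mul_eq_mul_left (by have := D.hq; positivity) hdd
          rw [hA, D.hqA]; omega)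
      obtain ⟨g1, hg1⟩ := hconj
      have hlike : SubfieldLike f (H.map prH) := by
        refine ⟨(ProjGenLinGroup.mk (g1 * g2))⁻¹, ?_⟩
        rintro _ ⟨y, hy, rfl⟩
        have h1 := hf (conjGL (g1 * g2) y) (by
          rw [conjGL_comp, hg2, hg1]
          exact Subgroup.mem_map_of_mem _ (Subgroup.mem_map_of_mem _ hy))
        rw [inv_inv]
        convert h1 using 1
        show _ = ProjGenLinGroup.mk (Matrix.SpecialLinearGroup.toGL (conjGL (g1 * g2) y))
        rw [show Matrix.SpecialLinearGroup.toGL (conjGL (g1 * g2) y) =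
          (g1 * g2)⁻¹ * Matrix.SpecialLinearGroup.toGL y * (g1 * g2) from Units.ext rfl]
        simp only [map_mul, map_inv]
        rfl
      refine Or.inr (Or.inr (Or.inr (Or.inr (Or.inr ⟨K, i1, i2, m, hm, ⟨f, hlike⟩, ?_⟩))))
      rcases hiso with ⟨⟨e'⟩⟩ | ⟨⟨e'⟩⟩
      · exact Or.inl ⟨(e.trans e2).trans e'⟩
      · exact Or.inr ⟨(e.trans e2).trans e'⟩
  clear e hφ φ hconj hu hup hu1 u hH H
  rename' H' => H, hH' => hH
  set u : SL2 := upp 1
  have hus : ¬ IsSc u := not_isSc_upp one_ne_zero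
  have hN2 : 2 ≤ D.N := by
    rw [D.hN]
    have := D.hq
    nlinarith [Nat.pos_of_ne_zero hN1]
  obtain ⟨L, -, hs, hdisj, hcov⟩ := exists_reps hH
  have hall : ∀ y ∈ H, ¬ IsSc y → y ∈ cls H u ∨ ∃ a ∈ L, y ∈ cls H a := fun y hy hys => by
    by_cases h4 : Matrix.trace (y : M2) ^ 2 = 4
    · exact Or.inl (D.hall y hy hys h4)
    · exact Or.inr (hcov y ⟨hy, hys, h4⟩)
  have hdisj' : (u :: L).Pairwise fun a b => Disjoint (cls H a) (cls H b) :=
    List.pairwise_cons.2 ⟨fun a ha => cls_disjoint hus (hs a ha).2.1 (hs a ha).1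
      fun h => (hs a ha).2.2 (trace_of_cls_upp h), hdisj⟩
  have heq := cls_sum_eq (u :: L) hdisj' fun y hy hys => by
    rcases hall y hy hys with h | ⟨a, ha, h⟩
    · exact ⟨u, List.mem_cons_self, h⟩
    · exact ⟨a, List.mem_cons_of_mem _ ha, h⟩
  rw [scPart_eq hH, card_map hH, List.map_cons, List.sum_cons, D.hcls] at heq
  have hg := D.hcard
  have hq := D.hq
  rcases Nat.lt_or_ge D.d 2 with hd1 | hd2
  · have hd : D.d = 1 := by have := D.hd; omega
    rw [hd, one_mul] at hg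
    match L with
    | [] =>
      exfalso
      simp only [List.map_nil, List.sum_nil, add_zero] at heq
      have h1 : D.N * (D.q - 1) + 1 = Nat.card (H.map prH) := Nat.eq_of_mul_eq_mul_left hzpos (by linarith)
      rw [hg] at h1
      obtain ⟨r, hr⟩ := Nat.exists_eq_add_of_le hq
      rw [hr, show 2 + r - 1 = 1 + r by omega] at h1
      nlinarith
    | [a] =>
      obtain ⟨A, hA, hAc, hAn⟩ := exists_term hH (hs a (by simp)).1 (hs a (by simp)).2.1 (hs a (by simp)).2.2
      simp only [List.map_cons, List.map_nil, List.sum_cons, List.sum_nil, add_zero, hA] at heq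
      obtain ⟨hs2, h | ⟨hq3, h12, hA2⟩⟩ := p_small hq hN2 hg A (Nat.eq_of_mul_eq_mul_left hzpos (by linarith))
      · exact Or.inl ⟨a, A, hs a (by simp), hAc, hAn, hs2, h.2⟩
      · refine Or.inr (Or.inr ⟨?_, by omega⟩)
        have hN4 := D.hN
        rw [h12, hq3] at hg
        rw [hq3] at hN4
        omega
    | a :: b :: L' =>
      exfalso
      obtain ⟨A, hA, -⟩ := exists_term hH (hs a (by simp)).1 (hs a (by simp)).2.1 (hs a (by simp)).2.2
      obtain ⟨B, hB, -⟩ := exists_term hH (hs b (by simp)).1 (hs b (by simp)).2.1 (hs b (by simp)).2.2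
      simp only [List.map_cons, List.sum_cons, hA, hB] at heq
      have := A.quarter; have := B.quarter
      have h1 : D.N * (D.q - 1) + A.x + B.x + 1 ≤ Nat.card (H.map prH) :=
        Nat.le_of_mul_le_mul_left (by linarith [Nat.zero_le (L'.map fun a => (cls H a).ncard).sum]) hzpos
      obtain ⟨r, hr⟩ := Nat.exists_eq_add_of_le hq
      rw [hr, show 2 + r - 1 = 1 + r by omega] at h1
      rw [hr] at hg
      nlinarith
  · -- a torus element of the triangular part
    obtain ⟨t₀, ht₀, ht₀c⟩ : ∃ t₀ ∈ borel H, t₀ ∉ cent H u := SetLike.exists_of_lt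
      (lt_of_le_of_ne (fun x hx => ⟨(mem_cent_upp_iff.1 hx).1, (mem_cent_upp_iff.1 hx).2.1⟩) fun h => by
        have := congrArg (fun K : Subgroup SL2 => Nat.card K) h
        simp only [u, D.hcu, D.hborel] at this
        have := Nat.eq_of_mul_eq_mul_left hzpos this
        nlinarith)
    have hne : (t₀ : M2) 0 0 ≠ (t₀ : M2) 1 1 := fun h =>
      ht₀c (mem_cent_upp_iff.2 ⟨ht₀.1, ht₀.2, h⟩)
    have ht₀s : ¬ IsSc t₀ := fun h => hne (isSc_iff.1 h).2.2
    have ht₀τ : Matrix.trace (t₀ : M2) ^ 2 ≠ 4 := fun h => by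
      have hdt := det_one t₀
      rw [ht₀.2, mul_zero, sub_zero] at hdt
      rw [Matrix.trace_fin_two] at h
      exact hne (sub_eq_zero.1 (mul_self_eq_zero.1
        (show ((t₀ : M2) 0 0 - (t₀ : M2) 1 1) * ((t₀ : M2) 0 0 - (t₀ : M2) 1 1) = 0 by
          linear_combination h - 4 * hdt)))
    have htc : Nat.card (cent H t₀) = zz * D.d := by
      have h1 := card_cent_torus ht₀ hne
      rw [D.hborel, D.hqA] at h1
      exact Nat.eq_of_mul_eq_mul_left (show 0 < D.q by omega) (by linarith)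
    obtain ⟨a, ha, hta⟩ := hcov t₀ ⟨ht₀.1, ht₀s, ht₀τ⟩
    obtain ⟨A, hA, hAc, hAn⟩ := exists_term hH (hs a ha).1 (hs a ha).2.1 (hs a ha).2.2
    have hAd : A.h = D.d := Nat.eq_of_mul_eq_mul_left hzpos (by
      rw [← hAc, ← card_cent_of_cls (hs a ha).2.1 hta, htc])
    classical
    have hperm := List.perm_cons_erase ha
    rw [(hperm.map fun a => (cls H a).ncard).sum_eq, List.map_cons, List.sum_cons, hA] at heq
    have hs' : ∀ b ∈ L.erase a, Semis H b := fun b hb => hs b (List.mem_of_mem_erase hb)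
    match hL' : L.erase a with
    | [] =>
      exfalso
      rw [hL'] at heq
      simp only [List.map_nil, List.sum_nil, add_zero] at heq
      obtain ⟨-, -, h⟩ := p_big_first hq hd2 hN2 hg A hAd (Or.inl rfl)
        (Nat.eq_of_mul_eq_mul_left hzpos (by linarith) : D.N * (D.q - 1) + A.x + 0 + 1 = _)
      exact absurd (Nat.card_pos (α := H.map prH)) (by omega)
    | [b] =>
      rw [hL'] at heq hs'
      obtain ⟨B, hB, hBc, hBn⟩ := exists_term hH (hs' b (by simp)).1 (hs' b (by simp)).2.1 (hs' b (by simp)).2.2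
      simp only [List.map_cons, List.map_nil, List.sum_cons, List.sum_nil, add_zero, hB] at heq
      obtain ⟨-, he, -⟩ := p_big_first hq hd2 hN2 hg A hAd (Or.inr B.quarter)
        (Nat.eq_of_mul_eq_mul_left hzpos (by linarith))
      obtain ⟨hs2, h | ⟨h60, h5⟩⟩ := p_big hq hd2 D.hdvd D.hN (Nat.pos_of_ne_zero hN1) hg B he
      · exact Or.inr (Or.inr h)
      · rw [h5] at hBc
        rw [hs2] at hBn
        by_cases hkd : D.k = 1 ∧ D.q - 1 ≤ 2 * D.d
        · exact Or.inr (Or.inr hkd)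
        obtain ⟨j, hj⟩ : ∃ j, D.q = p ^ j := by
          haveI := Fintype.ofFinite F
          obtain ⟨n, -, hn⟩ := FiniteField.card F p
          have hdq : D.q ∣ p ^ (n : ℕ) := by
            rw [← hn, ← Nat.card_eq_fintype_card, ← D.hqA]
            exact AddSubgroup.card_addSubgroup_dvd_card _
          obtain ⟨j, -, hj⟩ := (Nat.dvd_prime_pow hp.out).1 hdq
          exact ⟨j, hj⟩
        obtain ⟨hp2, hp5⟩ := a5_chars hp.out hj hq hd2 D.hdvd D.hN (h60 ▸ hg) hkd
        exact Or.inr (Or.inl ⟨hp2, hp5, (equiv_A5 hH h60 (hs' b (by simp)).2.1 (hs' b (by simp)).1 hBc hBn)⟩)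
    | b :: c :: L' =>
      exfalso
      rw [hL'] at heq hs'
      obtain ⟨B, hB, -⟩ := exists_term hH (hs' b (by simp)).1 (hs' b (by simp)).2.1 (hs' b (by simp)).2.2
      obtain ⟨C, hC, -⟩ := exists_term hH (hs' c (by simp)).1 (hs' c (by simp)).2.1 (hs' c (by simp)).2.2
      simp only [List.map_cons, List.sum_cons, hB, hC] at heq
      obtain ⟨R, hR⟩ : ∃ R, (L'.map fun a => (cls H a).ncard).sum = zz * R := by
        refine dvd_def.1 (List.dvd_sum fun n hn => ?_)
        obtain ⟨e', he', rfl⟩ := List.mem_map.1 hn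
        obtain ⟨E, hE, -⟩ := exists_term hH (hs' e' (by simp [he'])).1 (hs' e' (by simp [he'])).2.1
          (hs' e' (by simp [he'])).2.2
        exact hE ▸ dvd_mul_right _ _
      rw [hR] at heq
      have := B.quarter; have := C.quarter
      obtain ⟨-, he, -⟩ := p_big_first hq hd2 hN2 hg A hAd (S := B.x + C.x + R) (Or.inr (by omega))
        (Nat.eq_of_mul_eq_mul_left hzpos (by linarith))
      omega

/-- Dickson's theorem. -/
theorem classify (G : Subgroup P) : Conclusion p G := by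
  have hH : Saturated (G.comap prH) := fun x hx => by
    rw [Subgroup.mem_comap, pr_eq_one.2 hx]
    exact G.one_mem
  have e : (G.comap prH).map prH = G := Subgroup.map_comap_eq_self_of_surjective PSL2Inv.pr_surjective G
  rw [← e]
  by_cases hd : p ∣ Nat.card ((G.comap prH).map prH)
  · obtain ⟨u, hu, hup, hu1⟩ := exists_of_dvd hH hd
    exact classify_one_point p hH hu hup hu1
  · exact classify_coprime p hH hd

end Cfsg.Agent.Dickson
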