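/-
Proper subgroups of PSL_2: orders, element orders, Borel and dihedral subgroups.
-/
import Cfsg.Agent.Lib.Classical.DicksonClassify
import Cfsg.Agent.Lib.Classical.SL2Tori
import Mathlib.LinearAlgebra.Matrix.Charpoly.Basic

set_option autoImplicit false
set_option linter.style.haveILetI false

namespace Cfsg.Agent.Dickson

open Matrix PStable
open scoped Pointwise

theorem sq_val {K : Type*} [Field K] (x : SpecialLinearGroup (Fin 2) K) :
    (x : Matrix (Fin 2) (Fin 2) K) * x = Matrix.trace (x : Matrix (Fin 2) (Fin 2) K) • (x : Matrix (Fin 2) (Fin 2) K) - 1 := by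
  have hd := det_one x
  apply ext2 <;> simp [Matrix.mul_apply, Fin.sum_univ_two, Matrix.trace_fin_two] <;>
    first | linear_combination hd | linear_combination -hd | ring

theorem card_sl2_eq {K : Type*} [Field K] [Finite K] :
    Nat.card (SpecialLinearGroup (Fin 2) K) = Nat.card K * (Nat.card K ^ 2 - 1) := by
  rw [SL2Inv.card_sl2, ← one_pow (M := ℕ) 2, Nat.sq_sub_sq, one_pow, mul_comm (Nat.card K + 1), mul_assoc]

theorem card_pgl2 {K : Type*} [Field K] [Finite K] :
    Nat.card (Matrix.ProjGenLinGroup (Fin 2) K) = Nat.card K * (Nat.card K ^ 2 - 1) := by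
  rw [ClassicalSL.card_pgl, card_sl2_eq]

theorem gcd_mul_card_psl {K : Type*} [Field K] [Finite K] :
    Nat.gcd 2 (Nat.card K - 1) * Nat.card (Matrix.ProjectiveSpecialLinearGroup (Fin 2) K) =
      Nat.card K * (Nat.card K ^ 2 - 1) := by
  rw [← card_sl2_eq, ← Subgroup.card_mul_index (Subgroup.center (SpecialLinearGroup (Fin 2) K)),
    ClassicalSL.card_center_sl, Fintype.card_fin]
  rfl

theorem card_psl_le {K : Type*} [Field K] [Finite K] :
    Nat.card (Matrix.ProjectiveSpecialLinearGroup (Fin 2) K) ≤ Nat.card K * (Nat.card K ^ 2 - 1) := by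
  rw [← gcd_mul_card_psl]
  exact Nat.le_mul_of_pos_left _ (Nat.gcd_pos_of_pos_left _ (by norm_num))

/-- Element orders in PGL_2 are at most `|K| + 1`. -/
theorem orderOf_pgl_le {K : Type*} [Field K] [Finite K] (g : Matrix.ProjGenLinGroup (Fin 2) K) :
    orderOf g ≤ Nat.card K + 1 := by
  classical
  haveI := Fintype.ofFinite K
  induction g using ProjGenLinGroup.induction_on with | mk g =>
  set n := orderOf (ProjGenLinGroup.mk g) with hn
  have hspan : ∀ i : ℕ, ∃ a b : K, (g : Matrix (Fin 2) (Fin 2) K) ^ i = a • 1 + b • (g : Matrix (Fin 2) (Fin 2) K) := by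
    have hch : (g : Matrix (Fin 2) (Fin 2) K) * g =
        (g.1 0 0 + g.1 1 1) • (g : Matrix (Fin 2) (Fin 2) K) + (-(g.1 0 0 * g.1 1 1 - g.1 0 1 * g.1 1 0)) • 1 := by
      apply PStable.ext2 <;> simp [Matrix.mul_apply, Fin.sum_univ_two] <;> ring
    intro i
    induction i with
    | zero => exact ⟨1, 0, by simp⟩
    | succ i ih =>
      obtain ⟨a, b, h⟩ := ih
      refine ⟨b * (-(g.1 0 0 * g.1 1 1 - g.1 0 1 * g.1 1 0)), a + b * (g.1 0 0 + g.1 1 1), ?_⟩
      rw [pow_succ, h, add_mul, smul_mul_assoc, one_mul, smul_mul_assoc, hch, smul_add, smul_smul, smul_smul, add_smul]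
      abel
  choose A B hAB using hspan
  let f : Fin n × Kˣ → {v : K × K // v ≠ 0} := fun x => ⟨((x.2 : K) * A x.1, (x.2 : K) * B x.1), fun h => by
    have hA := congrArg Prod.fst h
    have hB := congrArg Prod.snd h
    simp at hA hB
    have h0 := hAB x.1
    rw [hA, hB, zero_smul, zero_smul, add_zero] at h0
    have := congrArg Matrix.det h0
    rw [Matrix.det_pow, Matrix.det_zero] at this
    exact GeneralLinearGroup.det_ne_zero g ((pow_eq_zero_iff' .. |>.1 this).1)⟩
  have key : ∀ (i j : ℕ) (c d : Kˣ), i ≤ j → j < n → (c : K) * A i = (d : K) * A j →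
      (c : K) * B i = (d : K) * B j → i = j := by
    intro i j c d hij hj hA hB
    obtain ⟨m, rfl⟩ := Nat.exists_eq_add_of_le hij
    have h1 : (c : K) • (g : Matrix (Fin 2) (Fin 2) K) ^ i = (d : K) • (g : Matrix (Fin 2) (Fin 2) K) ^ (i + m) := by
      rw [hAB, hAB, smul_add, smul_add, smul_smul, smul_smul, smul_smul, smul_smul, hA, hB]
    have h2 : ProjGenLinGroup.mk g ^ i = ProjGenLinGroup.mk g ^ (i + m) := by
      rw [← map_pow, ← map_pow]
      refine ProjGenLinGroup.mk_eq_mk_iff.2 ⟨c / d, Units.ext ?_⟩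
      rw [Units.val_mul, GeneralLinearGroup.coe_scalar, Units.val_pow_eq_pow_val, Units.val_pow_eq_pow_val]
      rw [← Matrix.scalar_commute _ (fun r => Commute.all _ r), Matrix.scalar_apply, ← Matrix.smul_eq_diagonal_mul,
        Units.val_div_eq_div_val, div_eq_mul_inv, mul_comm, ← smul_smul, h1, smul_smul,
        inv_mul_cancel₀ d.ne_zero, one_smul]
    rcases Nat.eq_zero_or_pos m with h | h
    · omega
    · exfalso
      have h4 : ProjGenLinGroup.mk g ^ m = 1 := by
        rw [pow_add] at h2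
        exact (mul_eq_left.1 h2.symm)
      have := Nat.le_of_dvd h (orderOf_dvd_of_pow_eq_one h4)
      omega
  have hinj : Function.Injective f := by
    rintro ⟨i, c⟩ ⟨j, d⟩ h
    have hA := congrArg (fun v => v.1.1) h
    have hB := congrArg (fun v => v.1.2) h
    have hij : (i : ℕ) = j := by
      rcases le_total (i : ℕ) j with h' | h'
      · exact key _ _ c d h' j.2 hA hB
      · exact (key _ _ d c h' i.2 hA.symm hB.symm).symm
    obtain rfl := Fin.ext hij
    refine Prod.ext rfl (Units.ext ?_)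
    by_cases h0 : A i = 0
    · refine mul_right_cancel₀ (fun hb => ?_) hB
      exact (f ⟨i, c⟩).2 (by simp [f, h0, hb])
    · exact mul_right_cancel₀ h0 hA
  have h := Nat.card_le_card_of_injective f hinj
  rw [Nat.card_prod, Nat.card_fin, Nat.card_units, Nat.card_eq_fintype_card (α := {v : K × K // v ≠ 0}),
    Fintype.card_subtype_compl, Fintype.card_subtype_eq, Fintype.card_prod, ← Nat.card_eq_fintype_card] at h
  have hK : 1 < Nat.card K := Finite.one_lt_card
  refine Nat.le_of_mul_le_mul_right (h.trans (le_of_eq ?_)) (show 0 < Nat.card K - 1 by omega)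
  simpa [sq] using Nat.sq_sub_sq (Nat.card K) 1

theorem orderOf_psl_le {K : Type*} [Field K] [Finite K] (g : Matrix.ProjectiveSpecialLinearGroup (Fin 2) K) :
    orderOf g ≤ Nat.card K + 1 := by
  rw [← orderOf_injective _ Matrix.ProjectiveSpecialLinearGroup.toPGL_injective g]
  exact orderOf_pgl_le _

variable {F : Type*} [Field F] [Finite F]

local notation "SL2" => Matrix.SpecialLinearGroup (Fin 2) F
local notation "M2" => Matrix (Fin 2) (Fin 2) F
local notation "P" => Matrix.ProjectiveSpecialLinearGroup (Fin 2) F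
local notation "prH" => PSL2Inv.pr (F := F)
local notation "zz" => Nat.card (Subgroup.center SL2)

theorem zz_mul_card : zz * Nat.card P = Nat.card F * (Nat.card F ^ 2 - 1) := by
  rw [card_center]
  exact gcd_mul_card_psl

/-- The order of a Borel subgroup. -/
theorem card_normalizer_sylow (p : ℕ) [Fact p.Prime] [CharP F p] (S : Sylow p P) :
    zz * Nat.card (Subgroup.normalizer ((S : Subgroup P) : Set P)) = Nat.card F * (Nat.card F - 1) := by
  classical
  have htop : Saturated (⊤ : Subgroup SL2) := fun x _ => trivial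
  obtain ⟨S₀, hS₀⟩ := exists_sylow_normalizer (p := p) (H := borel (⊤ : Subgroup SL2)) fun x hx => hx.2
  obtain ⟨g, rfl⟩ := MulAction.exists_smul_eq P S₀ S
  rw [Sylow.coe_subgroup_smul]
  have hN : Nat.card (Subgroup.normalizer ((MulAut.conj g • (S₀ : Subgroup P) : Subgroup P) : Set P)) =
      Nat.card (Subgroup.normalizer ((S₀ : Subgroup P) : Set P)) := by
    show Nat.card (Subgroup.normalizer (((S₀ : Subgroup P).map (MulAut.conj g).toMonoidHom : Subgroup P) : Set P)) = _
    rw [← Subgroup.map_normalizer_eq_of_bijective _ (MulAut.conj g).bijective]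
    exact Subgroup.card_map_of_injective (MulAut.conj g).injective
  rw [hN]
  clear hN
  set U := transPart (⊤ : Subgroup SL2)
  have hB : Subgroup.normalizer ((S₀ : Subgroup P) : Set P) = (borel (⊤ : Subgroup SL2)).map prH := by
    refine le_antisymm ?_ hS₀
    -- S₀ is the image of the translations
    have hUS : U.map prH ≤ (S₀ : Subgroup P) := by
      have hle : U.map prH ≤ Subgroup.normalizer ((S₀ : Subgroup P) : Set P) := le_trans (Subgroup.map_mono
        (by rintro _ ⟨a, -, rfl⟩; exact ⟨trivial, by simp [upp_val]⟩)) hS₀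
      have hp : IsPGroup p (U.map prH) := IsPGroup.map (fun x => ⟨1, by
        obtain ⟨a, -, ha⟩ := x.2
        apply Subtype.ext
        rw [pow_one, SubmonoidClass.coe_pow, ha, upp_pow_char]; rfl⟩) _
      intro x hx
      exact ((hp.inf_normalizer_sylow S₀).le ⟨hx, hle hx⟩).2
    intro n hn
    obtain ⟨x, rfl⟩ := PSL2Inv.pr_surjective n
    refine Subgroup.mem_map_of_mem _ ⟨trivial, ?_⟩
    have hu : prH (upp 1) ∈ (S₀ : Subgroup P) := hUS (Subgroup.mem_map_of_mem _ ⟨1, trivial, rfl⟩)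
    have h1 : prH (x * upp 1 * x⁻¹) ∈ (S₀ : Subgroup P) := by
      rw [map_mul, map_mul, map_inv]; exact (Subgroup.mem_normalizer_iff.1 hn _).1 hu
    have hcard : Nat.card (S₀ : Subgroup P) ≤ Nat.card (U.map prH) := by
      have hidx : ¬ p ∣ (U.map prH).index := fun h => by
        have h3 := h.trans (U.index_map_dvd PSL2Inv.pr_surjective)
        have h4 := U.card_mul_index
        rw [card_transPart, card_sl2_eq, show Nat.card (addPart (⊤ : Subgroup SL2)) = Nat.card F from
          Nat.card_congr { toFun := Subtype.val, invFun := fun a => ⟨a, trivial⟩,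
                           left_inv := fun _ => rfl, right_inv := fun _ => rfl }] at h4
        rw [Nat.eq_of_mul_eq_mul_left Nat.card_pos h4] at h3
        haveI := Fintype.ofFinite F
        obtain ⟨m, -, hm⟩ := FiniteField.card F p
        rw [← Nat.card_eq_fintype_card] at hm
        have h5 := Nat.dvd_sub (dvd_pow (hm ▸ dvd_pow_self p m.ne_zero : p ∣ Nat.card F) two_ne_zero) h3
        rw [Nat.sub_sub_self (Nat.one_le_pow _ _ Nat.card_pos)] at h5
        exact (Fact.out : p.Prime).not_dvd_one h5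
      have hd := Subgroup.index_mul_card (U.map prH)
      have h6 : Nat.card (S₀ : Subgroup P) ∣ Nat.card (U.map prH) * (U.map prH).index := by
        rw [mul_comm, hd]; exact Subgroup.card_subgroup_dvd_card _
      obtain ⟨m, hm⟩ := IsPGroup.iff_card.1 S₀.2
      rw [hm] at h6 ⊢
      exact Nat.le_of_dvd Nat.card_pos
        (Nat.Coprime.dvd_of_dvd_mul_right (((Nat.Prime.coprime_iff_not_dvd Fact.out).2 hidx).pow_left m) h6)
    have hSU : U.map prH = (S₀ : Subgroup P) := Subgroup.eq_of_le_of_card_ge hUS hcard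
    rw [← hSU] at h1
    obtain ⟨y, ⟨a, -, rfl⟩, hy⟩ := h1
    have hs := pr_eq_one.1 (show prH ((upp a)⁻¹ * (x * upp 1 * x⁻¹)) = 1 by rw [map_mul, map_inv, hy, inv_mul_cancel])
    have h10 := (isSc_iff.1 hs).2.1
    simp only [Matrix.SpecialLinearGroup.coe_mul, upp_inv, Matrix.mul_apply, Fin.sum_univ_two] at h10
    simp [Matrix.SpecialLinearGroup.coe_inv, Matrix.adjugate_fin_two, upp_val] at h10
    exact mul_self_eq_zero.1 (by linear_combination -h10)
  rw [hB]
  have hsat : Saturated (borel (⊤ : Subgroup SL2)) := fun x hx => ⟨trivial, (isSc_iff.1 hx).2.1⟩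
  rw [← card_map hsat]
  have h1 := card_cosets (⊤ : Subgroup SL2)
  have hpts : points (⊤ : Subgroup SL2) = Set.univ := Set.eq_univ_of_forall fun r =>
    ⟨⟨!![r, -1; 1, 0], by simp [Matrix.det_fin_two]⟩, trivial, by simp, by simp⟩
  rw [Subgroup.card_top, card_sl2_eq, hpts, Set.ncard_univ,
    show Nat.card F ^ 2 - 1 = (Nat.card F + 1) * (Nat.card F - 1) by simpa using Nat.sq_sub_sq (Nat.card F) 1] at h1
  exact Nat.eq_of_mul_eq_mul_left (show 0 < Nat.card F + 1 by omega) (by linarith)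

theorem index_normalizer_sylow (p : ℕ) [Fact p.Prime] [CharP F p] (S : Sylow p P) :
    (Subgroup.normalizer ((S : Subgroup P) : Set P)).index = Nat.card F + 1 := by
  have h1 := card_normalizer_sylow p S
  have h2 := zz_mul_card (F := F)
  rw [← Subgroup.card_mul_index (Subgroup.normalizer ((S : Subgroup P) : Set P)), ← mul_assoc, h1,
    show Nat.card F ^ 2 - 1 = (Nat.card F + 1) * (Nat.card F - 1) by simpa using Nat.sq_sub_sq (Nat.card F) 1] at h2
  have := Finite.one_lt_card (α := F)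
  exact Nat.eq_of_mul_eq_mul_left (show 0 < Nat.card F * (Nat.card F - 1) from Nat.mul_pos (by omega) (by omega)) (by linarith)

/-- Dickson's theorem for proper subgroups. -/
theorem classify_proper' (p : ℕ) [Fact p.Prime] [CharP F p] {G : Subgroup P} (hG : G ≠ ⊤) :
    (∃ k : ℕ, (zz * k ∣ Nat.card F + 1 ∨ zz * k ∣ Nat.card F - 1) ∧
      ((IsCyclic G ∧ Nat.card G = k) ∨ Nonempty (G ≃* DihedralGroup k))) ∨
    (∃ S : Sylow p P, G ≤ Subgroup.normalizer ((S : Subgroup P) : Set P)) ∨
    (p ≠ 2 ∧ p ≠ 3 ∧ Nonempty (G ≃* alternatingGroup (Fin 4))) ∨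
    (p ≠ 2 ∧ p ≠ 3 ∧ Nonempty (G ≃* Equiv.Perm (Fin 4))) ∨
    (p ≠ 2 ∧ p ≠ 5 ∧ Nonempty (G ≃* alternatingGroup (Fin 5))) ∨
    (∃ (K : Type) (_ : Field K) (_ : Fintype K) (m : ℕ), 2 ≤ m ∧ Fintype.card K ^ m = Nat.card F ∧
      (∃ f : K →+* F, SubfieldLike f G) ∧
      (Nonempty (G ≃* Matrix.ProjectiveSpecialLinearGroup (Fin 2) K) ∨
        Nonempty (G ≃* Matrix.ProjGenLinGroup (Fin 2) K))) := by
  rcases classify p G with h | h | h | h | h | ⟨K, i1, i2, m, hm, hf, h⟩
  · exact Or.inl h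
  · exact Or.inr (Or.inl h)
  · exact Or.inr (Or.inr (Or.inl h))
  · exact Or.inr (Or.inr (Or.inr (Or.inl h)))
  · exact Or.inr (Or.inr (Or.inr (Or.inr (Or.inl h))))
  refine Or.inr (Or.inr (Or.inr (Or.inr (Or.inr ⟨K, i1, i2, m, ?_, hm, hf, h⟩))))
  by_contra hm2
  have hF1 : 1 < Nat.card F := Finite.one_lt_card
  have hm1 : m = 1 := by
    rcases Nat.eq_zero_or_pos m with rfl | h0
    · rw [pow_zero] at hm; omega
    · omega
  subst hm1
  rw [pow_one, ← Nat.card_eq_fintype_card] at hm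
  refine hG (Subgroup.eq_top_of_le_card _ ?_)
  have hz := zz_mul_card (F := F)
  rcases h with ⟨⟨e⟩⟩ | ⟨⟨e⟩⟩
  · rw [Nat.card_congr e.toEquiv]
    have hK := gcd_mul_card_psl (K := K)
    rw [hm, ← card_center] at hK
    exact (Nat.eq_of_mul_eq_mul_left Nat.card_pos (hz.trans hK.symm)).le
  · rw [Nat.card_congr e.toEquiv, card_pgl2, hm, ← hz]
    exact Nat.le_mul_of_pos_left _ Nat.card_pos

/-- Dickson's list without the position of the subfield groups. -/
theorem classify_proper (p : ℕ) [Fact p.Prime] [CharP F p] {G : Subgroup P} (hG : G ≠ ⊤) :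
    (∃ k : ℕ, (zz * k ∣ Nat.card F + 1 ∨ zz * k ∣ Nat.card F - 1) ∧
      ((IsCyclic G ∧ Nat.card G = k) ∨ Nonempty (G ≃* DihedralGroup k))) ∨
    (∃ S : Sylow p P, G ≤ Subgroup.normalizer ((S : Subgroup P) : Set P)) ∨
    Nonempty (G ≃* alternatingGroup (Fin 4)) ∨ Nonempty (G ≃* Equiv.Perm (Fin 4)) ∨
    Nonempty (G ≃* alternatingGroup (Fin 5)) ∨
    (∃ (K : Type) (_ : Field K) (_ : Fintype K) (m : ℕ), 2 ≤ m ∧ Fintype.card K ^ m = Nat.card F ∧
      (Nonempty (G ≃* Matrix.ProjectiveSpecialLinearGroup (Fin 2) K) ∨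
        Nonempty (G ≃* Matrix.ProjGenLinGroup (Fin 2) K))) :=
  (classify_proper' p hG).imp_right <| Or.imp_right <| Or.imp (·.2.2) <| Or.imp (·.2.2) <| Or.imp (·.2.2)
    fun ⟨K, i1, i2, m, h2, hm, _, h⟩ => ⟨K, i1, i2, m, h2, hm, h⟩

/-- A torus with an inverting element has a dihedral normalizer. -/
theorem dihedral_of_inverter {x w : SL2} (hx : ¬ IsSc x) (hτ : Matrix.trace (x : M2) ^ 2 ≠ 4)
    (hw : w * x * w⁻¹ = x⁻¹) {k : ℕ} (hc : Nat.card (cent (⊤ : Subgroup SL2) x) = zz * k) :
    Nonempty ((nz (⊤ : Subgroup SL2) x).map prH ≃* DihedralGroup k) ∧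
      Nat.card ((nz (⊤ : Subgroup SL2) x).map prH) = 2 * k := by
  have htop : Saturated (⊤ : Subgroup SL2) := fun y _ => trivial
  set H := nz (⊤ : Subgroup SL2) x with hH
  have hsat : Saturated H := fun y hy => cent_le_nz _ x (scPart_le_cent _ x ⟨trivial, hy⟩)
  have hxc : x ∈ cent (⊤ : Subgroup SL2) x := mem_cent.2 ⟨trivial, rfl⟩
  have hcH : cent H x = cent (⊤ : Subgroup SL2) x := by
    ext y
    rw [mem_cent, mem_cent]
    exact ⟨fun h => ⟨trivial, h.2⟩, fun h => ⟨cent_le_nz _ x (mem_cent.2 h), h.2⟩⟩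
  have hnH : nz H x = H := by
    rw [nz, hcH]
    refine le_antisymm inf_le_left (le_inf le_rfl ?_)
    exact inf_le_right
  have hwH : w ∈ H := mem_nz_of_conj_mem hx (Subgroup.mem_top w) hxc hx (by
    rw [hw]; exact (cent _ x).inv_mem hxc)
  have hwc : w ∉ cent H x := fun h => by
    have h1 : x = x⁻¹ := by rw [← hw, (mem_cent.1 h).2, mul_inv_cancel_right]
    have h2 : x * x = 1 := by nth_rw 2 [h1]; exact mul_inv_cancel x
    have hch := sq_val x
    rw [← Matrix.SpecialLinearGroup.coe_mul, h2, Matrix.SpecialLinearGroup.coe_one] at hch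
    by_cases ht : Matrix.trace (x : M2) = 0
    · rw [ht, zero_smul, zero_sub] at hch
      have h3 := congrFun (congrFun hch 0) 0
      simp at h3
      exact hτ (by rw [ht]; linear_combination (-2 : F) * h3)
    · refine hx ⟨2 / Matrix.trace (x : M2), ?_⟩
      have h3 : Matrix.trace (x : M2) • (x : M2) = (2 : F) • (1 : M2) := by
        rw [two_smul]; exact (eq_add_of_sub_eq hch.symm)
      rw [div_eq_inv_mul, ← smul_smul, ← h3, smul_smul, inv_mul_cancel₀ ht, one_smul]
  obtain ⟨M, s, h, hs, -, hM, -, hch, hnz⟩ := class_data hsat (hH ▸ cent_le_nz _ x hxc) hx hτ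
  have hs2 : s = 2 := hs.resolve_left fun h1 => hwc (by
    rw [h1, one_mul] at hnz
    have := Subgroup.eq_of_le_of_card_ge (cent_le_nz H x) hnz.le
    rw [hnH] at this
    rw [this]; exact hwH)
  rw [hcH, hc] at hch
  have hkh : k = h := Nat.eq_of_mul_eq_mul_left Nat.card_pos hch
  have hgk : Nat.card (H.map prH) = 2 * k := by
    refine Nat.eq_of_mul_eq_mul_left (Nat.card_pos (α := Subgroup.center SL2)) ?_
    rw [← card_map hsat, ← hnH, hnz, hs2, hcH, hc]
    ring
  exact ⟨dihedral_of_class hsat (hH ▸ cent_le_nz _ x hxc) hx hτ (by rw [hcH, hc])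
    (by rw [hnz, hs2]) hgk, hgk⟩

/-- A torus with an inverting element gives a dihedral subgroup. -/
theorem exists_dihedral_of_inverter {x w : SL2} (hx : ¬ IsSc x) (hτ : Matrix.trace (x : M2) ^ 2 ≠ 4)
    (hw : w * x * w⁻¹ = x⁻¹) {k : ℕ} (hc : Nat.card (cent (⊤ : Subgroup SL2) x) = zz * k) :
    ∃ D : Subgroup P, Nonempty (D ≃* DihedralGroup k) ∧ Nat.card D = 2 * k :=
  ⟨_, dihedral_of_inverter hx hτ hw hc⟩

theorem exists_dihedral_plus :
    ∃ D : Subgroup P, Nonempty (D ≃* DihedralGroup ((Nat.card F + 1) / zz)) ∧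
      Nat.card D = 2 * ((Nat.card F + 1) / zz) := by
  obtain ⟨x, hx⟩ := SL2Tori.exists_noEigen (F := F)
  have hns : ¬ IsSc x := fun ⟨c, hc⟩ => hx c ![1, 0] (fun e => by simpa using congrFun e 0) (by
    rw [hc, smul_mulVec, one_mulVec])
  have hτ : Matrix.trace (x : M2) ^ 2 ≠ 4 := fun h => by
    by_cases h2 : (2 : F) = 0
    · refine SL2Tori.noEigen_iff.1 hx 1 ?_
      have h0 : Matrix.trace (x : M2) = 0 :=
        pow_eq_zero_iff two_ne_zero |>.1 (by rw [h]; linear_combination (2 : F) * h2)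
      rw [h0, x.2]; linear_combination h2
    · refine SL2Tori.noEigen_iff.1 hx (Matrix.trace (x : M2) / 2) ?_
      rw [x.2]; field_simp; linear_combination -h
  obtain ⟨w, -, hw, -⟩ := SL2Tori.exists_inverter hx
  have hc : Nat.card (cent (⊤ : Subgroup SL2) x) = Nat.card F + 1 := by
    rw [← SL2Tori.card_torus hx]
    exact Nat.card_congr (MulEquiv.subgroupCongr (Subgroup.ext fun y => by
      simp [mem_cent, Subgroup.mem_centralizer_singleton_iff, SL2Tori.torus])).toEquiv
  have hd : zz ∣ Nat.card F + 1 := by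
    rw [← hc, ← scPart_eq (H := (⊤ : Subgroup SL2)) fun y _ => trivial]
    exact Subgroup.card_dvd_of_le (scPart_le_cent _ x)
  exact exists_dihedral_of_inverter hns hτ hw (by rw [hc, Nat.mul_div_cancel' hd])

theorem exists_dihedral_minus (hq : 4 ≤ Nat.card F) :
    ∃ D : Subgroup P, Nonempty (D ≃* DihedralGroup ((Nat.card F - 1) / zz)) ∧
      Nat.card D = 2 * ((Nat.card F - 1) / zz) := by
  classical
  haveI := Fintype.ofFinite F
  obtain ⟨a, ha⟩ : ∃ a : Fˣ, (a : F) * a ≠ 1 := by
    by_contra hno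
    push Not at hno
    have h1 : Fintype.card Fˣ ≤ 2 := by
      calc Fintype.card Fˣ = ((Finset.univ : Finset Fˣ).image fun a : Fˣ => (a : F)).card := by
            rw [Finset.card_image_of_injective _ Units.val_injective, Finset.card_univ]
        _ ≤ ({1, -1} : Finset F).card := Finset.card_le_card fun b hb => by
            obtain ⟨c, -, rfl⟩ := Finset.mem_image.1 hb
            simpa using mul_self_eq_one_iff.1 (hno c)
        _ ≤ 2 := Finset.card_le_two
    rw [Fintype.card_units, ← Nat.card_eq_fintype_card] at h1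
    omega
  let x : SL2 := ⟨!![(a : F), 0; 0, (a : F)⁻¹], by simp [Matrix.det_fin_two]⟩
  let w : SL2 := ⟨!![0, -1; 1, 0], by simp [Matrix.det_fin_two]⟩
  have hne : (a : F) ≠ (a : F)⁻¹ := fun h => ha (by nth_rw 2 [h]; exact mul_inv_cancel₀ a.ne_zero)
  have hns : ¬ IsSc x := fun h => hne (by simpa [x] using (isSc_iff.1 h).2.2)
  have hτ : Matrix.trace (x : M2) ^ 2 ≠ 4 := fun h => by
    simp [x, Matrix.trace_fin_two] at h
    exact hne (sub_eq_zero.1 (mul_self_eq_zero.1 (show ((a : F) - (a : F)⁻¹) * ((a : F) - (a : F)⁻¹) = 0 by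
      linear_combination h - 4 * mul_inv_cancel₀ a.ne_zero)))
  have hw : w * x * w⁻¹ = x⁻¹ := by
    rw [mul_inv_eq_iff_eq_mul]
    apply Subtype.ext
    simp only [Matrix.SpecialLinearGroup.coe_mul, Matrix.SpecialLinearGroup.coe_inv]
    apply ext2 <;> simp [w, x, Matrix.mul_apply, Fin.sum_univ_two, Matrix.adjugate_fin_two]
  have hmem : ∀ y : SL2, y ∈ cent (⊤ : Subgroup SL2) x ↔ (y : M2) 0 1 = 0 ∧ (y : M2) 1 0 = 0 := fun y => by
    rw [mem_cent]
    constructor
    · rintro ⟨-, h⟩
      obtain ⟨α, β, e⟩ := exists_repr hns h.symm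
      rw [e]; simp [x]
    · rintro ⟨h01, h10⟩
      refine ⟨trivial, Subtype.ext ?_⟩
      simp only [Matrix.SpecialLinearGroup.coe_mul]
      apply ext2 <;> simp [x, Matrix.mul_apply, Fin.sum_univ_two, h01, h10, mul_comm]
  have hc : Nat.card (cent (⊤ : Subgroup SL2) x) = Nat.card F - 1 := by
    rw [← Nat.card_units]
    refine (Nat.card_eq_of_bijective (fun c : Fˣ => (⟨⟨!![(c : F), 0; 0, (c : F)⁻¹], by
      simp [Matrix.det_fin_two]⟩, (hmem _).2 ⟨by simp, by simp⟩⟩ : cent (⊤ : Subgroup SL2) x)) ⟨?_, ?_⟩).symm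
    · intro c d h
      exact Units.ext (by simpa using congrArg (fun y : cent (⊤ : Subgroup SL2) x => ((y : SL2) : M2) 0 0) h)
    · rintro ⟨y, hy⟩
      obtain ⟨h01, h10⟩ := (hmem y).1 hy
      have hd := det_one y
      rw [h01, zero_mul, sub_zero] at hd
      refine ⟨Units.mk0 ((y : M2) 0 0) (left_ne_zero_of_mul_eq_one hd), Subtype.ext (Subtype.ext ?_)⟩
      apply ext2 <;> simp [h01, h10]
      exact inv_eq_of_mul_eq_one_right hd
  have hd : zz ∣ Nat.card F - 1 := by rw [card_center]; exact Nat.gcd_dvd_right _ _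
  exact exists_dihedral_of_inverter hns hτ hw (by rw [hc, Nat.mul_div_cancel' hd])

end Cfsg.Agent.Dickson
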