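/-
Isometry groups of non-degenerate alternating forms: transitivity, generation by transvections,
perfectness, primitivity on points, simplicity modulo scalars, and the order.
-/
import Mathlib.LinearAlgebra.BilinearForm.Orthogonal
import Mathlib.LinearAlgebra.Transvection.Basic
import Mathlib.LinearAlgebra.Projectivization.Action
import Mathlib.LinearAlgebra.FiniteDimensional.Basic
import Mathlib.LinearAlgebra.Dimension.Constructions
import Mathlib.FieldTheory.Finite.Basic
import Mathlib.GroupTheory.GroupAction.Iwasawa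
import Mathlib.Tactic.Module
import Mathlib.Tactic.LinearCombination

set_option autoImplicit false

universe u v

namespace Cfsg.Agent.AltForm

open LinearMap (BilinForm)
open scoped commutatorElement LinearAlgebra.Projectivization Pointwise

variable {F : Type u} [Field F] {V : Type v} [AddCommGroup V] [Module F V]

/-- Isometry group of a bilinear form. -/
def isoGroup (B : BilinForm F V) : Subgroup (V ≃ₗ[F] V) where
  carrier := {g | ∀ x y, B (g x) (g y) = B x y}
  mul_mem' {a b} ha hb x y := (ha (b x) (b y)).trans (hb x y)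
  one_mem' _ _ := rfl
  inv_mem' {a} ha x y := by
    have h := ha (a⁻¹ x) (a⁻¹ y)
    have hx : ∀ z, a (a⁻¹ z) = z := fun z => a.apply_symm_apply z
    rw [hx, hx] at h
    exact h.symm

/-- The maps `x ↦ x + c B(x,w) w`. -/
def transvSet (B : BilinForm F V) : Set (V ≃ₗ[F] V) :=
  {g | ∃ (w : V) (c : F), ∀ x, g x = x + (c * B x w) • w}

/-- Group generated by the transvections. -/
def transvGroup (B : BilinForm F V) : Subgroup (V ≃ₗ[F] V) := Subgroup.closure (transvSet B)

variable {B : BilinForm F V}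

theorem swap (hA : B.IsAlt) (x y : V) : B y x = -B x y := by
  exact (LinearMap.IsAlt.neg hA x y).symm

/-- Symplectic transvection. -/
def transv (hA : B.IsAlt) (w : V) (c : F) : V ≃ₗ[F] V :=
  LinearEquiv.transvection (f := c • B.flip w) (v := w) (by simp [hA.self_eq_zero w])

@[simp] theorem transv_apply (hA : B.IsAlt) (w : V) (c : F) (x : V) :
    transv hA w c x = x + (c * B x w) • w := by
  simp [transv, LinearMap.transvection.apply]

theorem transv_mem (hA : B.IsAlt) (w : V) (c : F) : transv hA w c ∈ transvGroup B :=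
  Subgroup.subset_closure ⟨w, c, transv_apply hA w c⟩

theorem transvGroup_le (hA : B.IsAlt) : transvGroup B ≤ isoGroup B := by
  rw [transvGroup, Subgroup.closure_le]
  rintro g ⟨w, c, hg⟩ x y
  simp [hg, hA.self_eq_zero w, swap hA y w]
  ring

theorem transv_mem_iso (hA : B.IsAlt) (w : V) (c : F) : transv hA w c ∈ isoGroup B :=
  transvGroup_le hA (transv_mem hA w c)

theorem exists_pair_ne {f g : V →ₗ[F] F} (hf : f ≠ 0) (hg : g ≠ 0) :
    ∃ x, f x ≠ 0 ∧ g x ≠ 0 := by
  obtain ⟨a, ha⟩ := DFunLike.ne_iff.1 hf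
  obtain ⟨b, hb⟩ := DFunLike.ne_iff.1 hg
  by_contra! h
  have h1 := h a ha
  have h2 : f b = 0 := by
    by_contra h2
    exact hb (by simpa using h b h2)
  have h3 := h (a + b) (by simpa [h2] using ha)
  rw [map_add, h1, zero_add] at h3
  exact hb (by simpa using h3)

theorem apply_ne_zero (hB : B.Nondegenerate) {u : V} (hu : u ≠ 0) : B u ≠ 0 :=
  fun h => hu (hB.1 u (fun y => by simp [h]))

theorem exists_eq_one (hB : B.Nondegenerate) {u : V} (hu : u ≠ 0) : ∃ v, B u v = 1 := by
  obtain ⟨w, hw⟩ := DFunLike.ne_iff.1 (apply_ne_zero hB hu)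
  exact ⟨(B u w)⁻¹ • w, by simpa using inv_mul_cancel₀ hw⟩

theorem ne_zero_of_eq_one {u v : V} (h : B u v = 1) : u ≠ 0 ∧ v ≠ 0 := by
  constructor <;> rintro rfl <;> simp at h

theorem transv_move (hA : B.IsAlt) {u v : V} (h : B u v ≠ 0) :
    transv hA (v - u) (B u v)⁻¹ u = v := by
  simp [hA.self_eq_zero u, h]

theorem exists_smul_eq (hA : B.IsAlt) (hB : B.Nondegenerate) {u v : V} (hu : u ≠ 0)
    (hv : v ≠ 0) : ∃ g ∈ transvGroup B, g u = v := by
  obtain ⟨w, h1, h2⟩ := exists_pair_ne (apply_ne_zero hB hu) (apply_ne_zero hB hv)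
  have h3 : B w v ≠ 0 := by rw [swap hA]; exact neg_ne_zero.2 h2
  refine ⟨_, mul_mem (transv_mem hA (v - w) (B w v)⁻¹) (transv_mem hA (w - u) (B u w)⁻¹), ?_⟩
  rw [LinearEquiv.mul_apply, transv_move hA h1, transv_move hA h3]

theorem exists_pair_map (hA : B.IsAlt) (hB : B.Nondegenerate) {u v u' v' : V}
    (h : B u v = 1) (h' : B u' v' = 1) : ∃ g ∈ transvGroup B, g u = u' ∧ g v = v' := by
  obtain ⟨g, hg, hgu⟩ := exists_smul_eq hA hB (ne_zero_of_eq_one h).1 (ne_zero_of_eq_one h').1
  have hone : B u' (g v) = 1 := by rw [← hgu, transvGroup_le hA hg, h]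
  have key : ∀ a b : V, B u' a = 1 → B u' b = 1 → B a b ≠ 0 →
      ∃ t ∈ transvGroup B, t u' = u' ∧ t a = b := fun a b ha hb hab =>
    ⟨_, transv_mem hA (b - a) (B a b)⁻¹, by simp [ha, hb], transv_move hA hab⟩
  obtain ⟨t, ht, htu, hta⟩ : ∃ t ∈ transvGroup B, t u' = u' ∧ t (g v) = v' := by
    by_cases hz : B (g v) v' = 0
    · obtain ⟨s, hs, hsu, hsa⟩ := key (g v) (g v + u') hone
        (by simp [hone, hA.self_eq_zero]) (by simp [hA.self_eq_zero, swap hA u', hone])
      obtain ⟨r, hr, hru, hra⟩ := key (g v + u') v' (by simp [hone, hA.self_eq_zero]) h'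
        (by simp [hz, h'])
      exact ⟨r * s, mul_mem hr hs, by simp [hsu, hru], by simp [hsa, hra]⟩
    · exact key _ _ hone h' hz
  exact ⟨t * g, mul_mem ht hg, by simp [hgu, htu], by simp [hta]⟩

/-- The orthogonal of a pair. -/
def pairPerp (B : BilinForm F V) (u v : V) : Submodule F V :=
  LinearMap.ker (B u) ⊓ LinearMap.ker (B v)

theorem mem_pairPerp {u v x : V} : x ∈ pairPerp B u v ↔ B u x = 0 ∧ B v x = 0 := by
  simp [pairPerp]

theorem pairPerp_left (hA : B.IsAlt) {u v : V} (w : pairPerp B u v) :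
    B (w : V) u = 0 ∧ B (w : V) v = 0 := by
  have := mem_pairPerp.1 w.2
  simp [swap hA u, swap hA v, this]

/-- Decomposition along a hyperbolic pair. -/
def split (hA : B.IsAlt) {u v : V} (h : B u v = 1) :
    ((F × F) × pairPerp B u v) ≃ₗ[F] V where
  toFun p := p.1.1 • u + p.1.2 • v + p.2
  map_add' p q := by simp [add_smul]; abel
  map_smul' c p := by simp [smul_add, smul_smul]
  invFun x := ((-B v x, B u x), ⟨x + B v x • u - B u x • v, mem_pairPerp.2
    ⟨by simp [hA.self_eq_zero, h], by simp [hA.self_eq_zero, swap hA u v, h]⟩⟩)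
  left_inv p := by
    obtain ⟨⟨a, b⟩, w⟩ := p
    obtain ⟨h1, h2⟩ := mem_pairPerp.1 w.2
    simp [hA.self_eq_zero, swap hA u v, h, h1, h2, Subtype.ext_iff]
    abel
  right_inv x := by simp

theorem finrank_pairPerp [FiniteDimensional F V] (hA : B.IsAlt) {u v : V} (h : B u v = 1) :
    Module.finrank F (pairPerp B u v) + 2 = Module.finrank F V := by
  rw [← LinearEquiv.finrank_eq (split hA h), Module.finrank_prod, Module.finrank_prod,
    Module.finrank_self]
  ring

theorem restrict_isAlt (hA : B.IsAlt) (W : Submodule F V) : (B.restrict W).IsAlt :=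
  fun w => hA.self_eq_zero (w : V)

theorem restrict_nondeg (hA : B.IsAlt) (hB : B.Nondegenerate) {u v : V} (h : B u v = 1) :
    (B.restrict (pairPerp B u v)).Nondegenerate := by
  have key : ∀ w : pairPerp B u v, (∀ w' : pairPerp B u v, B (w : V) w' = 0) → w = 0 := by
    intro w hw
    refine Subtype.ext (hB.1 _ fun x => ?_)
    obtain ⟨p, rfl⟩ := (split hA h).surjective x
    simp [split, pairPerp_left hA w, hw]
  refine ⟨fun w hw => key w hw, fun w hw => key w fun w' => ?_⟩
  have := hw w'
  rw [swap hA]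
  exact neg_eq_zero.2 this

/-- Extension of an automorphism of the orthogonal of a pair fixing the pair. -/
def extend (hA : B.IsAlt) {u v : V} (h : B u v = 1) :
    (pairPerp B u v ≃ₗ[F] pairPerp B u v) →* (V ≃ₗ[F] V) where
  toFun g := ((split hA h).symm.trans ((LinearEquiv.refl F (F × F)).prodCongr g)).trans (split hA h)
  map_one' := by
    ext x
    exact (split hA h).apply_symm_apply x
  map_mul' a b := by ext x; simp

theorem extend_apply (hA : B.IsAlt) {u v : V} (h : B u v = 1)
    (g : pairPerp B u v ≃ₗ[F] pairPerp B u v) (a b : F) (w : pairPerp B u v) :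
    extend hA h g (a • u + b • v + w) = a • u + b • v + g w := by
  have : (split hA h).symm (a • u + b • v + w) = ((a, b), w) :=
    (LinearEquiv.symm_apply_eq _).2 rfl
  show split hA h (((LinearEquiv.refl F (F × F)).prodCongr g)
    ((split hA h).symm (a • u + b • v + w))) = _
  rw [this]
  rfl

theorem extend_left (hA : B.IsAlt) {u v : V} (h : B u v = 1)
    (g : pairPerp B u v ≃ₗ[F] pairPerp B u v) : extend hA h g u = u := by
  simpa using extend_apply hA h g 1 0 0

theorem extend_right (hA : B.IsAlt) {u v : V} (h : B u v = 1)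
    (g : pairPerp B u v ≃ₗ[F] pairPerp B u v) : extend hA h g v = v := by
  simpa using extend_apply hA h g 0 1 0

theorem extend_coe (hA : B.IsAlt) {u v : V} (h : B u v = 1)
    (g : pairPerp B u v ≃ₗ[F] pairPerp B u v) (w : pairPerp B u v) :
    extend hA h g w = g w := by
  simpa using extend_apply hA h g 0 0 w

theorem ext_pair (hA : B.IsAlt) {u v : V} (h : B u v = 1) {g k : V ≃ₗ[F] V} (hu : g u = k u)
    (hv : g v = k v) (hw : ∀ w : pairPerp B u v, g w = k w) : g = k := by
  ext x
  obtain ⟨p, rfl⟩ := (split hA h).surjective x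
  simp [split, hu, hv, hw]

theorem extend_mem (hA : B.IsAlt) {u v : V} (h : B u v = 1)
    {g : pairPerp B u v ≃ₗ[F] pairPerp B u v} (hg : g ∈ isoGroup (B.restrict (pairPerp B u v))) :
    extend hA h g ∈ isoGroup B := by
  intro x y
  obtain ⟨p, rfl⟩ := (split hA h).surjective x
  obtain ⟨r, rfl⟩ := (split hA h).surjective y
  have h1 := mem_pairPerp.1 p.2.2
  have h2 := mem_pairPerp.1 r.2.2
  have h3 := mem_pairPerp.1 (g p.2).2
  have h4 := mem_pairPerp.1 (g r.2).2
  have h5 : B (g p.2 : V) (g r.2) = B (p.2 : V) r.2 := hg p.2 r.2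
  simp [split, extend_left, extend_right, extend_coe, pairPerp_left hA, h1, h2, h3, h4, h5]

/-- Restriction of an isometry fixing a pair to the orthogonal. -/
noncomputable def restrictPair [FiniteDimensional F V] {u v : V} (g : V ≃ₗ[F] V)
    (hg : g ∈ isoGroup B) (hu : g u = u) (hv : g v = v) :
    pairPerp B u v ≃ₗ[F] pairPerp B u v :=
  LinearEquiv.ofInjectiveEndo ((g : V →ₗ[F] V).restrict
    (p := pairPerp B u v) (q := pairPerp B u v) fun x hx => by
      obtain ⟨h1, h2⟩ := mem_pairPerp.1 hx
      have e1 := hg u x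
      have e2 := hg v x
      rw [hu, h1] at e1
      rw [hv, h2] at e2
      exact mem_pairPerp.2 ⟨e1, e2⟩)
    fun a b hab => Subtype.ext (g.injective (congrArg Subtype.val hab))

@[simp] theorem restrictPair_coe [FiniteDimensional F V] {u v : V} (g : V ≃ₗ[F] V)
    (hg : g ∈ isoGroup B) (hu : g u = u) (hv : g v = v) (w : pairPerp B u v) :
    (restrictPair g hg hu hv w : V) = g w := rfl

theorem restrictPair_mem [FiniteDimensional F V] {u v : V} (g : V ≃ₗ[F] V)
    (hg : g ∈ isoGroup B) (hu : g u = u) (hv : g v = v) :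
    restrictPair g hg hu hv ∈ isoGroup (B.restrict (pairPerp B u v)) :=
  fun x y => hg x y

theorem extend_restrict [FiniteDimensional F V] (hA : B.IsAlt) {u v : V} (h : B u v = 1)
    (g : V ≃ₗ[F] V) (hg : g ∈ isoGroup B) (hu : g u = u) (hv : g v = v) :
    extend hA h (restrictPair g hg hu hv) = g :=
  ext_pair hA h (by rw [extend_left, hu]) (by rw [extend_right, hv])
    fun w => by rw [extend_coe, restrictPair_coe]

theorem extend_transvGroup (hA : B.IsAlt) {u v : V} (h : B u v = 1)
    {g : pairPerp B u v ≃ₗ[F] pairPerp B u v}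
    (hg : g ∈ transvGroup (B.restrict (pairPerp B u v))) : extend hA h g ∈ transvGroup B := by
  refine (show transvGroup (B.restrict (pairPerp B u v)) ≤
    (transvGroup B).comap (extend hA h) from ?_) hg
  rw [transvGroup, Subgroup.closure_le]
  rintro t ⟨w, c, ht⟩
  have hw := mem_pairPerp.1 w.2
  have : extend hA h t = transv hA (w : V) c :=
    ext_pair hA h (by simp [extend_left, hw.1]) (by simp [extend_right, hw.2])
      fun z => by simp [extend_coe, ht]
  rw [SetLike.mem_coe, Subgroup.mem_comap, this]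
  exact transv_mem hA _ c

theorem finrank_eq_zero_iff_subsingleton [FiniteDimensional F V] (h : Module.finrank F V = 0) :
    Subsingleton V := (Module.finrank_zero_iff (R := F)).1 h

/-- The isometry group of a non-degenerate alternating form is generated by transvections. -/
theorem isoGroup_eq_transvGroup : ∀ {V : Type v} [AddCommGroup V] [Module F V]
    [FiniteDimensional F V] {B : BilinForm F V}, B.IsAlt → B.Nondegenerate →
    isoGroup B = transvGroup B := by
  suffices H : ∀ (n : ℕ) {V : Type v} [AddCommGroup V] [Module F V] [FiniteDimensional F V]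
      {B : BilinForm F V}, Module.finrank F V = n → B.IsAlt → B.Nondegenerate →
      isoGroup B = transvGroup B by
    intro V _ _ _ B hA hB
    exact H _ rfl hA hB
  intro n
  induction n using Nat.strong_induction_on with
  | _ n ih =>
    intro V _ _ _ B hn hA hB
    refine le_antisymm (fun g hg => ?_) (transvGroup_le hA)
    rcases subsingleton_or_nontrivial V with hV | hV
    · rw [show g = 1 from LinearEquiv.ext fun x => Subsingleton.elim _ _]
      exact one_mem _
    · obtain ⟨u, hu⟩ := exists_ne (0 : V)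
      obtain ⟨v, h⟩ := exists_eq_one hB hu
      obtain ⟨t, ht, htu, htv⟩ := exists_pair_map hA hB (u := g u) (v := g v)
        ((hg u v).trans h) h
      have hk : t * g ∈ isoGroup B := mul_mem (transvGroup_le hA ht) hg
      have := finrank_pairPerp hA h
      have hr := ih _ (by omega) rfl (restrict_isAlt hA _) (restrict_nondeg hA hB h)
      have hmem := restrictPair_mem (t * g) hk htu htv
      rw [hr] at hmem
      have h2 := extend_transvGroup hA h hmem
      rw [show extend hA h (restrictPair (t * g) hk htu htv) = t * g from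
        extend_restrict hA h _ hk htu htv] at h2
      simpa using mul_mem (inv_mem ht) h2

/-! ### Counting -/

theorem exists_finrank_eq [FiniteDimensional F V] (hA : B.IsAlt) (hB : B.Nondegenerate) :
    ∃ m, Module.finrank F V = 2 * m := by
  suffices H : ∀ (n : ℕ) {V : Type v} [AddCommGroup V] [Module F V] [FiniteDimensional F V]
      {B : BilinForm F V}, Module.finrank F V = n → B.IsAlt → B.Nondegenerate →
      ∃ m, n = 2 * m from H _ rfl hA hB
  intro n
  induction n using Nat.strong_induction_on with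
  | _ n ih =>
    intro V _ _ _ B hn hA hB
    rcases subsingleton_or_nontrivial V with hV | hV
    · exact ⟨0, by rw [← hn, Module.finrank_zero_of_subsingleton]⟩
    · obtain ⟨u, hu⟩ := exists_ne (0 : V)
      obtain ⟨v, h⟩ := exists_eq_one hB hu
      have := finrank_pairPerp hA h
      obtain ⟨m, hm⟩ := ih _ (by omega) rfl (restrict_isAlt hA (pairPerp B u v))
        (restrict_nondeg hA hB h)
      exact ⟨m + 1, by omega⟩

theorem card_pairs [Finite F] [FiniteDimensional F V] (hB : B.Nondegenerate)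
    {n : ℕ} (hn : Module.finrank F V = n + 1) :
    Nat.card {p : V × V // B p.1 p.2 = 1} =
      (Nat.card F ^ (n + 1) - 1) * Nat.card F ^ n := by
  haveI : Finite V := Module.finite_of_finite F
  haveI := Fintype.ofFinite {w : V // w ≠ 0}
  let e : {p : V × V // B p.1 p.2 = 1} ≃ Σ u : {w : V // w ≠ 0}, {w : V // B u.1 w = 1} :=
    { toFun := fun p => ⟨⟨p.1.1, (ne_zero_of_eq_one p.2).1⟩, ⟨p.1.2, p.2⟩⟩
      invFun := fun q => ⟨(q.1.1, q.2.1), q.2.2⟩ }
  have hfib : ∀ u : {w : V // w ≠ 0},
      Nat.card {w : V // B u.1 w = 1} = Nat.card F ^ n := by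
    intro u
    obtain ⟨w0, hw0⟩ := exists_eq_one hB u.2
    let e' : {w : V // B u.1 w = 1} ≃ LinearMap.ker (B u.1) :=
      { toFun := fun w => ⟨w.1 - w0, by simp [w.2, hw0]⟩
        invFun := fun w => ⟨w.1 + w0, by simp [hw0, LinearMap.mem_ker.1 w.2]⟩
        left_inv := fun w => by simp
        right_inv := fun w => by simp }
    have hr := LinearMap.finrank_range_add_finrank_ker (B u.1)
    rw [LinearMap.range_eq_top.2 (fun c => ⟨c • w0, by simp [hw0]⟩), finrank_top,
      Module.finrank_self, hn] at hr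
    rw [Nat.card_congr e', Module.natCard_eq_pow_finrank (K := F)]
    congr 1
    omega
  rw [Nat.card_congr e, Nat.card_sigma, Finset.sum_congr rfl fun u _ => hfib u,
    Finset.sum_const, Finset.card_univ, smul_eq_mul, ← Nat.card_eq_fintype_card]
  congr 1
  haveI := Fintype.ofFinite V
  classical
  rw [Nat.card_eq_fintype_card, Fintype.card_subtype_compl, Fintype.card_subtype_eq,
    ← Nat.card_eq_fintype_card, Module.natCard_eq_pow_finrank (K := F) (V := V), hn]

/-- The group splits as (hyperbolic pairs) × (isometries of the orthogonal). -/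
noncomputable def isoEquivPairs [FiniteDimensional F V] (hA : B.IsAlt) (hB : B.Nondegenerate)
    {u v : V} (h : B u v = 1) :
    isoGroup B ≃ {p : V × V // B p.1 p.2 = 1} × isoGroup (B.restrict (pairPerp B u v)) :=
  have hs : ∀ p : {p : V × V // B p.1 p.2 = 1},
      ∃ g ∈ isoGroup B, g u = p.1.1 ∧ g v = p.1.2 := fun p => by
    obtain ⟨g, hg, h1⟩ := exists_pair_map hA hB h p.2
    exact ⟨g, transvGroup_le hA hg, h1⟩
  Equiv.symm <| Equiv.ofBijective
    (fun q => (⟨(hs q.1).choose * extend hA h q.2.1,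
      mul_mem (hs q.1).choose_spec.1 (extend_mem hA h q.2.2)⟩ : isoGroup B)) <| by
    constructor
    · rintro ⟨p, k⟩ ⟨p', k'⟩ hpk
      have heq := congrArg Subtype.val hpk
      simp only at heq
      have hp : p = p' := by
        apply Subtype.ext
        have e1 := LinearEquiv.congr_fun heq u
        have e2 := LinearEquiv.congr_fun heq v
        simp only [LinearEquiv.mul_apply, extend_left, extend_right,
          (hs p).choose_spec.2, (hs p').choose_spec.2] at e1 e2
        exact Prod.ext e1 e2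
      subst hp
      have hk : extend hA h k.1 = extend hA h k'.1 := mul_left_cancel heq
      refine Prod.ext rfl (Subtype.ext (LinearEquiv.ext fun w => Subtype.ext ?_))
      have := LinearEquiv.congr_fun hk (w : V)
      rwa [extend_coe, extend_coe] at this
    · intro g
      let p : {p : V × V // B p.1 p.2 = 1} := ⟨(g.1 u, g.1 v), (g.2 u v).trans h⟩
      obtain ⟨hmem, hu', hv'⟩ := (hs p).choose_spec
      have h1 : ((hs p).choose⁻¹ * g.1) u = u := by
        rw [LinearEquiv.mul_apply]; exact (LinearEquiv.symm_apply_eq _).2 hu'.symm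
      have h2 : ((hs p).choose⁻¹ * g.1) v = v := by
        rw [LinearEquiv.mul_apply]; exact (LinearEquiv.symm_apply_eq _).2 hv'.symm
      refine ⟨(p, ⟨_, restrictPair_mem _ (mul_mem (inv_mem hmem) g.2) h1 h2⟩), Subtype.ext ?_⟩
      simp [extend_restrict]

theorem card_isoGroup [Finite F] [FiniteDimensional F V] (hA : B.IsAlt) (hB : B.Nondegenerate)
    {m : ℕ} (hm : Module.finrank F V = 2 * m) :
    Nat.card (isoGroup B) = Nat.card F ^ (m ^ 2) *
      ∏ i ∈ Finset.range m, (Nat.card F ^ (2 * (i + 1)) - 1) := by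
  induction m generalizing V with
  | zero =>
    haveI := finrank_eq_zero_iff_subsingleton hm
    haveI : Subsingleton (V ≃ₗ[F] V) := ⟨fun a b => LinearEquiv.ext fun x => Subsingleton.elim _ _⟩
    simp [Nat.card_of_subsingleton (1 : isoGroup B)]
  | succ m ih =>
    haveI : Nontrivial V := Module.nontrivial_of_finrank_pos (R := F) (by omega)
    obtain ⟨u, hu⟩ := exists_ne (0 : V)
    obtain ⟨v, h⟩ := exists_eq_one hB hu
    have := finrank_pairPerp hA h
    rw [Nat.card_congr (isoEquivPairs hA hB h), Nat.card_prod,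
      card_pairs hB (n := 2 * m + 1) (by omega),
      ih (restrict_isAlt hA (pairPerp B u v)) (restrict_nondeg hA hB h) (by omega),
      Finset.prod_range_succ, show (m + 1) ^ 2 = 2 * m + 1 + m ^ 2 by ring, pow_add]
    ring

/-! ### Perfectness -/

/-- `x ↦ x + c (B(x,e) z + B(x,z) e)` as a product of three transvections. -/
def eop (hA : B.IsAlt) (e z : V) (c : F) : V ≃ₗ[F] V :=
  transv hA (e + z) c * transv hA e (-c) * transv hA z (-c)

theorem eop_apply (hA : B.IsAlt) {e z : V} (h : B e z = 0) (c : F) (x : V) :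
    eop hA e z c x = x + (c * B x e) • z + (c * B x z) • e := by
  have h' : B z e = 0 := by rw [swap hA, h, neg_zero]
  simp [eop, h, h', hA.self_eq_zero, mul_add, add_smul]
  abel

theorem eop_mem (hA : B.IsAlt) (e z : V) (c : F) : eop hA e z c ∈ transvGroup B :=
  mul_mem (mul_mem (transv_mem hA _ _) (transv_mem hA _ _)) (transv_mem hA _ _)

theorem transv_mul (hA : B.IsAlt) (w : V) (c d : F) :
    transv hA w c * transv hA w d = transv hA w (c + d) := by
  ext x
  simp [hA.self_eq_zero, add_mul, add_smul]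
  abel

theorem transv_zero (hA : B.IsAlt) (w : V) : transv hA w 0 = 1 := by ext x; simp

theorem transv_inv (hA : B.IsAlt) (w : V) (c : F) : (transv hA w c)⁻¹ = transv hA w (-c) :=
  inv_eq_of_mul_eq_one_right (by rw [transv_mul, add_neg_cancel, transv_zero])

theorem transv_smul (hA : B.IsAlt) (w : V) (a c : F) :
    transv hA (a • w) c = transv hA w (a * a * c) := by
  ext x
  simp [smul_smul]
  ring_nf

theorem conj_transv (hA : B.IsAlt) {g : V ≃ₗ[F] V} (hg : g ∈ isoGroup B) (w : V) (c : F) :
    g * transv hA w c * g⁻¹ = transv hA (g w) c := by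
  rw [mul_inv_eq_iff_eq_mul]
  ext x
  simp [hg x w]

theorem conj_eop (hA : B.IsAlt) {g : V ≃ₗ[F] V} (hg : g ∈ isoGroup B) (e z : V) (c : F) :
    g * eop hA e z c * g⁻¹ = eop hA (g e) (g z) c := by
  simp only [eop, ← map_add, ← conj_transv hA hg]
  group

theorem comm_mem {S : Subgroup (V ≃ₗ[F] V)} {a b : V ≃ₗ[F] V} (ha : a ∈ S) (hb : b ∈ S) :
    a * b * a⁻¹ * b⁻¹ ∈ ⁅S, S⁆ := Subgroup.commutator_mem_commutator ha hb

theorem transv_mem_commutator [FiniteDimensional F V] (hA : B.IsAlt) (hB : B.Nondegenerate)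
    (hcase : (∃ a : F, a ≠ 0 ∧ a ^ 2 ≠ 1) ∨
      (4 ≤ Module.finrank F V ∧ (2 : F) ≠ 0) ∨ 6 ≤ Module.finrank F V) (e : V) (c : F) :
    transv hA e c ∈ ⁅isoGroup B, isoGroup B⁆ := by
  rcases eq_or_ne e 0 with rfl | he
  · rw [show transv hA (0 : V) c = 1 by ext x; simp]
    exact one_mem _
  obtain ⟨f, hef⟩ := exists_eq_one hB he
  rcases hcase with ⟨a, ha, ha2⟩ | hd
  · obtain ⟨h, hh, hhe, -⟩ := exists_pair_map hA hB hef
      (show B (a • e) (a⁻¹ • f) = 1 by simp [hef, ha])
    have hc := comm_mem (transvGroup_le hA hh) (transv_mem_iso hA e (c / (a ^ 2 - 1)))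
    rw [conj_transv hA (transvGroup_le hA hh), hhe, transv_smul, transv_inv, transv_mul] at hc
    convert hc using 2
    have : a ^ 2 - 1 ≠ 0 := sub_ne_zero.2 ha2
    field_simp
    ring
  have h4 : 4 ≤ Module.finrank F V := by rcases hd with h | h <;> omega
  have hW := finrank_pairPerp hA hef
  haveI : Nontrivial (pairPerp B e f) := Module.nontrivial_of_finrank_pos (R := F) (by omega)
  obtain ⟨p, hp⟩ := exists_ne (0 : pairPerp B e f)
  obtain ⟨q, hpq'⟩ := exists_eq_one (restrict_nondeg hA hB hef) hp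
  have hpq : B (p : V) q = 1 := hpq'
  have hqp : B (q : V) p = -1 := by rw [swap hA, hpq]
  obtain ⟨hep, -⟩ := mem_pairPerp.1 p.2
  obtain ⟨heq', -⟩ := mem_pairPerp.1 q.2
  have hpe := (pairPerp_left hA p).1
  have hqe := (pairPerp_left hA q).1
  -- g fixes e and sends p to p + e
  have hg : eop hA e (q : V) 1 ∈ isoGroup B := transvGroup_le hA (eop_mem hA _ _ _)
  have hge : eop hA e (q : V) 1 e = e := by
    simp [eop_apply hA heq', hA.self_eq_zero, heq']
  have hgp : eop hA e (q : V) 1 (p : V) = p + e := by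
    simp [eop_apply hA heq', hpe, hpq]
  have hep2 : B e ((p : V) + e) = 0 := by simp [hep, hA.self_eq_zero]
  rcases hd with ⟨-, h2⟩ | h6
  · have hc := comm_mem hg (transvGroup_le hA (eop_mem hA e (p : V) (c / 2)))
    rw [conj_eop hA hg, hge, hgp] at hc
    convert hc using 1
    rw [eq_mul_inv_iff_mul_eq]
    ext x
    simp [eop_apply hA hep, eop_apply hA hep2, hA.self_eq_zero, hep, hpe]
    match_scalars <;> field_simp <;> ring
  · have hW2 := finrank_pairPerp (B := B.restrict (pairPerp B e f)) (restrict_isAlt hA _) hpq'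
    haveI : Nontrivial (pairPerp (B.restrict (pairPerp B e f)) p q) :=
      Module.nontrivial_of_finrank_pos (R := F) (by omega)
    obtain ⟨r', hr'⟩ := exists_ne (0 : pairPerp (B.restrict (pairPerp B e f)) p q)
    obtain ⟨s', hrs'⟩ := exists_eq_one
      (restrict_nondeg (restrict_isAlt hA _) (restrict_nondeg hA hB hef) hpq') hr'
    obtain ⟨hpr, -⟩ := mem_pairPerp.1 r'.2
    obtain ⟨hps, -⟩ := mem_pairPerp.1 s'.2
    obtain ⟨hre, -⟩ := pairPerp_left hA r'.1
    obtain ⟨hse, -⟩ := pairPerp_left hA s'.1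
    obtain ⟨her, -⟩ := mem_pairPerp.1 r'.1.2
    obtain ⟨hes, -⟩ := mem_pairPerp.1 s'.1.2
    set r : V := r'.1.1
    set s : V := s'.1.1
    change B (p : V) r = 0 at hpr
    change B (p : V) s = 0 at hps
    change B r s = 1 at hrs'
    have hrp : B r p = 0 := by rw [swap hA, hpr, neg_zero]
    have hE : eop hA e (p : V) c ∈ ⁅isoGroup B, isoGroup B⁆ := by
      have hk : eop hA (p : V) s 1 ∈ isoGroup B := transvGroup_le hA (eop_mem hA _ _ _)
      have hke : eop hA (p : V) s 1 e = e := by simp [eop_apply hA hps, hep, hes]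
      have hkr : eop hA (p : V) s 1 r = r + p := by simp [eop_apply hA hps, hrp, hrs']
      have her2 : B e (r + p) = 0 := by simp [her, hep]
      have hc := comm_mem hk (transvGroup_le hA (eop_mem hA e r c))
      rw [conj_eop hA hk, hke, hkr] at hc
      convert hc using 1
      rw [eq_mul_inv_iff_mul_eq]
      ext x
      simp [eop_apply hA hep, eop_apply hA her, eop_apply hA her2, hA.self_eq_zero, hep, hpe,
        hre, hrp, her, hpr]
      module
    have hT : transv hA ((p : V) + e) c * (transv hA (p : V) c)⁻¹ ∈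
        ⁅isoGroup B, isoGroup B⁆ := by
      have hc := comm_mem hg (transv_mem_iso hA (p : V) c)
      rwa [conj_transv hA hg, hgp] at hc
    convert mul_mem (inv_mem hE) hT using 1
    rw [eop, transv_inv, eq_inv_mul_iff_mul_eq, add_comm e (p : V), mul_assoc, mul_assoc]
    congr 1
    ext x
    simp [hA.self_eq_zero, hep, hpe]
    module

theorem commutator_isoGroup [FiniteDimensional F V] (hA : B.IsAlt) (hB : B.Nondegenerate)
    (hcase : (∃ a : F, a ≠ 0 ∧ a ^ 2 ≠ 1) ∨
      (4 ≤ Module.finrank F V ∧ (2 : F) ≠ 0) ∨ 6 ≤ Module.finrank F V) :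
    commutator (isoGroup B) = ⊤ := by
  apply Subgroup.map_injective (isoGroup B).subtype_injective
  rw [map_commutator_eq, ← MonoidHom.range_eq_map, Subgroup.range_subtype]
  refine le_antisymm (Subgroup.commutator_le_self _) ?_
  conv_lhs => rw [isoGroup_eq_transvGroup hA hB]
  rw [transvGroup, Subgroup.closure_le]
  rintro t ⟨w, c, ht⟩
  rw [show t = transv hA w c from LinearEquiv.ext fun x => by simp [ht]]
  exact transv_mem_commutator hA hB hcase w c

/-! ### Primitivity and simplicity -/

theorem smul_point (g : isoGroup B) {x : V} (hx : x ≠ 0) :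
    g • Projectivization.mk F x hx =
      Projectivization.mk F (g.1 x) (g.1.map_ne_zero_iff.2 hx) :=
  Projectivization.smul_mk g hx

theorem isPreprimitive (hA : B.IsAlt) (hB : B.Nondegenerate) :
    MulAction.IsPreprimitive (isoGroup B) (ℙ F V) := by
  haveI : MulAction.IsPretransitive (isoGroup B) (ℙ F V) := by
    constructor
    intro a b
    induction a using Projectivization.ind with | _ u hu => ?_
    induction b using Projectivization.ind with | _ v hv => ?_
    obtain ⟨g, hg, hgu⟩ := exists_smul_eq hA hB hu hv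
    exact ⟨⟨g, transvGroup_le hA hg⟩, by rw [smul_point]; simp [hgu]⟩
  constructor
  intro S hS
  refine or_iff_not_imp_left.2 fun hns => ?_
  have stab : ∀ {a : ℙ F V}, a ∈ S → ∀ g : isoGroup B, g • a = a → ∀ b ∈ S, g • b ∈ S := by
    intro a ha g hga b hb
    have := hS.smul_eq_of_mem ha (g := g) (by rwa [hga])
    exact this ▸ Set.smul_mem_smul_set hb
  let P : V → Prop := fun x => ∃ hx : x ≠ 0, Projectivization.mk F x hx ∈ S
  have hscale : ∀ {x : V} {a : F}, a ≠ 0 → P x → P (a • x) := by
    rintro x a ha ⟨hx, hm⟩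
    refine ⟨smul_ne_zero ha hx, ?_⟩
    rwa [(Projectivization.mk_eq_mk_iff' F _ x _ hx).2 ⟨a, rfl⟩]
  have move : ∀ {u v w : V} (g : isoGroup B), P u → g.1 u = u → g.1 v = w → P v → P w := by
    rintro u v w g ⟨hu, hmu⟩ hgu hgv ⟨hv, hmv⟩
    subst hgv
    refine ⟨g.1.map_ne_zero_iff.2 hv, ?_⟩
    rw [← smul_point g hv]
    exact stab hmu g (by rw [smul_point]; simp [hgu]) _ hmv
  -- a non-orthogonal pair in the block forces everything
  have A : ∀ {u v : V}, P u → P v → B u v ≠ 0 → ∀ w, B u w ≠ 0 → P w := by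
    intro u v hu hv huv w huw
    have hv1 := hscale (inv_ne_zero huv) hv
    obtain ⟨g, hg, hgu, hgv⟩ := exists_pair_map hA hB
      (show B u ((B u v)⁻¹ • v) = 1 by simp [huv]) (show B u ((B u w)⁻¹ • w) = 1 by simp [huw])
    have hw := move ⟨g, transvGroup_le hA hg⟩ hu hgu hgv hv1
    simpa [smul_smul, huw] using hscale huw hw
  have univ_of : ∀ {u v : V}, P u → P v → B u v ≠ 0 → S = Set.univ := by
    intro u v hu hv huv
    refine Set.eq_univ_of_forall fun b => ?_
    induction b using Projectivization.ind with | _ w hw => ?_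
    obtain ⟨z, h1, h2⟩ := exists_pair_ne (apply_ne_zero hB hu.choose) (apply_ne_zero hB hw)
    have hz : P z := A hu hv huv z h1
    obtain ⟨_, hm⟩ := A hz hu (by rw [swap hA]; simpa using h1) w
      (by rw [swap hA]; simpa using h2)
    exact hm
  rw [Set.not_subsingleton_iff] at hns
  obtain ⟨a, ha, b, hb, hab⟩ := hns
  induction a using Projectivization.ind with | _ u hu => ?_
  induction b using Projectivization.ind with | _ v hv => ?_
  by_cases huv : B u v = 0
  swap
  · exact univ_of ⟨hu, ha⟩ ⟨hv, hb⟩ huv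
  have hli : ∀ c : F, v ≠ c • u := by
    intro c hc
    exact hab ((Projectivization.mk_eq_mk_iff' F v u hv hu).2 ⟨c, hc.symm⟩).symm
  -- some z in the block with B v z ≠ 0 and B u z = 0
  obtain ⟨z, hz1, hz2⟩ : ∃ z, B u z = 0 ∧ B v z ≠ 0 := by
    by_contra! hno
    obtain ⟨f, hf⟩ := exists_eq_one hB hu
    refine hli (B v f) (sub_eq_zero.1 (hB.1 _ fun x => ?_))
    have := hno (x - B u x • f) (by simp [hf])
    simp at this ⊢
    rw [← sub_eq_zero.2 (sub_eq_zero.1 this)]
    ring
  have hg : transv hA (z - v) (B v z)⁻¹ ∈ isoGroup B := transv_mem_iso hA _ _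
  have hPz : P z := move ⟨_, hg⟩ ⟨hu, ha⟩ (by simp [huv, hz1]) (transv_move hA hz2) ⟨hv, hb⟩
  exact univ_of ⟨hv, hb⟩ hPz hz2

theorem eq_smul_of_fix (g : isoGroup B) (hfix : ∀ p : ℙ F V, g • p = p) (hB : B.Nondegenerate)
    (hA : B.IsAlt) : g ∈ Subgroup.center (isoGroup B) := by
  have eig : ∀ x, ∃ l : F, g.1 x = l • x := by
    intro x
    rcases eq_or_ne x 0 with rfl | hx
    · exact ⟨0, by simp⟩
    have := hfix (Projectivization.mk F x hx)
    rw [smul_point, Projectivization.mk_eq_mk_iff'] at this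
    obtain ⟨l, hl⟩ := this
    exact ⟨l, hl.symm⟩
  choose l hl using eig
  have hinv : ∀ x w, B x w ≠ 0 → l x * l w = 1 := by
    intro x w hxw
    have := g.2 x w
    rw [hl x, hl w] at this
    simp only [map_smul, LinearMap.smul_apply, smul_eq_mul] at this
    field_simp at this
    linear_combination this
  have hconst : ∀ x w, x ≠ 0 → w ≠ 0 → l x = l w := by
    intro x w hx hw
    obtain ⟨z, h1, h2⟩ := exists_pair_ne (apply_ne_zero hB hx) (apply_ne_zero hB hw)
    have e := (hinv x z h1).trans (hinv w z h2).symm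
    exact mul_right_cancel₀ (right_ne_zero_of_mul (a := l x) (by rw [hinv x z h1]; simp)) e
  refine Subgroup.mem_center_iff.2 fun h => Subtype.ext (LinearEquiv.ext fun x => ?_)
  rcases eq_or_ne x 0 with rfl | hx
  · simp
  simp only [Subgroup.coe_mul, LinearEquiv.mul_apply, hl, map_smul]
  rw [hconst _ _ hx (h.1.map_ne_zero_iff.2 hx)]

/-- The root groups. -/
noncomputable def rootGroup (hA : B.IsAlt) (p : ℙ F V) : Subgroup (isoGroup B) where
  carrier := {g | ∃ c, g.1 = transv hA p.rep c}
  one_mem' := ⟨0, by rw [transv_zero]; rfl⟩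
  mul_mem' := by
    rintro a b ⟨c, hc⟩ ⟨d, hd⟩
    exact ⟨c + d, by rw [← transv_mul, ← hc, ← hd]; rfl⟩
  inv_mem' := by
    rintro a ⟨c, hc⟩
    exact ⟨-c, by rw [← transv_inv, ← hc]; rfl⟩

theorem mem_rootGroup (hA : B.IsAlt) {p : ℙ F V} {g : isoGroup B} :
    g ∈ rootGroup hA p ↔ ∃ c, g.1 = transv hA p.rep c := Iff.rfl

/-- The Iwasawa structure on projective points. -/
noncomputable def iwasawa [FiniteDimensional F V] (hA : B.IsAlt) (hB : B.Nondegenerate) :
    MulAction.IwasawaStructure (isoGroup B) (ℙ F V) where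
  T := rootGroup hA
  is_comm p := ⟨⟨fun a b => by
    obtain ⟨c, hc⟩ := (mem_rootGroup hA).1 a.2
    obtain ⟨d, hd⟩ := (mem_rootGroup hA).1 b.2
    refine Subtype.ext (Subtype.ext ?_)
    show a.1.1 * b.1.1 = b.1.1 * a.1.1
    rw [hc, hd, transv_mul, transv_mul, add_comm]⟩⟩
  is_conj g p := by
    obtain ⟨a, ha⟩ : ∃ a : F, a • g.1 p.rep = (g • p).rep := by
      have : g • p = Projectivization.mk F (g.1 p.rep) (g.1.map_ne_zero_iff.2 p.rep_nonzero) := by
        rw [← smul_point g p.rep_nonzero, Projectivization.mk_rep]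
      rw [this]
      obtain ⟨u, hu⟩ := Projectivization.exists_smul_eq_mk_rep F (g.1 p.rep)
        (g.1.map_ne_zero_iff.2 p.rep_nonzero)
      exact ⟨u, hu⟩
    have ha0 : a ≠ 0 := fun h0 => (g • p).rep_nonzero (by rw [← ha, h0, zero_smul])
    ext k
    simp only [Subgroup.mem_pointwise_smul_iff_inv_smul_mem, MulAut.smul_def, MulAut.inv_apply,
      MulAut.conj_symm_apply, mem_rootGroup, ← ha, transv_smul, Subgroup.coe_mul,
      Subgroup.coe_inv, ← conj_transv hA g.2]
    constructor
    · rintro ⟨c, hc⟩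
      exact ⟨a * a * c, by rw [hc]; group⟩
    · rintro ⟨c, hc⟩
      refine ⟨c / (a * a), ?_⟩
      rw [mul_div_cancel₀ c (mul_ne_zero ha0 ha0), ← hc]
      group
  is_generator := by
    apply Subgroup.map_injective (isoGroup B).subtype_injective
    rw [← MonoidHom.range_eq_map, Subgroup.range_subtype]
    refine le_antisymm (Subgroup.map_subtype_le _) ?_
    conv_lhs => rw [isoGroup_eq_transvGroup hA hB]
    rw [transvGroup, Subgroup.closure_le]
    rintro t ⟨w, c, ht⟩
    rw [show t = transv hA w c from LinearEquiv.ext fun x => by simp [ht]]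
    rcases eq_or_ne w 0 with rfl | hw
    · rw [show transv hA (0 : V) c = 1 by ext x; simp]
      exact one_mem _
    obtain ⟨a, ha⟩ := Projectivization.exists_smul_eq_mk_rep F w hw
    refine ⟨⟨transv hA w c, transv_mem_iso hA w c⟩,
      Subgroup.mem_iSup_of_mem (Projectivization.mk F w hw) ⟨c / (a * a), ?_⟩, rfl⟩
    rw [← ha, Units.smul_def, transv_smul,
      mul_div_cancel₀ c (mul_ne_zero a.ne_zero a.ne_zero)]

theorem normal_le_center_or_top [FiniteDimensional F V] (hA : B.IsAlt) (hB : B.Nondegenerate)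
    (hperf : commutator (isoGroup B) = ⊤) (N : Subgroup (isoGroup B)) [N.Normal] :
    N ≤ Subgroup.center (isoGroup B) ∨ N = ⊤ := by
  haveI := isPreprimitive hA hB
  by_cases h : MulAction.fixedPoints N (ℙ F V) = .univ
  · exact Or.inl fun g hg =>
      eq_smul_of_fix g (fun p => Set.eq_univ_iff_forall.1 h p ⟨g, hg⟩) hB hA
  · exact Or.inr (top_le_iff.1 (hperf ▸ (iwasawa hA hB).commutator_le N h))

theorem center_ne_top [FiniteDimensional F V] (hA : B.IsAlt) (hB : B.Nondegenerate) [Nontrivial V] :
    Subgroup.center (isoGroup B) ≠ ⊤ := by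
  intro h
  obtain ⟨u, hu⟩ := exists_ne (0 : V)
  obtain ⟨v, huv⟩ := exists_eq_one hB hu
  have hvu : B v u = -1 := by rw [swap hA, huv]
  let a : isoGroup B := ⟨transv hA u 1, transv_mem_iso hA u 1⟩
  let b : isoGroup B := ⟨transv hA v 1, transv_mem_iso hA v 1⟩
  have ha : a ∈ Subgroup.center (isoGroup B) := h ▸ Subgroup.mem_top a
  have e := congrArg (fun g : isoGroup B => B (g.1 u) v) (Subgroup.mem_center_iff.1 ha b)
  simp [a, b, huv, hvu, hA.self_eq_zero] at e

theorem isSimpleGroup_quotient [FiniteDimensional F V] (hA : B.IsAlt) (hB : B.Nondegenerate)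
    [Nontrivial V] (hperf : commutator (isoGroup B) = ⊤) :
    IsSimpleGroup (isoGroup B ⧸ Subgroup.center (isoGroup B)) := by
  haveI : Nontrivial (isoGroup B ⧸ Subgroup.center (isoGroup B)) :=
    QuotientGroup.nontrivial_iff.2 (center_ne_top hA hB)
  refine IsSimpleGroup.mk fun N hN => ?_
  have hsurj := QuotientGroup.mk'_surjective (Subgroup.center (isoGroup B))
  rcases normal_le_center_or_top hA hB hperf (N.comap (QuotientGroup.mk' _)) with h | h
  · left
    rw [← Subgroup.map_comap_eq_self_of_surjective hsurj N]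
    exact (Subgroup.map_eq_bot_iff _).2 (by rwa [QuotientGroup.ker_mk'])
  · right
    rw [← Subgroup.map_comap_eq_self_of_surjective hsurj N, h,
      Subgroup.map_top_of_surjective _ hsurj]

end Cfsg.Agent.AltForm
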