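/-
Unitary transvections in dimension three, generation of SU in every dimension at least three, and
transvections as commutators.
-/
import Cfsg.Agent.Lib.Transvec.HermGen
import Cfsg.Agent.Lib.Transvec.HermStab

set_option autoImplicit false

namespace Cfsg.Agent.UnitaryGen

open scoped Matrix
open Matrix Cfsg.Agent.Transvec Cfsg.Agent.Transvec.Herm

variable {ι : Type} [Fintype ι] [DecidableEq ι] {F : Type*} [Field F]
variable {σ : F ≃+* F} {f : (ι → F) → (ι → F) → F} (hf : Geo.IsUnitaryForm σ f)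

/-- A hyperbolic pair together with a norm-one vector orthogonal to it. -/
structure Frame3 (f : (ι → F) → (ι → F) → F) (e d v : ι → F) : Prop where
  ee : f e e = 0
  dd : f d d = 0
  vv : f v v = 1
  ed : f e d = 1
  de : f d e = 1
  ev : f e v = 0
  ve : f v e = 0
  dv : f d v = 0
  vd : f v d = 0
  decomp : ∀ x, x = f x d • e + f x e • d + f x v • v

include hf

theorem exists_frame3 [Finite F] (h3 : Fintype.card ι = 3) : ∃ e d v, Frame3 f e d v := by
  have hn : Module.finrank F (ι → F) = 3 := by rw [Module.finrank_pi, h3]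
  have htop := nondeg_top hf
  obtain ⟨e, -, he0, hee⟩ := exists_isotropic hf htop (by rw [finrank_top, hn]; omega)
  obtain ⟨d, -, hed, hdd⟩ := exists_partner hf htop Submodule.mem_top he0 hee
  obtain ⟨hP, hP2⟩ := nondeg_pair hf hee hdd hed
  set P := Submodule.span F ({e, d} : Set (ι → F))
  have hO : Module.finrank F ↥(orth hf P) = 1 := by
    have := finrank_orth_add hf hP
    omega
  obtain ⟨w, hw, hww⟩ := exists_anisotropic hf (nondeg_orth hf hP)
    (fun h => by rw [h, finrank_bot] at hO; omega)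
  obtain ⟨a, ha⟩ := exists_norm hf.ne_refl hf.involutive (f w w)⁻¹
    (by rw [map_inv₀, self_fixed hf])
  set v := a • w with hv
  have hvv : f v v = 1 := by
    rw [hv, hf.smul_left, smul_right hf, ← mul_assoc, ha, inv_mul_cancel₀ hww]
  have hvO : v ∈ orth hf P := Submodule.smul_mem _ _ hw
  have hev : f e v = 0 := hvO e (Submodule.subset_span (Set.mem_insert _ _))
  have hdv : f d v = 0 := hvO d (Submodule.subset_span (Set.mem_insert_of_mem _ rfl))
  have hve : f v e = 0 := (f_eq_zero_comm hf).1 hev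
  have hvd : f v d = 0 := (f_eq_zero_comm hf).1 hdv
  have hde : f d e = 1 := by rw [hf.herm, hed, map_one]
  refine ⟨e, d, v, ⟨hee, hdd, hvv, hed, hde, hev, hve, hdv, hvd, fun x => ?_⟩⟩
  obtain ⟨p, hp, y, hy, hxy⟩ :=
    Submodule.mem_sup.1 ((sup_orth hf hP).symm ▸ Submodule.mem_top : x ∈ P ⊔ orth hf P)
  obtain ⟨r, s, rfl⟩ := Submodule.mem_span_pair.1 hp
  have hv0 : (⟨v, hvO⟩ : orth hf P) ≠ 0 := fun h => by
    have : v = 0 := congrArg Subtype.val h
    rw [this, zero_left hf] at hvv
    exact zero_ne_one hvv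
  obtain ⟨c, hc⟩ := exists_smul_eq_of_finrank_eq_one hO hv0 ⟨y, hy⟩
  have hc' : c • v = y := congrArg Subtype.val hc
  subst hc'
  subst hxy
  simp [hf.add_left, hf.smul_left, hee, hdd, hvv, hed, hde, hev, hve, hdv, hvd]

variable {e d v : ι → F} (hfr : Frame3 f e d v)
include hfr

theorem mv_ext {g h : GL ι F} (he : mv g e = mv h e) (hd : mv g d = mv h d) (hv : mv g v = mv h v) :
    g = h := by
  refine ext_mv fun x => ?_
  rw [hfr.decomp x]
  simp only [mv_add, mv_smul, he, hd, hv]

/-- An element fixing the line of e acts triangularly, the middle coefficient being given by det = 1. -/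
theorem stab_line {g : GL ι F} (hg : g ∈ preserving (Units.coeHom (Matrix ι ι F)) f ⊓ Geo.specialLinear ι F)
    {l : F} (hl : l ≠ 0) (hge : mv g e = l • e) :
    ∃ p r n : F, mv g d = (σ l)⁻¹ • d + p • e + r • v ∧ mv g v = (σ l / l) • v + n • e := by
  have hpres : ∀ x y, f (mv g x) (mv g y) = f x y := fun x y => hg.1 x y
  have hσl : σ l ≠ 0 := fun h => hl ((map_eq_zero_iff σ σ.injective).1 h)
  obtain ⟨p, hp⟩ : ∃ p, p = f (mv g d) d := ⟨_, rfl⟩
  obtain ⟨r, hr⟩ : ∃ r, r = f (mv g d) v := ⟨_, rfl⟩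
  obtain ⟨n, hn⟩ : ∃ n, n = f (mv g v) d := ⟨_, rfl⟩
  obtain ⟨m, hm⟩ : ∃ m, m = f (mv g v) v := ⟨_, rfl⟩
  have hgde : f (mv g d) e = (σ l)⁻¹ := by
    have := hpres d e
    rw [hge, smul_right hf, hfr.de] at this
    exact eq_inv_of_mul_eq_one_right this
  have hgve : f (mv g v) e = 0 := by
    have := hpres v e
    rw [hge, smul_right hf, hfr.ve] at this
    exact (mul_eq_zero.1 this).resolve_left hσl
  have hgd : mv g d = (σ l)⁻¹ • d + p • e + r • v := by
    conv_lhs => rw [hfr.decomp (mv g d), hgde, ← hp, ← hr]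
    abel
  have hgv : mv g v = m • v + n • e := by
    conv_lhs => rw [hfr.decomp (mv g v), hgve, ← hn, ← hm, zero_smul]
    abel
  have hm0 : m ≠ 0 := fun h => by
    have := hpres v v
    rw [hgv, h, zero_smul, zero_add, hf.smul_left, smul_right hf, hfr.ee, hfr.vv] at this
    simp at this
  set c := σ l * r with hc
  set k := n / m with hk
  set a := σ l * p - k * c with ha
  have hmat : (g : Matrix ι ι F) = tvMat e (a • formH hf e + k • formH hf v) *
      (tvMat v (c • formH hf e) * (tvMat e ((l - 1) • formH hf d) *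
      (tvMat d (((σ l)⁻¹ - 1) • formH hf e) * tvMat v ((m - 1) • formH hf v)))) := by
    refine Matrix.ext_of_mulVec_single fun i => ?_
    generalize (Pi.single i 1 : ι → F) = x
    rw [← Matrix.mulVec_mulVec, ← Matrix.mulVec_mulVec, ← Matrix.mulVec_mulVec, ← Matrix.mulVec_mulVec,
      tvMat_mulVec, tvMat_mulVec, tvMat_mulVec, tvMat_mulVec, tvMat_mulVec]
    show mv g x = _
    conv_lhs => rw [hfr.decomp x]
    simp only [mv_add, mv_smul, hge, hgd, hgv, LinearMap.add_apply, LinearMap.smul_apply, formH_apply,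
      smul_eq_mul, hf.add_left, hf.smul_left, hfr.ee, hfr.dd, hfr.vv, hfr.ed, hfr.de, hfr.ev, hfr.ve,
      hfr.dv, hfr.vd, mul_zero, mul_one, add_zero, zero_add]
    conv_rhs => rw [hfr.decomp x]
    simp only [hf.add_left, hf.smul_left, hfr.ee, hfr.dd, hfr.vv, hfr.ed, hfr.de, hfr.ev, hfr.ve,
      hfr.dv, hfr.vd, mul_zero, mul_one, add_zero, zero_add]
    rw [ha, hc, hk]
    match_scalars <;> field_simp <;> ring
  have hdet : (g : Matrix ι ι F).det = 1 := by
    rw [← Matrix.GeneralLinearGroup.val_det_apply, MonoidHom.mem_ker.1 hg.2]; rfl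
  rw [hmat] at hdet
  simp only [Matrix.det_mul, det_tvMat, LinearMap.add_apply, LinearMap.smul_apply, formH_apply,
    smul_eq_mul, hfr.ee, hfr.vv, hfr.ed, hfr.de, hfr.ev, hfr.ve, hfr.dd, mul_zero, mul_one, add_zero,
    one_mul, add_sub_cancel] at hdet
  refine ⟨p, r, n, hgd, ?_⟩
  rw [hgv]
  congr 2
  field_simp at hdet ⊢
  linear_combination hdet

variable [Finite F]

/-- Three transvections taking e to l • e, with control of the image of v. -/
theorem exists_path {K : Subgroup (GL ι F)}
    (hK : ∀ (x : ι → F) (hx : f x x = 0) (a : F), σ a = -a → htv hf x hx a ∈ K)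
    {t : F} (ht0 : t ≠ 0) (ht : σ t = -t) {l : F} (hl : l ≠ 0) {c : F} (hc : c * σ c = t * (l - σ l)) :
    ∃ h ∈ K, mv h e = l • e ∧ f (mv h v) d = -σ c * (l + σ l - 1) / t := by
  have hσl : σ l ≠ 0 := fun h => hl ((map_eq_zero_iff σ σ.injective).1 h)
  set w := l • e + c • v + t • d with hw
  set u := (t / σ l) • d with hu
  have hww : f w w = 0 := by
    simp only [hw, hf.add_left, add_right hf, hf.smul_left, smul_right hf, hfr.ee, hfr.dd, hfr.vv,
      hfr.ed, hfr.de, hfr.ev, hfr.ve, hfr.dv, hfr.vd, mul_zero, mul_one, add_zero, zero_add, ht]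
    linear_combination hc
  have huu : f u u = 0 := by rw [hu, hf.smul_left, smul_right hf, hfr.dd, mul_zero, mul_zero]
  have hle : f (l • e) (l • e) = 0 := by rw [hf.smul_left, smul_right hf, hfr.ee, mul_zero, mul_zero]
  have hew : f e w = -t := by
    simp only [hw, add_right hf, smul_right hf, hfr.ee, hfr.ev, hfr.ed, ht, mul_zero, mul_one, zero_add]
  have hwu : f w u = -t := by
    simp only [hw, hu, hf.add_left, hf.smul_left, smul_right hf, hfr.ed, hfr.vd, hfr.dd, map_div₀, ht,
      hf.involutive, mul_zero, mul_one, add_zero]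
    field_simp
  have hul : f u (l • e) = t := by
    rw [hu, hf.smul_left, smul_right hf, hfr.de, mul_one, div_mul_cancel₀ _ hσl]
  obtain ⟨h1, a1, m1⟩ := htv_map hf hfr.ee hww (by rw [hew]; exact neg_ne_zero.2 ht0)
    (by rw [hew, map_neg, ht])
  obtain ⟨h2, a2, m2⟩ := htv_map hf hww huu (by rw [hwu]; exact neg_ne_zero.2 ht0)
    (by rw [hwu, map_neg, ht])
  obtain ⟨h3, a3, m3⟩ := htv_map hf huu hle (by rw [hul]; exact ht0) (by rw [hul, ht])
  refine ⟨_, K.mul_mem (hK _ h3 _ a3) (K.mul_mem (hK _ h2 _ a2) (hK _ h1 _ a1)),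
    by rw [mv_mul, mv_mul, m1, m2, m3], ?_⟩
  simp only [mv_mul, mv_htv]
  rw [hew, hwu, hul]
  simp only [hw, hu, hf.add_left, add_right hf, sub_left hf, sub_right hf, hf.smul_left, smul_right hf,
    hfr.ee, hfr.dd, hfr.vv, hfr.ed, hfr.de, hfr.ev, hfr.ve, hfr.dv, hfr.vd, map_div₀, ht, hf.involutive,
    mul_zero, mul_one, add_zero, zero_add, sub_zero, zero_sub]
  field_simp
  linear_combination (σ c * l * (σ l + 1)) * hc

theorem trans_e {K : Subgroup (GL ι F)}
    (hK : ∀ (x : ι → F) (hx : f x x = 0) (a : F), σ a = -a → htv hf x hx a ∈ K)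
    {x : ι → F} (hx : f x x = 0) (hx0 : x ≠ 0) : ∃ g ∈ K, mv g x = e := by
  obtain ⟨t, ht0, ht⟩ := exists_anti hf.ne_refl hf.involutive
  have hscal : ∀ l : F, l ≠ 0 → ∃ g ∈ K, mv g (l • e) = e := by
    intro l hl
    obtain ⟨c, hc⟩ := exists_norm hf.ne_refl hf.involutive (t * (l - σ l))
      (by rw [map_mul, map_sub, ht, hf.involutive]; ring)
    obtain ⟨h, hh, hhe, -⟩ := exists_path hf hfr hK ht0 ht hl hc
    exact ⟨h⁻¹, K.inv_mem hh, by rw [← hhe, mv_inv_mv]⟩
  by_cases hb : f x e = 0
  · have hcv : f x v = 0 := by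
      have := hx
      rw [hfr.decomp x, hb] at this
      simp only [zero_smul, add_zero, hf.add_left, add_right hf, hf.smul_left, smul_right hf, hfr.ee,
        hfr.vv, hfr.ev, hfr.ve, mul_zero, mul_one, zero_add] at this
      rcases mul_eq_zero.1 this with h | h
      · exact h
      · exact (map_eq_zero_iff σ σ.injective).1 h
    have hxe : x = f x d • e := by
      conv_lhs => rw [hfr.decomp x, hb, hcv]
      simp
    rw [hxe]
    exact hscal _ fun h => hx0 (by rw [hxe, h, zero_smul])
  · set k := σ (t / f x e) with hk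
    have hke : f (k • e) (k • e) = 0 := by rw [hf.smul_left, smul_right hf, hfr.ee, mul_zero, mul_zero]
    have hxk : f x (k • e) = t := by rw [smul_right hf, hk, hf.involutive, div_mul_cancel₀ _ hb]
    obtain ⟨h1, a1, m1⟩ := htv_map hf hx hke (hxk ▸ ht0) (by rw [hxk, ht])
    have hk0 : k ≠ 0 := fun h => div_ne_zero ht0 hb ((map_eq_zero_iff σ σ.injective).1 h)
    obtain ⟨g, hg, hge⟩ := hscal k hk0
    exact ⟨_, K.mul_mem hg (hK _ h1 _ a1), by rw [mv_mul, m1, hge]⟩

omit hfr

omit e d v in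
/-- For q at least three the elements σ(l) l²/... generate the field. -/
theorem mem_of_multipliers (hq : 3 ≤ Nat.card (fixedField σ)) (R : Subring F)
    (hR : ∀ l : F, l ≠ 0 → σ l ^ 2 / l ∈ R) (x : F) : x ∈ R := by
  classical
  have : Fintype F := Fintype.ofFinite F
  let m : Fˣ →* Fˣ :=
    { toFun := fun l => Units.map (σ : F →+* F).toMonoidHom l ^ 2 / l
      map_one' := by simp
      map_mul' := fun a b => by rw [map_mul, mul_pow, mul_div_mul_comm] }
  have hker : Nat.card m.ker ≤ 3 := by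
    refine le_trans ?_ ((Multiset.toFinset_card_le _).trans (Polynomial.card_nthRoots 3 (1 : F)))
    rw [← Nat.card_eq_finsetCard]
    refine Nat.card_le_card_of_injective (fun u => ⟨((u : Fˣ) : F), ?_⟩) ?_
    · rw [Multiset.mem_toFinset, Polynomial.mem_nthRoots (by omega)]
      have h : σ ((u : Fˣ) : F) ^ 2 / ((u : Fˣ) : F) = 1 := by
        simpa [m] using congrArg Units.val u.2
      have h0 : ((u : Fˣ) : F) ≠ 0 := Units.ne_zero _
      rw [div_eq_one_iff_eq h0] at h
      have h2 := congrArg σ h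
      rw [map_pow, hf.involutive] at h2
      apply mul_left_cancel₀ h0
      calc ((u : Fˣ) : F) * ((u : Fˣ) : F) ^ 3 = (((u : Fˣ) : F) ^ 2) ^ 2 := by ring
        _ = _ := by rw [h2, h, mul_one]
    · intro a b h
      exact Subtype.ext (Units.ext (congrArg Subtype.val h))
  have hrange : Nat.card m.range + 1 ≤ Nat.card R := by
    rw [← Finite.card_option]
    refine Nat.card_le_card_of_injective
      (fun o => (⟨o.elim 0 (fun u => ((u : Fˣ) : F)), ?_⟩ : R)) ?_
    · rcases o with _ | ⟨_, l, rfl⟩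
      · exact R.zero_mem
      · simpa [m] using hR l l.ne_zero
    · rintro (_ | a) (_ | b) h
      · rfl
      · exact absurd (congrArg Subtype.val h).symm (Units.ne_zero _)
      · exact absurd (congrArg Subtype.val h) (Units.ne_zero _)
      · exact congrArg some (Subtype.ext (Units.ext (congrArg Subtype.val h)))
  have hmul := Subgroup.card_mul_index m.ker
  rw [Subgroup.index_ker, Nat.card_units, card_eq_sq hf.ne_refl hf.involutive] at hmul
  by_contra hx
  -- a proper subfield has at most q elements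
  let : Field R := Fintype.fieldOfDomain R
  obtain ⟨k, hk⟩ : ∃ k, Nat.card F = Nat.card R ^ k :=
    ⟨_, Module.natCard_eq_pow_finrank (K := R) (V := F)⟩
  have hlt : Nat.card R < Nat.card F := by
    have h2 : Function.Injective (fun r : R => (r : F)) := Subtype.val_injective
    rcases lt_or_eq_of_le (Nat.card_le_card_of_injective _ h2) with h | h
    · exact h
    · obtain ⟨y, hy⟩ := ((Nat.bijective_iff_injective_and_card _).2 ⟨h2, h⟩).2 x
      exact absurd (hy ▸ y.2) hx
  rw [card_eq_sq hf.ne_refl hf.involutive] at hk hlt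
  set q := Nat.card (fixedField σ)
  set r := Nat.card R
  have hk2 : 2 ≤ k := by
    rcases Nat.lt_or_ge k 2 with h | h
    · interval_cases k <;> simp at hk <;> nlinarith
    · exact h
  have hr1 : 1 ≤ r := Nat.card_pos
  have hrq : r ≤ q := by
    have : r ^ 2 ≤ q ^ 2 := hk ▸ Nat.pow_le_pow_right hr1 hk2
    exact (Nat.pow_le_pow_iff_left two_ne_zero).1 this
  have : Nat.card m.ker * Nat.card m.range ≤ 3 * (q - 1) :=
    Nat.mul_le_mul hker (by omega)
  rw [hmul] at this
  have hq2 : q * 3 ≤ q ^ 2 := by rw [pow_two]; exact Nat.mul_le_mul_left q hq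
  omega

/-- In dimension three, q at least three, a subgroup with all unitary transvections contains SU. -/
theorem su3_le (h3 : Fintype.card ι = 3) (hq : 3 ≤ Nat.card (fixedField σ)) {M : Subgroup (GL ι F)}
    (hM : ∀ (x : ι → F) (hx : f x x = 0) (a : F), σ a = -a → htv hf x hx a ∈ M) :
    preserving (Units.coeHom (Matrix ι ι F)) f ⊓ Geo.specialLinear ι F ≤ M := by
  intro g hg
  set S := preserving (Units.coeHom (Matrix ι ι F)) f ⊓ Geo.specialLinear ι F with hS
  set K := M ⊓ S with hKdef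
  have hK : ∀ (x : ι → F) (hx : f x x = 0) (a : F), σ a = -a → htv hf x hx a ∈ K := fun x hx a ha =>
    ⟨hM x hx a ha, htv_mem hf x hx ha, htv_mem_specialLinear hf x hx a⟩
  obtain ⟨e, d, v, hfr⟩ := exists_frame3 hf h3
  obtain ⟨t, ht0, ht⟩ := exists_anti hf.ne_refl hf.involutive
  have he0 : e ≠ 0 := fun h => by
    have := hfr.ed
    rw [h, zero_left hf] at this
    exact zero_ne_one this
  -- shapes of the stabiliser of e
  have shape : ∀ k ∈ S, mv k e = e → ∃ p r n : F, mv k d = d + p • e + r • v ∧ mv k v = v + n • e ∧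
      n + σ r = 0 := by
    intro k hk hke
    obtain ⟨p, r, n, hd, hv⟩ := stab_line hf hfr hk one_ne_zero (by rw [hke, one_smul])
    rw [map_one, inv_one, one_smul] at hd
    rw [map_one, div_one, one_smul] at hv
    refine ⟨p, r, n, hd, hv, ?_⟩
    have := hk.1 v d
    change f (mv k v) (mv k d) = f v d at this
    simpa [hd, hv, hf.add_left, add_right hf, hf.smul_left, smul_right hf, hfr.ee, hfr.ed, hfr.ev, hfr.ve,
      hfr.vd, hfr.vv, add_comm] using this
  let A : AddSubgroup F :=
    { carrier := {r | ∃ u ∈ K, mv u e = e ∧ f (mv u d) v = r}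
      zero_mem' := ⟨1, K.one_mem, mv_one e, by rw [mv_one, hfr.dv]⟩
      add_mem' := by
        rintro _ _ ⟨u, hu, hue, rfl⟩ ⟨u', hu', hue', rfl⟩
        refine ⟨u * u', K.mul_mem hu hu', by rw [mv_mul, hue', hue], ?_⟩
        obtain ⟨p, r, n, hd, hv, -⟩ := shape u hu.2 hue
        obtain ⟨p', r', n', hd', hv', -⟩ := shape u' hu'.2 hue'
        simp only [mv_mul, hd', mv_add, mv_smul, hue, hd, hv, hf.add_left, hf.smul_left, hfr.dv, hfr.ev,
          hfr.vv]
        ring
      neg_mem' := by
        rintro _ ⟨u, hu, hue, rfl⟩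
        have hue' : mv u⁻¹ e = e := by conv_lhs => rw [← hue, mv_inv_mv]
        refine ⟨u⁻¹, K.inv_mem hu, hue', ?_⟩
        obtain ⟨p, r, n, hd, hv, -⟩ := shape u hu.2 hue
        obtain ⟨p', r', n', hd', hv', -⟩ := shape u⁻¹ (K.inv_mem hu).2 hue'
        have := mv_inv_mv u d
        rw [hd, mv_add, mv_add, mv_smul, mv_smul, hue', hd', hv'] at this
        have h2 := congrArg (fun x => f x v) this
        simp only [hf.add_left, hf.smul_left, hfr.dv, hfr.ev, hfr.vv, mul_zero, mul_one, add_zero,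
          zero_add] at h2
        simp only [hd', hd, hf.add_left, hf.smul_left, hfr.dv, hfr.ev, hfr.vv, mul_zero, mul_one, add_zero,
          zero_add]
        linear_combination h2 }
  have hinvar : ∀ l : F, l ≠ 0 → ∀ r ∈ A, σ l ^ 2 / l * r ∈ A := by
    rintro l hl _ ⟨u, hu, hue, rfl⟩
    obtain ⟨h, hh, hhe⟩ := trans_e hf hfr hK (x := l⁻¹ • e)
      (by rw [hf.smul_left, smul_right hf, hfr.ee, mul_zero, mul_zero])
      (smul_ne_zero (inv_ne_zero hl) he0)
    have hhl : mv h e = l • e := by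
      rw [mv_smul] at hhe
      conv_rhs => rw [← hhe, smul_smul, mul_inv_cancel₀ hl, one_smul]
    have hσl : σ l ≠ 0 := fun h => hl ((map_eq_zero_iff σ σ.injective).1 h)
    have hge : mv (h * u * h⁻¹) e = e := by
      have : mv h⁻¹ e = l⁻¹ • e := by
        have h1 := congrArg (mv h⁻¹) hhl
        rw [mv_inv_mv, mv_smul] at h1
        rw [eq_comm, inv_smul_eq_iff₀ hl]
        exact h1
      rw [mv_mul, mv_mul, this, mv_smul, mv_smul, hue, hhl, smul_smul, inv_mul_cancel₀ hl, one_smul]
    refine ⟨h * u * h⁻¹, K.mul_mem (K.mul_mem hh hu) (K.inv_mem hh), hge, ?_⟩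
    obtain ⟨p', r', n', hd', hv'⟩ := stab_line hf hfr hh.2 hl hhl
    obtain ⟨p, r, n, hd, hv, -⟩ := shape u hu.2 hue
    obtain ⟨p'', r'', n'', hd'', hv'', -⟩ :=
      shape _ (S.mul_mem (S.mul_mem hh.2 hu.2) (S.inv_mem hh.2)) hge
    -- evaluate at the image of d
    have h2 : mv (h * u * h⁻¹) (mv h d) = mv h (mv u d) := by
      rw [mv_mul, mv_mul, mv_inv_mv]
    rw [hd, mv_add, mv_add, mv_smul, mv_smul, hhl, hv', hd'] at h2
    rw [mv_add, mv_add, mv_smul, mv_smul, mv_smul, hge, hd'', hv''] at h2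
    have h3 := congrArg (fun x => f x v) h2
    simp only [hf.add_left, hf.smul_left, hfr.dv, hfr.ev, hfr.vv, mul_zero, mul_one, add_zero,
      zero_add] at h3
    simp only [hd, hd'', hf.add_left, hf.smul_left, hfr.dv, hfr.ev, hfr.vv, mul_zero, mul_one, add_zero,
      zero_add]
    field_simp at h3 ⊢
    linear_combination h3
  -- a non-zero element of A
  obtain ⟨r₀, hr₀, hr₀0⟩ : ∃ r ∈ A, r ≠ 0 := by
    obtain ⟨l, hl0, hl1, hl2⟩ : ∃ l : F, l ≠ 0 ∧ σ l ≠ l ∧ l + σ l ≠ 1 := by
      obtain ⟨l, hl⟩ : ∃ l, σ l ≠ l := by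
        by_contra h
        push Not at h
        exact hf.ne_refl (RingEquiv.ext h)
      have hl0 : l ≠ 0 := fun h => hl (by rw [h, map_zero])
      by_cases h1 : l + σ l = 1
      · obtain ⟨s, hs0, hs1⟩ : ∃ s : fixedField σ, s ≠ 0 ∧ s ≠ 1 := by
          classical
          have : Fintype (fixedField σ) := Fintype.ofFinite _
          rw [Nat.card_eq_fintype_card] at hq
          by_contra h
          push Not at h
          have h2 : (Finset.univ : Finset (fixedField σ)) ⊆ {0, 1} := fun s _ => by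
            rw [Finset.mem_insert, Finset.mem_singleton]
            exact or_iff_not_imp_left.2 (h s)
          have := (Finset.card_le_card h2).trans Finset.card_le_two
          rw [Finset.card_univ] at this
          omega
        have hs := mem_fixedField.1 s.2
        have hs0' : (s : F) ≠ 0 := fun h => hs0 (Subtype.ext h)
        refine ⟨l * s, mul_ne_zero hl0 hs0', ?_, ?_⟩
        · rw [map_mul, hs]
          exact fun h => hl (mul_right_cancel₀ hs0' h)
        · rw [map_mul, hs, ← add_mul, h1, one_mul]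
          exact fun h => hs1 (Subtype.ext h)
      · exact ⟨l, hl0, hl, h1⟩
    obtain ⟨c, hc⟩ := exists_norm hf.ne_refl hf.involutive (t * (l - σ l))
      (by rw [map_mul, map_sub, ht, hf.involutive]; ring)
    have hc0 : c ≠ 0 := fun h => by
      rw [h, zero_mul] at hc
      exact mul_ne_zero ht0 (sub_ne_zero.2 (Ne.symm hl1)) hc.symm
    -- a second root of the same norm
    obtain ⟨z, hz, hz1⟩ := exists_norm_one_ne hf
    obtain ⟨h1, hh1, hh1e, hh1v⟩ := exists_path hf hfr hK ht0 ht hl0 hc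
    obtain ⟨h2, hh2, hh2e, hh2v⟩ := exists_path hf hfr hK ht0 ht hl0 (c := c * z)
      (by rw [map_mul, mul_mul_mul_comm, hz, mul_one, hc])
    have hu : mv (h2⁻¹ * h1) e = e := by rw [mv_mul, hh1e, ← hh2e, mv_inv_mv]
    obtain ⟨p, r, n, hd, hv, hn⟩ := shape _ (S.mul_mem (S.inv_mem hh2.2) hh1.2) hu
    refine ⟨f (mv (h2⁻¹ * h1) d) v, ⟨_, K.mul_mem (K.inv_mem hh2) hh1, hu, rfl⟩, ?_⟩
    simp only [hd, hf.add_left, hf.smul_left, hfr.dv, hfr.ev, hfr.vv, mul_zero, mul_one, add_zero, zero_add]
    intro hr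
    rw [hr, map_zero, add_zero] at hn
    rw [hn, zero_smul, add_zero, mv_mul] at hv
    have h12 : mv h1 v = mv h2 v := by
      have := congrArg (mv h2) hv
      rwa [mv_mv_inv] at this
    rw [h12, hh2v] at hh1v
    rw [map_mul] at hh1v
    have h4 : σ c * (l + σ l - 1) * (σ z - 1) = 0 := by
      field_simp at hh1v
      linear_combination (-(l + σ l - 1)) * hh1v
    rcases mul_eq_zero.1 h4 with h | h
    · rcases mul_eq_zero.1 h with h | h
      · exact hc0 ((map_eq_zero_iff σ σ.injective).1 h)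
      · exact hl2 (sub_eq_zero.1 h)
    · exact hz1 (σ.injective (by rw [map_one]; exact sub_eq_zero.1 h))
  have hA : ∀ r : F, r ∈ A := by
    intro r
    let R : Subring F :=
      { carrier := {x | ∀ a ∈ A, x * a ∈ A}
        one_mem' := fun a ha => by rwa [one_mul]
        mul_mem' := fun {x y} hx hy a ha => by rw [mul_assoc]; exact hx _ (hy a ha)
        zero_mem' := fun a ha => by rw [zero_mul]; exact A.zero_mem
        add_mem' := fun {x y} hx hy a ha => by rw [add_mul]; exact A.add_mem (hx a ha) (hy a ha)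
        neg_mem' := fun {x} hx a ha => by rw [neg_mul]; exact A.neg_mem (hx a ha) }
    have := mem_of_multipliers hf hq R hinvar (r / r₀) r₀ hr₀
    rwa [div_mul_cancel₀ _ hr₀0] at this
  -- conclusion
  have hge : f (mv g e) (mv g e) = 0 := (hg.1 e e).trans hfr.ee
  obtain ⟨h, hh, hhe⟩ := trans_e hf hfr hK hge (fun h => he0 (mv_inj g (h.trans (mv_zero g).symm)))
  have hke : mv (h * g) e = e := by rw [mv_mul, hhe]
  obtain ⟨p, r, n, hd, hv, hn⟩ := shape _ (S.mul_mem hh.2 hg) hke
  obtain ⟨u, hu, hue, hur⟩ := hA r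
  obtain ⟨p', r', n', hd', hv', hn'⟩ := shape u hu.2 hue
  simp only [hd', hf.add_left, hf.smul_left, hfr.dv, hfr.ev, hfr.vv, mul_zero, mul_one, add_zero,
    zero_add] at hur
  subst hur
  set k := u⁻¹ * (h * g) with hk
  have hnn : n' = n := by linear_combination hn' - hn
  subst hnn
  have hue' : mv u⁻¹ e = e := by conv_lhs => rw [← hue, mv_inv_mv]
  have hkd : mv k d = d + (p - p') • e := by
    have : mv (h * g) d = mv u d + (p - p') • e := by rw [hd, hd']; module
    rw [hk, mv_mul, this, mv_add, mv_smul, mv_inv_mv, hue']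
  have hkv : mv k v = v := by rw [hk, mv_mul, hv, ← hv', mv_inv_mv]
  have hkS : k ∈ S := S.mul_mem (S.inv_mem hu.2) (S.mul_mem hh.2 hg)
  have hanti : σ (p - p') = -(p - p') := by
    have := hkS.1 d d
    change f (mv k d) (mv k d) = f d d at this
    rw [hkd] at this
    simp only [hf.add_left, add_right hf, hf.smul_left, smul_right hf, hfr.dd, hfr.de, hfr.ed, hfr.ee,
      mul_zero, mul_one, add_zero, zero_add] at this
    linear_combination this
  have hkeq : k = htv hf e hfr.ee (p - p') := by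
    refine mv_ext hf hfr ?_ ?_ ?_
    · rw [hk, mv_mul, hke, hue', htv_fix hf _ _ _ hfr.ee]
    · rw [hkd, mv_htv, hfr.de, mul_one]
    · rw [hkv, htv_fix hf _ _ _ hfr.ve]
  have hkM : k ∈ M := hkeq ▸ hM e hfr.ee _ hanti
  have := M.mul_mem (M.inv_mem hh.1) (M.mul_mem hu.1 hkM)
  rwa [hk, mul_inv_cancel_left, inv_mul_cancel_left] at this

/-- In dimension at least three, apart from (3, 2), transvections generate. -/
theorem su_le_all (hn : 3 ≤ Fintype.card ι)
    (h32 : Fintype.card ι = 3 → 3 ≤ Nat.card (fixedField σ)) {M : Subgroup (GL ι F)}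
    (hM : ∀ (x : ι → F) (hx : f x x = 0) (a : F), σ a = -a → htv hf x hx a ∈ M) :
    preserving (Units.coeHom (Matrix ι ι F)) f ⊓ Geo.specialLinear ι F ≤ M := by
  rcases Nat.lt_or_ge (Fintype.card ι) 4 with h | h
  · exact su3_le hf (by omega) (h32 (by omega)) hM
  · exact su_le hf hM (Or.inr h)

/-- Every unitary transvection is a commutator in SU. -/
theorem htv_commutator (hn : 3 ≤ Fintype.card ι) {x : ι → F} (hx : f x x = 0) {c : F} (hc : σ c = -c) :
    ∃ g ∈ preserving (Units.coeHom (Matrix ι ι F)) f ⊓ Geo.specialLinear ι F,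
    ∃ h ∈ preserving (Units.coeHom (Matrix ι ι F)) f ⊓ Geo.specialLinear ι F,
      g * h * g⁻¹ * h⁻¹ = htv hf x hx c := by
  rcases eq_or_ne x 0 with rfl | hx0
  · exact ⟨1, one_mem _, 1, one_mem _, ext_mv fun y => by simp [mv_htv, mv_one]⟩
  have hN : Module.finrank F (ι → F) = Fintype.card ι := Module.finrank_pi F
  obtain ⟨d, -, hxd, hdd⟩ := exists_partner hf (nondeg_top hf) Submodule.mem_top hx0 hx
  obtain ⟨hP, hP2⟩ := nondeg_pair hf hx hdd hxd
  set P := Submodule.span F ({x, d} : Set (ι → F))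
  obtain ⟨w, hw, hww⟩ := exists_anisotropic hf (nondeg_orth hf hP) (fun h => by
    have := finrank_orth_add hf hP
    rw [h, finrank_bot] at this
    omega)
  have hxw : f x w = 0 := hw x (Submodule.subset_span (Set.mem_insert _ _))
  have hwx : f w x = 0 := (f_eq_zero_comm hf).1 hxw
  obtain ⟨b, hb⟩ := exists_trace hf.ne_refl hf.involutive (1 : F) (map_one σ)
  have hA : σ (f w w) = f w w := self_fixed hf w
  set s := c * b / f w w with hs
  obtain ⟨l, hl⟩ := exists_trace hf.ne_refl hf.involutive (-f (s • w) (s • w))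
    (by rw [map_neg, self_fixed hf])
  obtain ⟨l', hl'⟩ := exists_trace hf.ne_refl hf.involutive (-f w w) (by rw [map_neg, hA])
  obtain ⟨g, hg, hgz⟩ := exists_eichler hf hx (y := s • w) (l := l)
    (by rw [hf.smul_left, hwx, mul_zero]) (by linear_combination hl)
  obtain ⟨h, hh, hhz⟩ := exists_eichler hf hx (y := w) (l := l') hwx (by linear_combination hl')
  refine ⟨g, hg, h, hh, ?_⟩
  rw [mul_inv_eq_iff_eq_mul, mul_inv_eq_iff_eq_mul]
  refine ext_mv fun z => ?_
  simp only [mv_mul, hgz, hhz, mv_htv]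
  simp only [hf.add_left, hf.smul_left, smul_right hf, hx, hxw, hwx, mul_zero, add_zero]
  have hsc : s * f w w - σ s * f w w = c := by
    have hsw : s * f w w = c * b := by rw [hs, div_mul_cancel₀ _ hww]
    have h2 : σ s * f w w = σ (c * b) := by rw [← hsw, map_mul, hA]
    rw [h2, hsw, map_mul, hc]
    linear_combination c * hb
  match_scalars
  · rfl
  · ring
  · rw [← hsc]; ring

end Cfsg.Agent.UnitaryGen
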