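/-
Simplicity of the special unitary group modulo its centre, via the action on isotropic points.
-/
import Cfsg.Agent.Lib.Classical.UnitaryGen
import Cfsg.Agent.Lib.Transvec.HermStd
import Mathlib.LinearAlgebra.Projectivization.Action
import Mathlib.GroupTheory.GroupAction.Iwasawa

set_option autoImplicit false

namespace Cfsg.Agent.UnitarySimple

open scoped Matrix LinearAlgebra.Projectivization Pointwise commutatorElement
open Matrix Cfsg.Agent.Transvec Cfsg.Agent.Transvec.Herm

variable {ι : Type} [Fintype ι] [DecidableEq ι] {F : Type*} [Field F]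
variable {σ : F ≃+* F} {f : (ι → F) → (ι → F) → F} (hf : Geo.IsUnitaryForm σ f)

/-- The special unitary group of f. -/
abbrev sug (f : (ι → F) → (ι → F) → F) : Subgroup (GL ι F) :=
  preserving (Units.coeHom (Matrix ι ι F)) f ⊓ Geo.specialLinear ι F

theorem smul_eq_mv (g : GL ι F) (x : ι → F) : g • x = mv g x := rfl

theorem smul_point (g : sug f) {x : ι → F} (hx : x ≠ 0) :
    g • Projectivization.mk F x hx =
      Projectivization.mk F (mv g.1 x) (fun h => hx (mv_inj g.1 (h.trans (mv_zero g.1).symm))) := rfl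

include hf

/-- Isotropic points. -/
def pts : SubMulAction (sug f) (ℙ F (ι → F)) where
  carrier := {p | f p.rep p.rep = 0}
  smul_mem' g p hp := by
    induction p using Projectivization.ind with | _ x hx => ?_
    obtain ⟨a, ha⟩ := Projectivization.exists_smul_eq_mk_rep F x hx
    have hxx : f x x = 0 := by
      have h : f (Projectivization.mk F x hx).rep (Projectivization.mk F x hx).rep = 0 := hp
      rw [← ha, Units.smul_def, hf.smul_left, smul_right hf, ← mul_assoc, mul_eq_zero] at h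
      exact h.resolve_left (mul_ne_zero a.ne_zero fun h => a.ne_zero ((map_eq_zero_iff σ σ.injective).1 h))
    show f _ _ = 0
    rw [smul_point]
    obtain ⟨b, hb⟩ := Projectivization.exists_smul_eq_mk_rep F (mv g.1 x)
      (fun h => hx (mv_inj g.1 (h.trans (mv_zero g.1).symm)))
    rw [← hb, Units.smul_def, hf.smul_left, smul_right hf, show f (mv g.1 x) (mv g.1 x) = f x x from g.2.1 x x,
      hxx, mul_zero, mul_zero]

theorem mk_mem_pts {x : ι → F} (hx : x ≠ 0) (hxx : f x x = 0) : Projectivization.mk F x hx ∈ pts hf := by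
  obtain ⟨a, ha⟩ := Projectivization.exists_smul_eq_mk_rep F x hx
  show f _ _ = 0
  rw [← ha, Units.smul_def, hf.smul_left, smul_right hf, hxx, mul_zero, mul_zero]

theorem pt_iso (p : pts hf) : f p.1.rep p.1.rep = 0 := p.2

theorem eichler_move {e d d' : ι → F} (hee : f e e = 0) (hdd : f d d = 0) (hdd' : f d' d' = 0)
    (hed : f e d = 1) (hed' : f e d' = 1) : ∃ g ∈ sug f, mv g e = e ∧ mv g d = d' := by
  have hde : f d e = 1 := by rw [hf.herm, hed, map_one]
  have hd'e : f d' e = 1 := by rw [hf.herm, hed', map_one]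
  set r := f d' d with hr
  set w := d' - d - r • e with hw
  have hwe : f w e = 0 := by rw [hw, sub_left hf, sub_left hf, hf.smul_left, hde, hd'e, hee]; ring
  have hwd : f w d = 0 := by rw [hw, sub_left hf, sub_left hf, hf.smul_left, hed, hdd, hr]; ring
  have hd' : d' = d + r • e + w := by rw [hw]; abel
  have hl : r + σ r + f w w = 0 := by
    rw [hd'] at hdd'
    simp only [hf.add_left, add_right hf, hf.smul_left, smul_right hf, hdd, hee, hed, hde, hwe, hwd,
      (f_eq_zero_comm hf).1 hwe, (f_eq_zero_comm hf).1 hwd, mul_zero, mul_one, add_zero, zero_add] at hdd'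
    linear_combination hdd'
  obtain ⟨g, hg, hgz⟩ := exists_eichler hf hee hwe hl
  refine ⟨g, hg, ?_, ?_⟩
  · rw [hgz, hee, (f_eq_zero_comm hf).1 hwe]
    simp
  · rw [hgz, hde, (f_eq_zero_comm hf).1 hwd, hd']
    simp only [one_smul, mul_one, sub_zero]
    abel

variable [Finite F]

theorem trans_vec (hn : 3 ≤ Fintype.card ι) {x y : ι → F} (hx : f x x = 0) (hy : f y y = 0)
    (hx0 : x ≠ 0) (hy0 : y ≠ 0) : ∃ g ∈ sug f, mv g x = y := by
  have hK : ∀ (v : ι → F) (hv : f v v = 0) (c : F), σ c = -c → htv hf v hv c ∈ sug f :=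
    fun v hv c hc => ⟨htv_mem hf v hv hc, htv_mem_specialLinear hf v hv c⟩
  rcases Nat.lt_or_ge (Fintype.card ι) 4 with h | h
  · obtain ⟨e, d, v, hfr⟩ := UnitaryGen.exists_frame3 hf (by omega)
    obtain ⟨g, hg, hge⟩ := UnitaryGen.trans_e hf hfr hK hx hx0
    obtain ⟨k, hk, hke⟩ := UnitaryGen.trans_e hf hfr hK hy hy0
    exact ⟨k⁻¹ * g, mul_mem (inv_mem hk) hg, by rw [mv_mul, hge, ← hke, mv_inv_mv]⟩
  · obtain ⟨g, hg, hgx, -⟩ := exists_move hf (nondeg_top hf)
      (by rw [finrank_top, Module.finrank_pi]; exact h) (K := sug f) (fun v _ => hK v)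
      Submodule.mem_top Submodule.mem_top hx0 hy0 hx hy
    exact ⟨g, hg, hgx⟩

theorem isPretransitive (hn : 3 ≤ Fintype.card ι) : MulAction.IsPretransitive (sug f) (pts hf) := by
  refine ⟨fun a b => ?_⟩
  obtain ⟨g, hg, hgx⟩ := trans_vec hf hn (x := a.1.rep) (y := b.1.rep) a.2 b.2 a.1.rep_nonzero b.1.rep_nonzero
  refine ⟨⟨g, hg⟩, Subtype.ext ?_⟩
  rw [SubMulAction.val_smul, ← a.1.mk_rep, smul_point]
  simp only [hgx, Projectivization.mk_rep]

theorem isPreprimitive (hn : 3 ≤ Fintype.card ι) : MulAction.IsPreprimitive (sug f) (pts hf) := by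
  haveI := isPretransitive hf hn
  constructor
  intro S hS
  refine or_iff_not_imp_left.2 fun hns => ?_
  have stab : ∀ {a : pts hf}, a ∈ S → ∀ g : sug f, g • a = a → ∀ b ∈ S, g • b ∈ S := by
    intro a ha g hga b hb
    have := hS.smul_eq_of_mem ha (g := g) (by rwa [hga])
    exact this ▸ Set.smul_mem_smul_set hb
  let P : (ι → F) → Prop := fun x => ∃ (hx : x ≠ 0) (hm : Projectivization.mk F x hx ∈ pts hf),
    (⟨_, hm⟩ : pts hf) ∈ S
  have piso : ∀ {x : ι → F}, P x → f x x = 0 := by
    rintro x ⟨hx, hm, -⟩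
    obtain ⟨a, ha⟩ := Projectivization.exists_smul_eq_mk_rep F x hx
    have h : f (Projectivization.mk F x hx).rep (Projectivization.mk F x hx).rep = 0 := hm
    rw [← ha, Units.smul_def, hf.smul_left, smul_right hf, ← mul_assoc, mul_eq_zero] at h
    exact h.resolve_left (mul_ne_zero a.ne_zero fun h => a.ne_zero ((map_eq_zero_iff σ σ.injective).1 h))
  have hscale : ∀ {x : ι → F} {a : F}, a ≠ 0 → P x → P (a • x) := by
    rintro x a ha ⟨hx, hm, hS'⟩
    refine ⟨smul_ne_zero ha hx, ?_⟩
    have e := (Projectivization.mk_eq_mk_iff' F _ x (smul_ne_zero ha hx) hx).2 ⟨a, rfl⟩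
    exact ⟨e.symm ▸ hm, by simpa only [e] using hS'⟩
  have move : ∀ {u v w : ι → F} (g : GL ι F), g ∈ sug f → P u → mv g u = u → mv g v = w → P v → P w := by
    rintro u v w g hg ⟨hu, hmu, hSu⟩ hgu hgv ⟨hv, hmv, hSv⟩
    subst hgv
    have hmem := (pts hf).smul_mem (⟨g, hg⟩ : sug f) hmv
    refine ⟨fun h => hv (mv_inj g (h.trans (mv_zero g).symm)), hmem, ?_⟩
    refine stab hSu ⟨g, hg⟩ (Subtype.ext ?_) _ hSv
    rw [SubMulAction.val_smul, smul_point]
    simp only [hgu]
  have A : ∀ {u v : ι → F}, P u → P v → f u v ≠ 0 → ∀ w, f w w = 0 → f u w ≠ 0 → P w := by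
    intro u v hu hv huv w hww huw
    set a := σ (f u v)⁻¹
    set b := σ (f u w)⁻¹
    have ha : a ≠ 0 := fun h => inv_ne_zero huv ((map_eq_zero_iff σ σ.injective).1 h)
    have hb : b ≠ 0 := fun h => inv_ne_zero huw ((map_eq_zero_iff σ σ.injective).1 h)
    have h1 : f u (a • v) = 1 := by rw [smul_right hf, hf.involutive, inv_mul_cancel₀ huv]
    have h2 : f u (b • w) = 1 := by rw [smul_right hf, hf.involutive, inv_mul_cancel₀ huw]
    obtain ⟨g, hg, hgu, hgv⟩ := eichler_move hf (piso hu) (piso (hscale ha hv))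
      (by rw [hf.smul_left, smul_right hf, hww, mul_zero, mul_zero]) h1 h2
    have := hscale (inv_ne_zero hb) (move g hg hu hgu hgv (hscale ha hv))
    rwa [smul_smul, inv_mul_cancel₀ hb, one_smul] at this
  have ne0 : ∀ {x y : ι → F}, f x y ≠ 0 → x ≠ 0 := fun h h0 => h (by rw [h0, zero_left hf])
  have univ_of : ∀ {u v : ι → F}, P u → P v → f u v ≠ 0 → S = Set.univ := by
    intro u v hu hv huv
    refine Set.eq_univ_of_forall fun b => ?_
    set x := b.1.rep with hx
    have hxx : f x x = 0 := b.2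
    suffices hPx : P x by
      obtain ⟨h0, hm, hS'⟩ := hPx
      have : (⟨_, hm⟩ : pts hf) = b := Subtype.ext b.1.mk_rep
      rwa [this] at hS'
    by_cases hux : f u x = 0
    swap
    · exact A hu hv huv x hxx hux
    -- an isotropic vector non-orthogonal to both
    obtain ⟨d, -, hud, hdd⟩ := exists_partner hf (nondeg_top hf) Submodule.mem_top (ne0 huv) (piso hu)
    obtain ⟨z, hzz, huz, hxz⟩ : ∃ z, f z z = 0 ∧ f u z ≠ 0 ∧ f x z ≠ 0 := by
      by_cases hxd : f x d = 0
      swap
      · exact ⟨d, hdd, by rw [hud]; exact one_ne_zero, hxd⟩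
      obtain ⟨hPn, -⟩ := nondeg_pair hf (piso hu) hdd hud
      set W := Submodule.span F ({u, d} : Set (ι → F)) with hW
      have hxW : x ∈ orth hf W := by
        intro y hy
        obtain ⟨a, c, rfl⟩ := Submodule.mem_span_pair.1 hy
        rw [hf.add_left, hf.smul_left, hf.smul_left, hux, (f_eq_zero_comm hf).1 hxd]
        ring
      obtain ⟨w, hw, hxw⟩ : ∃ w ∈ orth hf W, f x w ≠ 0 := by
        by_contra! h
        exact b.1.rep_nonzero ((nondeg_iff hf).1 (nondeg_orth hf hPn) x hxW fun w hw =>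
          (f_eq_zero_comm hf).1 (h w hw))
      obtain ⟨r, hr⟩ := exists_trace hf.ne_refl hf.involutive (-f w w) (by rw [map_neg, self_fixed hf])
      have huw : f u w = 0 := hw u (Submodule.subset_span (Set.mem_insert _ _))
      have hdw : f d w = 0 := hw d (Submodule.subset_span (Set.mem_insert_of_mem _ rfl))
      have hdu : f d u = 1 := by rw [hf.herm, hud, map_one]
      refine ⟨d + r • u + w, ?_, ?_, ?_⟩
      · simp only [hf.add_left, add_right hf, hf.smul_left, smul_right hf, hdd, piso hu, hud, hdu, huw, hdw,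
          (f_eq_zero_comm hf).1 huw, (f_eq_zero_comm hf).1 hdw, mul_zero, mul_one, add_zero, zero_add]
        linear_combination hr
      · simp [add_right hf, smul_right hf, hud, piso hu, huw]
      · simpa [add_right hf, smul_right hf, hxd, (f_eq_zero_comm hf).1 hux] using hxw
    exact A (A hu hv huv z hzz huz) hu (fun h => huz ((f_eq_zero_comm hf).1 h)) x hxx
      (fun h => hxz ((f_eq_zero_comm hf).1 h))
  rw [Set.not_subsingleton_iff] at hns
  obtain ⟨a, ha, b, hb, hab⟩ := hns
  set u := a.1.rep with hu'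
  set v := b.1.rep with hv'
  have huu : f u u = 0 := a.2
  have hvv : f v v = 0 := b.2
  have hPu : P u := ⟨a.1.rep_nonzero, a.1.mk_rep.symm ▸ a.2,
    by simpa only [hu', Projectivization.mk_rep, Subtype.coe_eta] using ha⟩
  have hPv : P v := ⟨b.1.rep_nonzero, b.1.mk_rep.symm ▸ b.2,
    by simpa only [hv', Projectivization.mk_rep, Subtype.coe_eta] using hb⟩
  by_cases huv : f u v = 0
  swap
  · exact univ_of hPu hPv huv
  obtain ⟨d, -, hud, hdd⟩ := exists_partner hf (nondeg_top hf) Submodule.mem_top a.1.rep_nonzero huu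
  obtain ⟨hPn, -⟩ := nondeg_pair hf huu hdd hud
  have hdu : f d u = 1 := by rw [hf.herm, hud, map_one]
  set W := Submodule.span F ({u, d} : Set (ι → F)) with hW
  set y := v - f v d • u with hy
  have hvu : f v u = 0 := (f_eq_zero_comm hf).1 huv
  have hyd : f y d = 0 := by rw [hy, sub_left hf, hf.smul_left, hud, mul_one, sub_self]
  have hyu : f y u = 0 := by rw [hy, sub_left hf, hf.smul_left, huu, hvu, mul_zero, sub_self]
  have hyW : y ∈ orth hf W := by
    intro z hz
    obtain ⟨c, c', rfl⟩ := Submodule.mem_span_pair.1 hz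
    rw [hf.add_left, hf.smul_left, hf.smul_left, (f_eq_zero_comm hf).1 hyu, (f_eq_zero_comm hf).1 hyd]
    ring
  have hyy : f y y = 0 := by
    simp [hy, sub_left hf, sub_right hf, hf.smul_left, smul_right hf, huu, hvv, hvu, huv]
  have hy0 : y ≠ 0 := fun h => hab (by
    have hve : v = f v d • u := sub_eq_zero.1 h
    refine (Subtype.ext ?_)
    rw [← a.1.mk_rep, ← b.1.mk_rep]
    exact ((Projectivization.mk_eq_mk_iff' F v u b.1.rep_nonzero a.1.rep_nonzero).2
      ⟨f v d, hve.symm⟩).symm)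
  obtain ⟨z, hz, hyz, hzz⟩ := exists_partner hf (nondeg_orth hf hPn) hyW hy0 hyy
  have huz : f u z = 0 := hz u (Submodule.subset_span (Set.mem_insert _ _))
  have hvz : f v z = 1 := by
    have : v = y + f v d • u := by rw [hy, sub_add_cancel]
    rw [this, hf.add_left, hf.smul_left, huz, mul_zero, add_zero, hyz]
  obtain ⟨t, ht0, ht⟩ := exists_anti hf.ne_refl hf.involutive
  set z' := σ t • z
  have hvz' : f v z' = t := by rw [smul_right hf, hf.involutive, hvz, mul_one]
  have hz' : f z' z' = 0 := by rw [hf.smul_left, smul_right hf, hzz, mul_zero, mul_zero]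
  obtain ⟨h1, a1, m1⟩ := htv_map hf hvv hz' (hvz' ▸ ht0) (by rw [hvz', ht])
  have hPz : P z' := move _ ⟨htv_mem hf _ h1 a1, htv_mem_specialLinear hf _ h1 _⟩ hPu
    (htv_fix hf _ _ _ (by rw [sub_right hf, smul_right hf, huz, huv, mul_zero, sub_zero])) m1 hPv
  exact univ_of hPv hPz (hvz' ▸ ht0)

theorem eq_scalar_of_fix (hn : 2 ≤ Fintype.card ι) (g : sug f) (hfix : ∀ p : pts hf, g • p = p) :
    ∃ a : F, ∀ x, mv g.1 x = a • x := by
  have htop := nondeg_top hf
  obtain ⟨e, -, he0, hee⟩ := exists_isotropic hf htop (by rw [finrank_top, Module.finrank_pi]; exact hn)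
  obtain ⟨d, -, hed, hdd⟩ := exists_partner hf htop Submodule.mem_top he0 hee
  obtain ⟨hPn, -⟩ := nondeg_pair hf hee hdd hed
  have hde : f d e = 1 := by rw [hf.herm, hed, map_one]
  have eig : ∀ x, x ≠ 0 → f x x = 0 → ∃ l : F, mv g.1 x = l • x := by
    intro x hx hxx
    have h := congrArg Subtype.val (hfix ⟨_, mk_mem_pts hf hx hxx⟩)
    rw [SubMulAction.val_smul, smul_point, Projectivization.mk_eq_mk_iff'] at h
    obtain ⟨l, hl⟩ := h
    exact ⟨l, hl.symm⟩
  obtain ⟨a, ha⟩ := eig e he0 hee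
  have hd0 : d ≠ 0 := fun h => by rw [h, zero_left hf] at hde; exact zero_ne_one hde
  obtain ⟨b, hb⟩ := eig d hd0 hdd
  have hab : a * σ b = 1 := by
    have h : f (mv g.1 e) (mv g.1 d) = f e d := g.2.1 e d
    rwa [ha, hb, hf.smul_left, smul_right hf, hed, mul_one] at h
  have ha0 : a ≠ 0 := left_ne_zero_of_mul_eq_one hab
  have hσb0 : σ b ≠ 0 := right_ne_zero_of_mul_eq_one hab
  have hb0 : b ≠ 0 := fun h => hσb0 (by rw [h, map_zero])
  have key : ∀ w ∈ orth hf (Submodule.span F ({e, d} : Set (ι → F))), ∀ r : F,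
      r + σ r + f w w = 0 → mv g.1 w = b • w ∧ r * a = r * b := by
    intro w hw r hr
    have hew : f e w = 0 := hw e (Submodule.subset_span (Set.mem_insert _ _))
    have hdw : f d w = 0 := hw d (Submodule.subset_span (Set.mem_insert_of_mem _ rfl))
    have hwe : f w e = 0 := (f_eq_zero_comm hf).1 hew
    have hwd : f w d = 0 := (f_eq_zero_comm hf).1 hdw
    set x := d + r • e + w with hx
    have hxe : f x e = 1 := by simp [hx, hf.add_left, hf.smul_left, hde, hee, hwe]
    have hx0 : x ≠ 0 := fun h => by rw [h, zero_left hf] at hxe; exact zero_ne_one hxe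
    have hxx : f x x = 0 := by
      simp only [hx, hf.add_left, add_right hf, hf.smul_left, smul_right hf, hdd, hee, hed, hde, hew, hwe,
        hdw, hwd, mul_zero, mul_one, add_zero, zero_add]
      linear_combination hr
    obtain ⟨c, hc⟩ := eig x hx0 hxx
    have hgwe : f (mv g.1 w) e = 0 := by
      have h : f (mv g.1 w) (mv g.1 e) = f w e := g.2.1 w e
      rw [ha, smul_right hf, hwe] at h
      exact (mul_eq_zero.1 h).resolve_left fun h => ha0 ((map_eq_zero_iff σ σ.injective).1 h)
    have hgwd : f (mv g.1 w) d = 0 := by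
      have h : f (mv g.1 w) (mv g.1 d) = f w d := g.2.1 w d
      rw [hb, smul_right hf, hwd] at h
      exact (mul_eq_zero.1 h).resolve_left hσb0
    rw [hx, mv_add, mv_add, mv_smul, ha, hb] at hc
    have hcb : c = b := by
      have h := congrArg (fun z => f z e) hc
      simpa [hf.add_left, hf.smul_left, hde, hee, hwe, hgwe] using h.symm
    subst hcb
    have hra : r * a = r * c := by
      have h := congrArg (fun z => f z d) hc
      simp only [hf.add_left, hf.smul_left, hdd, hed, hwd, hgwd, mul_zero, mul_one, add_zero, zero_add] at h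
      linear_combination h
    refine ⟨?_, hra⟩
    rw [smul_smul, hra, smul_add, smul_add, smul_smul, mul_comm r c] at hc
    exact add_left_cancel hc
  obtain ⟨t, ht0, ht⟩ := exists_anti hf.ne_refl hf.involutive
  have hab' : a = b := mul_left_cancel₀ ht0 ((key 0 (Submodule.zero_mem _) t
    (by rw [ht, zero_left hf]; ring)).2)
  refine ⟨b, fun x => ?_⟩
  obtain ⟨p, hp, y, hy, rfl⟩ := Submodule.mem_sup.1
    ((sup_orth hf hPn).symm ▸ Submodule.mem_top : x ∈ _ ⊔ orth hf (Submodule.span F ({e, d} : Set (ι → F))))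
  obtain ⟨r, s, rfl⟩ := Submodule.mem_span_pair.1 hp
  obtain ⟨l, hl⟩ := exists_trace hf.ne_refl hf.involutive (-f y y) (by rw [map_neg, self_fixed hf])
  rw [mv_add, mv_add, mv_smul, mv_smul, ha, hb, (key y hy l (by linear_combination hl)).1, hab']
  module

/-- Root groups. -/
def rootGroup (p : pts hf) : Subgroup (sug f) where
  carrier := {g | ∃ c : F, σ c = -c ∧ g.1 = htv hf p.1.rep (pt_iso hf p) c}
  one_mem' := ⟨0, by simp, (htv_zero hf _ _).symm⟩
  mul_mem' := by
    rintro g h ⟨c, hc, hg⟩ ⟨c', hc', hh⟩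
    exact ⟨c + c', by rw [map_add, hc, hc']; ring, by rw [Subgroup.coe_mul, hg, hh, htv_add]⟩
  inv_mem' := by
    rintro g ⟨c, hc, hg⟩
    refine ⟨-c, by rw [map_neg, hc], ?_⟩
    rw [Subgroup.coe_inv, inv_eq_iff_mul_eq_one, hg, htv_add, add_neg_cancel, htv_zero]

omit [Finite F] in
theorem htv_congr {v w : ι → F} (h : v = w) (hv : f v v = 0) (hw : f w w = 0) (c : F) :
    htv hf v hv c = htv hf w hw c := by subst h; rfl

theorem htv_mem_iSup {v : ι → F} (hv : f v v = 0) {c : F} (hc : σ c = -c) :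
    ⟨htv hf v hv c, htv_mem hf v hv hc, htv_mem_specialLinear hf v hv c⟩ ∈ ⨆ p, rootGroup hf p := by
  rcases eq_or_ne v 0 with rfl | hv0
  · convert Subgroup.one_mem _
    exact Subtype.ext (ext_mv fun x => by simp [mv_htv, mv_one])
  obtain ⟨a, ha⟩ := Projectivization.exists_smul_eq_mk_rep F v hv0
  refine Subgroup.mem_iSup_of_mem ⟨_, mk_mem_pts hf hv0 hv⟩ ⟨c / ((a : F) * σ a), ?_, ?_⟩
  · rw [map_div₀, map_mul, hf.involutive, hc, mul_comm, neg_div]
  · have hav : f ((a : F) • v) ((a : F) • v) = 0 := by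
      rw [hf.smul_left, smul_right hf, hv, mul_zero, mul_zero]
    show _ = htv hf (Projectivization.mk F v hv0).rep (pt_iso hf ⟨_, mk_mem_pts hf hv0 hv⟩) _
    rw [htv_congr hf (ha.symm.trans (Units.smul_def a v)) (pt_iso hf ⟨_, mk_mem_pts hf hv0 hv⟩) hav,
      htv_smul hf v hv (a : F)]
    congr 1
    rw [mul_div_cancel₀ _ (mul_ne_zero a.ne_zero fun h => a.ne_zero ((map_eq_zero_iff σ σ.injective).1 h))]

theorem iSup_rootGroup (hn : 3 ≤ Fintype.card ι) (h32 : Fintype.card ι = 3 → 3 ≤ Nat.card (fixedField σ)) :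
    ⨆ p, rootGroup hf p = ⊤ := by
  refine eq_top_iff.2 fun g _ => ?_
  obtain ⟨g', hg', he⟩ := UnitaryGen.su_le_all hf hn h32
    (M := (⨆ p, rootGroup hf p).map (sug f).subtype)
    (fun v hv c hc => ⟨_, htv_mem_iSup hf hv hc, rfl⟩) g.2
  rwa [← show g' = g from Subtype.ext he]

/-- The Iwasawa structure. -/
def iwasawa (hn : 3 ≤ Fintype.card ι) (h32 : Fintype.card ι = 3 → 3 ≤ Nat.card (fixedField σ)) :
    MulAction.IwasawaStructure (sug f) (pts hf) where
  T := rootGroup hf
  is_comm p := ⟨⟨fun a b => by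
    obtain ⟨c, -, hc⟩ := a.2
    obtain ⟨c', -, hc'⟩ := b.2
    refine Subtype.ext (Subtype.ext ?_)
    show a.1.1 * b.1.1 = b.1.1 * a.1.1
    rw [hc, hc', htv_add, htv_add, add_comm]⟩⟩
  is_conj g p := by
    obtain ⟨a, ha⟩ : ∃ a : Fˣ, a • mv g.1 p.1.rep = (g • p : pts hf).1.rep := by
      have h0 : mv g.1 p.1.rep ≠ 0 := fun h => p.1.rep_nonzero (mv_inj g.1 (h.trans (mv_zero g.1).symm))
      have : (g • p : pts hf).1 = Projectivization.mk F (mv g.1 p.1.rep) h0 := by
        rw [SubMulAction.val_smul]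
        conv_lhs => rw [← p.1.mk_rep, smul_point]
      rw [this]
      exact Projectivization.exists_smul_eq_mk_rep F _ h0
    have hgg : ∀ x y, f (mv g.1 x) (mv g.1 y) = f x y := fun x y => g.2.1 x y
    have hgp : f (mv g.1 p.1.rep) (mv g.1 p.1.rep) = 0 := (hgg _ _).trans (pt_iso hf p)
    have hav : f ((a : F) • mv g.1 p.1.rep) ((a : F) • mv g.1 p.1.rep) = 0 := by
      rw [hf.smul_left, smul_right hf, hgp, mul_zero, mul_zero]
    have hn0 : (a : F) * σ a ≠ 0 :=
      mul_ne_zero a.ne_zero fun h => a.ne_zero ((map_eq_zero_iff σ σ.injective).1 h)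
    have hrep : ∀ c, htv hf (g • p : pts hf).1.rep (pt_iso hf (g • p)) c =
        g.1 * htv hf p.1.rep (pt_iso hf p) ((a : F) * σ a * c) * g.1⁻¹ := fun c => by
      rw [htv_congr hf (ha.symm.trans (Units.smul_def a _)) (pt_iso hf _) hav, htv_smul hf _ hgp,
        htv_conj hf hgg]
    ext k
    simp only [Subgroup.mem_pointwise_smul_iff_inv_smul_mem, MulAut.smul_def, MulAut.inv_apply,
      MulAut.conj_symm_apply]
    constructor
    · rintro ⟨c, hc, hk⟩
      refine ⟨(a : F) * σ a * c, by rw [map_mul, map_mul, hf.involutive, hc]; ring, ?_⟩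
      rw [Subgroup.coe_mul, Subgroup.coe_mul, Subgroup.coe_inv, hk, hrep]
      group
    · rintro ⟨c, hc, hk⟩
      refine ⟨c / ((a : F) * σ a), by rw [map_div₀, map_mul, hf.involutive, hc, mul_comm, neg_div], ?_⟩
      rw [hrep, mul_div_cancel₀ _ hn0, ← hk, Subgroup.coe_mul, Subgroup.coe_mul, Subgroup.coe_inv]
      group
  is_generator := iSup_rootGroup hf hn h32

theorem commutator_eq_top (hn : 3 ≤ Fintype.card ι)
    (h32 : Fintype.card ι = 3 → 3 ≤ Nat.card (fixedField σ)) : commutator (sug f) = ⊤ := by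
  refine eq_top_iff.2 fun g _ => ?_
  obtain ⟨g', hg', he⟩ := UnitaryGen.su_le_all hf hn h32 (M := (commutator (sug f)).map (sug f).subtype)
    (fun v hv c hc => by
      obtain ⟨a, ha, b, hb, h⟩ := UnitaryGen.htv_commutator hf hn hv hc
      exact ⟨⁅(⟨a, ha⟩ : sug f), ⟨b, hb⟩⁆,
        Subgroup.commutator_mem_commutator (Subgroup.mem_top _) (Subgroup.mem_top _), h⟩) g.2
  rwa [← show g' = g from Subtype.ext he]

theorem isSimpleGroup_quotient (hn : 3 ≤ Fintype.card ι)
    (h32 : Fintype.card ι = 3 → 3 ≤ Nat.card (fixedField σ)) :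
    IsSimpleGroup (sug f ⧸ Subgroup.center (sug f)) := by
  haveI := isPreprimitive hf hn
  have htop := nondeg_top hf
  have hctop : Subgroup.center (sug f) ≠ ⊤ := by
    intro h
    obtain ⟨e, -, he0, hee⟩ := exists_isotropic hf htop
      (by rw [finrank_top, Module.finrank_pi]; omega)
    obtain ⟨d, -, hed, hdd⟩ := exists_partner hf htop Submodule.mem_top he0 hee
    obtain ⟨t, ht0, ht⟩ := exists_anti hf.ne_refl hf.involutive
    let A : sug f := ⟨htv hf e hee t, htv_mem hf e hee ht, htv_mem_specialLinear hf e hee t⟩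
    let B : sug f := ⟨htv hf d hdd t, htv_mem hf d hdd ht, htv_mem_specialLinear hf d hdd t⟩
    have hA : A ∈ Subgroup.center (sug f) := h ▸ Subgroup.mem_top A
    have e1 := congrArg (fun k : sug f => f (mv k.1 e) d) (Subgroup.mem_center_iff.1 hA B)
    simp only [A, B, Subgroup.coe_mul, mv_mul, mv_htv, hf.add_left, hf.smul_left, hee, hed, hdd,
      hf.herm d e, map_one, mul_zero, mul_one, add_zero, zero_add, zero_smul] at e1
    exact mul_ne_zero ht0 ht0 (by linear_combination -e1)
  haveI : Nontrivial (sug f ⧸ Subgroup.center (sug f)) := QuotientGroup.nontrivial_iff.2 hctop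
  refine IsSimpleGroup.mk fun N hN => ?_
  have hsurj := QuotientGroup.mk'_surjective (Subgroup.center (sug f))
  rw [← Subgroup.map_comap_eq_self_of_surjective hsurj N]
  set M := N.comap (QuotientGroup.mk' (Subgroup.center (sug f)))
  by_cases h : MulAction.fixedPoints M (pts hf) = .univ
  · left
    refine (Subgroup.map_eq_bot_iff _).2 ?_
    rw [QuotientGroup.ker_mk']
    intro g hg
    obtain ⟨a, ha⟩ := eq_scalar_of_fix hf (by omega) g fun p =>
      Set.eq_univ_iff_forall.1 h p ⟨g, hg⟩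
    refine Subgroup.mem_center_iff.2 fun k => Subtype.ext (ext_mv fun x => ?_)
    rw [Subgroup.coe_mul, Subgroup.coe_mul, mv_mul, mv_mul, ha, ha, mv_smul]
  · right
    have hle := (iwasawa hf hn h32).commutator_le M h
    rw [commutator_eq_top hf hn h32] at hle
    rw [top_le_iff.1 hle, Subgroup.map_top_of_surjective _ hsurj]

end Cfsg.Agent.UnitarySimple
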