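/-
The results on unitary transvections and simplicity for the standard groups SU_n(q), PSU_n(q).
-/
import Cfsg.Agent.Lib.Classical.UnitarySimple
import Cfsg.Prelude.Def_Classical
import Cfsg.Prelude.Def_ClassicalGeometry

set_option autoImplicit false

namespace Cfsg.Agent.UnitaryStd

open scoped Matrix
open Matrix Cfsg.Agent.Transvec Cfsg.Agent.Transvec.Herm Cfsg.Agent.UnitarySimple

variable {F : Type*} [Field F] [Fintype F] {q n : ℕ}

theorem exists_setup (hF : Fintype.card F = q ^ 2) (hn : 0 < n) :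
    ∃ σ : F ≃+* F, (∀ x, σ x = x ^ q) ∧ Geo.IsUnitaryForm σ (hermForm n F q) ∧
      Nat.card (fixedField σ) = q := by
  obtain ⟨σ, hσ, -, hf⟩ := exists_unitary_std (F := F) hF hn
  refine ⟨σ, hσ, hf, ?_⟩
  have h := card_eq_sq hf.ne_refl hf.involutive
  rw [Nat.card_eq_fintype_card, hF] at h
  exact (Nat.pow_left_injective two_ne_zero h).symm

omit [Fintype F] in
theorem unitaryTransvection_mulVec (v : Fin n → F) (c : F) (x : Fin n → F) :
    Cfsg.unitaryTransvection n q v c *ᵥ x = x + (c * hermForm n F q x v) • v := by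
  rw [Cfsg.unitaryTransvection, Matrix.add_mulVec, Matrix.one_mulVec, Matrix.smul_mulVec,
    Matrix.vecMulVec_mulVec]
  ext i
  simp [hermForm, dotProduct, mul_comm, mul_left_comm]

omit [Fintype F] in
theorem toGL_mem (A : Cfsg.SU n F q) : SpecialLinearGroup.toGL A.1 ∈ sug (hermForm n F q) :=
  ⟨fun u v => A.2 u v, MonoidHom.mem_ker.2 (Units.ext A.1.2)⟩

omit [Fintype F] in
theorem det_eq_one {g : GL (Fin n) F} (hg : g ∈ sug (hermForm n F q)) :
    (g : Matrix (Fin n) (Fin n) F).det = 1 := by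
  rw [← Matrix.GeneralLinearGroup.val_det_apply, MonoidHom.mem_ker.1 hg.2]; rfl

/-- SU_n(q) as a subgroup of GL_n. -/
def suEquiv : Cfsg.SU n F q ≃* sug (hermForm n F q) where
  toFun A := ⟨SpecialLinearGroup.toGL A.1, toGL_mem A⟩
  invFun g := ⟨⟨g.1.1, det_eq_one g.2⟩, fun u v => g.2.1 u v⟩
  left_inv A := rfl
  right_inv g := Subtype.ext (Units.ext rfl)
  map_mul' A B := Subtype.ext (Units.ext rfl)

variable {σ : F ≃+* F} (hf : Geo.IsUnitaryForm σ (hermForm n F q))
include hf

omit [Fintype F] in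
theorem exists_su_htv (v : Fin n → F) (hv : hermForm n F q v v = 0) {c : F} (hc : σ c = -c) :
    ∃ A : Cfsg.SU n F q, (suEquiv A).1 = htv hf v hv c ∧
      ((A : SpecialLinearGroup (Fin n) F) : Matrix (Fin n) (Fin n) F) =
        Cfsg.unitaryTransvection n q v c := by
  refine ⟨suEquiv.symm ⟨_, htv_mem hf v hv hc, htv_mem_specialLinear hf v hv c⟩,
    congrArg Subtype.val (suEquiv.apply_symm_apply _), Matrix.ext_of_mulVec_single fun i => ?_⟩
  rw [unitaryTransvection_mulVec]
  exact mv_htv hf v hv c _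

theorem closure_eq_top (hn : 3 ≤ n) (hq : n = 3 → 3 ≤ Nat.card (fixedField σ)) :
    Subgroup.closure {A : ↥(Cfsg.SU n F q) | ∃ (v : Fin n → F) (c : F), Cfsg.hermForm n F q v v = 0 ∧
      ((A : Matrix.SpecialLinearGroup (Fin n) F) : Matrix (Fin n) (Fin n) F) =
        Cfsg.unitaryTransvection n q v c} = ⊤ := by
  set T := Subgroup.closure {A : ↥(Cfsg.SU n F q) | ∃ (v : Fin n → F) (c : F),
    Cfsg.hermForm n F q v v = 0 ∧ ((A : Matrix.SpecialLinearGroup (Fin n) F) : Matrix (Fin n) (Fin n) F) =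
        Cfsg.unitaryTransvection n q v c} with hT
  refine eq_top_iff.2 fun A _ => ?_
  obtain ⟨A', hA', he⟩ := UnitaryGen.su_le_all hf (by simpa using hn) (by simpa using hq)
    (M := (T.map suEquiv.toMonoidHom).map (sug (hermForm n F q)).subtype)
    (fun v hv c hc => by
      obtain ⟨B, hB, hB'⟩ := exists_su_htv hf v hv hc
      exact ⟨suEquiv B, ⟨B, Subgroup.subset_closure ⟨v, c, hv, hB'⟩, rfl⟩, hB⟩) (suEquiv A).2
  obtain ⟨B, hB, rfl⟩ := hA'
  rwa [← suEquiv.injective (Subtype.ext he)]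

omit [Fintype F] in
/-- An element of SU with a transvection matrix has parameter of trace zero, unless trivial. -/
theorem anti_of_mem (A : Cfsg.SU n F q) {v : Fin n → F} (hv : hermForm n F q v v = 0) (hv0 : v ≠ 0) {c : F}
    (hA : ((A : SpecialLinearGroup (Fin n) F) : Matrix (Fin n) (Fin n) F) =
      Cfsg.unitaryTransvection n q v c) : σ c = -c := by
  obtain ⟨x, hx⟩ := (hf.nondegenerate v hv0).1
  have h : hermForm n F q ((A : SpecialLinearGroup (Fin n) F).1 *ᵥ x)
      ((A : SpecialLinearGroup (Fin n) F).1 *ᵥ x) = hermForm n F q x x := A.2 x x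
  rw [hA, unitaryTransvection_mulVec, hf.add_left, Herm.add_right hf, Herm.add_right hf, hf.smul_left,
    hf.smul_left, Herm.smul_right hf, Herm.smul_right hf, hv, map_mul, hf.herm v x] at h
  have h2 : hermForm n F q x v * σ (hermForm n F q x v) * (c + σ c) = 0 := by linear_combination h
  rcases mul_eq_zero.1 h2 with h3 | h3
  · rcases mul_eq_zero.1 h3 with h4 | h4
    · exact absurd h4 hx
    · exact absurd ((map_eq_zero_iff σ σ.injective).1 h4) hx
  · linear_combination h3

theorem mem_commutatorSet (hn : 3 ≤ n) (A : Cfsg.SU n F q) {v : Fin n → F} {c : F}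
    (hv : hermForm n F q v v = 0)
    (hA : ((A : SpecialLinearGroup (Fin n) F) : Matrix (Fin n) (Fin n) F) =
      Cfsg.unitaryTransvection n q v c) : A ∈ commutatorSet ↥(Cfsg.SU n F q) := by
  rcases eq_or_ne v 0 with rfl | hv0
  · have : A = 1 := Subtype.ext (Subtype.ext (by rw [hA]; simp [Cfsg.unitaryTransvection]))
    rw [this]
    exact one_mem_commutatorSet _
  obtain ⟨g, hg, h, hh, hgh⟩ := UnitaryGen.htv_commutator hf (by simpa using hn) hv
    (anti_of_mem hf A hv hv0 hA)
  refine ⟨suEquiv.symm ⟨g, hg⟩, suEquiv.symm ⟨h, hh⟩, suEquiv.injective (Subtype.ext ?_)⟩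
  rw [map_commutatorElement, MulEquiv.apply_symm_apply, MulEquiv.apply_symm_apply]
  refine hgh.trans (ext_mv fun x => ?_)
  rw [mv_htv]
  show _ = (A : SpecialLinearGroup (Fin n) F).1 *ᵥ x
  rw [hA, unitaryTransvection_mulVec]

theorem isSimpleGroup_psu (hn : 3 ≤ n) (hq : n = 3 → 3 ≤ Nat.card (fixedField σ)) :
    IsSimpleGroup (Cfsg.PSU n F q) := by
  haveI := UnitarySimple.isSimpleGroup_quotient hf (by simpa using hn) (by simpa using hq)
  have e : Cfsg.PSU n F q ≃* sug (hermForm n F q) ⧸ Subgroup.center (sug (hermForm n F q)) :=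
    QuotientGroup.congr _ _ suEquiv (by
      ext g
      rw [Subgroup.mem_map, Subgroup.mem_center_iff]
      constructor
      · rintro ⟨x, hx, rfl⟩ k
        have := congrArg suEquiv (Subgroup.mem_center_iff.1 hx (suEquiv.symm k))
        simpa using this
      · intro h
        refine ⟨suEquiv.symm g, Subgroup.mem_center_iff.2 fun k => ?_, suEquiv.apply_symm_apply g⟩
        have := congrArg suEquiv.symm (h (suEquiv k))
        simpa using this)
  exact e.isSimpleGroup

end Cfsg.Agent.UnitaryStd
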