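/-
Sylow subgroups of PSL_2, element orders in dihedral groups, overgroups of small subgroups.
-/
import Cfsg.Agent.Lib.Classical.DicksonProper
import Mathlib.GroupTheory.SpecificGroups.Dihedral

set_option autoImplicit false
set_option linter.style.haveILetI false

namespace Cfsg.Agent.Dickson

open Matrix PStable
open scoped Pointwise

/-- Rotations of a dihedral group. -/
def rot (k : ℕ) : Subgroup (DihedralGroup k) := Subgroup.zpowers (DihedralGroup.r 1)

theorem index_rot_le (k : ℕ) [NeZero k] : (rot k).index ≤ 2 := by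
  have h := (rot k).card_mul_index
  rw [rot, Nat.card_zpowers, DihedralGroup.orderOf_r_one, DihedralGroup.nat_card, mul_comm 2] at h
  exact (Nat.eq_of_mul_eq_mul_left (NeZero.pos k) h).le

/-- A subgroup of a dihedral group has a large element. -/
theorem exists_large_orderOf {D : Type*} [Group D] [Finite D] {k : ℕ} [NeZero k] (f : D →* DihedralGroup k)
    (hf : Function.Injective f) : ∃ d : D, Nat.card D ≤ 2 * orderOf d := by
  let R : Subgroup D := (rot k).comap f
  have hR : IsCyclic R := by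
    let g : R →* rot k :=
      { toFun := fun x => ⟨f (x : D), x.2⟩, map_one' := Subtype.ext (by simp),
        map_mul' := fun x y => Subtype.ext (by simp) }
    haveI : IsCyclic (rot k) := by rw [rot]; infer_instance
    exact isCyclic_of_injective g fun x y h => Subtype.ext (hf (congrArg Subtype.val h :))
  obtain ⟨c, hc⟩ := IsCyclic.exists_generator (α := R)
  refine ⟨c, ?_⟩
  rw [Subgroup.orderOf_coe, orderOf_eq_card_of_forall_mem_zpowers hc]
  have h1 := R.card_mul_index
  have h2 : R.index ≤ 2 := by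
    rw [Subgroup.index_comap]
    refine le_trans (Subgroup.relIndex_le_of_le_right le_top ?_) ?_
    · rw [Subgroup.relIndex_top_right]; exact Subgroup.index_ne_zero_of_finite
    · rw [Subgroup.relIndex_top_right]; exact index_rot_le k
  calc Nat.card D = Nat.card R * R.index := h1.symm
    _ ≤ Nat.card R * 2 := Nat.mul_le_mul_left _ h2
    _ = 2 * Nat.card R := mul_comm _ _

variable {F : Type*} [Field F] [Finite F]

local notation "SL2" => Matrix.SpecialLinearGroup (Fin 2) F
local notation "M2" => Matrix (Fin 2) (Fin 2) F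
local notation "P" => Matrix.ProjectiveSpecialLinearGroup (Fin 2) F
local notation "prH" => PSL2Inv.pr (F := F)

/-- A Sylow subgroup in the defining characteristic is abelian and contains all commutators of its normalizer. -/
theorem sylow_facts (p : ℕ) [Fact p.Prime] [CharP F p] (S : Sylow p P) :
    (∀ x ∈ (S : Subgroup P), ∀ y ∈ (S : Subgroup P), x * y = y * x) ∧
      (∀ x ∈ Subgroup.normalizer ((S : Subgroup P) : Set P), ∀ y ∈ Subgroup.normalizer ((S : Subgroup P) : Set P),
        x * y * x⁻¹ * y⁻¹ ∈ (S : Subgroup P)) := by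
  classical
  obtain ⟨S₀, hS₀⟩ := exists_sylow_normalizer (p := p) (H := borel (⊤ : Subgroup SL2)) fun x hx => hx.2
  obtain ⟨g, rfl⟩ := MulAction.exists_smul_eq P S₀ S
  have hN : Subgroup.normalizer ((S₀ : Subgroup P) : Set P) = (borel (⊤ : Subgroup SL2)).map prH := by
    refine (Subgroup.eq_of_le_of_card_ge hS₀ ?_).symm
    refine Nat.le_of_mul_le_mul_left ?_ (Nat.card_pos (α := Subgroup.center SL2))
    have hsat : Saturated (borel (⊤ : Subgroup SL2)) := fun x hx => ⟨trivial, (isSc_iff.1 hx).2.1⟩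
    rw [card_normalizer_sylow p S₀, ← card_map hsat]
    have h1 := card_cosets (⊤ : Subgroup SL2)
    rw [Subgroup.card_top, card_sl2_eq,
      show Nat.card F ^ 2 - 1 = (Nat.card F + 1) * (Nat.card F - 1) by simpa using Nat.sq_sub_sq (Nat.card F) 1] at h1
    have hle : (points (⊤ : Subgroup SL2)).ncard ≤ Nat.card F := by
      rw [← Set.ncard_univ]; exact Set.ncard_le_ncard (Set.subset_univ _) (Set.toFinite _)
    refine Nat.le_of_mul_le_mul_left ?_ (show 0 < Nat.card F + 1 by omega)
    calc (Nat.card F + 1) * (Nat.card F * (Nat.card F - 1))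
        = Nat.card F * ((Nat.card F + 1) * (Nat.card F - 1)) := by ring
      _ = ((points (⊤ : Subgroup SL2)).ncard + 1) * Nat.card (borel (⊤ : Subgroup SL2)) := h1
      _ ≤ _ := Nat.mul_le_mul_right _ (by omega)
  -- unipotent upper triangular elements give the whole Sylow group
  have hU : ∀ x ∈ borel (⊤ : Subgroup SL2), (x : M2) 0 0 = 1 → prH x ∈ (S₀ : Subgroup P) := by
    intro x hx h0
    obtain ⟨a, -, rfl⟩ := borel_eq_upp hx h0
    have hp : IsPGroup p (Subgroup.zpowers (prH (upp a))) := fun y => by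
      obtain ⟨j, hj⟩ := y.2
      refine ⟨1, Subtype.ext ?_⟩
      rw [SubmonoidClass.coe_pow, ← hj, Subgroup.coe_one, ← zpow_natCast, ← zpow_mul, mul_comm, zpow_mul,
        zpow_natCast, pow_one, ← map_pow, upp_pow_char, map_one, one_zpow]
    exact ((hp.inf_normalizer_sylow S₀).le ⟨Subgroup.mem_zpowers _,
      hS₀ (Subgroup.mem_map_of_mem _ hx)⟩).2
  have hall : ∀ x ∈ (S₀ : Subgroup P), ∃ a : F, prH (upp a) = x := by
    intro x hx
    have hxN : x ∈ Subgroup.normalizer ((S₀ : Subgroup P) : Set P) := Subgroup.le_normalizer hx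
    rw [hN] at hxN
    obtain ⟨y, hy, rfl⟩ := hxN
    obtain ⟨i, hi⟩ := S₀.2 ⟨_, hx⟩
    have hi' : prH (y ^ p ^ i) = 1 := by rw [map_pow]; exact congrArg Subtype.val hi
    obtain ⟨c, hc⟩ := pr_eq_one.1 hi'
    have hdiag : ∀ n : ℕ, ((y ^ n : SL2) : M2) 0 0 = (y : M2) 0 0 ^ n ∧ ((y ^ n : SL2) : M2) 1 1 = (y : M2) 1 1 ^ n ∧
        ((y ^ n : SL2) : M2) 1 0 = 0 := fun n => by
      induction n with
      | zero => simp
      | succ n ih =>
        simp only [Matrix.SpecialLinearGroup.coe_pow] at ih ⊢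
        refine ⟨?_, ?_, ?_⟩ <;>
          simp [pow_succ, Matrix.mul_apply, Fin.sum_univ_two, hy.2, ih.1, ih.2.1, ih.2.2]
    have h00 : (y : M2) 0 0 = (y : M2) 1 1 := by
      refine frobenius_inj F p |>.iterate i ?_
      rw [iterate_frobenius, iterate_frobenius, ← (hdiag _).1, ← (hdiag _).2.1, hc]
      simp
    have hd := det_one y
    rw [hy.2, mul_zero, sub_zero, ← h00] at hd
    refine ⟨(y : M2) 0 0 * (y : M2) 0 1, ?_⟩
    let s : SL2 := ⟨(y : M2) 0 0 • (1 : M2), by simp [Matrix.det_smul, sq, hd]⟩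
    have e : upp ((y : M2) 0 0 * (y : M2) 0 1) = s * y := by
      apply Subtype.ext
      show _ = ((y : M2) 0 0 • (1 : M2)) * (y : M2)
      rw [upp_val]
      apply ext2 <;> simp [hy.2, ← h00, hd]
    rw [e, map_mul, pr_eq_one.2 (⟨_, rfl⟩ : IsSc s), one_mul]
  have hconj : ∀ x, x ∈ ((g • S₀ : Sylow p P) : Subgroup P) ↔ g⁻¹ * x * g ∈ (S₀ : Subgroup P) := fun x => by
    rw [Sylow.coe_subgroup_smul, Subgroup.mem_pointwise_smul_iff_inv_smul_mem]
    simp [MulAut.smul_def]
  constructor
  · intro x hx y hy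
    obtain ⟨a, ha⟩ := hall _ ((hconj x).1 hx)
    obtain ⟨b, hb⟩ := hall _ ((hconj y).1 hy)
    have h : (g⁻¹ * x * g) * (g⁻¹ * y * g) = (g⁻¹ * y * g) * (g⁻¹ * x * g) := by
      rw [← ha, ← hb, ← map_mul, ← map_mul, upp_mul, upp_mul, add_comm]
    calc x * y = g * ((g⁻¹ * x * g) * (g⁻¹ * y * g)) * g⁻¹ := by group
      _ = g * ((g⁻¹ * y * g) * (g⁻¹ * x * g)) * g⁻¹ := by rw [h]
      _ = y * x := by group
  · intro x hx y hy
    have hmem : ∀ w ∈ Subgroup.normalizer (((g • S₀ : Sylow p P) : Subgroup P) : Set P),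
        g⁻¹ * w * g ∈ Subgroup.normalizer ((S₀ : Subgroup P) : Set P) := by
      intro w hw
      refine Subgroup.mem_normalizer_iff.2 fun u => ?_
      have h1 := Subgroup.mem_normalizer_iff.1 hw (g * u * g⁻¹)
      rw [hconj, hconj] at h1
      simpa [mul_assoc] using h1
    have hx' := hmem x hx
    have hy' := hmem y hy
    rw [hN] at hx' hy'
    obtain ⟨a, ha, hax⟩ := hx'
    obtain ⟨b, hb, hby⟩ := hy'
    rw [hconj, show g⁻¹ * (x * y * x⁻¹ * y⁻¹) * g =
      (g⁻¹ * x * g) * (g⁻¹ * y * g) * (g⁻¹ * x * g)⁻¹ * (g⁻¹ * y * g)⁻¹ by group, ← hax, ← hby,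
      ← map_inv, ← map_inv, ← map_mul, ← map_mul, ← map_mul]
    refine hU _ ((borel (⊤ : Subgroup SL2)).mul_mem ((borel _).mul_mem ((borel _).mul_mem ha hb)
      ((borel _).inv_mem ha)) ((borel _).inv_mem hb)) ?_
    have d1 := det_one a
    have d2 := det_one b
    rw [ha.2, mul_zero, sub_zero] at d1
    rw [hb.2, mul_zero, sub_zero] at d2
    simp [Matrix.SpecialLinearGroup.coe_inv, Matrix.adjugate_fin_two, Matrix.mul_apply, Fin.sum_univ_two,
      ha.2, hb.2]
    linear_combination (b : M2) 0 0 * (b : M2) 1 1 * d1 + d2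

end Cfsg.Agent.Dickson
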