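/-
Overgroups of small and of subfield subgroups in PSL_2.
-/
import Cfsg.Agent.Lib.Classical.DicksonSmall
import Mathlib.GroupTheory.SpecificGroups.Alternating

set_option autoImplicit false
set_option linter.style.haveILetI false

namespace Cfsg.Agent.Dickson

open Matrix PStable

theorem a4_data : (∀ a : alternatingGroup (Fin 4), a = 1 ∨ a ^ 2 = 1 ∨ a ^ 3 = 1) ∧
    ∃ a b : alternatingGroup (Fin 4), (a * b * a⁻¹ * b⁻¹) ^ 2 = 1 ∧ a * b * a⁻¹ * b⁻¹ ≠ 1 := by decide +kernel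

theorem s4_data : (∀ a : Equiv.Perm (Fin 4), a = 1 ∨ a ^ 2 = 1 ∨ a ^ 3 = 1 ∨ a ^ 4 = 1) ∧
    ∃ a b : Equiv.Perm (Fin 4), (a * b * a⁻¹ * b⁻¹) ^ 2 = 1 ∧ a * b * a⁻¹ * b⁻¹ ≠ 1 := by decide +kernel

theorem a5_data : (∀ a : alternatingGroup (Fin 5), a = 1 ∨ a ^ 2 = 1 ∨ a ^ 3 = 1 ∨ a ^ 5 = 1) ∧
    ∃ a b : alternatingGroup (Fin 5), (a * b * a⁻¹ * b⁻¹) ^ 2 = 1 ∧ a * b * a⁻¹ * b⁻¹ ≠ 1 := by decide +kernel

theorem card_a4 : Nat.card (alternatingGroup (Fin 4)) = 12 := by
  rw [nat_card_alternatingGroup, Nat.card_fin]; rfl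
theorem card_s4 : Nat.card (Equiv.Perm (Fin 4)) = 24 := by rw [Nat.card_perm, Nat.card_fin]; rfl
theorem card_a5 : Nat.card (alternatingGroup (Fin 5)) = 60 := by
  rw [nat_card_alternatingGroup, Nat.card_fin]; rfl

variable {F : Type*} [Field F] [Finite F]

local notation "P" => Matrix.ProjectiveSpecialLinearGroup (Fin 2) F

/-- No element of `H` generates half of it, and `H` lies in no Borel subgroup. -/
structure Core (p : ℕ) (H : Subgroup P) : Prop where
  big : ∀ d : H, 2 * orderOf d < Nat.card H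
  nonBorel : ∀ S : Sylow p P, ¬ H ≤ Subgroup.normalizer ((S : Subgroup P) : Set P)

theorem overgroup_cases (p : ℕ) [Fact p.Prime] [CharP F p] {H G : Subgroup P} (hH : Core p H) (hHG : H ≤ G)
    (hG : G ≠ ⊤) :
    Nonempty (G ≃* alternatingGroup (Fin 4)) ∨ Nonempty (G ≃* Equiv.Perm (Fin 4)) ∨
    Nonempty (G ≃* alternatingGroup (Fin 5)) ∨
    (∃ (K : Type) (_ : Field K) (_ : Fintype K) (m : ℕ), 2 ≤ m ∧ Fintype.card K ^ m = Nat.card F ∧
      (Nonempty (G ≃* Matrix.ProjectiveSpecialLinearGroup (Fin 2) K) ∨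
        Nonempty (G ≃* Matrix.ProjGenLinGroup (Fin 2) K))) := by
  rcases classify_proper p hG with ⟨k, hk, hc⟩ | ⟨S, hS⟩ | h
  · exfalso
    rcases hc with ⟨hcyc, -⟩ | ⟨⟨e⟩⟩
    · haveI := hcyc
      haveI : IsCyclic H := isCyclic_of_injective (Subgroup.inclusion hHG) (Subgroup.inclusion_injective _)
      obtain ⟨c, hc⟩ := IsCyclic.exists_generator (α := H)
      have := hH.big c
      rw [orderOf_eq_card_of_forall_mem_zpowers hc] at this
      omega
    · haveI : NeZero k := ⟨fun h0 => by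
        have h1 := Nat.card_pos (α := G)
        rw [Nat.card_congr e.toEquiv, DihedralGroup.nat_card, h0] at h1
        exact absurd h1 (by norm_num)⟩
      obtain ⟨d, hd⟩ := exists_large_orderOf (e.toMonoidHom.comp (Subgroup.inclusion hHG))
        (e.injective.comp (Subgroup.inclusion_injective _))
      have := hH.big d
      omega
  · exact absurd (hHG.trans hS) (hH.nonBorel S)
  · exact h

theorem big_of_orders {H : Subgroup P} {G₀ : Type*} [Group G₀] (e : H ≃* G₀) {c : ℕ}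
    (hc : 2 * c < Nat.card G₀) (h : ∀ g : G₀, ∃ i, 0 < i ∧ i ≤ c ∧ g ^ i = 1) :
    ∀ d : H, 2 * orderOf d < Nat.card H := by
  intro d
  obtain ⟨i, hi, hic, hp⟩ := h (e d)
  have := Nat.le_of_dvd hi (orderOf_dvd_of_pow_eq_one hp)
  rw [e.orderOf_eq] at this
  rw [Nat.card_congr e.toEquiv]
  omega

theorem nonBorel_of_commutator (p : ℕ) [Fact p.Prime] [CharP F p] (hp : p ≠ 2) {H : Subgroup P} {G₀ : Type*}
    [Group G₀] (e : H ≃* G₀) (hex : ∃ a b : G₀, (a * b * a⁻¹ * b⁻¹) ^ 2 = 1 ∧ a * b * a⁻¹ * b⁻¹ ≠ 1)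
    (S : Sylow p P) : ¬ H ≤ Subgroup.normalizer ((S : Subgroup P) : Set P) := by
  intro hle
  obtain ⟨a, b, h2, h1⟩ := hex
  obtain ⟨x, rfl⟩ := e.surjective a
  obtain ⟨y, rfl⟩ := e.surjective b
  simp only [← map_inv, ← map_mul, ← map_pow, map_eq_one_iff e e.injective, ne_eq] at h1 h2
  have hc := (sylow_facts p S).2 _ (hle x.2) _ (hle y.2)
  set c : P := (x : P) * y * (x : P)⁻¹ * (y : P)⁻¹ with hcdef
  have hc2 : c ^ 2 = 1 := by
    have := congrArg Subtype.val h2
    simpa [hcdef] using this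
  have hc1 : c ≠ 1 := fun h => h1 (Subtype.ext (by simpa [hcdef] using h))
  have ho : orderOf c = 2 := orderOf_eq_prime hc2 hc1
  obtain ⟨j, hj⟩ := IsPGroup.iff_card.1 S.2
  have hd := Subgroup.orderOf_dvd_natCard _ hc
  rw [ho, hj] at hd
  exact hp ((Nat.prime_dvd_prime_iff_eq Nat.prime_two Fact.out).1 (Nat.prime_two.dvd_of_dvd_pow hd)).symm

theorem core_A4 (p : ℕ) [Fact p.Prime] [CharP F p] (hp : p ≠ 2) {H : Subgroup P}
    (e : H ≃* alternatingGroup (Fin 4)) : Core p H :=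
  ⟨big_of_orders e (c := 3) (by rw [card_a4]; norm_num) fun g => by
    rcases a4_data.1 g with h | h | h
    exacts [⟨1, by norm_num, by norm_num, by rw [h, one_pow]⟩, ⟨2, by norm_num, by norm_num, h⟩,
      ⟨3, by norm_num, le_rfl, h⟩],
    nonBorel_of_commutator p hp e a4_data.2⟩

theorem core_S4 (p : ℕ) [Fact p.Prime] [CharP F p] (hp : p ≠ 2) {H : Subgroup P}
    (e : H ≃* Equiv.Perm (Fin 4)) : Core p H :=
  ⟨big_of_orders e (c := 4) (by rw [card_s4]; norm_num) fun g => by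
    rcases s4_data.1 g with h | h | h | h
    exacts [⟨1, by norm_num, by norm_num, by rw [h, one_pow]⟩, ⟨2, by norm_num, by norm_num, h⟩,
      ⟨3, by norm_num, by norm_num, h⟩, ⟨4, by norm_num, le_rfl, h⟩],
    nonBorel_of_commutator p hp e s4_data.2⟩

theorem core_A5 (p : ℕ) [Fact p.Prime] [CharP F p] (hp : p ≠ 2) {H : Subgroup P}
    (e : H ≃* alternatingGroup (Fin 5)) : Core p H :=
  ⟨big_of_orders e (c := 5) (by rw [card_a5]; norm_num) fun g => by
    rcases a5_data.1 g with h | h | h | h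
    exacts [⟨1, by norm_num, by norm_num, by rw [h, one_pow]⟩, ⟨2, by norm_num, by norm_num, h⟩,
      ⟨3, by norm_num, by norm_num, h⟩, ⟨5, by norm_num, le_rfl, h⟩],
    nonBorel_of_commutator p hp e a5_data.2⟩

/-- Subfield subgroups. -/
theorem core_field (p : ℕ) [Fact p.Prime] [CharP F p] {K : Type*} [Field K] [Finite K] [CharP K p]
    (hK : 3 ≤ Nat.card K) {H : Subgroup P} {G₀ : Type*} [Group G₀] (e : H ≃* G₀)
    (ι : Matrix.SpecialLinearGroup (Fin 2) K →* G₀) (hι : ι.ker = Subgroup.center _)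
    (hord : ∀ g : G₀, orderOf g ≤ Nat.card K + 1) : Core p H := by
  haveI : Finite G₀ := Finite.of_equiv _ e.toEquiv
  refine ⟨big_of_orders e (c := Nat.card K + 1) ?_ fun g => ⟨orderOf g, orderOf_pos g, hord g, pow_orderOf_eq_one g⟩,
    fun S hle => ?_⟩
  · have h1 : Nat.card ι.range * 2 ≥ Nat.card (Matrix.SpecialLinearGroup (Fin 2) K) := by
      rw [← Subgroup.card_mul_index ι.ker, Subgroup.index_ker, hι, mul_comm _ (Nat.card ι.range)]
      exact Nat.mul_le_mul_left _ (by rw [card_center]; exact Nat.gcd_le_left _ (by norm_num))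
    rw [card_sl2_eq, show Nat.card K ^ 2 - 1 = (Nat.card K + 1) * (Nat.card K - 1) by
      simpa using Nat.sq_sub_sq (Nat.card K) 1] at h1
    have h2 := Subgroup.card_le_card_group ι.range
    have h3 : 3 * 2 ≤ Nat.card K * (Nat.card K - 1) := Nat.mul_le_mul hK (by omega)
    have h4 : 6 * (Nat.card K + 1) ≤ Nat.card K * ((Nat.card K + 1) * (Nat.card K - 1)) := by nlinarith
    omega
  · -- two unipotent elements that do not commute
    have hpu : ∀ x : Matrix.SpecialLinearGroup (Fin 2) K, x ^ p = 1 →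
        ((e.symm (ι x) : H) : P) ∈ (S : Subgroup P) := fun x hx => by
      have hpow : ((e.symm (ι x) : H) : P) ^ p = 1 := by
        rw [← SubmonoidClass.coe_pow, ← map_pow, ← map_pow, hx, map_one, map_one, Subgroup.coe_one]
      have hp : IsPGroup p (Subgroup.zpowers ((e.symm (ι x) : H) : P)) := fun y => by
        obtain ⟨j, hj⟩ := y.2
        refine ⟨1, Subtype.ext ?_⟩
        rw [SubmonoidClass.coe_pow, ← hj, Subgroup.coe_one, ← zpow_natCast, ← zpow_mul, mul_comm, zpow_mul,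
          zpow_natCast, pow_one, hpow, one_zpow]
      exact ((hp.inf_normalizer_sylow S).le ⟨Subgroup.mem_zpowers _, hle (e.symm (ι x)).2⟩).2
    have hu : (upp 1 : Matrix.SpecialLinearGroup (Fin 2) K) ^ p = 1 := upp_pow_char 1
    have hl : (low 1 : Matrix.SpecialLinearGroup (Fin 2) K) ^ p = 1 := by
      have h : ∀ n : ℕ, (low 1 : Matrix.SpecialLinearGroup (Fin 2) K) ^ n = low (n : K) := fun n => by
        induction n with
        | zero => exact Subtype.ext (by simp [low_val, Matrix.one_fin_two])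
        | succ n ih => rw [pow_succ, ih, low_mul, Nat.cast_succ]
      rw [h, CharP.cast_eq_zero]
      exact Subtype.ext (by simp [low_val, Matrix.one_fin_two])
    have hc := (sylow_facts p S).1 _ (hpu _ hu) _ (hpu _ hl)
    rw [← Subgroup.coe_mul, ← Subgroup.coe_mul, ← map_mul, ← map_mul, ← map_mul, ← map_mul] at hc
    have hc2 : ι (upp 1 * low 1) = ι (low 1 * upp 1) := e.symm.injective (Subtype.ext hc)
    have hk : (upp 1 * low 1 : Matrix.SpecialLinearGroup (Fin 2) K)⁻¹ * (low 1 * upp 1) ∈ ι.ker := by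
      rw [MonoidHom.mem_ker, map_mul, map_inv, hc2, inv_mul_cancel]
    rw [hι, center_eq] at hk
    obtain ⟨h01, h10, -⟩ := isSc_iff.1 hk.2
    simp only [_root_.mul_inv_rev, Matrix.SpecialLinearGroup.coe_mul, upp_inv, Matrix.mul_apply,
      Fin.sum_univ_two] at h01 h10
    simp [Matrix.SpecialLinearGroup.coe_inv, Matrix.adjugate_fin_two, upp_val, low_val] at h01 h10

end Cfsg.Agent.Dickson
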