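/-
The non-solvable proper subgroups of PSL_2(q).
-/
import Cfsg.Agent.Lib.Classical.DicksonProper
import Cfsg.Agent.Lib.Classical.DicksonSmall
import Cfsg.Agent.Lib.Classical.DicksonOver
import Cfsg.Agent.Lib.Char.Burnside

set_option autoImplicit false

namespace Cfsg.Agent.Dickson

open Matrix

theorem isSolvable_of_commutator_mem {G : Type*} [Group G] (S : Subgroup G)
    (hS : ∀ x ∈ S, ∀ y ∈ S, x * y = y * x) (hc : ∀ x y : G, x * y * x⁻¹ * y⁻¹ ∈ S) :
    Group.IsSolvable G := by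
  have h1 : derivedSeries G 1 ≤ S := by
    rw [derivedSeries_one, commutator_def, Subgroup.commutator_le]
    exact fun x _ y _ => hc x y
  refine (Group.isSolvable_def G).2 ⟨2, eq_bot_iff.2 ?_⟩
  rw [derivedSeries_succ, Subgroup.commutator_le]
  intro x hx y hy
  rw [Subgroup.mem_bot, commutatorElement_def, hS x (h1 hx) y (h1 hy)]
  group

theorem isSolvable_dihedral (k : ℕ) : Group.IsSolvable (DihedralGroup k) := by
  refine isSolvable_of_commutator_mem (Subgroup.zpowers (DihedralGroup.r 1)) ?_ ?_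
  · rintro _ ⟨i, rfl⟩ _ ⟨j, rfl⟩
    exact ((Commute.refl _).zpow_zpow i j).eq
  · intro x y
    obtain ⟨i, hi⟩ : ∃ i : ZMod k, x * y * x⁻¹ * y⁻¹ = DihedralGroup.r i := by
      rcases x with a | a <;> rcases y with b | b <;>
        simp only [DihedralGroup.r_mul_r, DihedralGroup.r_mul_sr, DihedralGroup.sr_mul_r, DihedralGroup.sr_mul_sr,
          DihedralGroup.inv_r, DihedralGroup.inv_sr] <;> exact ⟨_, rfl⟩
    obtain ⟨n, rfl⟩ := ZMod.intCast_surjective i
    exact ⟨n, by simp [hi]⟩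

theorem isSolvable_of_small {G : Type*} [Group G] [Finite G]
    (h : Nat.card G = 6 ∨ Nat.card G = 12 ∨ Nat.card G = 24) : Group.IsSolvable G := by
  refine Char.isSolvable_of_card_pq 2 3 Nat.prime_two Nat.prime_three _ G rfl ?_
  rcases h with h | h | h <;> rw [h]
  exacts [⟨1, 1, rfl⟩, ⟨2, 1, rfl⟩, ⟨3, 1, rfl⟩]

theorem not_isSolvable_a5 : ¬ Group.IsSolvable (alternatingGroup (Fin 5)) := by
  intro hs
  have := alternatingGroup.isSimpleGroup (α := Fin 5) (by simp)
  exact absurd ((IsSimpleGroup.comm_iff_isSolvable.2 hs) (⟨Equiv.swap 0 1 * Equiv.swap 1 2, by simp [Equiv.Perm.mem_alternatingGroup]⟩ : alternatingGroup (Fin 5))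
    ⟨Equiv.swap 2 3 * Equiv.swap 3 4, by simp [Equiv.Perm.mem_alternatingGroup]⟩) (by decide +kernel)

variable {F : Type*} [Field F] [Finite F]

local notation "P" => Matrix.ProjectiveSpecialLinearGroup (Fin 2) F

theorem not_comm_psl (h4 : 4 ≤ Nat.card F) : ¬ IsMulCommutative P := by
  intro hc
  obtain ⟨r, hr⟩ := CharP.exists F
  have := Fact.mk (CharP.char_is_prime F r)
  let S : Sylow r P := default
  have h1 := index_normalizer_sylow r S
  have : (S : Subgroup P).Normal := ⟨fun x hx g => by rwa [hc.is_comm.comm g x, mul_inv_cancel_right]⟩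
  rw [Subgroup.normalizer_eq_top, Subgroup.index_top] at h1
  omega

theorem not_isSolvable_psl (h4 : 4 ≤ Nat.card F) : ¬ Group.IsSolvable P := by
  intro hs
  have := Matrix.ProjectiveSpecialLinearGroup.rank_two_simple (F := F) h4
  exact not_comm_psl h4 ⟨⟨IsSimpleGroup.comm_iff_isSolvable.2 hs⟩⟩

/-- A non-solvable proper subgroup is icosahedral or a subfield group. -/
theorem proper_not_solvable (p : ℕ) [Fact p.Prime] [CharP F p] {G : Subgroup P} (hG : G ≠ ⊤)
    (hs : ¬ Group.IsSolvable G) :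
    Nonempty (G ≃* alternatingGroup (Fin 5)) ∨
      ∃ (k m : ℕ), 4 ≤ k ∧ 2 ≤ m ∧ k ^ m = Nat.card F := by
  have hsurj : ∀ {H : Type} [Group H], Group.IsSolvable H → (G ≃* H) → False := fun hH e =>
    hs (haveI := hH; Group.isSolvable_of_isSolvable_injective (f := e.toMonoidHom) e.injective)
  rcases classify_proper p hG with ⟨k, hk, ⟨hc, -⟩ | ⟨⟨e⟩⟩⟩ | ⟨S, hS⟩ | ⟨⟨e⟩⟩ | ⟨⟨e⟩⟩ | h |
    ⟨K, _, _, m, hm2, hm, hc⟩
  · exact absurd (isSolvable_of_commutator_mem ⊤ (fun x _ y _ => IsMulCommutative.is_comm.comm x y)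
      fun x y => trivial) hs
  · exact (hsurj (isSolvable_dihedral k) e).elim
  · exfalso
    obtain ⟨hab, hcm⟩ := sylow_facts p S
    refine hs (isSolvable_of_commutator_mem ((S : Subgroup P).subgroupOf G)
      (fun x hx y hy => Subtype.ext (hab x hx y hy)) fun x y => ?_)
    rw [Subgroup.mem_subgroupOf]
    exact hcm x (hS x.2) y (hS y.2)
  · exact (hsurj (isSolvable_of_small (Or.inr (Or.inl card_a4))) e).elim
  · exact (hsurj (isSolvable_of_small (Or.inr (Or.inr card_s4))) e).elim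
  · exact Or.inl h
  · right
    refine ⟨Nat.card K, m, ?_, hm2, by rw [Nat.card_eq_fintype_card, hm]⟩
    by_contra hk
    have h2 : 1 < Nat.card K := Finite.one_lt_card
    have hf : Nat.card K * (Nat.card K ^ 2 - 1) = 6 ∨ Nat.card K * (Nat.card K ^ 2 - 1) = 24 := by
      rcases (show Nat.card K = 2 ∨ Nat.card K = 3 by omega) with h | h <;> rw [h] <;> norm_num
    rcases hc with ⟨⟨e⟩⟩ | ⟨⟨e⟩⟩
    · refine hsurj (isSolvable_of_small ?_) e
      have h3 := gcd_mul_card_psl (K := K)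
      rcases (show Nat.card K = 2 ∨ Nat.card K = 3 by omega) with h | h <;> rw [h] at h3 <;>
        norm_num at h3 <;> omega
    · haveI : Finite (Matrix.ProjGenLinGroup (Fin 2) K) := Finite.of_equiv _ e.toEquiv
      refine hsurj (isSolvable_of_small ?_) e
      rw [card_pgl2]
      omega

end Cfsg.Agent.Dickson
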