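/-
Four-groups, A_4, S_4 and subfield subgroups of PSL_2.
-/
import Cfsg.Agent.Lib.Classical.PSL2Involutions
import Cfsg.Agent.Lib.Recog.SL2Orders

set_option autoImplicit false

namespace Cfsg.Agent.PSL2Sub

open Matrix SL2Inv PSL2Inv

variable {F : Type*} [Field F]

local notation "S" => Matrix.SpecialLinearGroup (Fin 2) F
local notation "P" => Matrix.ProjectiveSpecialLinearGroup (Fin 2) F

theorem pr_neg_mul (x : S) : pr (negOne * x) = pr x := by rw [map_mul, pr_negOne, one_mul]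

theorem Anti_W_one {j : S} (hj : Anti j) : Anti (j * 1) := by rwa [mul_one]

theorem exists_cycle_pr (h2 : (2 : F) ≠ 0) {j : S} (hj : Anti j) :
    ∃ t : P, orderOf t = 3 ∧ t * pr w * t⁻¹ = pr (w * j) ∧ t * pr (w * j) * t⁻¹ = pr j ∧
      t * pr j * t⁻¹ = pr w ∧
      (W j hj).map (MulAut.conj t).toMonoidHom = W j hj := by
  obtain ⟨h, h3, e1, e2, e3⟩ := hj.exists_cycle h2
  have hw : (pr h) * pr w * (pr h)⁻¹ = pr (w * j) := by rw [← map_inv, ← map_mul, ← map_mul, e1]
  have hwj : (pr h) * pr (w * j) * (pr h)⁻¹ = pr j := by rw [← map_inv, ← map_mul, ← map_mul, e2]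
  have hjj : (pr h) * pr j * (pr h)⁻¹ = pr w := by rw [← map_inv, ← map_mul, ← map_mul, e3]
  have hne : pr h ≠ 1 := fun h0 => by
    rw [h0, one_mul, inv_one, mul_one] at hjj
    exact pr_w_ne h2 hj hjj.symm
  haveI : Fact (Nat.Prime 3) := ⟨Nat.prime_three⟩
  refine ⟨pr h, orderOf_eq_prime (by rw [← map_pow, h3, map_one]) hne, hw, hwj, hjj, ?_⟩
  refine FourGroup.map_conj_of_generators (isKleinFour_W h2 hj) (pr_w_mem_W hj) (pr_mem_W hj)
    (pr_ne_one h2 trace_w) (pr_ne_one h2 hj.1) (pr_w_ne h2 hj) ?_ ?_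
  · rw [hw, map_mul]; exact mul_mem (pr_w_mem_W hj) (pr_mem_W hj)
  · rw [hjj]; exact pr_w_mem_W hj

theorem centralizer_W_le (h2 : (2 : F) ≠ 0) {j : S} (hj : Anti j) :
    Subgroup.centralizer (W j hj : Set P) ≤ W j hj := by
  intro x hx
  obtain ⟨g, rfl⟩ := pr_surjective x
  have hw := (Subgroup.mem_centralizer_iff.1 hx _ (pr_w_mem_W hj)).symm
  have hjc := (Subgroup.mem_centralizer_iff.1 hx _ (pr_mem_W hj)).symm
  have hD : g ∈ (D : Subgroup S) := Subgroup.mem_centralizer_singleton_iff.2 hw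
  have key : ∀ e ∈ (C : Subgroup S), pr e * pr j = pr j * pr e → pr e ∈ W j hj := by
    intro e he hc
    by_cases h1 : pr e = 1
    · rw [h1]; exact one_mem _
    have hinv : pr e * pr e = 1 := by
      have h := congrArg pr (hj.conj_C he)
      rw [map_mul, map_mul, map_inv, ← hc, map_inv, mul_inv_cancel_right] at h
      nth_rewrite 2 [h]
      exact mul_inv_cancel _
    have hee : e * e = negOne := by
      rcases pr_eq_one_iff.1 ((map_mul pr e e).trans hinv) with h | h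
      · exact absurd (pr_eq_one_iff.2 (eq_or_eq_negOne_of_mul_self h2 h)) h1
      · exact h
    have hcw : e * w = w * e := mem_C.1 he
    have hsq : (e * w) * (e * w) = 1 := by
      calc (e * w) * (e * w) = (e * e) * (w * w) := by
            rw [show e * w * (e * w) = e * (w * e) * w by simp only [mul_assoc], ← hcw]
            simp only [mul_assoc]
        _ = 1 := by rw [hee, w_mul_self, negOne_mul_self]
    have h3 : pr e * pr w = 1 := by
      rw [← map_mul]
      exact pr_eq_one_iff.2 (eq_or_eq_negOne_of_mul_self h2 hsq)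
    rw [eq_inv_of_mul_eq_one_left h3, inv_eq_of_mul_eq_one_left (pr_mul_self trace_w)]
    exact pr_w_mem_W hj
  rcases D_dichotomy hj hD with h | h
  · exact key g h hjc
  · have hc : pr (j⁻¹ * g) * pr j = pr j * pr (j⁻¹ * g) := by
      rw [map_mul, map_inv, mul_assoc, hjc]
      simp
    have hm := mul_mem (pr_mem_W hj) (key _ h hc)
    rwa [← map_mul, mul_inv_cancel_left] at hm

section finite

variable [Finite F]

theorem exists_alternating_four (h2 : (2 : F) ≠ 0) :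
    ∃ H : Subgroup P, Nonempty (H ≃* alternatingGroup (Fin 4)) := by
  obtain ⟨j, hj⟩ := exists_anti (F := F) h2
  obtain ⟨t, ht, h1, -, hjt, hmap⟩ := exists_cycle_pr h2 hj
  refine FourGroup.exists_alternating_four (W j hj) (isKleinFour_W h2 hj) t ht
    (FourGroup.mem_normalizer_of_map hmap) ⟨pr j, pr_mem_W hj, ?_⟩
  rw [hjt]
  exact pr_w_ne h2 hj

theorem exists_sqrt_w (h2 : (2 : F) ≠ 0) (h8 : 8 ∣ Nat.card (C : Subgroup S)) :
    ∃ d ∈ (C : Subgroup S), d * d = w := by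
  obtain ⟨γ, hγ, hgen, hord⟩ := exists_generator (F := F) h2
  obtain ⟨k, hk⟩ := hgen w w_mem_C
  obtain ⟨M, hM⟩ := h8
  have hw4 : (w : S) ^ (4 * (M : ℤ)) = 1 := by
    rw [zpow_mul, show ((4 : ℤ)) = 2 * 2 from rfl, zpow_mul, zpow_two w, w_mul_self, zpow_two,
      negOne_mul_self, one_zpow]
  rw [hk, ← zpow_mul, ← orderOf_dvd_iff_zpow_eq_one, hord, hM] at hw4
  have hk2 : (2 : ℤ) ∣ k := by
    obtain ⟨c, hc⟩ := hw4
    have hM0 : (M : ℤ) ≠ 0 := by
      intro h
      have h' : M = 0 := by exact_mod_cast h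
      rw [h', mul_zero] at hM
      exact absurd hM (Nat.pos_iff_ne_zero.1 Nat.card_pos)
    refine ⟨c, mul_right_cancel₀ (mul_ne_zero (four_ne_zero' ℤ) hM0) ?_⟩
    push_cast at hc
    linear_combination hc
  obtain ⟨m, rfl⟩ := hk2
  exact ⟨γ ^ m, zpow_mem hγ m, by rw [hk, ← zpow_add, two_mul]⟩

theorem exists_perm_four (h2 : (2 : F) ≠ 0) (h8 : 8 ∣ Nat.card (C : Subgroup S)) :
    ∃ H : Subgroup P, Nonempty (H ≃* Equiv.Perm (Fin 4)) := by
  obtain ⟨j, hj⟩ := exists_anti (F := F) h2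
  obtain ⟨t, ht, -, -, -, hmap⟩ := exists_cycle_pr h2 hj
  obtain ⟨d, hd, hdd⟩ := exists_sqrt_w h2 h8
  have hdw : pr d * pr w * (pr d)⁻¹ = pr w := by
    rw [← map_inv, ← map_mul, ← map_mul, mem_C.1 hd, mul_inv_cancel_right]
  have hdj : pr d * pr j * (pr d)⁻¹ = pr w * pr j := by
    have h := hj.conj_C (inv_mem hd)
    rw [inv_inv, mul_inv_eq_iff_eq_mul] at h
    rw [← map_inv, ← map_mul, ← map_mul, ← h, mul_assoc j, ← _root_.mul_inv_rev, hdd,
      inv_eq_of_trace w trace_w, ← mul_assoc, ← negOne_comm j, mul_assoc, hj.2, ← mul_assoc,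
      negOne_mul_self, one_mul, map_mul]
  refine FourGroup.exists_perm_four (W j hj) (isKleinFour_W h2 hj) (centralizer_W_le h2 hj) t (pr d)
    ht (FourGroup.mem_normalizer_of_map hmap) ?_ (pr_w_mem_W hj) (pr_mem_W hj)
    (pr_ne_one h2 trace_w) (pr_w_ne h2 hj) hdw hdj
  refine FourGroup.mem_normalizer_of_map (FourGroup.map_conj_of_generators (isKleinFour_W h2 hj)
    (pr_w_mem_W hj) (pr_mem_W hj) (pr_ne_one h2 trace_w) (pr_ne_one h2 hj.1) (pr_w_ne h2 hj) ?_ ?_)
  · rw [hdw]; exact pr_w_mem_W hj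
  · rw [hdj]; exact mul_mem (pr_w_mem_W hj) (pr_mem_W hj)

/-- The two classes of four-groups are different. -/
theorem even_of_conj (h2 : (2 : F) ≠ 0) {j c : S} (hj : Anti j) (hc : c ∈ (C : Subgroup S))
    (x : P) (h : W (j * c) (hj.mul_C hc) = (W j hj).map (MulAut.conj x).toMonoidHom) : Even' c := by
  obtain ⟨t, -, h1, h2t, h3t, hmap⟩ := exists_cycle_pr h2 hj
  have hmem := pr_w_mem_W (hj.mul_C hc)
  rw [h] at hmem
  obtain ⟨a, ha, hax⟩ := hmem
  have ha' : x * a * x⁻¹ = pr w := hax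
  have ha1 : a ≠ 1 := fun e => by
    rw [e, mul_one, mul_inv_cancel] at ha'
    exact pr_ne_one h2 trace_w ha'.symm
  have hpow : ∀ n : ℕ, (W j hj).map (MulAut.conj (t ^ n)).toMonoidHom = W j hj := by
    intro n
    induction n with
    | zero => ext y; simp [Subgroup.mem_map]
    | succ n ih =>
      rw [pow_succ, map_mul, show (MulAut.conj (t ^ n) * MulAut.conj t).toMonoidHom =
        (MulAut.conj (t ^ n)).toMonoidHom.comp (MulAut.conj t).toMonoidHom from rfl,
        ← Subgroup.map_map, hmap, ih]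
  obtain ⟨n, hn⟩ : ∃ n : ℕ, t ^ n * pr w * (t ^ n)⁻¹ = a := by
    rcases FourGroup.mem_four.1 ha with e | e | e | e
    · exact absurd e ha1
    · exact ⟨0, by simp [e]⟩
    · refine ⟨2, ?_⟩
      rw [e, pow_two, _root_.mul_inv_rev, ← h2t, ← h1]
      group
    · exact ⟨1, by rw [pow_one, h1, e, map_mul]⟩
  obtain ⟨g, hg⟩ := pr_surjective (x * t ^ n)
  have hgw : pr g * pr w * (pr g)⁻¹ = pr w := by
    calc pr g * pr w * (pr g)⁻¹ = x * (t ^ n * pr w * (t ^ n)⁻¹) * x⁻¹ := by rw [hg]; group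
      _ = pr w := by rw [hn, ha']
  have hgV : W (j * c) (hj.mul_C hc) = (W j hj).map (MulAut.conj (pr g)).toMonoidHom := by
    rw [h, hg, map_mul, show (MulAut.conj x * MulAut.conj (t ^ n)).toMonoidHom =
      (MulAut.conj x).toMonoidHom.comp (MulAut.conj (t ^ n)).toMonoidHom from rfl,
      ← Subgroup.map_map, hpow]
  have hD : g ∈ (D : Subgroup S) :=
    Subgroup.mem_centralizer_singleton_iff.2 (mul_inv_eq_iff_eq_mul.1 hgw)
  have e0 : W j hj = W (j * 1) (hj.mul_C (one_mem _)) := W_eq_of_eq (mul_one j).symm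
  have fin : ∀ A : S, ∀ hA : A ∈ (C : Subgroup S),
      W (j * c) (hj.mul_C hc) = W (j * A) (hj.mul_C hA) →
        ∃ z ∈ Subgroup.zpowers (w : S), c = A * z := by
    intro A hA hW
    have hz := (W_eq_iff h2 (hj.mul_C hA) (hj.mul_C hc)).1 hW.symm
    refine ⟨_, hz, ?_⟩
    simp [mul_assoc]
  rcases D_dichotomy hj hD with hg' | hg'
  · rw [e0, map_W_C h2 hj (one_mem _) hg'] at hgV
    obtain ⟨z, hz, hcz⟩ := fin _ (mul_mem (one_mem _) (mul_mem (inv_mem hg') (inv_mem hg'))) hgV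
    exact ⟨g⁻¹, inv_mem hg', z, hz, by rw [hcz, one_mul]⟩
  · have hg2 : g = j * (j⁻¹ * g) := (mul_inv_cancel_left j g).symm
    rw [hg2, map_mul, map_mul, show (MulAut.conj (pr j) * MulAut.conj (pr (j⁻¹ * g))).toMonoidHom =
      (MulAut.conj (pr j)).toMonoidHom.comp (MulAut.conj (pr (j⁻¹ * g))).toMonoidHom from rfl,
      ← Subgroup.map_map, e0, map_W_C h2 hj (one_mem _) hg', map_W_j h2 hj
        (mul_mem (one_mem _) (mul_mem (inv_mem hg') (inv_mem hg')))] at hgV
    obtain ⟨z, hz, hcz⟩ := fin _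
      (inv_mem (mul_mem (one_mem _) (mul_mem (inv_mem hg') (inv_mem hg')))) hgV
    exact ⟨j⁻¹ * g, hg', z, hz, by rw [hcz]; group⟩

theorem klein_classes (h2 : (2 : F) ≠ 0) :
    ((Nat.card F % 8 = 3 ∨ Nat.card F % 8 = 5) → ∀ V V' : Subgroup P, IsKleinFour V →
      IsKleinFour V' → ∃ g : P, V' = V.map (MulAut.conj g).toMonoidHom) ∧
    ((Nat.card F % 8 = 1 ∨ Nat.card F % 8 = 7) → ∃ V₁ V₂ : Subgroup P, IsKleinFour V₁ ∧
      IsKleinFour V₂ ∧ (¬ ∃ g : P, V₂ = V₁.map (MulAut.conj g).toMonoidHom) ∧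
      ∀ V : Subgroup P, IsKleinFour V → (∃ g : P, V = V₁.map (MulAut.conj g).toMonoidHom) ∨
        (∃ g : P, V = V₂.map (MulAut.conj g).toMonoidHom)) := by
  obtain ⟨j, hj⟩ := exists_anti (F := F) h2
  obtain ⟨hA, hB⟩ := even_dichotomy (F := F) h2
  have comp : ∀ (a b : P) (V : Subgroup P), (V.map (MulAut.conj b).toMonoidHom).map
      (MulAut.conj a).toMonoidHom = V.map (MulAut.conj (a * b)).toMonoidHom := fun a b V => by
    rw [Subgroup.map_map, map_mul]; rfl
  have back : ∀ (a : P) (V U : Subgroup P), V.map (MulAut.conj a).toMonoidHom = U →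
      V = U.map (MulAut.conj a⁻¹).toMonoidHom := fun a V U e => by
    rw [← e, comp, inv_mul_cancel]; ext y; simp [Subgroup.mem_map]
  constructor
  · intro hq V V' hV hV'
    obtain ⟨x, c, hc, hx⟩ := exists_conj_W h2 hj hV
    obtain ⟨x', c', hc', hx'⟩ := exists_conj_W h2 hj hV'
    obtain ⟨y, hy⟩ := conj_of_even h2 hj hc hc' (hA hq _ (mul_mem (inv_mem hc) hc'))
    rw [← hx'] at hy
    refine ⟨x'⁻¹ * (y * x), ?_⟩
    rw [back x' V' _ hy, ← hx, comp, comp, mul_assoc]
  · intro hq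
    obtain ⟨γ, hγ, hne, hev⟩ := hB hq
    refine ⟨W (j * 1) (hj.mul_C (one_mem _)), W (j * γ) (hj.mul_C hγ), isKleinFour_W h2 _,
      isKleinFour_W h2 _, ?_, fun V hV => ?_⟩
    · rintro ⟨g, hg⟩
      rw [W_eq_of_eq (hg := hj.mul_C (one_mem _)) (hg' := hj) (mul_one j)] at hg
      exact hne (even_of_conj h2 hj hγ g hg)
    · obtain ⟨x, c, hc, hx⟩ := exists_conj_W h2 hj hV
      rcases hev c hc with he | he
      · obtain ⟨y, hy⟩ := conj_of_even h2 hj (one_mem _) hc (by rwa [inv_one, one_mul])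
        exact Or.inl ⟨x⁻¹ * y, by rw [back x V _ (hx.trans hy), comp]⟩
      · obtain ⟨y, hy⟩ := conj_of_even h2 hj hγ hc he
        exact Or.inr ⟨x⁻¹ * y, by rw [back x V _ (hx.trans hy), comp]⟩

/-- An element of order 4 forces `q ≡ ±1` modulo 8. -/
theorem sq_mod_of_orderOf_four {x : P} (hx : orderOf x = 4) : Nat.card F ^ 2 % 16 = 1 := by
  haveI := Fintype.ofFinite F
  obtain ⟨p, hcp⟩ := CharP.exists F
  obtain ⟨n, hp, hcard⟩ := FiniteField.card F p
  haveI := Fact.mk hp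
  have hn : Nat.card F = p ^ (n : ℕ) := by rw [Nat.card_eq_fintype_card, hcard]
  rw [← Nat.card_eq_fintype_card] at hcard
  have hd : ∀ m : ℕ, x ^ m = 1 → 4 ∣ m := fun m hm => hx ▸ orderOf_dvd_of_pow_eq_one hm
  have hq1 := Finite.one_lt_card (α := F)
  have key : 8 ∣ Nat.card F - 1 ∨ 8 ∣ Nat.card F + 1 := by
    rcases SL2Orders.psl_cases p x with h | h | h
    · have := hd _ h
      rw [hp.eq_one_or_self_of_dvd 4 this |>.resolve_left (by norm_num) |>.symm] at hp
      exact absurd hp (by decide)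
    · have h4 := hd _ h
      rw [SL2Orders.halfPred, ← Nat.card_eq_fintype_card] at h4
      rcases Nat.even_or_odd (Nat.card F - 1) with ⟨k, hk⟩ | ho
      · rw [Nat.gcd_eq_right (show 2 ∣ Nat.card F - 1 by omega)] at h4
        exact Or.inl (by omega)
      · rw [show (Nat.card F - 1).gcd 2 = 1 from Nat.coprime_two_right.2 ho, Nat.div_one] at h4
        rw [Nat.odd_iff] at ho
        omega
    · have h4 := hd _ h
      rw [SL2Orders.halfSucc, ← Nat.card_eq_fintype_card] at h4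
      rcases Nat.even_or_odd (Nat.card F + 1) with ⟨k, hk⟩ | ho
      · rw [Nat.gcd_eq_right (show 2 ∣ Nat.card F + 1 by omega)] at h4
        exact Or.inr (by omega)
      · rw [show (Nat.card F + 1).gcd 2 = 1 from Nat.coprime_two_right.2 ho, Nat.div_one] at h4
        rw [Nat.odd_iff] at ho
        omega
  obtain ⟨k, hk⟩ : ∃ k, Nat.card F = 8 * k + 1 ∨ Nat.card F = 8 * k + 7 :=
    ⟨Nat.card F / 8, by omega⟩
  rcases hk with hk | hk <;> rw [hk]
  · rw [show (8 * k + 1) ^ 2 = 16 * (4 * k * k + k) + 1 by ring, Nat.mul_add_mod]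
  · rw [show (8 * k + 7) ^ 2 = 16 * (4 * k * k + 7 * k + 3) + 1 by ring, Nat.mul_add_mod]

theorem mod_eight_of_sq {q : ℕ} (h : q ^ 2 % 16 = 1) : q % 8 = 1 ∨ q % 8 = 7 := by
  have h' : (q % 8) ^ 2 % 16 = 1 := by
    have e : q = 8 * (q / 8) + q % 8 := (Nat.div_add_mod q 8).symm
    rw [e, show (8 * (q / 8) + q % 8) ^ 2 = 16 * (4 * (q / 8) ^ 2 + (q / 8) * (q % 8)) + (q % 8) ^ 2
      by ring, Nat.mul_add_mod] at h
    exact h
  have : q % 8 < 8 := Nat.mod_lt _ (by norm_num)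
  interval_cases hh : q % 8 <;> simp_all

theorem two_ne_zero_of_odd (h : Odd (Nat.card F)) : (2 : F) ≠ 0 := by
  haveI := Fintype.ofFinite F
  refine Ring.two_ne_zero fun hc => ?_
  haveI := ringChar.of_eq hc
  obtain ⟨n, -, hcard⟩ := FiniteField.card F 2
  rw [Nat.card_eq_fintype_card, hcard, Nat.odd_iff] at h
  have : 2 ∣ 2 ^ (n : ℕ) := dvd_pow_self 2 n.ne_zero
  omega

theorem conj_of_card_four (h2 : (2 : F) ≠ 0) (A : Subgroup S) (hA : Nat.card A = 4) :
    ∃ g : S, A = (Subgroup.zpowers (w : S)).map (MulAut.conj g).toMonoidHom := by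
  obtain ⟨x, hxA, hx⟩ : ∃ x ∈ A, x * x ≠ 1 := by
    by_contra! h
    have hsub : (A : Set S) ⊆ {1, negOne} := fun x hx => by
      simpa using eq_or_eq_negOne_of_mul_self h2 (h x hx)
    have h1 := Set.ncard_le_ncard hsub (Set.toFinite _)
    rw [← Nat.card_coe_set_eq, show Nat.card (A : Set S) = 4 from hA,
      Set.ncard_pair (negOne_ne_one h2).symm] at h1
    omega
  have hx4 : x ^ 4 = 1 := by
    have h := pow_card_eq_one' (x := (⟨x, hxA⟩ : A))
    rw [hA] at h
    exact congrArg Subtype.val h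
  have htr : x.1.trace = 0 := by
    have h4 : (x * x) * (x * x) = 1 := by rw [← hx4]; simp [pow_succ, mul_assoc]
    rcases eq_or_eq_negOne_of_mul_self h2 h4 with h | h
    · exact absurd h hx
    · exact (mul_self_eq_negOne_iff x).1 h
  obtain ⟨g, hg⟩ := exists_conj h2 x htr
  refine ⟨g, ?_⟩
  rw [MonoidHom.map_zpowers, show (MulAut.conj g).toMonoidHom w = x from hg.symm]
  refine (Subgroup.eq_of_le_of_card_ge (Subgroup.zpowers_le.2 hxA) ?_).symm
  rw [Nat.card_zpowers, hA, show 4 = 2 ^ (1 + 1) from rfl, orderOf_eq_prime_pow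
    (by rw [pow_one, pow_two]; exact hx) (by rw [show (2 : ℕ) ^ (1 + 1) = 4 from rfl, hx4])]

theorem card_normalizer_zpowers_w (h2 : (2 : F) ≠ 0) :
    Nat.card (Subgroup.normalizer (Subgroup.zpowers (w : S) : Set S)) =
      2 * Nat.card (C : Subgroup S) := by
  rw [← card_D h2]
  have : Subgroup.normalizer (Subgroup.zpowers (w : S) : Set S) = D := by
    ext g
    rw [mem_D]
    constructor
    · intro hg
      have hz := (Subgroup.mem_normalizer_iff.1 hg w).1 (Subgroup.mem_zpowers w)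
      have ht : (g * w * g⁻¹).1.trace = 0 := by rw [SL2Inv.trace_conj, trace_w]
      rcases mem_zpowers_w_iff.1 hz with e | e | e | e
      · exact absurd e (ne_of_trace_zero h2 ht).1
      · exact Or.inl (mul_inv_eq_iff_eq_mul.1 e)
      · exact absurd e (ne_of_trace_zero h2 ht).2
      · exact Or.inr ((mul_inv_eq_iff_eq_mul.1 e).trans (mul_assoc _ _ _))
    · intro hg
      refine FourGroup.mem_normalizer_of_map ?_
      rw [MonoidHom.map_zpowers]
      show Subgroup.zpowers (g * w * g⁻¹) = _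
      rcases hg with e | e
      · rw [e, mul_inv_cancel_right]
      · rw [e, mul_assoc negOne, mul_inv_cancel_right, ← inv_eq_of_trace w trace_w,
          Subgroup.zpowers_inv]
  rw [this]

end finite

end Cfsg.Agent.PSL2Sub
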