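/-
Subfield subgroups of PSL_2 and A_4 in even characteristic.
-/
import Cfsg.Agent.Lib.Classical.PSL2Subgroups
import Mathlib.FieldTheory.Finite.GaloisField
import Mathlib.GroupTheory.SpecificGroups.Alternating.KleinFour

set_option autoImplicit false

namespace Cfsg.Agent.PSL2Field

open Matrix

theorem exists_ringHom {K F : Type*} [Field K] [Finite K] [Field F] [Finite F] {m : ℕ}
    (h : Nat.card K ^ m = Nat.card F) : Nonempty (K →+* F) := by
  haveI := Fintype.ofFinite K
  haveI := Fintype.ofFinite F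
  obtain ⟨p, hcp⟩ := CharP.exists K
  obtain ⟨r, hcr⟩ := CharP.exists F
  obtain ⟨a, hp, ha⟩ := FiniteField.card K p
  obtain ⟨b, hr, hb⟩ := FiniteField.card F r
  rw [← Nat.card_eq_fintype_card] at ha hb
  rw [ha, hb, ← pow_mul] at h
  have hm : (a : ℕ) * m ≠ 0 := fun e => by
    rw [e, pow_zero] at h
    exact (Nat.one_lt_pow b.ne_zero hr.one_lt).ne h
  have hpr : p = r := (Nat.prime_dvd_prime_iff_eq hp hr).1 (hp.dvd_of_dvd_pow (h ▸ dvd_pow_self p hm))
  subst hpr
  haveI := Fact.mk hp
  letI : Algebra (ZMod p) K := ZMod.algebra _ _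
  letI : Algebra (ZMod p) F := ZMod.algebra _ _
  have hK : Module.finrank (ZMod p) K = (a : ℕ) := Nat.pow_right_injective hp.two_le
    (show p ^ _ = p ^ _ by rw [FiniteField.pow_finrank_eq_natCard, ha])
  have hF : Module.finrank (ZMod p) F = (b : ℕ) := Nat.pow_right_injective hp.two_le
    (show p ^ _ = p ^ _ by rw [FiniteField.pow_finrank_eq_natCard, hb])
  obtain ⟨φ⟩ := FiniteField.nonempty_algHom_of_finrank_dvd (F := ZMod p) (K := K) (L := F) (by
    rw [hK, hF]
    exact ⟨m, (Nat.pow_right_injective hp.two_le h).symm⟩)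
  exact ⟨φ.toRingHom⟩

variable {K F : Type*} [Field K] [Field F]

theorem smul_one_injective {a b : F} (h : a • (1 : Matrix (Fin 2) (Fin 2) F) = b • 1) : a = b := by
  simpa using congrFun (congrFun h 0) 0

theorem pr_eq_of_smul {x y : Matrix.SpecialLinearGroup (Fin 2) F} {e : F}
    (h : x.1 = e • y.1) : PSL2Inv.pr x = PSL2Inv.pr y := by
  have hd := congrArg Matrix.det h
  rw [Matrix.det_smul, x.2, y.2, mul_one, Fintype.card_fin, pow_two] at hd
  rcases mul_self_eq_one_iff.1 hd.symm with rfl | rfl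
  · rw [Subtype.ext (h.trans (one_smul _ _))]
  · refine PSL2Inv.pr_eq_iff.2 (Or.inr (Subtype.ext ?_))
    rw [Matrix.SpecialLinearGroup.coe_mul, SL2Inv.coe_negOne, h]
    simp

theorem pr_eq_one_iff_scalar {x : Matrix.SpecialLinearGroup (Fin 2) F} :
    PSL2Inv.pr x = 1 ↔ ∃ e : F, x.1 = e • 1 := by
  constructor
  · intro h
    rcases PSL2Inv.pr_eq_one_iff.1 h with rfl | rfl
    · exact ⟨1, by simp⟩
    · exact ⟨-1, by rw [SL2Inv.coe_negOne]; simp⟩
  · rintro ⟨e, he⟩
    rw [← map_one PSL2Inv.pr]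
    exact pr_eq_of_smul (e := e) (by simpa using he)

/-- A field embedding gives an embedding of the projective special linear groups. -/
theorem exists_psl_hom (f : K →+* F) :
    ∃ φ : Matrix.ProjectiveSpecialLinearGroup (Fin 2) K →*
      Matrix.ProjectiveSpecialLinearGroup (Fin 2) F, Function.Injective φ := by
  let M : Matrix.SpecialLinearGroup (Fin 2) K →* Matrix.ProjectiveSpecialLinearGroup (Fin 2) F :=
    PSL2Inv.pr.comp (Matrix.SpecialLinearGroup.map f)
  have hker : M.ker = Subgroup.center (Matrix.SpecialLinearGroup (Fin 2) K) := by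
    ext x
    rw [MonoidHom.mem_ker]
    constructor
    · intro h
      obtain ⟨e, he⟩ := pr_eq_one_iff_scalar.1 h
      refine SL2Orders.mem_center_of_scalar x (x.1 0 0) ?_
      ext i j
      apply f.injective
      have h1 := congrFun (congrFun he i) j
      have h0 := congrFun (congrFun he 0) 0
      fin_cases i <;> fin_cases j <;> simp_all
    · intro h
      obtain ⟨c, -, hc⟩ := SL2Orders.exists_scalar_of_mem_center x h
      refine pr_eq_one_iff_scalar.2 ⟨f c, ?_⟩
      ext i j
      fin_cases i <;> fin_cases j <;> simp [hc]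
  refine ⟨QuotientGroup.lift _ M hker.ge, ?_⟩
  rw [injective_iff_map_eq_one]
  intro x hx
  obtain ⟨y, rfl⟩ := QuotientGroup.mk_surjective x
  rw [QuotientGroup.eq_one_iff, ← hker]
  exact hx

/-- If every element of `K` becomes a square in `F`, then `PGL_2(K)` embeds in `PSL_2(F)`. -/
theorem exists_pgl_hom (f : K →+* F) (hsq : ∀ a : K, IsSquare (f a)) :
    ∃ φ : Matrix.ProjGenLinGroup (Fin 2) K →*
      Matrix.ProjectiveSpecialLinearGroup (Fin 2) F, Function.Injective φ := by
  choose s hs using hsq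
  have hdet : ∀ g : GL (Fin 2) K,
      ((s g.1.det)⁻¹ • g.1.map f).det = 1 ∧ s g.1.det ≠ 0 := by
    intro g
    have hd : f g.1.det ≠ 0 := (map_ne_zero f).2 (GeneralLinearGroup.det_ne_zero g)
    have hs0 : s g.1.det ≠ 0 := fun h => hd (by rw [hs g.1.det, h, zero_mul])
    refine ⟨?_, hs0⟩
    rw [Matrix.det_smul, Fintype.card_fin, show (g.1.map f).det = f g.1.det from (f.map_det g.1).symm,
      hs g.1.det]
    field_simp
  let σ : GL (Fin 2) K → Matrix.SpecialLinearGroup (Fin 2) F := fun g =>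
    ⟨(s g.1.det)⁻¹ • g.1.map f, (hdet g).1⟩
  let M : GL (Fin 2) K →* Matrix.ProjectiveSpecialLinearGroup (Fin 2) F :=
    MonoidHom.mk' (fun g => PSL2Inv.pr (σ g)) fun g h => by
      rw [← map_mul]
      refine pr_eq_of_smul (e := (s (g * h).1.det)⁻¹ * (s g.1.det * s h.1.det)) ?_
      show (s (g * h).1.det)⁻¹ • (g.1 * h.1).map f =
        _ • (((s g.1.det)⁻¹ • g.1.map f) * ((s h.1.det)⁻¹ • h.1.map f))
      rw [Matrix.map_mul, Matrix.smul_mul, Matrix.mul_smul, smul_smul, smul_smul]
      congr 1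
      have h1 := (hdet g).2
      have h2 := (hdet h).2
      field_simp
  have hker : M.ker = Subgroup.center (GL (Fin 2) K) := by
    ext g
    rw [MonoidHom.mem_ker, GeneralLinearGroup.center_eq_range_scalar, MonoidHom.mem_range]
    constructor
    · intro h
      obtain ⟨e, he⟩ := pr_eq_one_iff_scalar.1 h
      have hoff : ∀ i j, i ≠ j → g.1 i j = 0 := fun i j hij => by
        have h1 := congrFun (congrFun he i) j
        simpa [σ, hij, (hdet g).2] using h1
      have hdiag : g.1 1 1 = g.1 0 0 := by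
        have h1 := congrFun (congrFun he 0) 0
        have h2 := congrFun (congrFun he 1) 1
        simp [σ] at h1 h2
        exact f.injective (mul_left_cancel₀ (inv_ne_zero (hdet g).2) (h2.trans h1.symm))
      have hne : g.1 0 0 ≠ 0 := fun h0 => GeneralLinearGroup.det_ne_zero g (by
        rw [Matrix.det_fin_two, hoff 0 1 (by decide), h0]; ring)
      refine ⟨Units.mk0 _ hne, Units.ext ?_⟩
      ext i j
      fin_cases i <;> fin_cases j <;>
        simp [hoff 0 1 (by decide), hoff 1 0 (by decide), hdiag]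
    · rintro ⟨u, rfl⟩
      refine pr_eq_one_iff_scalar.2 ⟨(s ((GeneralLinearGroup.scalar (Fin 2) u).1.det))⁻¹ * f u, ?_⟩
      ext i j
      fin_cases i <;> fin_cases j <;> simp [σ]
  refine ⟨(QuotientGroup.lift _ M hker.ge : Matrix.ProjGenLinGroup (Fin 2) K →* _), ?_⟩
  refine (injective_iff_map_eq_one _).2 fun x hx => ?_
  induction x using ProjGenLinGroup.induction_on with | mk g =>
  rw [ProjGenLinGroup.mk_eq_one, ← hker]
  exact hx

theorem exists_pgl_orderOf [Finite K] :
    ∃ x : Matrix.ProjGenLinGroup (Fin 2) K, orderOf x = Nat.card K - 1 := by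
  obtain ⟨u, hu⟩ := IsCyclic.exists_generator (α := Kˣ)
  let g : GL (Fin 2) K := GeneralLinearGroup.mkOfDetNeZero !![(u : K), 0; 0, 1] (by simp)
  have hu' : orderOf u = Nat.card K - 1 := by
    rw [orderOf_eq_card_of_forall_mem_zpowers hu, Nat.card_units]
  have hpow : ∀ n : ℕ, (g ^ n).1 = !![(u : K) ^ n, 0; 0, 1] := by
    intro n
    induction n with
    | zero => simp [Matrix.one_fin_two]
    | succ n ih =>
      rw [pow_succ, Units.val_mul, ih]
      ext i j
      fin_cases i <;> fin_cases j <;>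
        simp [g, GeneralLinearGroup.mkOfDetNeZero, Matrix.mul_apply, Fin.sum_univ_two, pow_succ]
  refine ⟨ProjGenLinGroup.mk g, ?_⟩
  refine Nat.dvd_antisymm (orderOf_dvd_of_pow_eq_one ?_) ?_
  · rw [← map_pow, ProjGenLinGroup.mk_eq_one, Subgroup.mem_center_iff]
    have h1 : g ^ (Nat.card K - 1) = 1 := Units.ext (by
      rw [hpow, ← Units.val_pow_eq_pow_val, ← hu', pow_orderOf_eq_one]; simp [Matrix.one_fin_two])
    intro h; rw [h1]; simp
  · rw [← hu', orderOf_dvd_iff_pow_eq_one]
    have h := pow_orderOf_eq_one (ProjGenLinGroup.mk g)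
    rw [← map_pow, ProjGenLinGroup.mk_eq_one, GeneralLinearGroup.center_eq_range_scalar,
      MonoidHom.mem_range] at h
    obtain ⟨v, hv⟩ := h
    have hv' := congrArg Units.val hv
    rw [hpow] at hv'
    have e0 := congrFun (congrFun hv' 0) 0
    have e1 := congrFun (congrFun hv' 1) 1
    simp at e0 e1
    exact Units.ext (by rw [Units.val_pow_eq_pow_val, ← e0, e1])

section char2

variable [CharP F 2]

local notation "S" => Matrix.SpecialLinearGroup (Fin 2) F

/-- The upper unitriangular element with entry `y`. -/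
def u (y : F) : S := ⟨!![1, y; 0, 1], by simp⟩

theorem u_mul (y z : F) : u y * u z = u (y + z) := Subtype.ext (by
  rw [Matrix.SpecialLinearGroup.coe_mul]
  ext i j
  fin_cases i <;> fin_cases j <;> simp [u, Matrix.mul_apply, Fin.sum_univ_two, add_comm])

theorem exists_alternating_four_of_omega {ω : F} (hω : ω * ω + ω + 1 = 0) [Finite F] :
    ∃ H : Subgroup S, Nonempty (H ≃* alternatingGroup (Fin 4)) := by
  have h2 : ∀ x : F, x + x = 0 := CharTwo.add_self_eq_zero
  have hsq : ∀ y : F, u y * u y = 1 := fun y => by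
    rw [u_mul, h2]
    exact Subtype.ext (by simp [u, Matrix.one_fin_two])
  have hω0 : ω ≠ 0 := fun h => by rw [h] at hω; simp at hω
  have hω1 : ω ≠ 1 := fun h => by
    rw [h, one_mul, h2, zero_add] at hω
    exact one_ne_zero hω
  have h21 : ω * ω = ω + 1 := by
    linear_combination hω - h2 (ω + 1)
  have h3 : ω ^ 3 = 1 := by linear_combination (ω - 1) * hω
  let t : S := ⟨!![ω, 0; 0, ω * ω], by
    simp [Matrix.det_fin_two]; linear_combination h3⟩
  have hne : u (1 : F) ≠ u ω := fun h => hω1 (by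
    simpa [u] using (congrFun (congrFun (congrArg Subtype.val h) 0) 1).symm)
  have hu : ∀ y : F, y ≠ 0 → u y ≠ (1 : S) := fun y hy h => hy (by
    simpa [u] using congrFun (congrFun (congrArg Subtype.val h) 0) 1)
  have hab : u (1 : F) * u ω = u ω * u 1 := by rw [u_mul, u_mul, add_comm]
  let V := FourGroup.four (u (1 : F)) (u ω) (hsq 1) (hsq ω) hab
  have hV : IsKleinFour V := FourGroup.isKleinFour_four (hu 1 one_ne_zero) (hu ω hω0) hne
  have hmem : ∀ y : F, y = 1 ∨ y = ω ∨ y = ω * ω → u y ∈ V := by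
    intro y hy
    apply FourGroup.mem_four.2
    rcases hy with rfl | rfl | rfl
    · exact Or.inr (Or.inl rfl)
    · exact Or.inr (Or.inr (Or.inl rfl))
    · exact Or.inr (Or.inr (Or.inr (by rw [u_mul, h21, add_comm])))
  have hconj : ∀ y : F, t * u y * t⁻¹ = u (ω ^ 2 * y) := fun y => by
    rw [mul_inv_eq_iff_eq_mul]
    apply Subtype.ext
    rw [Matrix.SpecialLinearGroup.coe_mul, Matrix.SpecialLinearGroup.coe_mul]
    ext i j
    fin_cases i <;> fin_cases j <;> simp [t, u, Matrix.mul_apply, Fin.sum_univ_two]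
    linear_combination (-(ω * y)) * h3
  haveI : Fact (Nat.Prime 3) := ⟨Nat.prime_three⟩
  have ht : orderOf t = 3 := by
    refine orderOf_eq_prime (Subtype.ext ?_) fun h => hω1 (by
      simpa [t] using congrFun (congrFun (congrArg Subtype.val h) 0) 0)
    rw [pow_succ, pow_two, Matrix.SpecialLinearGroup.coe_mul, Matrix.SpecialLinearGroup.coe_mul,
      Matrix.SpecialLinearGroup.coe_one]
    ext i j
    fin_cases i <;> fin_cases j <;> simp [t, Matrix.mul_apply, Fin.sum_univ_two]
    · linear_combination h3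
    · linear_combination (ω ^ 3 + 1) * h3
  refine FourGroup.exists_alternating_four V hV t ht (FourGroup.mem_normalizer_of_map
    (FourGroup.map_conj_of_generators hV (hmem 1 (Or.inl rfl)) (hmem ω (Or.inr (Or.inl rfl)))
      (hu 1 one_ne_zero) (hu ω hω0) hne ?_ ?_)) ⟨u 1, hmem 1 (Or.inl rfl), ?_⟩
  · rw [hconj]; exact hmem _ (Or.inr (Or.inr (by ring)))
  · rw [hconj]; exact hmem _ (Or.inl (by linear_combination h3))
  · rw [hconj]
    intro h
    have := congrFun (congrFun (congrArg Subtype.val h) 0) 1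
    simp [u] at this
    rcases this with this | this
    · exact hω1 this
    · exact hω1 (this.trans (CharTwo.neg_eq 1))

theorem not_alternating_four [Finite F] (h3 : ¬ 3 ∣ Nat.card F - 1) (H : Subgroup S) :
    ¬ Nonempty (H ≃* alternatingGroup (Fin 4)) := by
  rintro ⟨e⟩
  haveI : Fact (Nat.Prime 3) := ⟨Nat.prime_three⟩
  haveI : Fact (Nat.Prime 2) := ⟨Nat.prime_two⟩
  let V := alternatingGroup.kleinFour (Fin 4)
  have hV : IsKleinFour V := alternatingGroup.kleinFour_isKleinFour (Nat.card_fin 4)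
  haveI := alternatingGroup.normal_kleinFour (α := Fin 4) (Nat.card_fin 4)
  haveI : Nontrivial (Fin 4) := inferInstance
  obtain ⟨t, ht⟩ := exists_prime_orderOf_dvd_card' 3 (by
    rw [nat_card_alternatingGroup, Nat.card_fin]; decide : 3 ∣ Nat.card (alternatingGroup (Fin 4)))
  obtain ⟨a, ha, hne⟩ : ∃ a ∈ V, t * a * t⁻¹ ≠ a := by
    by_contra! hall
    have htc : t ∈ Subgroup.centralizer (V : Set (alternatingGroup (Fin 4))) :=
      Subgroup.mem_centralizer_iff.2 fun a ha => (mul_inv_eq_iff_eq_mul.1 (hall a ha)).symm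
    obtain ⟨a, ha, ha1, -⟩ := FourGroup.exists_two hV (a := (1 : alternatingGroup (Fin 4)))
    have hc : Commute t a := (Subgroup.mem_centralizer_iff.1 htc a ha).symm
    have h6 : orderOf (t * a) = 6 := by
      have ha2 : orderOf a = 2 := orderOf_eq_prime
        (by rw [pow_two]; exact FourGroup.mul_self_of_mem hV ha) ha1
      rw [hc.orderOf_mul_eq_mul_orderOf_of_coprime (by rw [ht, ha2]; norm_num), ht, ha2]
    have h : ∀ x : alternatingGroup (Fin 4), x ^ 2 = 1 ∨ x ^ 3 = 1 := by decide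
    rcases h (t * a) with h | h <;>
    · have := orderOf_dvd_of_pow_eq_one h
      rw [h6] at this
      norm_num at this
  let ι : alternatingGroup (Fin 4) →* S := H.subtype.comp e.symm.toMonoidHom
  have hι : Function.Injective ι := H.subtype_injective.comp e.symm.injective
  have key : ∀ x : S, x * x = 1 → x ≠ 1 →
      ∃ v : Fin 2 → F, v ≠ 0 ∧ x.1 *ᵥ v = v ∧
        ∀ u : Fin 2 → F, x.1 *ᵥ u = u → ∃ l : F, l • v = u := by
    intro x hx hx1
    have hfix : ∃ v : Fin 2 → F, v ≠ 0 ∧ x.1 *ᵥ v = v := by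
      by_contra! hno
      apply hx1
      have h : ∀ u : Fin 2 → F, x.1 *ᵥ u = u := fun u => by
        by_contra hu
        have h0 : x.1 *ᵥ (x.1 *ᵥ u + u) = x.1 *ᵥ u + u := by
          rw [mulVec_add, mulVec_mulVec, ← Matrix.SpecialLinearGroup.coe_mul, hx,
            Matrix.SpecialLinearGroup.coe_one, one_mulVec, add_comm]
        by_cases hz : x.1 *ᵥ u + u = 0
        · exact hu (funext fun i => CharTwo.add_eq_zero.1 (congrFun hz i))
        · exact hno _ hz h0
      apply Subtype.ext
      apply Matrix.toLin'.injective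
      exact LinearMap.ext fun u => by simp [Matrix.toLin'_apply, h u]
    obtain ⟨v, hv0, hv⟩ := hfix
    refine ⟨v, hv0, hv, fun u hu => ?_⟩
    by_contra! hno
    apply hx1
    have hli : LinearIndependent F ![v, u] := by
      rw [LinearIndependent.pair_iff' hv0]; exact hno
    have htop := hli.span_eq_top_of_card_eq_finrank (by simp)
    apply Subtype.ext
    apply Matrix.toLin'.injective
    refine LinearMap.ext_on htop ?_
    rintro _ ⟨i, rfl⟩
    fin_cases i <;> simp [Matrix.toLin'_apply, hv, hu]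
  have ha1 : a ≠ 1 := fun h => hne (by simp [h])
  set b := t * a * t⁻¹ with hb
  have hbV : b ∈ V := Subgroup.Normal.conj_mem inferInstance a ha t
  have hia : ι a * ι a = 1 := by rw [← map_mul, FourGroup.mul_self_of_mem hV ha, map_one]
  obtain ⟨v, hv0, hv, huniq⟩ := key (ι a) hia (fun h => ha1 (hι (h.trans (map_one ι).symm)))
  have hbv : (ι b).1 *ᵥ v = v := by
    obtain ⟨l, hl⟩ := huniq ((ι b).1 *ᵥ v) (by
      rw [mulVec_mulVec, ← Matrix.SpecialLinearGroup.coe_mul, ← map_mul,
        FourGroup.comm_of_mem hV ha hbV, map_mul, Matrix.SpecialLinearGroup.coe_mul, ← mulVec_mulVec,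
        hv])
    have hb2 : (ι b).1 *ᵥ ((ι b).1 *ᵥ v) = v := by
      rw [mulVec_mulVec, ← Matrix.SpecialLinearGroup.coe_mul, ← map_mul,
        FourGroup.mul_self_of_mem hV hbV, map_one, Matrix.SpecialLinearGroup.coe_one, one_mulVec]
    rw [← hl, mulVec_smul, ← hl, smul_smul] at hb2
    have hl2 : l * l = 1 := smul_left_injective F hv0 (hb2.trans (one_smul F v).symm)
    have hl1 : l = 1 := by
      rcases mul_self_eq_one_iff.1 hl2 with h | h
      · exact h
      · rw [h, CharTwo.neg_eq]
    rw [← hl, hl1, one_smul]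
  have hbfix : (ι b).1 *ᵥ ((ι t).1 *ᵥ v) = (ι t).1 *ᵥ v := by
    rw [mulVec_mulVec, ← Matrix.SpecialLinearGroup.coe_mul, ← map_mul,
      show b * t = t * a by rw [hb, inv_mul_cancel_right], map_mul,
      Matrix.SpecialLinearGroup.coe_mul, ← mulVec_mulVec, hv]
  have hb1 : b ≠ 1 := fun h => ha1 (conj_eq_one_iff.1 (hb ▸ h))
  obtain ⟨v', hv'0, hv', huniq'⟩ := key (ι b)
    (by rw [← map_mul, FourGroup.mul_self_of_mem hV hbV, map_one])
    (fun h => hb1 (hι (h.trans (map_one ι).symm)))
  obtain ⟨l₁, hl₁⟩ := huniq' v hbv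
  obtain ⟨l₂, hl₂⟩ := huniq' _ hbfix
  have hl₁0 : l₁ ≠ 0 := fun h => hv0 (by rw [← hl₁, h, zero_smul])
  obtain ⟨μ, hμ⟩ : ∃ μ : F, (ι t).1 *ᵥ v = μ • v :=
    ⟨l₂ / l₁, by rw [← hl₂, ← hl₁, smul_smul, div_mul_cancel₀ _ hl₁0]⟩
  have ht3 : ι t ^ 3 = 1 := by rw [← map_pow, ← ht, pow_orderOf_eq_one, map_one]
  have hμ3 : μ ^ 3 = 1 := by
    have : (ι t ^ 3).1 *ᵥ v = (μ ^ 3) • v := by
      rw [pow_succ, pow_two, Matrix.SpecialLinearGroup.coe_mul, Matrix.SpecialLinearGroup.coe_mul,
        ← mulVec_mulVec, hμ, mulVec_smul, ← mulVec_mulVec, hμ, mulVec_smul, hμ, smul_smul,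
        smul_smul]
      congr 1; ring
    rw [ht3, Matrix.SpecialLinearGroup.coe_one, one_mulVec] at this
    exact (smul_left_injective F hv0 ((one_smul F v).trans this)).symm
  have hμ1 : μ = 1 := by
    by_contra hμ1
    have hμ0 : μ ≠ 0 := fun h => by rw [h] at hμ3; simp at hμ3
    apply h3
    rw [← Nat.card_units, ← show orderOf (Units.mk0 μ hμ0) = 3 from orderOf_eq_prime
      (Units.ext (by simpa using hμ3)) (fun h => hμ1 (by simpa using congrArg Units.val h))]
    exact orderOf_dvd_natCard _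
  rw [hμ1, one_smul] at hμ
  have h2 : ι (t ^ 2) = 1 := by rw [map_pow]; exact SL2Orders.pow_char_of_fixed 2 (ι t) v hv0 hμ
  have := orderOf_dvd_of_pow_eq_one (hι (h2.trans (map_one ι).symm))
  rw [ht] at this
  norm_num at this

end char2

end Cfsg.Agent.PSL2Field
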