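/-
Hermitian forms over finite fields on abstract spaces: orthonormal bases, Witt extension, norm
and trace fibres.
-/
import Cfsg.Agent.Lib.Transvec.Herm

set_option autoImplicit false

namespace Cfsg.Agent.Hermitian

open Module

variable {F : Type*} [Field F] {σ : F →+* F} {V : Type*} [AddCommGroup V] [Module F V]

/-- A non-degenerate Hermitian form, linear in the first argument. -/
structure IsHerm (σ : F →+* F) (h : V → V → F) : Prop where
  ne_id : σ ≠ RingHom.id F
  invol : ∀ a, σ (σ a) = a
  add_left : ∀ x y v, h (x + y) v = h x v + h y v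
  smul_left : ∀ (c : F) (x v : V), h (c • x) v = c * h x v
  symm : ∀ v w, h w v = σ (h v w)
  nondeg : ∀ v, (∀ w, h v w = 0) → v = 0

/-- The Frobenius-type automorphism as a ring equivalence. -/
@[irreducible] noncomputable def sEquiv (hinv : ∀ a, σ (σ a) = a) : F ≃+* F :=
  RingEquiv.ofBijective σ (Function.Involutive.bijective hinv)

theorem sEquiv_apply (hinv : ∀ a, σ (σ a) = a) (a : F) : sEquiv hinv a = σ a := by
  unfold sEquiv; rfl

theorem sEquiv_ne (hne : σ ≠ RingHom.id F) (hinv : ∀ a, σ (σ a) = a) :
    sEquiv hinv ≠ RingEquiv.refl F := fun h =>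
  hne (RingHom.ext fun a => by rw [← sEquiv_apply hinv a, h]; rfl)

/-- The fixed field. -/
def fixed (σ : F →+* F) : Subfield F where
  carrier := {a | σ a = a}
  mul_mem' ha hb := by simp_all
  one_mem' := map_one σ
  add_mem' ha hb := by simp_all
  zero_mem' := map_zero σ
  neg_mem' ha := by simp_all
  inv_mem' a ha := by simp_all

theorem mem_fixed {a : F} : a ∈ fixed σ ↔ σ a = a := Iff.rfl

section field

variable [Finite F] (hne : σ ≠ RingHom.id F) (hinv : ∀ a, σ (σ a) = a)
include hne hinv

omit [Finite F] hne in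
theorem card_fixedField :
    Nat.card (Transvec.Herm.fixedField (sEquiv hinv)) = Nat.card (fixed σ) :=
  Nat.card_congr (Equiv.subtypeEquivRight fun a => by
    rw [Transvec.Herm.mem_fixedField, mem_fixed, sEquiv_apply])

theorem card_eq_sq : Nat.card F = Nat.card (fixed σ) ^ 2 := by
  rw [← card_fixedField hinv]
  exact Transvec.Herm.card_eq_sq (sEquiv_ne hne hinv) (fun a => by
    rw [sEquiv_apply, sEquiv_apply, hinv])

theorem apply_eq_pow (x : F) : σ x = x ^ Nat.card (fixed σ) := by
  rw [← card_fixedField hinv, ← sEquiv_apply hinv]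
  exact Transvec.Herm.apply_eq_pow (sEquiv_ne hne hinv) (fun a => by
    rw [sEquiv_apply, sEquiv_apply, hinv]) x

theorem exists_trace {x : F} (hx : σ x = x) : ∃ b, b + σ b = x := by
  simp only [← sEquiv_apply hinv]
  exact Transvec.Herm.exists_trace (sEquiv_ne hne hinv) (fun a => by
    rw [sEquiv_apply, sEquiv_apply, hinv]) x (by rw [sEquiv_apply]; exact hx)

theorem exists_norm {x : F} (hx : σ x = x) : ∃ b, b * σ b = x := by
  simp only [← sEquiv_apply hinv]
  exact Transvec.Herm.exists_norm (sEquiv_ne hne hinv) (fun a => by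
    rw [sEquiv_apply, sEquiv_apply, hinv]) x (by rw [sEquiv_apply]; exact hx)

theorem card_norm_fibre {k : F} (hk : σ k = k) (hk0 : k ≠ 0) :
    Nat.card {a : F // a * σ a = k} = Nat.card (fixed σ) + 1 := by
  let N : Fˣ →* (fixed σ)ˣ :=
    { toFun := fun u => Units.mk0 ⟨(u : F) * σ u, mem_fixed.2 (by rw [map_mul, hinv, mul_comm])⟩
        (fun h => mul_ne_zero u.ne_zero (by simp) (congrArg Subtype.val h))
      map_one' := Units.ext (Subtype.ext (by simp))
      map_mul' := fun u v => Units.ext (Subtype.ext (by simp; ring)) }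
  have hsurj : Function.Surjective N := by
    intro u
    obtain ⟨b, hb⟩ := exists_norm hne hinv (u : fixed σ).2
    have hb0 : b ≠ 0 := fun h => u.ne_zero (Subtype.ext (by rw [← hb, h, zero_mul]; rfl))
    exact ⟨Units.mk0 b hb0, Units.ext (Subtype.ext hb)⟩
  obtain ⟨b, hb⟩ := exists_norm hne hinv hk
  have hb0 : b ≠ 0 := fun h => hk0 (by rw [← hb, h, zero_mul])
  let e : {a : F // a * σ a = k} ≃ N.ker :=
    { toFun := fun a => ⟨Units.mk0 (a.1 * b⁻¹)
        (mul_ne_zero (fun h => hk0 (by rw [← a.2, h, zero_mul])) (inv_ne_zero hb0)),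
        Units.ext (Subtype.ext (by
          show a.1 * b⁻¹ * σ (a.1 * b⁻¹) = 1
          rw [map_mul, map_inv₀, mul_mul_mul_comm, a.2, ← mul_inv, hb, mul_inv_cancel₀ hk0]))⟩
      invFun := fun u => ⟨(u.1 : F) * b, by
        have h1 : (u.1 : F) * σ u.1 = 1 := congrArg (fun w : (fixed σ)ˣ => ((w : fixed σ) : F)) u.2
        rw [map_mul, mul_mul_mul_comm, h1, hb, one_mul]⟩
      left_inv := fun a => Subtype.ext (inv_mul_cancel_right₀ hb0 a.1)
      right_inv := fun u => Subtype.ext (Units.ext (mul_inv_cancel_right₀ hb0 _)) }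
  rw [Nat.card_congr e]
  have h := Subgroup.card_mul_index N.ker
  rw [Subgroup.index_ker, MonoidHom.range_eq_top.2 hsurj, Subgroup.card_top, Nat.card_units,
    Nat.card_units, card_eq_sq hne hinv] at h
  have h2 : 1 < Nat.card (fixed σ) := Finite.one_lt_card
  refine Nat.eq_of_mul_eq_mul_right (show 0 < Nat.card (fixed σ) - 1 by omega) (h.trans ?_)
  simpa using Nat.sq_sub_sq (Nat.card (fixed σ)) 1

end field

namespace IsHerm

variable {h : V → V → F} (hh : IsHerm σ h)
include hh

/-- The functional `x ↦ h x v`. -/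
def form (v : V) : Dual F V where
  toFun x := h x v
  map_add' x y := hh.add_left x y v
  map_smul' c x := hh.smul_left c x v

theorem form_apply (v x : V) : hh.form v x = h x v := rfl

theorem zero_left (v : V) : h 0 v = 0 := map_zero (hh.form v)

theorem zero_right (v : V) : h v 0 = 0 := by rw [hh.symm, hh.zero_left, map_zero]

theorem add_right (v x y : V) : h v (x + y) = h v x + h v y := by
  rw [hh.symm, hh.add_left, map_add, ← hh.symm, ← hh.symm]

theorem smul_right (c : F) (v x : V) : h v (c • x) = σ c * h v x := by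
  rw [hh.symm, hh.smul_left, map_mul, ← hh.symm]

theorem sub_left (x y v : V) : h (x - y) v = h x v - h y v := map_sub (hh.form v) x y

theorem sum_left {ι : Type*} (s : Finset ι) (x : ι → V) (v : V) :
    h (∑ i ∈ s, x i) v = ∑ i ∈ s, h (x i) v := map_sum (hh.form v) x s

theorem self_fixed (v : V) : σ (h v v) = h v v := (hh.symm v v).symm

theorem eq_zero_comm {x y : V} : h x y = 0 ↔ h y x = 0 := by
  rw [hh.symm y x, map_eq_zero]

variable [Finite F]

theorem exists_anisotropic [Nontrivial V] : ∃ v, h v v ≠ 0 := by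
  obtain ⟨x, hx⟩ := exists_ne (0 : V)
  obtain ⟨y, hy⟩ : ∃ y, h x y ≠ 0 := by
    by_contra! hc
    exact hx (hh.nondeg x hc)
  by_contra! hc
  obtain ⟨b, hb⟩ := exists_trace hh.ne_id hh.invol (map_one σ)
  have e := hc ((b / h x y) • x + y)
  rw [hh.add_left, hh.add_right, hh.add_right, hh.smul_left, hh.smul_left, hh.smul_right,
    hh.smul_right, hc x, hc y, hh.symm x y, ← map_mul, div_mul_cancel₀ _ hy] at e
  simp [hb] at e

theorem exists_norm_one [Nontrivial V] : ∃ v, h v v = 1 := by
  obtain ⟨v, hv⟩ := hh.exists_anisotropic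
  obtain ⟨b, hb⟩ := exists_norm hh.ne_id hh.invol
    (show σ (h v v)⁻¹ = (h v v)⁻¹ by rw [map_inv₀, hh.self_fixed])
  exact ⟨b • v, by rw [hh.smul_left, hh.smul_right, ← mul_assoc, hb, inv_mul_cancel₀ hv]⟩

omit [Finite F] in
/-- The vectors orthogonal to a family. -/
def orth {ι : Type*} (x : ι → V) : Submodule F V := LinearMap.ker (LinearMap.pi fun i => hh.form (x i))

omit [Finite F] in
theorem mem_orth {ι : Type*} {x : ι → V} {v : V} : v ∈ hh.orth x ↔ ∀ i, h v (x i) = 0 := by
  simp [orth, funext_iff, form_apply]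

omit [Finite F] in
/-- The Gram matrix is non-degenerate. -/
theorem linearIndependent_of_gram {ι : Type*} [Fintype ι] {x : ι → V}
    (hg : ∀ c : ι → F, (∀ j, ∑ i, c i * h (x i) (x j) = 0) → c = 0) : LinearIndependent F x := by
  rw [Fintype.linearIndependent_iff]
  intro c hc i
  refine congrFun (hg c fun j => ?_) i
  have e := congrArg (fun v => h v (x j)) hc
  simpa [hh.sum_left, hh.smul_left, hh.zero_left] using e

theorem exists_form_eq [FiniteDimensional F V] (φ : Dual F V) : ∃ d, ∀ v, h v d = φ v := by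
  haveI : Finite V := Module.finite_of_finite F
  haveI : Finite (Dual F V) := Module.finite_of_finite F
  have hinj : Function.Injective hh.form := by
    intro a b hab
    have := fun w => LinearMap.congr_fun hab w
    simp only [form_apply] at this
    rw [← sub_eq_zero]
    exact hh.nondeg _ fun w => by rw [hh.sub_left, hh.symm, hh.symm w b, this w, sub_self]
  obtain ⟨d, hd⟩ := ((Nat.bijective_iff_injective_and_card hh.form).2 ⟨hinj, Nat.card_congr
    (LinearEquiv.ofFinrankEq V (Dual F V) Subspace.dual_finrank_eq.symm).toEquiv⟩).2 φ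
  exact ⟨d, fun v => LinearMap.congr_fun hd v⟩

omit [Finite F] in
/-- Data of the orthogonal complement of a family with non-degenerate Gram matrix. -/
theorem orth_spec [FiniteDimensional F V] {ι : Type*} [Fintype ι] {x : ι → V}
    (hg : ∀ c : ι → F, (∀ j, ∑ i, c i * h (x i) (x j) = 0) → c = 0) :
    finrank F (hh.orth x) + Fintype.card ι = finrank F V ∧
      IsHerm σ (fun a b : hh.orth x => h a.1 b.1) ∧
      Submodule.span F (Set.range x) ⊔ hh.orth x = ⊤ := by
  have hli := hh.linearIndependent_of_gram hg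
  have hdisj : Submodule.span F (Set.range x) ⊓ hh.orth x = ⊥ := by
    rw [eq_bot_iff]
    rintro v ⟨hv, hv'⟩
    obtain ⟨c, rfl⟩ := (Submodule.mem_span_range_iff_exists_fun F).1 hv
    have : c = 0 := hg c fun j => by
      simpa [hh.sum_left, hh.smul_left] using hh.mem_orth.1 hv' j
    simp [this]
  have h1 : finrank F (Submodule.span F (Set.range x)) = Fintype.card ι :=
    finrank_span_eq_card hli
  have h2 := LinearMap.finrank_range_add_finrank_ker (LinearMap.pi fun i => hh.form (x i))
  have h3 := Submodule.finrank_le (LinearMap.range (LinearMap.pi fun i => hh.form (x i)))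
  rw [finrank_fintype_fun_eq_card] at h3
  have h4 := Submodule.finrank_sup_add_finrank_inf_eq (Submodule.span F (Set.range x)) (hh.orth x)
  rw [hdisj, finrank_bot, add_zero, h1] at h4
  have h5 := Submodule.finrank_le (Submodule.span F (Set.range x) ⊔ hh.orth x)
  have h2' : finrank F (LinearMap.range (LinearMap.pi fun i => hh.form (x i))) +
      finrank F (hh.orth x) = finrank F V := h2
  have h6 : finrank F (hh.orth x) + Fintype.card ι = finrank F V := by omega
  have htop : Submodule.span F (Set.range x) ⊔ hh.orth x = ⊤ :=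
    Submodule.eq_top_of_finrank_eq (by rw [h4, ← h6, add_comm])
  refine ⟨h6, ⟨hh.ne_id, hh.invol, fun a b v => hh.add_left _ _ _, fun c a v => hh.smul_left _ _ _,
    fun a b => hh.symm _ _, fun a ha => ?_⟩, htop⟩
  refine Subtype.ext (hh.nondeg a.1 fun w => ?_)
  obtain ⟨s, hs, t, ht, rfl⟩ := Submodule.mem_sup.1 (htop.symm ▸ Submodule.mem_top (x := w))
  obtain ⟨c, rfl⟩ := (Submodule.mem_span_range_iff_exists_fun F).1 hs
  rw [hh.add_right, ha ⟨t, ht⟩, add_zero, hh.eq_zero_comm, hh.sum_left]
  exact Finset.sum_eq_zero fun i _ => by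
    rw [hh.smul_left, hh.eq_zero_comm.1 (hh.mem_orth.1 a.2 i), mul_zero]

omit [Finite F] in
theorem orthonormal_gram {ι : Type*} [Fintype ι] [DecidableEq ι] {b : ι → V}
    (hb : ∀ i j, h (b i) (b j) = if i = j then 1 else 0) :
    ∀ c : ι → F, (∀ j, ∑ i, c i * h (b i) (b j) = 0) → c = 0 := fun c hc => funext fun j => by
  simpa [hb] using hc j

end IsHerm

theorem exists_orthonormal [Finite F] {n : ℕ} :
    ∀ {V : Type*} [AddCommGroup V] [Module F V] [FiniteDimensional F V] {h : V → V → F},
      IsHerm σ h → finrank F V = n →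
        ∃ b : Fin n → V, ∀ i j, h (b i) (b j) = if i = j then 1 else 0 := by
  induction n with
  | zero => exact fun _ _ => ⟨Fin.elim0, fun i => i.elim0⟩
  | succ n ih =>
    intro V _ _ _ h hh hn
    haveI : Nontrivial V := Module.nontrivial_of_finrank_pos (R := F) (by omega)
    obtain ⟨e, he⟩ := hh.exists_norm_one
    obtain ⟨hdim, hW, -⟩ := hh.orth_spec (x := fun _ : Fin 1 => e)
      (hh.orthonormal_gram (fun i j => by rw [Subsingleton.elim i j]; simp [he]))
    rw [Fintype.card_fin] at hdim
    obtain ⟨b, hb⟩ := ih hW (by omega)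
    refine ⟨Fin.cons e fun i => (b i).1, fun i j => ?_⟩
    have hperp : ∀ i, h (b i).1 e = 0 := fun i => hh.mem_orth.1 (b i).2 0
    induction i using Fin.cases <;> induction j using Fin.cases
    · simp [he]
    · rename_i j; simp [hh.eq_zero_comm.1 (hperp j), (Fin.succ_ne_zero j).symm]
    · rename_i i; simp [hperp i, Fin.succ_ne_zero i]
    · rename_i i j; simpa using hb i j

namespace IsHerm

variable {h : V → V → F} (hh : IsHerm σ h) [Finite F] [FiniteDimensional F V]
include hh

omit [Finite F] [FiniteDimensional F V] in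
theorem map_sum_eq {ι : Type*} [Fintype ι] {x y : ι → V}
    (hxy : ∀ i j, h (x i) (x j) = h (y i) (y j)) (c d : ι → F) :
    h (∑ i, c i • x i) (∑ j, d j • x j) = h (∑ i, c i • y i) (∑ j, d j • y j) := by
  have key : ∀ z : ι → V, h (∑ i, c i • z i) (∑ j, d j • z j) =
      ∑ i, c i * ∑ j, σ (d j) * h (z i) (z j) := by
    intro z
    rw [hh.sum_left]
    refine Finset.sum_congr rfl fun i _ => ?_
    rw [hh.smul_left, hh.symm, hh.sum_left, map_sum]
    congr 1
    refine Finset.sum_congr rfl fun j _ => ?_
    rw [hh.smul_left, map_mul, ← hh.symm]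
  rw [key, key]
  simp_rw [hxy]

theorem exists_iso_of_gram {m : ℕ} {x y : Fin m → V} (hx : LinearIndependent F x)
    (hy : LinearIndependent F y) (hxy : ∀ i j, h (x i) (x j) = h (y i) (y j)) :
    ∃ g : V ≃ₗ[F] V, (∀ u v, h (g u) (g v) = h u v) ∧ ∀ i, g (x i) = y i := by
  classical
  induction hk : finrank F V - m using Nat.strong_induction_on generalizing m with
  | _ k ih =>
  by_cases hg : ∀ c : Fin m → F, (∀ j, ∑ i, c i * h (x i) (x j) = 0) → c = 0
  · have hgy : ∀ c : Fin m → F, (∀ j, ∑ i, c i * h (y i) (y j) = 0) → c = 0 := fun c hc =>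
      hg c fun j => by simp_rw [hxy]; exact hc j
    obtain ⟨hdx, hWx, -⟩ := hh.orth_spec hg
    obtain ⟨hdy, hWy, -⟩ := hh.orth_spec hgy
    rw [Fintype.card_fin] at hdx hdy
    obtain ⟨a, ha⟩ := exists_orthonormal (n := finrank F V - m) hWx (by omega)
    obtain ⟨b, hb⟩ := exists_orthonormal (n := finrank F V - m) hWy (by omega)
    have liX : LinearIndependent F (Sum.elim x fun i => (a i).1) := by
      refine hh.linearIndependent_of_gram fun c hc => ?_
      have h1 : ∀ i, c (Sum.inl i) = 0 := congrFun (hg _ fun j => by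
        simpa [Fintype.sum_sum_type, hh.mem_orth.1 (a _).2 j] using hc (Sum.inl j))
      funext i
      rcases i with i | i
      · exact h1 i
      · have := hc (Sum.inr i)
        simpa [Fintype.sum_sum_type, h1, ha] using this
    have liY : LinearIndependent F (Sum.elim y fun i => (b i).1) := by
      refine hh.linearIndependent_of_gram fun c hc => ?_
      have h1 : ∀ i, c (Sum.inl i) = 0 := congrFun (hgy _ fun j => by
        simpa [Fintype.sum_sum_type, hh.mem_orth.1 (b _).2 j] using hc (Sum.inl j))
      funext i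
      rcases i with i | i
      · exact h1 i
      · have := hc (Sum.inr i)
        simpa [Fintype.sum_sum_type, h1, hb] using this
    have hc : Fintype.card (Fin m ⊕ Fin (finrank F V - m)) = finrank F V := by
      rw [Fintype.card_sum, Fintype.card_fin, Fintype.card_fin]; omega
    let bx := Module.Basis.mk liX (by
      rw [liX.span_eq_top_of_card_eq_finrank' hc])
    let by' := Module.Basis.mk liY (by
      rw [liY.span_eq_top_of_card_eq_finrank' hc])
    refine ⟨bx.equiv by' (Equiv.refl _), fun u v => ?_, fun i => ?_⟩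
    · rw [← bx.sum_repr u, ← bx.sum_repr v, map_sum, map_sum]
      simp only [map_smul, Basis.equiv_apply, Equiv.refl_apply]
      refine hh.map_sum_eq (fun i j => ?_) _ _
      simp only [bx, by', Basis.coe_mk]
      rcases i with i | i <;> rcases j with j | j
      · simp [hxy]
      · simp [hh.eq_zero_comm.1 (hh.mem_orth.1 (a j).2 i), hh.eq_zero_comm.1 (hh.mem_orth.1 (b j).2 i)]
      · simp [hh.mem_orth.1 (a i).2 j, hh.mem_orth.1 (b i).2 j]
      · simp [ha, hb]
    · have e := bx.equiv_apply (Sum.inl i) by' (Equiv.refl _)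
      simpa [bx, by'] using e
  · push Not at hg
    obtain ⟨c, hc, hc0⟩ := hg
    obtain ⟨i₀, hi₀⟩ := Function.ne_iff.1 hc0
    -- functionals dual to the radical vector
    obtain ⟨φx, hφx⟩ := LinearMap.exists_extend
      ((Basis.span hx).constr F fun i => if i = i₀ then (c i₀)⁻¹ else 0)
    obtain ⟨φy, hφy⟩ := LinearMap.exists_extend
      ((Basis.span hy).constr F fun i => if i = i₀ then (c i₀)⁻¹ else 0)
    have ex : ∀ i, φx (x i) = if i = i₀ then (c i₀)⁻¹ else 0 := fun i => by
      have := LinearMap.congr_fun hφx (Basis.span hx i)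
      rw [LinearMap.comp_apply, Basis.constr_basis] at this
      simpa [Basis.span_apply] using this
    have ey : ∀ i, φy (y i) = if i = i₀ then (c i₀)⁻¹ else 0 := fun i => by
      have := LinearMap.congr_fun hφy (Basis.span hy i)
      rw [LinearMap.comp_apply, Basis.constr_basis] at this
      simpa [Basis.span_apply] using this
    obtain ⟨d, hd⟩ := hh.exists_form_eq φx
    obtain ⟨d', hd'⟩ := hh.exists_form_eq φy
    set r := ∑ i, c i • x i with hr
    set s := ∑ i, c i • y i with hs
    have hcy : ∀ j, ∑ i, c i * h (y i) (y j) = 0 := fun j => by simp_rw [← hxy]; exact hc j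
    have hrd : h r d = 1 := by
      rw [hr, hh.sum_left]; simp [hh.smul_left, hd, ex, mul_inv_cancel₀ hi₀]
    have hsd : h s d' = 1 := by
      rw [hs, hh.sum_left]; simp [hh.smul_left, hd', ey, mul_inv_cancel₀ hi₀]
    have hsy : ∀ j, h s (y j) = 0 := fun j => by
      rw [hs, hh.sum_left]; simpa [hh.smul_left] using hcy j
    have hrx : ∀ j, h r (x j) = 0 := fun j => by
      rw [hr, hh.sum_left]; simpa [hh.smul_left] using hc j
    have hss : h s s = 0 := by
      conv_lhs => arg 2; rw [hs]
      rw [hh.symm, hh.sum_left, map_sum]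
      exact Finset.sum_eq_zero fun j _ => by
        rw [hh.smul_left, hh.eq_zero_comm.1 (hsy j), mul_zero, map_zero]
    obtain ⟨b, hb⟩ := exists_trace hh.ne_id hh.invol (x := h d d - h d' d')
      (by rw [map_sub, hh.self_fixed, hh.self_fixed])
    set d'' := d' + b • s with hd''
    have hyd : ∀ i, h (y i) d'' = h (x i) d := fun i => by
      rw [hd'', hh.add_right, hh.smul_right, hh.eq_zero_comm.1 (hsy i), mul_zero, add_zero, hd',
        ey, hd, ex]
    have hdd : h d'' d'' = h d d := by
      rw [hd'', hh.add_left, hh.add_right, hh.add_right, hh.smul_left, hh.smul_left, hh.smul_right,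
        hh.smul_right, hss, hsd, hh.symm s d', hsd, map_one]
      linear_combination hb
    have hsd'' : h s d'' = 1 := by
      rw [hd'', hh.add_right, hh.smul_right, hss, mul_zero, add_zero, hsd]
    have li1 : LinearIndependent F (Fin.snoc x d : Fin (m + 1) → V) := by
      refine linearIndependent_finSnoc.2 ⟨hx, fun hmem => ?_⟩
      obtain ⟨a, ha⟩ := (Submodule.mem_span_range_iff_exists_fun F).1 hmem
      have : h r d = 0 := by
        rw [← ha, hh.symm, hh.sum_left, map_sum]
        exact Finset.sum_eq_zero fun j _ => by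
          rw [hh.smul_left, hh.eq_zero_comm.1 (hrx j), mul_zero, map_zero]
      rw [hrd] at this
      exact one_ne_zero this
    have li2 : LinearIndependent F (Fin.snoc y d'' : Fin (m + 1) → V) := by
      refine linearIndependent_finSnoc.2 ⟨hy, fun hmem => ?_⟩
      obtain ⟨a, ha⟩ := (Submodule.mem_span_range_iff_exists_fun F).1 hmem
      have : h s d'' = 0 := by
        rw [← ha, hh.symm, hh.sum_left, map_sum]
        exact Finset.sum_eq_zero fun j _ => by
          rw [hh.smul_left, hh.eq_zero_comm.1 (hsy j), mul_zero, map_zero]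
      rw [hsd''] at this
      exact one_ne_zero this
    have hm : m + 1 ≤ finrank F V := by
      simpa using li1.fintype_card_le_finrank
    obtain ⟨g, hg1, hg2⟩ := ih (finrank F V - (m + 1)) (by omega) li1 li2 (fun i j => by
      induction i using Fin.lastCases <;> induction j using Fin.lastCases
      · simp [hdd]
      · rename_i j; simp [hh.symm (y j) d'', hh.symm (x j) d, hyd]
      · simp [hyd]
      · simp [hxy]) rfl
    exact ⟨g, hg1, fun i => by simpa using hg2 i.castSucc⟩

/-- Witt's extension theorem. -/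
theorem witt (X Y : Submodule F V) (φ : X ≃ₗ[F] Y)
    (hφ : ∀ x x' : X, h (φ x : V) (φ x' : V) = h (x : V) (x' : V)) :
    ∃ g : V ≃ₗ[F] V, (∀ u v, h (g u) (g v) = h u v) ∧ ∀ x : X, g (x : V) = (φ x : V) := by
  let b := Module.finBasis F X
  obtain ⟨g, hg, hgb⟩ := hh.exists_iso_of_gram (x := fun i => (b i : V)) (y := fun i => (φ (b i) : V))
    (b.linearIndependent.map' X.subtype X.ker_subtype)
    ((b.map φ).linearIndependent.map' Y.subtype Y.ker_subtype) fun i j => (hφ _ _).symm
  refine ⟨g, hg, fun x => ?_⟩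
  have : g.toLinearMap.comp X.subtype = Y.subtype.comp φ.toLinearMap := b.ext fun i => hgb i
  exact LinearMap.congr_fun this x

end IsHerm

end Cfsg.Agent.Hermitian
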