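/-
The standard Hermitian form: vector counts and the orders of GU_n, SU_n, PSU_n.
-/
import Cfsg.Agent.Lib.Classical.Hermitian
import Cfsg.Agent.Lib.Laws.Unitary
import Cfsg.Prelude.Def_LieClassical
import Cfsg.Prelude.Def_ClassicalGeometry

set_option autoImplicit false

namespace Cfsg.Agent.HermStd

open Matrix Hermitian Module

variable {F : Type*} [Field F] [Fintype F] {q : ℕ} {σ : F →+* F}

theorem exists_sigma (hF : Fintype.card F = q ^ 2) :
    ∃ σ : F →+* F, (∀ x, σ x = x ^ q) ∧ σ ≠ RingHom.id F ∧ (∀ a, σ (σ a) = a) ∧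
      Nat.card (fixed σ) = q ∧ 2 ≤ q := by
  obtain ⟨σ, hσ, hinv, hq⟩ := Laws.exists_frobenius hF
  have hne : σ ≠ RingHom.id F := by
    intro h
    have h1 : ∀ x : F, x ^ q = x := fun x => by rw [← hσ, h]; rfl
    classical
    have hsub : (Finset.univ : Finset F) ⊆ (Polynomial.X ^ q - Polynomial.X : Polynomial F).roots.toFinset := by
      intro x _
      rw [Multiset.mem_toFinset, Polynomial.mem_roots (FiniteField.X_pow_card_sub_X_ne_zero F (by omega))]
      simp [h1]
    have h2 := (Finset.card_le_card hsub).trans ((Multiset.toFinset_card_le _).trans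
      (Polynomial.card_roots' _))
    rw [Finset.card_univ, hF, FiniteField.X_pow_card_sub_X_natDegree_eq F (by omega)] at h2
    have : q * 2 ≤ q * q := Nat.mul_le_mul_left q hq
    rw [pow_two] at h2
    omega
  refine ⟨σ, hσ, hne, hinv, ?_, hq⟩
  have h := card_eq_sq hne hinv
  rw [Nat.card_eq_fintype_card, hF] at h
  exact (Nat.pow_left_injective (by norm_num) h).symm

section

variable (hne : σ ≠ RingHom.id F) (hinv : ∀ a, σ (σ a) = a) (hσ : ∀ x, σ x = x ^ q)
include hne hinv hσ

omit [Fintype F] in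
theorem isHerm_std (n : ℕ) : IsHerm σ (Cfsg.hermForm n F q) := by
  refine ⟨hne, hinv, fun x y v => ?_, fun c x v => ?_, fun v w => ?_, fun v hv => ?_⟩
  · simp [Cfsg.hermForm, add_mul, Finset.sum_add_distrib]
  · simp [Cfsg.hermForm, Finset.mul_sum, mul_assoc]
  · simp only [Cfsg.hermForm, map_sum, map_mul, ← hσ, hinv]
    exact Finset.sum_congr rfl fun i _ => mul_comm _ _
  · funext i
    have := hv (Pi.single i 1)
    simpa [Cfsg.hermForm, ← hσ, Pi.single_apply, apply_ite σ] using this

omit [Fintype F] in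
theorem hermForm_cons {n : ℕ} (a b : F) (u v : Fin n → F) :
    Cfsg.hermForm (n + 1) F q (Fin.cons a u) (Fin.cons b v) = a * σ b + Cfsg.hermForm n F q u v := by
  simp [Cfsg.hermForm, Fin.sum_univ_succ, hσ]

omit [Fintype F] hne hinv in
theorem hermForm_single {n : ℕ} (i j : Fin n) :
    Cfsg.hermForm n F q (Pi.single i 1) (Pi.single j 1) = if i = j then 1 else 0 := by
  rw [Cfsg.hermForm, Finset.sum_eq_single i (fun k _ hk => by simp [hk]) (fun h => absurd (Finset.mem_univ i) h),
    ← hσ]
  by_cases h : i = j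
  · subst h; simp
  · simp [h]

/-- The number of isotropic vectors. -/
theorem card_iso_succ (n : ℕ) (hq : Nat.card (fixed σ) = q) :
    (Nat.card {v : Fin (n + 1) → F // Cfsg.hermForm (n + 1) F q v v = 0} : ℤ) =
      (q + 1) * (q : ℤ) ^ (2 * n) -
        q * Nat.card {v : Fin n → F // Cfsg.hermForm n F q v v = 0} := by
  classical
  let e : {v : Fin (n + 1) → F // Cfsg.hermForm (n + 1) F q v v = 0} ≃
      Σ u : Fin n → F, {a : F // a * σ a = -Cfsg.hermForm n F q u u} :=
    { toFun := fun v => ⟨Fin.tail v.1, v.1 0, by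
        have h := v.2
        rw [← Fin.cons_self_tail v.1, hermForm_cons hne hinv hσ] at h
        exact eq_neg_of_add_eq_zero_left h⟩
      invFun := fun x => ⟨Fin.cons x.2.1 x.1, by
        rw [hermForm_cons hne hinv hσ, x.2.2, neg_add_cancel]⟩
      left_inv := fun v => Subtype.ext (Fin.cons_self_tail v.1)
      right_inv := fun x => by simp; rfl }
  have hpt : ∀ u : Fin n → F,
      (Nat.card {a : F // a * σ a = -Cfsg.hermForm n F q u u} : ℤ) =
        (q + 1) - if Cfsg.hermForm n F q u u = 0 then (q : ℤ) else 0 := by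
    intro u
    by_cases hu : Cfsg.hermForm n F q u u = 0
    · have : Nat.card {a : F // a * σ a = -Cfsg.hermForm n F q u u} = 1 := by
        rw [hu, neg_zero]
        exact Nat.card_eq_one_iff_exists.2 ⟨⟨0, by simp⟩, fun a => Subtype.ext (by
          rcases mul_eq_zero.1 a.2 with h | h
          · exact h
          · exact (map_eq_zero σ).1 h)⟩
      rw [if_pos hu, this]; push_cast; ring
    · rw [if_neg hu, card_norm_fibre hne hinv
        (by rw [map_neg, (isHerm_std hne hinv hσ n).self_fixed]) (neg_ne_zero.2 hu), hq]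
      push_cast; ring
  rw [Nat.card_congr e, Nat.card_sigma, Nat.cast_sum, Finset.sum_congr rfl fun u _ => hpt u,
    Finset.sum_sub_distrib, Finset.sum_const, Finset.card_univ, Fintype.card_fun, Fintype.card_fin,
    Finset.sum_ite, Finset.sum_const_zero, add_zero, Finset.sum_const, ← Fintype.card_subtype,
    ← Nat.card_eq_fintype_card (α := F), ← Nat.card_eq_fintype_card, card_eq_sq hne hinv, hq,
    nsmul_eq_mul, nsmul_eq_mul, ← pow_mul]
  push_cast
  ring

theorem card_iso_mul (n : ℕ) (hq : Nat.card (fixed σ) = q) :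
    (q : ℤ) * Nat.card {v : Fin n → F // Cfsg.hermForm n F q v v = 0} =
      (q : ℤ) ^ (2 * n) + (-1) ^ n * ((q : ℤ) ^ (n + 1) - (q : ℤ) ^ n) := by
  induction n with
  | zero =>
    have : Nat.card {v : Fin 0 → F // Cfsg.hermForm 0 F q v v = 0} = 1 :=
      Nat.card_eq_one_iff_exists.2 ⟨⟨0, by simp [Cfsg.hermForm]⟩, fun a => Subsingleton.elim _ _⟩
    rw [this]; simp
  | succ n ih =>
    rw [card_iso_succ hne hinv hσ n hq, mul_sub, ih]
    ring

theorem card_norm_mul (n : ℕ) (hq : Nat.card (fixed σ) = q) :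
    (q : ℤ) * Nat.card {v : Fin n → F // Cfsg.hermForm n F q v v = 1} =
      (q : ℤ) ^ (2 * n) - (-1) ^ n * (q : ℤ) ^ n := by
  classical
  have hh := isHerm_std hne hinv hσ n
  let Q : (Fin n → F) → fixed σ := fun v => ⟨Cfsg.hermForm n F q v v, hh.self_fixed v⟩
  have hfib : ∀ k : fixed σ, k ≠ 0 → Nat.card {v // Q v = k} =
      Nat.card {v : Fin n → F // Cfsg.hermForm n F q v v = 1} := by
    intro k hk
    obtain ⟨b, hb⟩ := exists_norm hne hinv k.2
    have hb0 : b ≠ 0 := fun h => hk (Subtype.ext (by rw [← hb, h, zero_mul]; rfl))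
    have key : ∀ (c : F) (v : Fin n → F),
        Cfsg.hermForm n F q (c • v) (c • v) = (c * σ c) * Cfsg.hermForm n F q v v := fun c v => by
      rw [hh.smul_left, hh.smul_right, mul_assoc]
    refine Nat.card_congr
      { toFun := fun v => ⟨b⁻¹ • v.1, by
          have h : Cfsg.hermForm n F q v.1 v.1 = k := congrArg Subtype.val v.2
          rw [key, h, map_inv₀, ← mul_inv, hb, inv_mul_cancel₀]
          exact fun e => hk (Subtype.ext e)⟩
        invFun := fun v => ⟨b • v.1, Subtype.ext (by
          show Cfsg.hermForm n F q (b • v.1) (b • v.1) = k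
          rw [key, v.2, mul_one, hb])⟩
        left_inv := fun v => Subtype.ext (by simp [smul_smul, mul_inv_cancel₀ hb0])
        right_inv := fun v => Subtype.ext (by simp [smul_smul, inv_mul_cancel₀ hb0]) }
  have htot : (q : ℤ) ^ (2 * n) = Nat.card {v : Fin n → F // Cfsg.hermForm n F q v v = 0} +
      ((q : ℤ) - 1) * Nat.card {v : Fin n → F // Cfsg.hermForm n F q v v = 1} := by
    haveI := Fintype.ofFinite (fixed σ)
    have h := Nat.card_congr (Equiv.sigmaFiberEquiv Q)
    rw [Nat.card_sigma, ← Finset.add_sum_erase _ _ (Finset.mem_univ (0 : fixed σ)),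
      Finset.sum_congr rfl fun k hk => hfib k (Finset.ne_of_mem_erase hk), Finset.sum_const,
      Finset.card_erase_of_mem (Finset.mem_univ _), Finset.card_univ, ← Nat.card_eq_fintype_card,
      hq, Nat.card_fun, Nat.card_fin, card_eq_sq hne hinv, hq, smul_eq_mul, ← pow_mul,
      Nat.card_congr (Equiv.subtypeEquivRight fun v => (Subtype.ext_iff :
        Q v = 0 ↔ Cfsg.hermForm n F q v v = ((0 : fixed σ) : F)))] at h
    have hq1 : 1 ≤ q := hq ▸ Nat.card_pos
    have := congrArg (fun m : ℕ => (m : ℤ)) h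
    push_cast [Nat.cast_sub hq1] at this
    rw [← this]
  have hZ := card_iso_mul hne hinv hσ n hq
  have hq2 : 2 ≤ q := hq ▸ Finite.one_lt_card
  have hne1 : (q : ℤ) - 1 ≠ 0 := by omega
  refine mul_left_cancel₀ hne1 ?_
  linear_combination (-(q : ℤ)) * htot - hZ

/-- Orthonormal frames. -/
def Frame {V : Type*} (h : V → V → F) (k : ℕ) : Type _ :=
  {b : Fin k → V // ∀ i j, h (b i) (b j) = if i = j then 1 else 0}

theorem card_frame_succ (n : ℕ) :
    Nat.card (Frame (Cfsg.hermForm (n + 1) F q) (n + 1)) =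
      Nat.card {v : Fin (n + 1) → F // Cfsg.hermForm (n + 1) F q v v = 1} *
        Nat.card (Frame (Cfsg.hermForm n F q) n) := by
  classical
  have hh := isHerm_std hne hinv hσ (n + 1)
  set h := Cfsg.hermForm (n + 1) F q with hdef
  let e : Frame h (n + 1) ≃
      Σ v : {v : Fin (n + 1) → F // h v v = 1},
        Frame (fun a b : hh.orth (fun _ : Fin 1 => v.1) => h a.1 b.1) n :=
    { toFun := fun b => ⟨⟨b.1 0, by rw [b.2, if_pos rfl]⟩,
        fun i => ⟨b.1 i.succ, hh.mem_orth.2 fun _ => by rw [b.2, if_neg (Fin.succ_ne_zero i)]⟩,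
        fun i j => by simpa using b.2 i.succ j.succ⟩
      invFun := fun x => ⟨Fin.cons x.1.1 fun i => (x.2.1 i).1, fun i j => by
        have hp : ∀ k, h (x.2.1 k).1 x.1.1 = 0 := fun k => hh.mem_orth.1 (x.2.1 k).2 0
        induction i using Fin.cases <;> induction j using Fin.cases
        · simp [x.1.2]
        · rename_i j; simp [hh.eq_zero_comm.1 (hp j), (Fin.succ_ne_zero j).symm]
        · rename_i i; simp [hp i, Fin.succ_ne_zero i]
        · rename_i i j; simpa using x.2.2 i j⟩
      left_inv := fun b => Subtype.ext (funext fun i => by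
        induction i using Fin.cases <;> simp)
      right_inv := fun x => by
        rcases x with ⟨⟨v, hv⟩, ⟨f, hf⟩⟩
        rfl }
  have hfib : ∀ v : {v : Fin (n + 1) → F // h v v = 1},
      Nat.card (Frame (fun a b : hh.orth (fun _ : Fin 1 => v.1) => h a.1 b.1) n) =
        Nat.card (Frame (Cfsg.hermForm n F q) n) := by
    intro v
    obtain ⟨hdim, hW, -⟩ := hh.orth_spec (x := fun _ : Fin 1 => v.1)
      (hh.orthonormal_gram (fun i j => by rw [Subsingleton.elim i j, v.2]; simp))
    rw [Module.finrank_fintype_fun_eq_card, Fintype.card_fin, Fintype.card_fin] at hdim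
    obtain ⟨c, hc⟩ := exists_orthonormal (n := n) hW (by omega)
    have hli := hW.linearIndependent_of_gram (hW.orthonormal_gram hc)
    let B := Module.Basis.mk hli (by
      rw [hli.span_eq_top_of_card_eq_finrank' (by rw [Fintype.card_fin]; omega)])
    let ψ : (Fin n → F) ≃ₗ[F] hh.orth (fun _ : Fin 1 => v.1) := B.equivFun.symm
    have hψ : ∀ a b, h (ψ a).1 (ψ b).1 = Cfsg.hermForm n F q a b := by
      intro a b
      show h (B.equivFun.symm a).1 (B.equivFun.symm b).1 = _
      rw [Module.Basis.equivFun_symm_apply, Module.Basis.equivFun_symm_apply]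
      simp only [Submodule.coe_sum, Submodule.coe_smul, B, Module.Basis.coe_mk]
      rw [hh.sum_left]
      refine Finset.sum_congr rfl fun i _ => ?_
      rw [hh.smul_left, hh.symm, hh.sum_left, map_sum, Finset.sum_eq_single i, hh.smul_left, map_mul,
        ← hh.symm, hc, if_pos rfl, mul_one, hσ]
      · intro j _ hj
        rw [hh.smul_left, map_mul, ← hh.symm, hc, if_neg (Ne.symm hj), mul_zero]
      · intro hi; exact absurd (Finset.mem_univ i) hi
    refine Nat.card_congr
      { toFun := fun b => ⟨fun i => ψ.symm (b.1 i), fun i j => by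
          rw [← hψ, LinearEquiv.apply_symm_apply, LinearEquiv.apply_symm_apply]; exact b.2 i j⟩
        invFun := fun b => ⟨fun i => ψ (b.1 i), fun i j => by
          show h _ _ = _
          rw [hψ, b.2]⟩
        left_inv := fun b => Subtype.ext (funext fun i => ψ.apply_symm_apply _)
        right_inv := fun b => Subtype.ext (funext fun i => ψ.symm_apply_apply _) }
  haveI : ∀ v : {v : Fin (n + 1) → F // h v v = 1},
      Finite (Frame (fun a b : hh.orth (fun _ : Fin 1 => v.1) => h a.1 b.1) n) := fun v =>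
    Subtype.finite
  rw [Nat.card_congr e, Nat.card_sigma, Finset.sum_congr rfl fun v _ => hfib v, Finset.sum_const,
    Finset.card_univ, ← Nat.card_eq_fintype_card, smul_eq_mul]

/-- GU_n corresponds to orthonormal frames. -/
theorem card_GU_eq_frame (n : ℕ) :
    Nat.card (Cfsg.GU n F q) = Nat.card (Frame (Cfsg.hermForm n F q) n) := by
  classical
  have hh := isHerm_std hne hinv hσ n
  have hcol : ∀ (b : Fin n → Fin n → F) (i : Fin n),
      (Matrix.of fun r c => b c r) *ᵥ Pi.single i (1 : F) = b i := fun b i => by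
    ext r; simp [Matrix.mulVec_single]
  have hlin : ∀ b : Frame (Cfsg.hermForm n F q) n,
      (Matrix.of fun r c => b.1 c r : Matrix (Fin n) (Fin n) F).det ≠ 0 := by
    intro b h0
    obtain ⟨x, hx0, hx⟩ := Matrix.exists_mulVec_eq_zero_iff.2 h0
    apply hx0
    refine funext fun i => Fintype.linearIndependent_iff.1
      (hh.linearIndependent_of_gram (hh.orthonormal_gram b.2)) x ?_ i
    rw [← hx]
    ext r
    simp [Matrix.mulVec, dotProduct, mul_comm]
  have hpres : ∀ b : Frame (Cfsg.hermForm n F q) n,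
      GeneralLinearGroup.mkOfDetNeZero _ (hlin b) ∈ Cfsg.GU n F q := by
    intro b u v
    show Cfsg.hermForm n F q ((Matrix.of fun r c => b.1 c r) *ᵥ u)
      ((Matrix.of fun r c => b.1 c r) *ᵥ v) = _
    have key : ∀ w : Fin n → F, (Matrix.of fun r c => b.1 c r) *ᵥ w = ∑ i, w i • b.1 i := fun w => by
      ext r; simp [Matrix.mulVec, dotProduct, mul_comm]
    have key' : ∀ w : Fin n → F, w = ∑ i, w i • (Pi.single i 1 : Fin n → F) := fun w =>
      pi_eq_sum_univ' w
    rw [key, key]
    conv_rhs => rw [key' u, key' v]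
    exact hh.map_sum_eq (fun i j => by rw [b.2, hermForm_single hσ]) _ _
  refine Nat.card_congr
    { toFun := fun g => ⟨fun i => g.1.1 *ᵥ Pi.single i 1, fun i j =>
        (g.2 (Pi.single i 1) (Pi.single j 1)).trans (hermForm_single hσ i j)⟩
      invFun := fun b => ⟨_, hpres b⟩
      left_inv := fun g => Subtype.ext (Units.ext (Matrix.ext_of_mulVec_single fun i => hcol _ i))
      right_inv := fun b => Subtype.ext (funext fun i => hcol b.1 i) }

theorem card_GU (n : ℕ) (hq : Nat.card (fixed σ) = q) :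
    Nat.card (Cfsg.GU n F q) = q ^ (n * (n - 1) / 2) *
      ∏ i ∈ Finset.range n, (if Even i then q ^ (i + 1) + 1 else q ^ (i + 1) - 1) := by
  classical
  rw [card_GU_eq_frame hne hinv hσ n]
  have hq2 : 2 ≤ q := hq ▸ Finite.one_lt_card
  have hN : ∀ i : ℕ, Nat.card {v : Fin (i + 1) → F // Cfsg.hermForm (i + 1) F q v v = 1} =
      q ^ i * (if Even i then q ^ (i + 1) + 1 else q ^ (i + 1) - 1) := by
    intro i
    have h := card_norm_mul hne hinv hσ (i + 1) hq
    have hpos : 1 ≤ q ^ (i + 1) := Nat.one_le_pow _ _ (by omega)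
    apply Nat.cast_injective (R := ℤ)
    refine mul_left_cancel₀ (show (q : ℤ) ≠ 0 by omega) (h.trans ?_)
    split_ifs with he
    · push_cast
      rw [pow_succ (-1 : ℤ) i, he.neg_one_pow]; ring
    · push_cast [Nat.cast_sub hpos]
      rw [pow_succ (-1 : ℤ) i, (Nat.not_even_iff_odd.1 he).neg_one_pow]; ring
  have hprod : Nat.card (Frame (Cfsg.hermForm n F q) n) =
      ∏ i ∈ Finset.range n, q ^ i * (if Even i then q ^ (i + 1) + 1 else q ^ (i + 1) - 1) := by
    induction n with
    | zero =>
      rw [Finset.prod_range_zero]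
      exact Nat.card_eq_one_iff_exists.2 ⟨⟨Fin.elim0, fun i => i.elim0⟩,
        fun a => Subtype.ext (Subsingleton.elim _ _)⟩
    | succ n ih =>
      rw [card_frame_succ hne hinv hσ n, ih, hN, Finset.prod_range_succ]; ring
  rw [hprod, Finset.prod_mul_distrib, Finset.prod_pow_eq_pow_sum, Finset.sum_range_id]

end

end Cfsg.Agent.HermStd
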