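/-
Determinant, centre and orders of SU_n and PSU_n.
-/
import Cfsg.Agent.Lib.Classical.HermStd
import Cfsg.Agent.Lib.Classical.SL

set_option autoImplicit false

namespace Cfsg.Agent.HermSU

open Matrix Hermitian HermStd

variable {F : Type*} [Field F] [Fintype F] {q n : ℕ} {σ : F →+* F}
variable (hne : σ ≠ RingHom.id F) (hinv : ∀ a, σ (σ a) = a) (hσ : ∀ x, σ x = x ^ q)

/-- The norm-one subgroup. -/
def normOne (σ : F →+* F) : Subgroup Fˣ where
  carrier := {u | (u : F) * σ u = 1}
  one_mem' := by simp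
  mul_mem' {a b} ha hb := by
    show ((a * b : Fˣ) : F) * σ ((a * b : Fˣ) : F) = 1
    rw [Units.val_mul, map_mul, mul_mul_mul_comm, show (a : F) * σ a = 1 from ha,
      show (b : F) * σ b = 1 from hb, one_mul]
  inv_mem' {a} ha := by
    show ((a⁻¹ : Fˣ) : F) * σ ((a⁻¹ : Fˣ) : F) = 1
    rw [Units.val_inv_eq_inv_val, map_inv₀, ← mul_inv, show (a : F) * σ a = 1 from ha, inv_one]

include hne hinv hσ

omit hσ in
theorem card_normOne (hq : Nat.card (fixed σ) = q) : Nat.card (normOne σ) = q + 1 := by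
  rw [← hq, ← card_norm_fibre hne hinv (map_one σ) one_ne_zero]
  exact Nat.card_congr
    { toFun := fun u => ⟨(u.1 : F), u.2⟩
      invFun := fun a => ⟨Units.mk0 a.1 (fun h => by simpa [h] using a.2), a.2⟩
      left_inv := fun u => Subtype.ext (Units.ext rfl)
      right_inv := fun a => rfl }

omit hne hinv [Fintype F] in
theorem mem_GU_iff (g : GL (Fin n) F) :
    g ∈ Cfsg.GU n F q ↔ g.1ᵀ * g.1.map σ = 1 := by
  constructor
  · intro h
    ext i j
    have e := (h (Pi.single i 1) (Pi.single j 1)).trans (hermForm_single hσ i j)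
    change Cfsg.hermForm n F q (g.1 *ᵥ Pi.single i 1) (g.1 *ᵥ Pi.single j 1) = _ at e
    rw [Matrix.mulVec_single_one, Matrix.mulVec_single_one] at e
    rw [Matrix.one_apply, ← e]
    simp [Matrix.mul_apply, Cfsg.hermForm, hσ]
  · intro h u v
    show Cfsg.hermForm n F q (g.1 *ᵥ u) (g.1 *ᵥ v) = _
    have key : ∀ a b : Fin n → F, Cfsg.hermForm n F q a b = a ⬝ᵥ (σ ∘ b) := fun a b => by
      simp [Cfsg.hermForm, dotProduct, hσ]
    rw [key, key, show (σ ∘ (g.1 *ᵥ v)) = g.1.map σ *ᵥ (σ ∘ v) from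
      funext fun i => RingHom.map_mulVec σ g.1 v i, ← Matrix.vecMul_transpose g.1 u,
      ← dotProduct_mulVec, Matrix.mulVec_mulVec, h, one_mulVec]

omit hne hinv [Fintype F] in
theorem det_mem_normOne {g : GL (Fin n) F} (hg : g ∈ Cfsg.GU n F q) :
    GeneralLinearGroup.det g ∈ normOne σ := by
  have h := congrArg Matrix.det ((mem_GU_iff hσ g).1 hg)
  rw [det_mul, det_transpose, det_one] at h
  show g.1.det * σ g.1.det = 1
  rwa [RingHom.map_det σ g.1]

omit hne hinv [Fintype F] in
theorem diag_mem_GU {d : Fin n → Fˣ} (hd : ∀ i, d i ∈ normOne σ) :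
    Units.map (Matrix.diagonalRingHom (Fin n) F).toMonoidHom (MulEquiv.piUnits.symm d) ∈
      Cfsg.GU n F q := by
  rw [mem_GU_iff hσ]
  show (Matrix.diagonal fun i => (d i : F))ᵀ * (Matrix.diagonal fun i => (d i : F)).map σ = 1
  rw [Matrix.diagonal_transpose, Matrix.diagonal_map (map_zero σ), Matrix.diagonal_mul_diagonal]
  rw [← Matrix.diagonal_one]
  congr 1
  funext i
  exact hd i

/-- The determinant of GU. -/
def detHom : Cfsg.GU n F q →* normOne σ :=
  ((GeneralLinearGroup.det).comp (Cfsg.GU n F q).subtype).codRestrict _ fun g =>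
    det_mem_normOne hσ g.2

omit hne hinv [Fintype F] in
theorem detHom_surjective (hn : 1 ≤ n) : Function.Surjective (detHom (n := n) hσ) := by
  intro u
  haveI : NeZero n := ⟨by omega⟩
  refine ⟨⟨_, diag_mem_GU hσ (d := Function.update (1 : Fin n → Fˣ) (0 : Fin n) u.1) fun i => ?_⟩,
    Subtype.ext (Units.ext ?_)⟩
  · by_cases h : i = 0
    · subst h; simpa using u.2
    · simpa [h] using (normOne σ).one_mem
  · show (Matrix.diagonal fun i => ((Function.update (1 : Fin n → Fˣ) (0 : Fin n) u.1 i : Fˣ) : F)).det = _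
    rw [Matrix.det_diagonal, Finset.prod_eq_single (0 : Fin n) (fun i _ hi => by simp [hi])
      (fun h => absurd (Finset.mem_univ _) h), Function.update_self]

omit hne hinv hσ [Fintype F] in
theorem toGL_mem_GU (A : Cfsg.SU n F q) : SpecialLinearGroup.toGL A.1 ∈ Cfsg.GU n F q :=
  fun u v => A.2 u v

theorem card_SU_mul (hn : 1 ≤ n) (hq : Nat.card (fixed σ) = q) :
    (q + 1) * Nat.card (Cfsg.SU n F q) = Nat.card (Cfsg.GU n F q) := by
  have h := Subgroup.card_mul_index (detHom (n := n) hσ).ker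
  rw [Subgroup.index_ker, MonoidHom.range_eq_top.2 (detHom_surjective hσ hn), Subgroup.card_top,
    card_normOne hne hinv hq] at h
  let e : Cfsg.SU n F q ≃ (detHom (n := n) hσ).ker :=
    { toFun := fun A => ⟨⟨SpecialLinearGroup.toGL A.1, toGL_mem_GU A⟩,
        Subtype.ext (Units.ext A.1.2)⟩
      invFun := fun g => ⟨⟨g.1.1.1, congrArg (fun u : normOne σ => ((u : Fˣ) : F)) g.2⟩,
        fun u v => g.1.2 u v⟩
      left_inv := fun A => rfl
      right_inv := fun g => Subtype.ext (Subtype.ext (Units.ext rfl)) }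
  rw [Nat.card_congr e, mul_comm, h]

omit hne hinv [Fintype F] in
theorem mem_SU_iff (A : SpecialLinearGroup (Fin n) F) :
    A ∈ Cfsg.SU n F q ↔ A.1ᵀ * A.1.map σ = 1 :=
  mem_GU_iff hσ (SpecialLinearGroup.toGL A)

omit [Fintype F] hne hinv in
theorem diag_mem_SU {d : Fin n → F} (hd : ∀ i, d i * σ (d i) = 1) (hp : ∏ i, d i = 1) :
    (⟨Matrix.diagonal d, by rw [det_diagonal, hp]⟩ : SpecialLinearGroup (Fin n) F) ∈
      Cfsg.SU n F q := by
  refine (mem_SU_iff hσ _).2 ?_
  show (Matrix.diagonal d)ᵀ * (Matrix.diagonal d).map σ = 1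
  rw [Matrix.diagonal_transpose, Matrix.diagonal_map (map_zero σ), Matrix.diagonal_mul_diagonal,
    ← Matrix.diagonal_one]
  exact congrArg _ (funext hd)

omit hne hinv [Fintype F] in
/-- A signed transposition. -/
theorem exists_swap_mem_SU {i j : Fin n} (hij : i ≠ j) :
    ∃ P ∈ Cfsg.SU n F q, ∀ v : Fin n → F,
      P.1 *ᵥ v = Function.update (Function.update v i (-v j)) j (v i) := by
  let M : Matrix (Fin n) (Fin n) F :=
    Matrix.transvection i j (-1) * Matrix.transvection j i 1 * Matrix.transvection i j (-1)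
  have hdet : M.det = 1 := by
    simp [M, det_transvection_of_ne, hij, hij.symm]
  have hact : ∀ v : Fin n → F,
      M *ᵥ v = Function.update (Function.update v i (-v j)) j (v i) := by
    intro v
    ext k
    simp only [M, ← Matrix.mulVec_mulVec, Matrix.transvection, Matrix.add_mulVec, one_mulVec,
      Matrix.single_mulVec, Pi.add_apply]
    rcases eq_or_ne k j with rfl | hkj
    · simp [hij, hij.symm]
    rcases eq_or_ne k i with rfl | hki
    · simp [hij, hij.symm]
    simp [hkj, hki]
  refine ⟨⟨M, hdet⟩, fun u v => ?_, hact⟩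
  show Cfsg.hermForm n F q (M *ᵥ u) (M *ᵥ v) = _
  rw [hact, hact, Cfsg.hermForm, Cfsg.hermForm]
  simp only [← hσ]
  rw [← Finset.sum_erase_add _ _ (Finset.mem_univ i), ← Finset.sum_erase_add _ _
    (Finset.mem_erase.2 ⟨hij.symm, Finset.mem_univ j⟩)]
  conv_rhs => rw [← Finset.sum_erase_add _ _ (Finset.mem_univ i), ← Finset.sum_erase_add _ _
    (Finset.mem_erase.2 ⟨hij.symm, Finset.mem_univ j⟩)]
  rw [Finset.sum_congr rfl fun k hk => by
    obtain ⟨hkj, hk'⟩ := Finset.mem_erase.1 hk
    obtain ⟨hki, -⟩ := Finset.mem_erase.1 hk'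
    rw [Function.update_of_ne hkj, Function.update_of_ne hki, Function.update_of_ne hkj,
      Function.update_of_ne hki]]
  simp [hij, hij.symm, map_neg]
  ring

/-- A matrix commuting with all of SU is scalar. -/
theorem scalar_of_commute (hn : 2 ≤ n) (hq : Nat.card (fixed σ) = q)
    (M : Matrix (Fin n) (Fin n) F) (hM : ∀ A ∈ Cfsg.SU n F q, M * A.1 = A.1 * M) :
    ∃ c : F, M = Matrix.diagonal fun _ => c := by
  classical
  have hq2 : 2 ≤ q := hq ▸ Finite.one_lt_card
  obtain ⟨a, ha, ha2⟩ : ∃ a : F, a * σ a = 1 ∧ a * a ≠ 1 := by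
    by_contra! hall
    haveI := Fintype.ofFinite {a : F // a * σ a = 1}
    have h := card_norm_fibre hne hinv (map_one σ) one_ne_zero
    rw [hq] at h
    have hle : Nat.card {a : F // a * σ a = 1} ≤ Nat.card ({1, -1} : Set F) :=
      Nat.card_le_card_of_injective
        (fun a => ⟨a.1, by simpa using mul_self_eq_one_iff.1 (hall a.1 a.2)⟩)
        (fun a b e => Subtype.ext (by simpa using e))
    have h2 : Nat.card ({1, -1} : Set F) ≤ 2 := by
      rw [Nat.card_coe_set_eq]
      exact (Set.ncard_insert_le _ _).trans (by simp)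
    omega
  have ha0 : a ≠ 0 := fun h => by simp [h] at ha
  have hoff : ∀ i j, i ≠ j → M i j = 0 := by
    intro i j hij
    let d : Fin n → F := Function.update (Function.update 1 i a) j a⁻¹
    have hd : ∀ k, d k * σ (d k) = 1 := fun k => by
      rcases eq_or_ne k j with rfl | hkj
      · simp [d, ← mul_inv, ha]
      rcases eq_or_ne k i with rfl | hki
      · simp [d, hkj, ha]
      · simp [d, hkj, hki]
    have hp : ∏ k, d k = 1 := by
      simp only [d, Finset.prod_update_of_mem (Finset.mem_univ _)]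
      rw [Finset.prod_update_of_mem (Finset.mem_sdiff.2 ⟨Finset.mem_univ _, by simpa using hij⟩)]
      simp [ha0]
    have h := congrFun (congrFun (hM _ (diag_mem_SU hσ hd hp)) i) j
    simp only [Matrix.mul_diagonal, Matrix.diagonal_mul, d, Function.update_self,
      Function.update_of_ne hij] at h
    have : M i j * (a⁻¹ - a) = 0 := by rw [mul_sub, h]; ring
    refine (mul_eq_zero.1 this).resolve_right fun e => ha2 ?_
    have e' := sub_eq_zero.1 e
    nth_rewrite 1 [← e']
    exact inv_mul_cancel₀ ha0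
  haveI : NeZero n := ⟨by omega⟩
  refine ⟨M 0 0, ?_⟩
  ext i j
  rcases eq_or_ne i j with rfl | hij
  · rw [Matrix.diagonal_apply_eq]
    rcases eq_or_ne i 0 with rfl | hi
    · rfl
    obtain ⟨P, hP, hact⟩ := exists_swap_mem_SU hσ hi
    have h : ((M * P.1) *ᵥ Pi.single (0 : Fin n) (1 : F)) i =
        ((P.1 * M) *ᵥ Pi.single (0 : Fin n) (1 : F)) i := by rw [hM P hP]
    rw [← Matrix.mulVec_mulVec, ← Matrix.mulVec_mulVec, hact, hact] at h
    have hs : Function.update (Function.update (Pi.single (0 : Fin n) (1 : F) : Fin n → F) i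
        (-(Pi.single (0 : Fin n) (1 : F) : Fin n → F) 0)) 0
          ((Pi.single (0 : Fin n) (1 : F) : Fin n → F) i) = (Pi.single i (-1) : Fin n → F) := by
      funext k
      rcases eq_or_ne k 0 with rfl | hk
      · simp [hi, Ne.symm hi]
      rcases eq_or_ne k i with rfl | hki
      · simp [hk]
      · simp [hk, hki]
    rw [hs] at h
    simp [Matrix.mulVec_single, hi, Ne.symm hi] at h
    linear_combination h
  · rw [Matrix.diagonal_apply_ne _ hij, hoff i j hij]

theorem card_center_SU (hn : 2 ≤ n) (hq : Nat.card (fixed σ) = q) :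
    Nat.card (Subgroup.center (Cfsg.SU n F q)) = Nat.gcd n (q + 1) := by
  classical
  haveI : NeZero n := ⟨by omega⟩
  set d := Nat.gcd n (q + 1)
  have hnorm : ∀ c : F, c * σ c = c ^ (q + 1) := fun c => by rw [hσ, pow_succ']
  let e : Subgroup.center (Cfsg.SU n F q) ≃ {u : Fˣ // u ^ d = 1} :=
    { toFun := fun A => ⟨Units.mk0 (A.1.1.1 0 0) (by
          obtain ⟨c, hc⟩ := scalar_of_commute hne hinv hσ hn hq A.1.1.1 fun B hB =>
            congrArg (fun X : Cfsg.SU n F q => X.1.1) (Subgroup.mem_center_iff.1 A.2 ⟨B, hB⟩).symm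
          have hd := A.1.1.2
          rw [hc, Matrix.det_diagonal, Finset.prod_const, Finset.card_univ, Fintype.card_fin] at hd
          intro h0
          rw [hc, Matrix.diagonal_apply_eq] at h0
          rw [h0, zero_pow (NeZero.ne n)] at hd
          exact zero_ne_one hd), by
          obtain ⟨c, hc⟩ := scalar_of_commute hne hinv hσ hn hq A.1.1.1 fun B hB =>
            congrArg (fun X : Cfsg.SU n F q => X.1.1) (Subgroup.mem_center_iff.1 A.2 ⟨B, hB⟩).symm
          have hd := A.1.1.2
          rw [hc, Matrix.det_diagonal, Finset.prod_const, Finset.card_univ, Fintype.card_fin] at hd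
          have hu := congrFun (congrFun ((mem_SU_iff hσ A.1.1).1 A.1.2) 0) 0
          rw [hc, Matrix.diagonal_transpose, Matrix.diagonal_map (map_zero σ),
            Matrix.diagonal_mul_diagonal, Matrix.diagonal_apply_eq, Matrix.one_apply_eq, hnorm] at hu
          apply Units.ext
          simp only [Units.val_pow_eq_pow_val, Units.val_mk0, Units.val_one, hc,
            Matrix.diagonal_apply_eq]
          exact pow_gcd_eq_one.2 ⟨hd, hu⟩⟩
      invFun := fun u => ⟨⟨⟨Matrix.diagonal fun _ => (u.1 : F), by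
          rw [Matrix.det_diagonal, Finset.prod_const, Finset.card_univ, Fintype.card_fin]
          obtain ⟨k, hk⟩ : d ∣ n := Nat.gcd_dvd_left _ _
          rw [hk, pow_mul, ← Units.val_pow_eq_pow_val, u.2, Units.val_one, one_pow]⟩, by
          refine (mem_SU_iff hσ _).2 ?_
          show (Matrix.diagonal fun _ => (u.1 : F))ᵀ * (Matrix.diagonal fun _ => (u.1 : F)).map σ = 1
          rw [Matrix.diagonal_transpose, Matrix.diagonal_map (map_zero σ),
            Matrix.diagonal_mul_diagonal, ← Matrix.diagonal_one]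
          congr 1
          funext _
          obtain ⟨k, hk⟩ : d ∣ q + 1 := Nat.gcd_dvd_right _ _
          rw [hnorm, hk, pow_mul, ← Units.val_pow_eq_pow_val, u.2, Units.val_one, one_pow]⟩, by
          refine Subgroup.mem_center_iff.2 fun B => Subtype.ext (Subtype.ext ?_)
          show B.1.1 * Matrix.diagonal _ = Matrix.diagonal _ * B.1.1
          ext i j
          simp [mul_comm]⟩
      left_inv := fun A => by
        obtain ⟨c, hc⟩ := scalar_of_commute hne hinv hσ hn hq A.1.1.1 fun B hB =>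
          congrArg (fun X : Cfsg.SU n F q => X.1.1) (Subgroup.mem_center_iff.1 A.2 ⟨B, hB⟩).symm
        refine Subtype.ext (Subtype.ext (Subtype.ext ?_))
        show (Matrix.diagonal fun _ => A.1.1.1 0 0) = A.1.1.1
        rw [hc]; simp
      right_inv := fun u => Subtype.ext (Units.ext (by simp)) }
  rw [Nat.card_congr e]
  show Nat.card {u : Fˣ // (powMonoidHom d : Fˣ →* Fˣ) u = 1} = d
  rw [show Nat.card {u : Fˣ // (powMonoidHom d : Fˣ →* Fˣ) u = 1} =
    Nat.card (powMonoidHom d : Fˣ →* Fˣ).ker from rfl, IsCyclic.card_powMonoidHom_ker,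
    Nat.card_units, card_eq_sq hne hinv, hq]
  refine Nat.gcd_eq_right ((Nat.gcd_dvd_right n (q + 1)).trans ⟨q - 1, ?_⟩)
  simpa using Nat.sq_sub_sq q 1

theorem card_PSU_mul (hn : 2 ≤ n) (hq : Nat.card (fixed σ) = q) :
    Nat.gcd n (q + 1) * ((q + 1) * Nat.card (Cfsg.PSU n F q)) = Nat.card (Cfsg.GU n F q) := by
  rw [← card_SU_mul hne hinv hσ (by omega) hq,
    ← Subgroup.card_mul_index (Subgroup.center (Cfsg.SU n F q)), card_center_SU hne hinv hσ hn hq,
    Subgroup.index_eq_card]
  ring

end Cfsg.Agent.HermSU
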