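/-
The symplectic matrix groups: transfer of the results about alternating forms.
-/
import Mathlib.LinearAlgebra.SymplecticGroup
import Mathlib.LinearAlgebra.Matrix.BilinearForm
import Cfsg.Prelude.Def_ClassicalGeometry
import Cfsg.Agent.Lib.Classical.AlternatingForm

set_option autoImplicit false

namespace Cfsg.Agent.ClassicalSp

open Matrix
open LinearMap (BilinForm)

section ring

variable {m : ℕ} {R : Type*} [CommRing R]

theorem sympForm_eq (u v : Fin m ⊕ Fin m → R) :
    Cfsg.sympForm m R u v = u ⬝ᵥ (J (Fin m) R *ᵥ v) := rfl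

theorem sympForm_mulVec (A : Matrix (Fin m ⊕ Fin m) (Fin m ⊕ Fin m) R)
    (u v : Fin m ⊕ Fin m → R) :
    Cfsg.sympForm m R (A *ᵥ u) (A *ᵥ v) = u ⬝ᵥ ((Aᵀ * J (Fin m) R * A) *ᵥ v) := by
  rw [sympForm_eq, ← mulVec_mulVec, ← mulVec_mulVec, dotProduct_mulVec u, vecMul_transpose]

theorem mem_iff_preserves (A : Matrix (Fin m ⊕ Fin m) (Fin m ⊕ Fin m) R) :
    A ∈ symplecticGroup (Fin m) R ↔
      ∀ u v, Cfsg.sympForm m R (A *ᵥ u) (A *ᵥ v) = Cfsg.sympForm m R u v := by
  rw [SymplecticGroup.mem_iff']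
  constructor
  · intro h u v
    rw [sympForm_mulVec, h, sympForm_eq]
  · intro h
    ext i j
    have := h (Pi.single i 1) (Pi.single j 1)
    rw [sympForm_mulVec, sympForm_eq] at this
    simpa using this

theorem sympTransvection_mulVec (v : Fin m ⊕ Fin m → R) (c : R) (x : Fin m ⊕ Fin m → R) :
    Cfsg.sympTransvection m v c *ᵥ x = x + (c * Cfsg.sympForm m R x v) • v := by
  simp [Cfsg.sympTransvection, add_mulVec, smul_mulVec, vecMulVec_mulVec, sympForm_eq,
    dotProduct_comm x, mul_smul]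

end ring

variable (m : ℕ) (F : Type*) [Field F]

/-- The form `sympForm` as a bilinear form. -/
noncomputable def spBilin : BilinForm F (Fin m ⊕ Fin m → F) := Matrix.toBilin' (J (Fin m) F)

variable {m F}

theorem spBilin_apply (u v : Fin m ⊕ Fin m → F) :
    spBilin m F u v = Cfsg.sympForm m F u v := Matrix.toBilin'_apply' _ _ _

theorem spBilin_isAlt : (spBilin m F).IsAlt := by
  intro x
  rw [spBilin_apply, sympForm_eq, J, fromBlocks_mulVec, dotProduct, Fintype.sum_sum_type]
  simp [Matrix.neg_mulVec, mul_comm]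

theorem spBilin_nondeg : (spBilin m F).Nondegenerate :=
  LinearMap.BilinForm.nondegenerate_toBilin'_iff_det_ne_zero.2 (isUnit_det_J (Fin m) F).ne_zero

theorem finrank_space : Module.finrank F (Fin m ⊕ Fin m → F) = 2 * m := by
  simp [two_mul]

/-- A symplectic matrix as a linear automorphism. -/
def toEquiv : symplecticGroup (Fin m) F →*
    ((Fin m ⊕ Fin m → F) ≃ₗ[F] (Fin m ⊕ Fin m → F)) where
  toFun A :=
    { Matrix.mulVecLin (A : Matrix (Fin m ⊕ Fin m) (Fin m ⊕ Fin m) F) with
      invFun := fun x => ((A⁻¹ : symplecticGroup (Fin m) F) :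
        Matrix (Fin m ⊕ Fin m) (Fin m ⊕ Fin m) F) *ᵥ x
      left_inv := fun x => by
        show (A⁻¹ : symplecticGroup (Fin m) F).1 *ᵥ (A.1 *ᵥ x) = x
        rw [mulVec_mulVec, ← Submonoid.coe_mul, inv_mul_cancel, Submonoid.coe_one, one_mulVec]
      right_inv := fun x => by
        show A.1 *ᵥ ((A⁻¹ : symplecticGroup (Fin m) F).1 *ᵥ x) = x
        rw [mulVec_mulVec, ← Submonoid.coe_mul, mul_inv_cancel, Submonoid.coe_one, one_mulVec] }
  map_one' := by ext x : 1; exact one_mulVec _
  map_mul' A B := by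
    refine LinearEquiv.ext fun x => ?_
    show (A * B).1 *ᵥ x = A.1 *ᵥ (B.1 *ᵥ x)
    rw [mulVec_mulVec, Submonoid.coe_mul]

@[simp] theorem toEquiv_apply (A : symplecticGroup (Fin m) F) (x : Fin m ⊕ Fin m → F) :
    toEquiv A x = (A : Matrix (Fin m ⊕ Fin m) (Fin m ⊕ Fin m) F) *ᵥ x := rfl

theorem toEquiv_injective : Function.Injective (toEquiv (m := m) (F := F)) := fun A B h =>
  Subtype.ext (Matrix.toLin'.injective (LinearMap.ext fun x => LinearEquiv.congr_fun h x))

theorem toEquiv_mem (A : symplecticGroup (Fin m) F) :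
    toEquiv A ∈ AltForm.isoGroup (spBilin m F) := fun u v => by
  simpa [spBilin_apply] using (mem_iff_preserves A.1).1 A.2 u v

theorem toEquiv_surj {g : (Fin m ⊕ Fin m → F) ≃ₗ[F] (Fin m ⊕ Fin m → F)}
    (hg : g ∈ AltForm.isoGroup (spBilin m F)) :
    ∃ A : symplecticGroup (Fin m) F, toEquiv A = g := by
  refine ⟨⟨LinearMap.toMatrix' g.toLinearMap, (mem_iff_preserves _).2 fun u v => ?_⟩,
    LinearEquiv.ext fun x => ?_⟩
  · simpa [spBilin_apply, ← Matrix.toLin'_apply] using hg u v
  · simp [← Matrix.toLin'_apply]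

/-- `Sp_2m(F)` is the isometry group of `spBilin`. -/
noncomputable def spEquiv :
    symplecticGroup (Fin m) F ≃* AltForm.isoGroup (spBilin m F) :=
  MulEquiv.ofBijective (toEquiv.codRestrict _ toEquiv_mem)
    ⟨fun _ _ h => toEquiv_injective (congrArg Subtype.val h),
      fun g => (toEquiv_surj g.2).imp fun _ hA => Subtype.ext hA⟩

@[simp] theorem spEquiv_apply (A : symplecticGroup (Fin m) F) (x : Fin m ⊕ Fin m → F) :
    (spEquiv A).1 x = (A : Matrix (Fin m ⊕ Fin m) (Fin m ⊕ Fin m) F) *ᵥ x := rfl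

theorem toEquiv_eq_transv {A : symplecticGroup (Fin m) F} {w : Fin m ⊕ Fin m → F} {c : F}
    (hA : (A : Matrix (Fin m ⊕ Fin m) (Fin m ⊕ Fin m) F) = Cfsg.sympTransvection m w c) :
    toEquiv A = AltForm.transv spBilin_isAlt w c :=
  LinearEquiv.ext fun x => by simp [hA, sympTransvection_mulVec, spBilin_apply]

theorem sympTransvection_mem (v : Fin m ⊕ Fin m → F) (c : F) :
    Cfsg.sympTransvection m v c ∈ symplecticGroup (Fin m) F :=
  (mem_iff_preserves _).2 fun x y => by
    have h := AltForm.transv_mem_iso (spBilin_isAlt (m := m) (F := F)) v c x y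
    simp only [sympTransvection_mulVec, ← spBilin_apply]
    simpa only [AltForm.transv_apply] using h

/-- The transvections in the matrix group. -/
def transvections (m : ℕ) (F : Type*) [Field F] : Set (symplecticGroup (Fin m) F) :=
  {A | ∃ (w : Fin m ⊕ Fin m → F) (c : F),
    (A : Matrix (Fin m ⊕ Fin m) (Fin m ⊕ Fin m) F) = Cfsg.sympTransvection m w c}

theorem closure_transvections : Subgroup.closure (transvections m F) = ⊤ := by
  apply Subgroup.map_injective toEquiv_injective
  rw [MonoidHom.map_closure, ← MonoidHom.range_eq_map]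
  refine le_antisymm ?_ ?_
  · rw [Subgroup.closure_le]
    rintro _ ⟨A, -, rfl⟩
    exact ⟨A, rfl⟩
  · rintro _ ⟨A, rfl⟩
    have := toEquiv_mem A
    rw [AltForm.isoGroup_eq_transvGroup spBilin_isAlt spBilin_nondeg] at this
    refine (Subgroup.closure_mono ?_) this
    rintro t ⟨w, c, ht⟩
    refine ⟨⟨_, sympTransvection_mem w c⟩, ⟨w, c, rfl⟩, LinearEquiv.ext fun x => ?_⟩
    simp [ht, sympTransvection_mulVec, spBilin_apply]

theorem exists_pair_map {u v u' v' : Fin m ⊕ Fin m → F} (h : Cfsg.sympForm m F u v = 1)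
    (h' : Cfsg.sympForm m F u' v' = 1) :
    ∃ A : symplecticGroup (Fin m) F,
      (A : Matrix (Fin m ⊕ Fin m) (Fin m ⊕ Fin m) F) *ᵥ u = u' ∧
      (A : Matrix (Fin m ⊕ Fin m) (Fin m ⊕ Fin m) F) *ᵥ v = v' := by
  rw [← spBilin_apply] at h h'
  obtain ⟨g, hg, h1, h2⟩ := AltForm.exists_pair_map spBilin_isAlt spBilin_nondeg h h'
  obtain ⟨A, rfl⟩ := toEquiv_surj (AltForm.transvGroup_le spBilin_isAlt hg)
  exact ⟨A, h1, h2⟩

theorem exists_map_vec {u v : Fin m ⊕ Fin m → F} (hu : u ≠ 0) (hv : v ≠ 0) :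
    ∃ A : symplecticGroup (Fin m) F,
      (A : Matrix (Fin m ⊕ Fin m) (Fin m ⊕ Fin m) F) *ᵥ u = v := by
  obtain ⟨g, hg, h1⟩ := AltForm.exists_smul_eq spBilin_isAlt spBilin_nondeg hu hv
  obtain ⟨A, rfl⟩ := toEquiv_surj (AltForm.transvGroup_le spBilin_isAlt hg)
  exact ⟨A, h1⟩

theorem card_sp [Finite F] :
    Nat.card (symplecticGroup (Fin m) F) = Nat.card F ^ (m ^ 2) *
      ∏ i ∈ Finset.range m, (Nat.card F ^ (2 * (i + 1)) - 1) := by
  rw [Nat.card_congr (spEquiv (m := m) (F := F)).toEquiv,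
    AltForm.card_isoGroup spBilin_isAlt spBilin_nondeg finrank_space]

theorem exists_sq_ne_one [Finite F] (h : 4 ≤ Nat.card F) : ∃ a : F, a ≠ 0 ∧ a ^ 2 ≠ 1 := by
  haveI := Fintype.ofFinite F
  classical
  by_contra! hno
  have : Finset.univ ⊆ ({0, 1, -1} : Finset F) := fun a _ => by
    rcases eq_or_ne a 0 with rfl | ha
    · simp
    · rcases sq_eq_one_iff.1 (hno a ha) with rfl | rfl <;> simp
  have hle := (Finset.card_le_card this).trans Finset.card_le_three
  rw [Finset.card_univ, ← Nat.card_eq_fintype_card] at hle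
  omega

theorem commutator_sp [Finite F]
    (h : 3 ≤ m ∨ (m = 2 ∧ 3 ≤ Nat.card F) ∨ 4 ≤ Nat.card F) :
    commutator (symplecticGroup (Fin m) F) = ⊤ := by
  have hc : (∃ a : F, a ≠ 0 ∧ a ^ 2 ≠ 1) ∨
      (4 ≤ Module.finrank F (Fin m ⊕ Fin m → F) ∧ (2 : F) ≠ 0) ∨
      6 ≤ Module.finrank F (Fin m ⊕ Fin m → F) := by
    rw [finrank_space]
    rcases h with h | ⟨rfl, hq⟩ | h
    · exact Or.inr (Or.inr (by omega))
    · by_cases h4 : 4 ≤ Nat.card F
      · exact Or.inl (exists_sq_ne_one h4)
      · refine Or.inr (Or.inl ⟨le_rfl, fun h2 => ?_⟩)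
        have h3 : Nat.card F = 3 := by omega
        haveI := Fintype.ofFinite F
        have hcast : ((3 : ℕ) : F) = 0 := by
          rw [← h3, Nat.card_eq_fintype_card]; exact FiniteField.cast_card_eq_zero F
        apply one_ne_zero (α := F)
        push_cast at hcast
        linear_combination hcast - h2
    · exact Or.inl (exists_sq_ne_one h)
  have := AltForm.commutator_isoGroup (spBilin_isAlt (m := m) (F := F)) spBilin_nondeg hc
  apply Subgroup.map_injective (f := (spEquiv (m := m) (F := F)).toMonoidHom)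
    (spEquiv (m := m) (F := F)).injective
  rw [map_commutator_eq, ← MonoidHom.range_eq_map,
    MonoidHom.range_eq_top.2
      (show Function.Surjective (spEquiv (m := m) (F := F)).toMonoidHom from
        (spEquiv (m := m) (F := F)).surjective)]
  exact this

theorem isSimpleGroup_psp [Finite F] (hm : 2 ≤ m) (h : m = 2 → 3 ≤ Nat.card F) :
    IsSimpleGroup (Cfsg.PSp m F) := by
  have hp : commutator (symplecticGroup (Fin m) F) = ⊤ := by
    refine commutator_sp ?_
    rcases hm.lt_or_eq with h3 | h2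
    · exact Or.inl h3
    · exact Or.inr (Or.inl ⟨h2.symm, h h2.symm⟩)
  have hp' : commutator (AltForm.isoGroup (spBilin m F)) = ⊤ := by
    have := congrArg (Subgroup.map (spEquiv (m := m) (F := F)).toMonoidHom) hp
    rwa [map_commutator_eq, ← MonoidHom.range_eq_map,
      MonoidHom.range_eq_top.2
      (show Function.Surjective (spEquiv (m := m) (F := F)).toMonoidHom from
        (spEquiv (m := m) (F := F)).surjective)] at this
  haveI : Nonempty (Fin m ⊕ Fin m) := ⟨Sum.inl ⟨0, by omega⟩⟩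
  haveI := AltForm.isSimpleGroup_quotient (spBilin_isAlt (m := m) (F := F)) spBilin_nondeg hp'
  refine MulEquiv.isSimpleGroup (H := AltForm.isoGroup (spBilin m F) ⧸ Subgroup.center (AltForm.isoGroup (spBilin m F)))
    (QuotientGroup.congr (Subgroup.center (symplecticGroup (Fin m) F))
      (Subgroup.center (AltForm.isoGroup (spBilin m F))) (spEquiv (m := m) (F := F)) ?_)
  ext y
  rw [Subgroup.mem_map]
  constructor
  · rintro ⟨x, hx, rfl⟩
    rw [Subgroup.mem_center_iff] at hx ⊢
    intro g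
    obtain ⟨g, rfl⟩ := (spEquiv (m := m) (F := F)).surjective g
    exact (map_mul _ _ _).symm.trans ((congrArg _ (hx g)).trans (map_mul _ _ _))
  · intro hy
    rw [Subgroup.mem_center_iff] at hy
    refine ⟨(spEquiv (m := m) (F := F)).symm y, Subgroup.mem_center_iff.2 fun g => ?_,
      (spEquiv (m := m) (F := F)).apply_symm_apply y⟩
    apply (spEquiv (m := m) (F := F)).injective
    simp [hy]

end Cfsg.Agent.ClassicalSp

namespace Cfsg.Agent.ClassicalSp

open Matrix

variable {m : ℕ} {F : Type*} [Field F]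

theorem isoGroup_mem_center_iff (hm : 1 ≤ m) (g : AltForm.isoGroup (spBilin m F)) :
    g ∈ Subgroup.center (AltForm.isoGroup (spBilin m F)) ↔
      (∀ x, g.1 x = x) ∨ (∀ x, g.1 x = -x) := by
  haveI : Nonempty (Fin m ⊕ Fin m) := ⟨Sum.inl ⟨0, hm⟩⟩
  have hA := spBilin_isAlt (m := m) (F := F)
  have hB := spBilin_nondeg (m := m) (F := F)
  constructor
  · intro hg
    rw [Subgroup.mem_center_iff] at hg
    obtain ⟨u, hu⟩ := exists_ne (0 : Fin m ⊕ Fin m → F)
    obtain ⟨v, huv⟩ := AltForm.exists_eq_one hB hu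
    obtain ⟨l, hl⟩ : ∃ l : F, g.1 u = l • u := by
      have := congrArg (fun k : AltForm.isoGroup (spBilin m F) => k.1 (-v))
        (hg ⟨AltForm.transv hA u 1, AltForm.transv_mem_iso hA u 1⟩)
      simp [AltForm.swap hA u v, huv] at this
      exact ⟨spBilin m F (g.1 (-v)) u, by simpa using this.symm⟩
    have hall : ∀ x, g.1 x = l • x := by
      intro x
      rcases eq_or_ne x 0 with rfl | hx
      · simp
      obtain ⟨h, hh, hhu⟩ := AltForm.exists_smul_eq hA hB hu hx
      have := congrArg (fun k : AltForm.isoGroup (spBilin m F) => k.1 u)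
        (hg ⟨h, AltForm.transvGroup_le hA hh⟩)
      simpa [hl, hhu] using this.symm
    have h2 := g.2 u v
    simp [hall, huv] at h2
    rcases mul_self_eq_one_iff.1 h2 with rfl | rfl
    · exact Or.inl (by simpa using hall)
    · exact Or.inr (by simpa using hall)
  · intro h
    refine Subgroup.mem_center_iff.2 fun k => Subtype.ext (LinearEquiv.ext fun x => ?_)
    rcases h with h | h <;> simp [h]

theorem card_center_sp [Finite F] (hm : 1 ≤ m) :
    Nat.card (Subgroup.center (symplecticGroup (Fin m) F)) = Nat.gcd 2 (Nat.card F - 1) := by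
  haveI : Nonempty (Fin m ⊕ Fin m) := ⟨Sum.inl ⟨0, hm⟩⟩
  let n1 : symplecticGroup (Fin m) F := ⟨-1, SymplecticGroup.neg_mem (one_mem _)⟩
  have hset : (Subgroup.center (symplecticGroup (Fin m) F) : Set (symplecticGroup (Fin m) F)) =
      {1, n1} := by
    ext A
    have hiff : A ∈ Subgroup.center (symplecticGroup (Fin m) F) ↔
        spEquiv A ∈ Subgroup.center (AltForm.isoGroup (spBilin m F)) := by
      simp only [Subgroup.mem_center_iff]
      constructor
      · intro h g
        obtain ⟨g, rfl⟩ := (spEquiv (m := m) (F := F)).surjective g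
        rw [← map_mul, ← map_mul, h g]
      · exact fun h g => (spEquiv (m := m) (F := F)).injective (by simp [h])
    rw [SetLike.mem_coe, hiff, isoGroup_mem_center_iff hm, Set.mem_insert_iff,
      Set.mem_singleton_iff]
    constructor
    · rintro (h | h) <;> [left; right] <;>
        exact Subtype.ext (Matrix.toLin'.injective (LinearMap.ext fun x => by
          simpa [n1, neg_mulVec] using h x))
    · rintro (rfl | rfl)
      · exact Or.inl fun x => by simp
      · exact Or.inr fun x => by simp [n1, neg_mulVec]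

  show Nat.card ((Subgroup.center (symplecticGroup (Fin m) F) : Set (symplecticGroup (Fin m) F)) :
    Type _) = _
  rw [hset, Nat.card_coe_set_eq]
  haveI := Fintype.ofFinite F
  rw [Nat.card_eq_fintype_card]
  have hpos : 1 ≤ Fintype.card F := Fintype.card_pos
  by_cases h2 : ringChar F = 2
  · have he := FiniteField.even_card_of_char_two h2
    haveI := ringChar.of_eq h2
    have hn : n1 = 1 := Subtype.ext (by
      show (-1 : Matrix (Fin m ⊕ Fin m) (Fin m ⊕ Fin m) F) = 1
      rw [← Matrix.diagonal_one, Matrix.diagonal_neg]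
      simp [CharTwo.neg_eq])
    rw [hn, Set.pair_eq_singleton, Set.ncard_singleton]
    rw [Nat.gcd_rec, show (Fintype.card F - 1) % 2 = 1 by omega]
    rfl
  · have ho := FiniteField.odd_card_of_char_ne_two h2
    rw [Set.ncard_pair fun h => ?_, Nat.gcd_rec,
      show (Fintype.card F - 1) % 2 = 0 by omega, Nat.gcd_zero_left]
    obtain ⟨i⟩ := ‹Nonempty (Fin m ⊕ Fin m)›
    have := congrArg (fun A : symplecticGroup (Fin m) F => A.1 i i) h
    simp [n1] at this
    exact Ring.neg_one_ne_one_of_char_ne_two h2 this.symm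

end Cfsg.Agent.ClassicalSp
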