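/-
Witt's lemma and hyperbolic bases for alternating forms.
-/
import Cfsg.Agent.Lib.Classical.AlternatingForm
import Mathlib.LinearAlgebra.Dual.Lemmas
import Mathlib.LinearAlgebra.Basis.VectorSpace
import Mathlib.LinearAlgebra.Dimension.OrzechProperty

set_option autoImplicit false

universe u v

namespace Cfsg.Agent.AltForm

open LinearMap (BilinForm)

variable {F : Type u} [Field F] {V : Type v} [AddCommGroup V] [Module F V] {B : BilinForm F V}

theorem exists_repr_functional [FiniteDimensional F V] (hB : B.Nondegenerate)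
    (f : V →ₗ[F] F) : ∃ y, ∀ v, B v y = f v := by
  have hinj : Function.Injective B.flip := by
    rw [← LinearMap.ker_eq_bot, LinearMap.ker_eq_bot']
    intro y hy
    exact hB.2 y fun v => by simpa using LinearMap.congr_fun hy v
  obtain ⟨y, hy⟩ := (LinearMap.injective_iff_surjective_of_finrank_eq_finrank
    Subspace.dual_finrank_eq.symm).1 hinj f
  exact ⟨y, fun v => by simpa using LinearMap.congr_fun hy v⟩

/-- Witt's lemma for alternating forms. -/
theorem witt : ∀ {V : Type v} [AddCommGroup V] [Module F V] [FiniteDimensional F V]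
    {B : BilinForm F V}, B.IsAlt → B.Nondegenerate → ∀ (X : Submodule F V) (φ : X →ₗ[F] V),
    Function.Injective φ → (∀ a b : X, B (φ a) (φ b) = B (a : V) b) →
    ∃ g ∈ isoGroup B, ∀ a : X, g a = φ a := by
  suffices H : ∀ (n : ℕ) {V : Type v} [AddCommGroup V] [Module F V] [FiniteDimensional F V]
      {B : BilinForm F V}, Module.finrank F V = n → B.IsAlt → B.Nondegenerate →
      ∀ (X : Submodule F V) (φ : X →ₗ[F] V), Function.Injective φ →
      (∀ a b : X, B (φ a) (φ b) = B (a : V) b) → ∃ g ∈ isoGroup B, ∀ a : X, g a = φ a by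
    intro V _ _ _ B hA hB
    exact H _ rfl hA hB
  intro n
  induction n using Nat.strong_induction_on with
  | _ n ih =>
  intro V _ _ _ B hn hA hB
  -- the case of a hyperbolic pair inside the domain
  have main : ∀ (X : Submodule F V) (φ : X →ₗ[F] V), Function.Injective φ →
      (∀ a b : X, B (φ a) (φ b) = B (a : V) b) → ∀ x y : X, B (x : V) y = 1 →
      ∃ g ∈ isoGroup B, ∀ a : X, g a = φ a := by
    intro X φ hinj hφ x y h
    obtain ⟨t, ht, htx, hty⟩ := exists_pair_map hA hB ((hφ x y).trans h) h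
    have htmem : t ∈ isoGroup B := transvGroup_le hA ht
    let W := pairPerp B (x : V) y
    let X' : Submodule F W := X.comap W.subtype
    have hmap : ∀ a : X', t (φ ⟨a.1.1, a.2⟩) ∈ W := by
      intro a
      obtain ⟨h1, h2⟩ := mem_pairPerp.1 a.1.2
      refine mem_pairPerp.2 ⟨?_, ?_⟩
      · rw [← htx, htmem, hφ, h1]
      · rw [← hty, htmem, hφ, h2]
    let ψ : X' →ₗ[F] W :=
      { toFun := fun a => ⟨t (φ ⟨a.1.1, a.2⟩), hmap a⟩
        map_add' := fun a b => Subtype.ext (by
          show t (φ _) = t (φ _) + t (φ _)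
          rw [← map_add, ← map_add]; rfl)
        map_smul' := fun c a => Subtype.ext (by
          show t (φ _) = c • t (φ _)
          rw [← map_smul, ← map_smul]; rfl) }
    have hψinj : Function.Injective ψ := by
      intro a b hab
      have := hinj (t.injective (congrArg Subtype.val hab))
      exact Subtype.ext (Subtype.ext (congrArg (fun z : X => (z : V)) this))
    obtain ⟨g, hg, hgψ⟩ := ih (Module.finrank F W)
      (by have := finrank_pairPerp hA h; simp only [W]; omega) rfl (restrict_isAlt hA W)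
      (restrict_nondeg hA hB h) X' ψ hψinj
      (fun a b => (htmem _ _).trans (hφ ⟨a.1.1, a.2⟩ ⟨b.1.1, b.2⟩))
    refine ⟨t⁻¹ * extend hA h g, mul_mem (inv_mem htmem) (extend_mem hA h hg), fun a => ?_⟩
    obtain ⟨⟨⟨c, d⟩, w⟩, hw⟩ := (split hA h).surjective (a : V)
    have hwX : (w : V) ∈ X := by
      have : (w : V) = (a : V) - c • (x : V) - d • (y : V) := by
        rw [← hw]; simp [split]; abel
      rw [this]
      exact sub_mem (sub_mem a.2 (X.smul_mem c x.2)) (X.smul_mem d y.2)
    have ha : a = c • x + d • y + ⟨(w : V), hwX⟩ := Subtype.ext hw.symm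
    have hgw : (g w : V) = t (φ ⟨(w : V), hwX⟩) := congrArg Subtype.val (hgψ ⟨w, hwX⟩)
    rw [LinearEquiv.mul_apply]
    refine (LinearEquiv.symm_apply_eq t).2 ?_
    rw [← hw]
    show extend hA h g (c • (x : V) + d • (y : V) + w) = _
    rw [extend_apply, hgw, ha]
    simp [htx, hty]
  intro X φ hinj hφ
  by_cases hiso : ∃ x y : X, B (x : V) y ≠ 0
  · obtain ⟨x, y, hxy⟩ := hiso
    exact main X φ hinj hφ x ((B (x : V) y)⁻¹ • y) (by simp [hxy])
  push Not at hiso
  rcases eq_or_ne X ⊥ with rfl | hX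
  · exact ⟨1, one_mem _, fun a => by simp [Subsingleton.elim a 0]⟩
  obtain ⟨z, hz, hz0⟩ := Submodule.exists_mem_ne_zero_of_ne_bot hX
  obtain ⟨f₀, hf₀⟩ := exists_eq_one hB hz0
  let f : X →ₗ[F] F := (B.flip f₀).comp X.subtype
  have hfz : f ⟨z, hz⟩ = 1 := by simp [f, hf₀]
  obtain ⟨f', hf'⟩ := f.exists_extend
  obtain ⟨y, hy⟩ := exists_repr_functional hB f'
  have hy' : ∀ a : X, B (a : V) y = f a := fun a => by
    rw [hy, ← hf']; rfl
  obtain ⟨g', hg'⟩ := (f.comp (LinearEquiv.ofInjective φ hinj).symm.toLinearMap).exists_extend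
  obtain ⟨y', hy''⟩ := exists_repr_functional hB g'
  have hyφ : ∀ a : X, B (φ a) y' = f a := fun a => by
    have h1 : g' (φ a) = f ((LinearEquiv.ofInjective φ hinj).symm ⟨φ a, a, rfl⟩) := by
      have := LinearMap.congr_fun hg' ⟨φ a, a, rfl⟩
      simpa using this
    have h2 : (LinearEquiv.ofInjective φ hinj).symm ⟨φ a, a, rfl⟩ = a :=
      (LinearEquiv.symm_apply_eq _).2 rfl
    rw [hy'', h1, h2]
  let P : (X × F) →ₗ[F] V := X.subtype.coprod (LinearMap.toSpanSingleton F V y)
  let Q : (X × F) →ₗ[F] V := φ.coprod (LinearMap.toSpanSingleton F V y')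
  have hP : ∀ p, P p = (p.1 : V) + p.2 • y := fun p => rfl
  have hQ : ∀ p, Q p = φ p.1 + p.2 • y' := fun p => rfl
  have hPQ : ∀ p r, B (Q p) (Q r) = B (P p) (P r) := fun p r => by
    simp [hP, hQ, hφ, hiso, hy', hyφ, swap hA (r.1 : V) y, swap hA (φ r.1) y', hA.self_eq_zero]
  have key : ∀ p : X × F, (P p = 0 ∨ Q p = 0) → p = 0 := by
    intro p hp
    have hc : p.2 = 0 := by
      have e1 : B (P (⟨z, hz⟩, 0)) (P p) = p.2 := by
        have a1 : B z (p.1 : V) = 0 := hiso ⟨z, hz⟩ p.1
        have a2 : B z y = 1 := (hy' ⟨z, hz⟩).trans hfz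
        simp [hP, a1, a2]
      rcases hp with h | h
      · rw [← e1, h, map_zero]
      · rw [← e1, ← hPQ, h, map_zero]
    have ha : p.1 = 0 := by
      rcases hp with h | h
      · exact Subtype.ext (by simpa [hP, hc] using h)
      · exact hinj (by simpa [hQ, hc] using h)
    exact Prod.ext ha hc
  have hPinj : Function.Injective P := by
    rw [← LinearMap.ker_eq_bot, LinearMap.ker_eq_bot']
    exact fun p hp => key p (Or.inl hp)
  have hQinj : Function.Injective Q := by
    rw [← LinearMap.ker_eq_bot, LinearMap.ker_eq_bot']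
    exact fun p hp => key p (Or.inr hp)
  let e := LinearEquiv.ofInjective P hPinj
  obtain ⟨g, hg, hgQ⟩ := main (LinearMap.range P) (Q.comp e.symm.toLinearMap)
    (hQinj.comp e.symm.injective)
    (fun a b => by
      obtain ⟨p, rfl⟩ := e.surjective a
      obtain ⟨r, rfl⟩ := e.surjective b
      simpa [e] using hPQ p r)
    (e (⟨z, hz⟩, 0)) (e (0, 1)) (by simpa [e, hP] using (hy' ⟨z, hz⟩).trans hfz)
  refine ⟨g, hg, fun a => ?_⟩
  have := hgQ (e (a, 0))
  simpa [e, hP, hQ] using this

/-- A hyperbolic basis together with a basis of the radical. -/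
theorem exists_basis : ∀ {V : Type v} [AddCommGroup V] [Module F V] [FiniteDimensional F V]
    {B : BilinForm F V}, B.IsAlt →
    ∃ (m k : ℕ) (b : Module.Basis ((Fin m ⊕ Fin m) ⊕ Fin k) F V),
      (∀ i j : Fin m, B (b (Sum.inl (Sum.inl i))) (b (Sum.inl (Sum.inr j))) =
        if i = j then 1 else 0) ∧
      (∀ i j : Fin m, B (b (Sum.inl (Sum.inl i))) (b (Sum.inl (Sum.inl j))) = 0) ∧
      (∀ i j : Fin m, B (b (Sum.inl (Sum.inr i))) (b (Sum.inl (Sum.inr j))) = 0) ∧
      (∀ (j : Fin k) (v : V), B (b (Sum.inr j)) v = 0) := by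
  suffices H : ∀ (n : ℕ) {V : Type v} [AddCommGroup V] [Module F V] [FiniteDimensional F V]
      {B : BilinForm F V}, Module.finrank F V = n → B.IsAlt →
      ∃ (m k : ℕ) (b : Module.Basis ((Fin m ⊕ Fin m) ⊕ Fin k) F V),
        (∀ i j : Fin m, B (b (Sum.inl (Sum.inl i))) (b (Sum.inl (Sum.inr j))) =
          if i = j then 1 else 0) ∧
        (∀ i j : Fin m, B (b (Sum.inl (Sum.inl i))) (b (Sum.inl (Sum.inl j))) = 0) ∧
        (∀ i j : Fin m, B (b (Sum.inl (Sum.inr i))) (b (Sum.inl (Sum.inr j))) = 0) ∧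
        (∀ (j : Fin k) (v : V), B (b (Sum.inr j)) v = 0) by
    intro V _ _ _ B hA
    exact H _ rfl hA
  intro n
  induction n using Nat.strong_induction_on with
  | _ n ih =>
  intro V _ _ _ B hn hA
  by_cases h0 : ∀ x y : V, B x y = 0
  · refine ⟨0, n, (Module.finBasisOfFinrankEq F V hn).reindex
      (Equiv.emptySum (Fin 0 ⊕ Fin 0) (Fin n)).symm, ?_, ?_, ?_, fun j v => h0 _ v⟩ <;>
      exact fun i => i.elim0
  push Not at h0
  obtain ⟨x, y₀, hxy⟩ := h0
  obtain ⟨y, h⟩ : ∃ y, B x y = 1 := ⟨(B x y₀)⁻¹ • y₀, by simp [hxy]⟩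
  have hfr := finrank_pairPerp hA h
  obtain ⟨m, k, b, he, hee, hff, hr⟩ := ih _ (by omega) rfl (restrict_isAlt hA (pairPerp B x y))
  let e : Fin (m + 1) → V := Fin.cons x fun i => b (Sum.inl (Sum.inl i))
  let f : Fin (m + 1) → V := Fin.cons y fun i => b (Sum.inl (Sum.inr i))
  let w : (Fin (m + 1) ⊕ Fin (m + 1)) ⊕ Fin k → V :=
    Sum.elim (Sum.elim e f) fun j => b (Sum.inr j)
  have hspan : ⊤ ≤ Submodule.span F (Set.range w) := by
    intro v _
    obtain ⟨⟨⟨c, d⟩, p⟩, rfl⟩ := (split hA h).surjective v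
    show c • x + d • y + (p : V) ∈ _
    refine add_mem (add_mem (Submodule.smul_mem _ _ (Submodule.subset_span ⟨.inl (.inl 0), rfl⟩))
      (Submodule.smul_mem _ _ (Submodule.subset_span ⟨.inl (.inr 0), rfl⟩))) ?_
    have hp : p ∈ Submodule.span F (Set.range b) := by rw [b.span_eq]; trivial
    have hp2 := Submodule.apply_mem_span_image_of_mem_span (pairPerp B x y).subtype hp
    refine Submodule.span_mono ?_ hp2
    rintro _ ⟨_, ⟨i, rfl⟩, rfl⟩
    rcases i with (i | i) | i
    exacts [⟨.inl (.inl i.succ), rfl⟩, ⟨.inl (.inr i.succ), rfl⟩, ⟨.inr i, rfl⟩]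
  have hcard : Fintype.card ((Fin (m + 1) ⊕ Fin (m + 1)) ⊕ Fin k) = Module.finrank F V := by
    have := Module.finrank_eq_card_basis b
    simp at this ⊢
    omega
  refine ⟨m + 1, k, basisOfTopLeSpanOfCardEqFinrank w hspan hcard, ?_, ?_, ?_, ?_⟩
  all_goals simp only [coe_basisOfTopLeSpanOfCardEqFinrank]
  · intro i j
    induction i using Fin.cases with
    | zero =>
      induction j using Fin.cases with
      | zero => simpa [w, e, f] using h
      | succ j => simpa [w, e, f, (Fin.succ_ne_zero j).symm] using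
          (mem_pairPerp.1 (b (Sum.inl (Sum.inr j))).2).1
    | succ i =>
      induction j using Fin.cases with
      | zero => simpa [w, e, f] using (pairPerp_left hA (b (Sum.inl (Sum.inl i)))).2
      | succ j => simpa [w, e, f] using he i j
  · intro i j
    induction i using Fin.cases with
    | zero =>
      induction j using Fin.cases with
      | zero => simp [w, e, hA.self_eq_zero]
      | succ j => simpa [w, e] using (mem_pairPerp.1 (b (Sum.inl (Sum.inl j))).2).1
    | succ i =>
      induction j using Fin.cases with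
      | zero => simpa [w, e] using (pairPerp_left hA (b (Sum.inl (Sum.inl i)))).1
      | succ j => simpa [w, e] using hee i j
  · intro i j
    induction i using Fin.cases with
    | zero =>
      induction j using Fin.cases with
      | zero => simp [w, f, hA.self_eq_zero]
      | succ j => simpa [w, f] using (mem_pairPerp.1 (b (Sum.inl (Sum.inr j))).2).2
    | succ i =>
      induction j using Fin.cases with
      | zero => simpa [w, f] using (pairPerp_left hA (b (Sum.inl (Sum.inr i)))).2
      | succ j => simpa [w, f] using hff i j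
  · intro j v
    obtain ⟨⟨⟨c, d⟩, p⟩, rfl⟩ := (split hA h).surjective v
    have h3 : B (b (Sum.inr j) : V) p = 0 := hr j p
    simp [w, split, pairPerp_left hA, h3]

end Cfsg.Agent.AltForm
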