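/-
Norms and Hilbert 90 for finite commutative rings with an involution that is nowhere trivial, and
the resulting criterion for conjugacy of "unitary" elements in a finite ring with anti-involution.
-/
import Cfsg.Agent.Lib.Classical.Hermitian
import Mathlib.Algebra.Ring.Subring.Basic
import Mathlib.RingTheory.Ideal.Quotient.Basic
import Mathlib.RingTheory.DedekindDomain.Ideal.Lemmas

set_option autoImplicit false
set_option linter.style.haveILetI false

namespace Cfsg.Agent.InvolRing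

section Comm

variable {A : Type*} [CommRing A] [Finite A]

theorem isNilpotent_of_mem_all {x : A} (h : ∀ m : Ideal A, m.IsMaximal → x ∈ m) : IsNilpotent x := by
  obtain ⟨i, j, hne, hij⟩ := Finite.exists_ne_map_eq_of_infinite fun k : ℕ => x ^ k
  wlog hlt : i < j generalizing i j
  · exact this j i hne.symm hij.symm (by omega)
  refine ⟨i, ?_⟩
  have hu : IsUnit (1 - x ^ (j - i)) := by
    by_contra hnu
    obtain ⟨m, hm, hmem⟩ := exists_max_ideal_of_mem_nonunits hnu
    have h1 : x ^ (j - i) ∈ m := m.pow_mem_of_mem (h m hm) _ (by omega)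
    exact hm.ne_top ((Ideal.eq_top_iff_one m).2 (by simpa using m.add_mem hmem h1))
  refine hu.mul_left_eq_zero.1 ?_
  rw [mul_sub, mul_one, ← pow_add, Nat.add_sub_cancel' hlt.le, hij, sub_self]

variable (τ : A →+* A)

theorem isUnit_map_iff (hτ : ∀ x, τ (τ x) = x) {x : A} : IsUnit (τ x) ↔ IsUnit x :=
  ⟨fun h => by simpa [hτ] using h.map τ, fun h => h.map τ⟩

/-- Choosing residues maximal ideal by maximal ideal. -/
theorem exists_residues (hτ : ∀ x, τ (τ x) = x) (Q : Ideal A → A → Prop)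
    (hQ : ∀ m : Ideal A, m.IsMaximal → m.comap τ = m → ∀ a b, a - b ∈ m → Q m b → Q m a)
    (hfix : ∀ m : Ideal A, m.IsMaximal → m.comap τ = m → ∃ y, Q m y)
    (hswap : ∀ m : Ideal A, m.IsMaximal → m.comap τ ≠ m → ∃ y y', ∀ z, z - y ∈ m →
      z - y' ∈ m.comap τ → Q m z ∧ Q (m.comap τ) z) :
    ∃ y, ∀ m : Ideal A, m.IsMaximal → Q m y := by
  classical
  haveI : Finite (Ideal A) := Finite.of_injective (fun I : Ideal A => (I : Set A)) SetLike.coe_injective
  let M := {m : Ideal A // m.IsMaximal}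
  haveI : Fintype M := Fintype.ofFinite M
  obtain ⟨rk, hrk⟩ : ∃ rk : M → ℕ, Function.Injective rk :=
    ⟨fun m => (Fintype.equivFin M m : ℕ), fun a b h => (Fintype.equivFin M).injective (Fin.ext h)⟩
  have hsurj : Function.Surjective τ := fun x => ⟨τ x, hτ x⟩
  let c : M → M := fun m => ⟨m.1.comap τ, by haveI := m.2; exact Ideal.comap_isMaximal_of_surjective τ hsurj⟩
  have hcc : ∀ m, c (c m) = m := fun m => Subtype.ext (by
    show (m.1.comap τ).comap τ = m.1
    ext x; simp [hτ])
  have hne : ∀ m : M, m.1.comap τ ≠ m.1 → (c m).1.comap τ ≠ (c m).1 := by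
    intro m h e
    have e' : (m.1.comap τ).comap τ = m.1.comap τ := e
    exact h ((congrArg Subtype.val (hcc m)).symm.trans e).symm
  choose yf hyf using fun (m : M) (h : m.1.comap τ = m.1) => hfix m.1 m.2 h
  choose ys ys' hys using fun (m : M) (h : m.1.comap τ ≠ m.1) => hswap m.1 m.2 h
  let t : M → A := fun m =>
    if h : m.1.comap τ = m.1 then yf m h else
      if rk m < rk (c m) then ys m h else ys' (c m) (hne m h)
  obtain ⟨y, hy⟩ : ∃ y, ∀ m : M, y - t m ∈ m.1 := by
    have hco : Pairwise fun a b : M => IsCoprime a.1 b.1 := fun a b hab => by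
      haveI := a.2
      haveI := b.2
      exact Ideal.isCoprime_of_isMaximal (fun h => hab (Subtype.ext h))
    obtain ⟨y, hy⟩ := Ideal.pi_quotient_surjective (I := fun m : M => m.1) hco
      (fun m => Ideal.Quotient.mk m.1 (t m))
    exact ⟨y, fun m => Ideal.Quotient.eq.1 (hy m)⟩
  refine ⟨y, fun m₀ hm₀ => ?_⟩
  suffices key : ∀ m : M, Q m.1 y from key ⟨m₀, hm₀⟩
  intro m
  by_cases h : m.1.comap τ = m.1
  · have e : t m = yf m h := dif_pos h
    exact hQ _ m.2 h _ _ (e ▸ hy m) (hyf m h)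
  by_cases hlt : rk m < rk (c m)
  · have e : t m = ys m h := (dif_neg h).trans (if_pos hlt)
    have e' : t (c m) = ys' m h := by
      have hcongr : ∀ a b : M, a = b → ∀ ha hb, ys' a ha = ys' b hb := fun a b hab _ _ => by
        subst hab; rfl
      show dite _ _ _ = _
      rw [dif_neg (hne m h), if_neg (by rw [hcc]; omega)]
      exact hcongr _ _ (hcc m) _ _
    refine (hys m h y (e ▸ hy m) ?_).1
    have h1 := hy (c m)
    rw [e'] at h1
    exact h1
  · have hlt' : rk (c m) < rk (c (c m)) := by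
      rw [hcc]
      exact lt_of_le_of_ne (not_lt.1 hlt) fun e => h (congrArg Subtype.val (hrk e))
    have e : t m = ys' (c m) (hne m h) := (dif_neg h).trans (if_neg hlt)
    have e' : t (c m) = ys (c m) (hne m h) := (dif_neg (hne m h)).trans (if_pos hlt')
    have hm : (c m).1.comap τ = m.1 := congrArg Subtype.val (hcc m)
    have h2 := (hys (c m) (hne m h) y (e' ▸ hy (c m)) (by rw [hm, ← e]; exact hy m)).2
    rwa [hm] at h2

omit [Finite A] in
theorem isUnit_of_forall {y : A} (h : ∀ m : Ideal A, m.IsMaximal → y ∉ m) : IsUnit y := by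
  by_contra hnu
  obtain ⟨m, hm, hmem⟩ := exists_max_ideal_of_mem_nonunits hnu
  exact h m hm hmem

variable {τ} (hτ : ∀ x, τ (τ x) = x) {δ : A} (hδ : IsUnit (δ - τ δ))
include hτ hδ

omit [Finite A] in
theorem exists_split : ∃ ω, ω + τ ω = 1 := by
  obtain ⟨e, he⟩ := hδ.exists_right_inv
  refine ⟨δ * e, ?_⟩
  have h := congrArg τ he
  rw [map_mul, map_sub, hτ, map_one] at h
  have hte : τ e + e = 0 := by linear_combination (-(τ e)) * he + (-e) * h
  rw [map_mul]
  linear_combination he + τ δ * hte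

/-- The residual involution at a fixed maximal ideal. -/
theorem exists_residual {m : Ideal A} (hm : m.IsMaximal) (h : m.comap τ = m) :
    ∀ x, τ x - x ∈ m → ∃ b, b * τ b - x ∈ m := by
  letI : Field (A ⧸ m) := Ideal.Quotient.field m
  haveI : Finite (A ⧸ m) := Finite.of_surjective _ Ideal.Quotient.mk_surjective
  let ι : A ⧸ m →+* A ⧸ m := Ideal.quotientMap m τ h.ge
  have hι : ∀ a, ι (Ideal.Quotient.mk m a) = Ideal.Quotient.mk m (τ a) := fun _ => rfl
  have hne : ι ≠ RingHom.id _ := by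
    intro he
    have h1 := congrArg (fun f : A ⧸ m →+* A ⧸ m => f (Ideal.Quotient.mk m δ)) he
    simp only [hι, RingHom.id_apply] at h1
    exact hm.ne_top (Ideal.eq_top_of_isUnit_mem _ (Ideal.Quotient.eq.1 h1.symm) hδ)
  have hinv : ∀ a, ι (ι a) = a := fun a => by
    obtain ⟨a, rfl⟩ := Ideal.Quotient.mk_surjective a
    rw [hι, hι, hτ]
  intro x hx
  obtain ⟨b, hb⟩ := Hermitian.exists_norm hne hinv (x := Ideal.Quotient.mk m x)
    (by rw [hι]; exact Ideal.Quotient.eq.2 hx)
  obtain ⟨b, rfl⟩ := Ideal.Quotient.mk_surjective b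
  rw [hι, ← map_mul] at hb
  exact ⟨b, Ideal.Quotient.eq.1 hb⟩

omit [Finite A] in
theorem norm_one_add : ∀ k (N : A), τ N = N → N ^ k = 0 → ∃ y, τ y * y = 1 + N := by
  intro k
  induction k using Nat.strong_induction_on with
  | _ k ih =>
    intro N hN hk
    rcases Nat.lt_or_ge k 2 with h2 | h2
    · have : N = 0 := by
        interval_cases k
        · exact eq_zero_of_zero_eq_one (by simpa using hk.symm) N
        · simpa using hk
      exact ⟨1, by simp [this]⟩
    obtain ⟨ω, hω⟩ := exists_split hτ hδ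
    obtain ⟨v, hv⟩ : IsUnit (1 + ω * N) :=
      IsNilpotent.isUnit_one_add ⟨k, by rw [mul_pow, hk, mul_zero]⟩
    obtain ⟨w, hw⟩ : IsUnit (τ (1 + ω * N) * (1 + ω * N)) := by
      rw [← hv]; exact (v.isUnit.map τ).mul v.isUnit
    have hexp : τ (1 + ω * N) * (1 + ω * N) = 1 + N + τ ω * ω * N ^ 2 := by
      rw [map_add, map_one, map_mul, hN]
      linear_combination N * hω
    have hfix : τ (w : A) = w := by rw [hw, map_mul, hτ, mul_comm]
    have hwinv : τ (↑w⁻¹ : A) = ↑w⁻¹ := by
      refine (Units.inv_eq_of_mul_eq_one_right ?_).symm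
      conv_lhs => arg 1; rw [← hfix]
      rw [← map_mul, Units.mul_inv, map_one]
    obtain ⟨y, hy⟩ := ih (k - 1) (by omega) (-(τ ω * ω * N ^ 2 * ↑w⁻¹))
      (by rw [map_neg, map_mul, map_mul, map_mul, map_pow, hN, hτ, hwinv, mul_comm ω])
      (by
        rw [neg_pow, show τ ω * ω * N ^ 2 * (↑w⁻¹ : A) = N ^ 2 * (τ ω * ω * ↑w⁻¹) by ring, mul_pow,
          ← pow_mul, pow_eq_zero_of_le (show k ≤ 2 * (k - 1) by omega) hk, zero_mul, mul_zero])
    refine ⟨(1 + ω * N) * y, ?_⟩
    rw [map_mul, show τ (1 + ω * N) * τ y * ((1 + ω * N) * y) =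
      τ (1 + ω * N) * (1 + ω * N) * (τ y * y) by ring, hy, ← hw, mul_add, mul_one,
      show (w : A) * -(τ ω * ω * N ^ 2 * ↑w⁻¹) = -(τ ω * ω * N ^ 2) * ((w : A) * ↑w⁻¹) by ring,
      Units.mul_inv, mul_one, hw, hexp]
    ring

/-- Every fixed unit is a norm. -/
theorem exists_norm {s : A} (hs : τ s = s) (hu : IsUnit s) : ∃ y, τ y * y = s := by
  obtain ⟨y, hy⟩ := exists_residues τ hτ (fun m y => y ∉ m ∧ τ y * y - s ∈ m)
    (fun m hm h a b hab hb => by
      have h1 : τ (a - b) ∈ m := Ideal.mem_comap.1 (h.symm ▸ hab : a - b ∈ m.comap τ)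
      refine ⟨fun ha => hb.1 (by simpa using m.sub_mem ha hab), ?_⟩
      rw [show τ a * a - s = τ a * (a - b) + b * τ (a - b) + (τ b * b - s) by rw [map_sub]; ring]
      exact m.add_mem (m.add_mem (m.mul_mem_left _ hab) (m.mul_mem_left _ h1)) hb.2)
    (fun m hm h => by
      obtain ⟨b, hb⟩ := exists_residual hτ hδ hm h s (by rw [hs, sub_self]; exact m.zero_mem)
      refine ⟨b, fun hbm => hm.ne_top (Ideal.eq_top_of_isUnit_mem _ ?_ hu), by rwa [mul_comm]⟩
      have := m.sub_mem (m.mul_mem_right (τ b) hbm) hb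
      simpa using this)
    (fun m hm _ => ⟨s, 1, fun z hz hz' => by
      have h1 : τ z - 1 ∈ m := by
        have := Ideal.mem_comap.1 hz'
        rwa [map_sub, map_one] at this
      have h3 : τ z * z - s ∈ m := by
        rw [show τ z * z - s = z * (τ z - 1) + (z - s) by ring]
        exact m.add_mem (m.mul_mem_left _ h1) hz
      refine ⟨⟨fun hzm => hm.ne_top (Ideal.eq_top_of_isUnit_mem _ ?_ hu), h3⟩, fun hzm => ?_, ?_⟩
      · simpa using m.sub_mem hzm hz
      · refine hm.ne_top ((Ideal.eq_top_iff_one m).2 ?_)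
        simpa using m.sub_mem (Ideal.mem_comap.1 hzm) h1
      · rw [Ideal.mem_comap, map_sub, map_mul, hτ, hs, mul_comm]
        exact h3⟩)
  have hnil : IsNilpotent (τ y * y - s) := isNilpotent_of_mem_all fun m hm => (hy m hm).2
  replace hy : IsUnit y := isUnit_of_forall fun m hm => (hy m hm).1
  obtain ⟨w, hw⟩ : IsUnit (τ y * y) := ((isUnit_map_iff τ hτ).2 hy).mul hy
  have hfix : τ (w : A) = w := by rw [hw, map_mul, hτ, mul_comm]
  have hwinv : τ (↑w⁻¹ : A) = ↑w⁻¹ := by
    refine (Units.inv_eq_of_mul_eq_one_right ?_).symm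
    conv_lhs => arg 1; rw [← hfix]
    rw [← map_mul, Units.mul_inv, map_one]
  obtain ⟨k, hk⟩ := hnil
  obtain ⟨z, hz⟩ := norm_one_add hτ hδ k (-((τ y * y - s) * ↑w⁻¹))
    (by rw [map_neg, map_mul, map_sub, map_mul, hτ, hs, hwinv, mul_comm y])
    (by rw [neg_pow, mul_pow, hk, zero_mul, mul_zero])
  refine ⟨y * z, ?_⟩
  rw [map_mul, show τ y * τ z * (y * z) = τ y * y * (τ z * z) by ring, hz, ← hw]
  rw [show (w : A) * (1 + -(((w : A) - s) * ↑w⁻¹)) = (w : A) - ((w : A) - s) * ((w : A) * ↑w⁻¹) by ring,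
    Units.mul_inv]
  ring

/-- Hilbert's theorem 90. -/
theorem exists_h90 {u : A} (hu : τ u * u = 1) : ∃ w, IsUnit w ∧ u * τ w = w := by
  obtain ⟨a, ha⟩ := exists_residues τ hτ (fun m a => a + u * τ a ∉ m)
    (fun m _ h a b hab hb ha => hb (by
      have h1 : τ (a - b) ∈ m := Ideal.mem_comap.1 (h.symm ▸ hab : a - b ∈ m.comap τ)
      rw [show b + u * τ b = a + u * τ a - ((a - b) + u * τ (a - b)) by rw [map_sub]; ring]
      exact m.sub_mem ha (m.add_mem hab (m.mul_mem_left _ h1))))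
    (fun m hm _ => by
      by_contra hne
      push Not at hne
      refine hm.ne_top (Ideal.eq_top_of_isUnit_mem _ ?_ hδ)
      have h1 := m.sub_mem (hne δ) (m.mul_mem_left (τ δ) (hne 1))
      rw [map_one, mul_one] at h1
      convert h1 using 1
      ring)
    (fun m hm _ => ⟨1, 0, fun z hz hz' => by
      have h1 : τ z ∈ m := by simpa using Ideal.mem_comap.1 hz'
      refine ⟨fun h => hm.ne_top ((Ideal.eq_top_iff_one m).2 ?_), fun h => ?_⟩
      · simpa using m.sub_mem (m.sub_mem h (m.mul_mem_left u h1)) hz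
      · rw [Ideal.mem_comap, map_add, map_mul, hτ] at h
        refine hm.ne_top (Ideal.eq_top_of_isUnit_mem _ ?_ (IsUnit.of_mul_eq_one _ hu))
        have h2 := m.sub_mem (m.sub_mem h h1) (m.mul_mem_left (τ u) hz)
        convert h2 using 1
        ring⟩)
  refine ⟨a + u * τ a, isUnit_of_forall ha, ?_⟩
  rw [map_add, map_mul, hτ]
  linear_combination a * hu

end Comm

section Idem

variable {A : Type*} [CommRing A] [Finite A] {τ : A →+* A} (hτ : ∀ x, τ (τ x) = x)
include hτ

/-- Norms, allowing a fixed idempotent where the involution may be trivial. -/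
theorem exists_norm_idem {δ f s : A} (hff : f * f = f) (hτf : τ f = f)
    (hδ : IsUnit (δ - τ δ + f)) (hs : τ s = s) (hsu : IsUnit s) (hsf : s * f = f) :
    ∃ y, τ y * y = s := by
  classical
  have hle : Ideal.span {f} ≤ (Ideal.span {f}).comap τ :=
    Ideal.span_le.2 (Set.singleton_subset_iff.2 (by
      rw [SetLike.mem_coe, Ideal.mem_comap, hτf]; exact Ideal.mem_span_singleton_self f))
  let ι : A ⧸ Ideal.span {f} →+* A ⧸ Ideal.span {f} := Ideal.quotientMap _ τ hle
  let π := Ideal.Quotient.mk (Ideal.span {f})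
  have hι : ∀ a, ι (π a) = π (τ a) := fun _ => rfl
  have hinv : ∀ a, ι (ι a) = a := fun a => by
    obtain ⟨a, rfl⟩ := Ideal.Quotient.mk_surjective a
    rw [hι, hι, hτ]
  have hπf : π f = 0 := Ideal.Quotient.eq_zero_iff_mem.2 (Ideal.mem_span_singleton_self f)
  haveI : Finite (A ⧸ Ideal.span {f}) := Finite.of_surjective _ Ideal.Quotient.mk_surjective
  obtain ⟨y, hy⟩ := exists_norm hinv (δ := π δ)
    (by rw [hι, ← map_sub]; simpa [hπf] using hδ.map π)
    (s := π s) (by rw [hι, hs]) (hsu.map π)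
  obtain ⟨y, rfl⟩ := Ideal.Quotient.mk_surjective y
  rw [hι, ← map_mul] at hy
  obtain ⟨c, hc⟩ := Ideal.mem_span_singleton'.1 (Ideal.Quotient.eq.1 hy)
  refine ⟨y * (1 - f) + f, ?_⟩
  rw [map_add, map_mul, map_sub, map_one, hτf]
  linear_combination (-(1 - f)) * hc + ((τ y * y) - τ y - y + 1 - c) * hff - hsf

end Idem

section Twist

/-- Solving `θ Y * Y = C` inside the ring generated by commuting elements. -/
theorem exists_twist {R : Type*} [Ring R] [Finite R] (θ : R → R)
    (hmul : ∀ a b, θ (a * b) = θ b * θ a) (hadd : ∀ a b, θ (a + b) = θ a + θ b)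
    (hinv : ∀ a, θ (θ a) = a) (S : Set R) (hS : ∀ a ∈ S, ∀ b ∈ S, a * b = b * a)
    (hSθ : ∀ a ∈ S, θ a ∈ S) {C δ f : R} (hC : C ∈ Subring.closure S)
    (hδ : δ ∈ Subring.closure S) (hf : f ∈ Subring.closure S)
    (hθC : θ C = C) (hθf : θ f = f) (hff : f * f = f) (hCf : C * f = f) (hCu : IsUnit C)
    (hu : IsUnit (δ - θ δ + f)) :
    ∃ Y ∈ Subring.closure S, IsUnit Y ∧ θ Y * Y = C := by
  let θ' : R →+ R := AddMonoidHom.mk' θ hadd
  have hone : θ 1 = 1 := by
    have := hmul (θ 1) 1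
    rw [mul_one, hinv] at this
    simpa using this.symm
  have hmem : ∀ x ∈ Subring.closure S, θ x ∈ Subring.closure S := by
    intro x hx
    induction hx using Subring.closure_induction with
    | mem a ha => exact Subring.subset_closure (hSθ a ha)
    | zero => rw [show θ 0 = 0 from θ'.map_zero]; exact zero_mem _
    | one => rw [hone]; exact one_mem _
    | add a b _ _ iha ihb => rw [hadd]; exact add_mem iha ihb
    | neg a _ iha => rw [show θ (-a) = -θ a from θ'.map_neg a]; exact neg_mem iha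
    | mul a b _ _ iha ihb => rw [hmul]; exact mul_mem ihb iha
  letI : CommRing (Subring.closure S) := Subring.closureCommRingOfComm hS
  let τ : Subring.closure S →+* Subring.closure S :=
    { toFun := fun x => ⟨θ x, hmem x x.2⟩
      map_one' := Subtype.ext hone
      map_mul' := fun a b => by
        rw [mul_comm (⟨θ (a : R), _⟩ : Subring.closure S)]
        exact Subtype.ext (hmul _ _)
      map_zero' := Subtype.ext θ'.map_zero
      map_add' := fun a b => Subtype.ext (hadd _ _) }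
  have hunit : ∀ x : Subring.closure S, IsUnit (x : R) → IsUnit x := by
    intro x hx
    have hinj : Function.Injective fun y => x * y := fun a b h =>
      Subtype.ext (hx.mul_left_cancel (congrArg Subtype.val h))
    obtain ⟨y, hy⟩ := Finite.surjective_of_injective hinj 1
    exact IsUnit.of_mul_eq_one _ hy
  obtain ⟨y, hy⟩ := exists_norm_idem (τ := τ) (fun x => Subtype.ext (hinv _))
    (δ := ⟨δ, hδ⟩) (f := ⟨f, hf⟩) (s := ⟨C, hC⟩) (Subtype.ext hff) (Subtype.ext hθf)
    (hunit _ hu) (Subtype.ext hθC) (hunit _ hCu) (Subtype.ext hCf)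
  refine ⟨y, y.2, ?_, congrArg Subtype.val hy⟩
  have h : IsUnit (τ y * y) := hy ▸ hunit ⟨C, hC⟩ hCu
  exact (isUnit_of_mul_isUnit_right h).map (Subring.closure S).subtype

/-- Similar unitary elements are conjugate by a unitary element. -/
theorem exists_unitary_conj {R : Type*} [Ring R] [Finite R] (θ : R → R)
    (hmul : ∀ a b, θ (a * b) = θ b * θ a) (hadd : ∀ a b, θ (a + b) = θ a + θ b)
    (hinv : ∀ a, θ (θ a) = a) (S : Set R) (hS : ∀ a ∈ S, ∀ b ∈ S, a * b = b * a)
    (hSθ : ∀ a ∈ S, θ a ∈ S) {g h δ f : R} (hSg : ∀ a ∈ S, a * g = g * a)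
    (P : Rˣ) (hP : (P : R) * g = h * P) (hC : θ P * P ∈ S) (hδ : δ ∈ S) (hf : f ∈ Subring.closure S)
    (hθf : θ f = f) (hff : f * f = f) (hCf : θ P * P * f = f)
    (hu : IsUnit (δ - θ δ + f)) :
    ∃ U : Rˣ, (U : R) * g = h * U ∧ θ U * U = 1 := by
  have hone : θ 1 = 1 := by
    have := hmul (θ 1) 1
    rw [mul_one, hinv] at this
    simpa using this.symm
  obtain ⟨Y, hY, ⟨Y, rfl⟩, hYC⟩ := exists_twist θ hmul hadd hinv S hS hSθ
    (Subring.subset_closure hC) (Subring.subset_closure hδ) hf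
    (by rw [hmul, hinv]) hθf hff hCf
    (IsUnit.mul ⟨⟨θ P, θ (↑P⁻¹ : R), by rw [← hmul, Units.inv_mul, hone],
      by rw [← hmul, Units.mul_inv, hone]⟩, rfl⟩ P.isUnit) hu
  have hYg : Commute (Y : R) g := by
    have : (Y : R) ∈ Subring.centralizer {g} :=
      (Subring.closure_le.2 fun a ha => Subring.mem_centralizer_iff.2 fun b hb => by
        rw [Set.mem_singleton_iff.1 hb]; exact (hSg a ha).symm) hY
    exact (Subring.mem_centralizer_iff.1 this g rfl).symm
  refine ⟨P * Y⁻¹, ?_, ?_⟩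
  · rw [Units.val_mul, mul_assoc, hYg.units_inv_left.eq, ← mul_assoc, hP, mul_assoc]
  · rw [Units.val_mul, hmul, mul_assoc, ← mul_assoc (θ (P : R)), ← hYC,
      ← mul_assoc, ← mul_assoc, ← hmul, Units.mul_inv, hone, one_mul, Units.mul_inv]

end Twist

end Cfsg.Agent.InvolRing
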