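/-
Semisimple linear maps are classified by the characteristic polynomial; semisimple classes of GL_n, SL_n.
-/
import Cfsg.Agent.Lib.Spectra.Projective
import Mathlib.LinearAlgebra.Semisimple
import Mathlib.LinearAlgebra.Charpoly.ToMatrix
import Mathlib.LinearAlgebra.Matrix.GeneralLinearGroup.Defs
import Mathlib.LinearAlgebra.Matrix.Charpoly.FiniteField
import Mathlib.FieldTheory.Finite.GaloisField
import Mathlib.RingTheory.AdjoinRoot

set_option autoImplicit false

namespace Cfsg.Agent.SemisimpleCl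

open Polynomial Module

universe u

variable {F : Type u} [Field F]

section cyclic

variable {V : Type u} [AddCommGroup V] [Module F V] [FiniteDimensional F V]

theorem dvd_minpoly (f : V →ₗ[F] V) {p : F[X]} (hp : Irreducible p) (h : p ∣ f.charpoly) :
    p ∣ minpoly F f := by
  classical
  let b := Module.finBasis F V
  rw [← LinearMap.charpoly_toMatrix f b] at h
  have := Spectra.dvd_minpoly_of_dvd_charpoly _ hp h
  rwa [show LinearMap.toMatrix b b f = LinearMap.toMatrixAlgEquiv b f from rfl,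
    minpoly.algEquiv_eq] at this

/-- A cyclic subspace isomorphic to the field `F[X]/(p)`, with a complement. -/
theorem exists_split (f : V →ₗ[F] V) (hs : Module.End.IsSemisimple f) {p : F[X]}
    (hp : Irreducible p) (hpc : p ∣ f.charpoly) :
    ∃ (W C : Submodule F V) (_ : IsCompl W C) (e : AdjoinRoot p ≃ₗ[F] W),
      ∃ hC : C ∈ Module.End.invtSubmodule f,
      ∀ k, f (e k : V) = (e (AdjoinRoot.root p * k) : V) := by
  haveI : Fact (Irreducible p) := ⟨hp⟩
  obtain ⟨r, hr⟩ := dvd_minpoly f hp hpc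
  have hmin : minpoly F f ≠ 0 := minpoly.ne_zero (Algebra.IsIntegral.isIntegral f)
  have hr0 : r ≠ 0 := fun e => hmin (by rw [hr, e, mul_zero])
  have hraf : aeval f r ≠ 0 := fun e => by
    have h1 := natDegree_le_of_dvd (minpoly.dvd F f e) hr0
    rw [hr, natDegree_mul hp.ne_zero hr0] at h1
    have := hp.natDegree_pos
    omega
  obtain ⟨x, hx⟩ : ∃ x, aeval f r x ≠ 0 := by
    by_contra hc
    push Not at hc
    exact hraf (LinearMap.ext hc)
  set v := aeval f r x with hv
  have hpv : aeval f p v = 0 := by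
    rw [hv, ← Module.End.mul_apply, ← map_mul, ← hr, minpoly.aeval, LinearMap.zero_apply]
  let ψ : AdjoinRoot p →ₗ[F] V :=
    (Submodule.restrictScalars F (Ideal.span {p})).liftQ
      (((LinearMap.applyₗ v).comp (Polynomial.aeval f).toLinearMap) : F[X] →ₗ[F] V) (by
        intro g hg
        obtain ⟨c, rfl⟩ := Ideal.mem_span_singleton.1 hg
        show aeval f (p * c) v = 0
        rw [mul_comm, map_mul, Module.End.mul_apply, hpv, map_zero])
  have hψ : ∀ g : F[X], ψ (AdjoinRoot.mk p g) = aeval f g v := fun g => rfl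
  have hmul : ∀ (k : AdjoinRoot p) (g : F[X]), ψ (AdjoinRoot.mk p g * k) = aeval f g (ψ k) := by
    intro k g
    induction k using AdjoinRoot.induction_on with
    | ih h => rw [← map_mul, hψ, hψ, map_mul, Module.End.mul_apply]
  have hinj : Function.Injective ψ := by
    rw [← LinearMap.ker_eq_bot, Submodule.eq_bot_iff]
    intro k hk
    rw [LinearMap.mem_ker] at hk
    by_contra hne
    obtain ⟨g, hg⟩ := AdjoinRoot.mk_surjective (g := p) k⁻¹
    have h1 := hmul k g
    rw [hg, inv_mul_cancel₀ hne, hk, map_zero, ← map_one (AdjoinRoot.mk p), hψ, map_one,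
      Module.End.one_apply] at h1
    exact hx h1
  let e := LinearEquiv.ofInjective ψ hinj
  have hroot : ∀ k, f (ψ k) = ψ (AdjoinRoot.root p * k) := fun k => by
    rw [← AdjoinRoot.mk_X, hmul, aeval_X]
  have hW : LinearMap.range ψ ∈ Module.End.invtSubmodule f := by
    rw [Module.End.mem_invtSubmodule]
    rintro _ ⟨k, rfl⟩
    exact ⟨_, (hroot k).symm⟩
  obtain ⟨C, hC, hcompl⟩ := Module.End.isSemisimple_iff.1 hs _ hW
  exact ⟨LinearMap.range ψ, C, hcompl, e, hC, hroot⟩

/-- Multiplication by the root. -/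
noncomputable def mulRoot (p : F[X]) : AdjoinRoot p →ₗ[F] AdjoinRoot p :=
  LinearMap.mulLeft F (AdjoinRoot.root p)

variable {f : V →ₗ[F] V} {p : F[X]} {W C : Submodule F V}

/-- The decomposition as a product. -/
noncomputable def splitEquiv (hc : IsCompl W C) (e : AdjoinRoot p ≃ₗ[F] W) :
    (AdjoinRoot p × C) ≃ₗ[F] V :=
  (e.prodCongr (LinearEquiv.refl F C)).trans (Submodule.prodEquivOfIsCompl W C hc)

theorem split_comm (hc : IsCompl W C) (e : AdjoinRoot p ≃ₗ[F] W)
    (hC : ∀ x ∈ C, f x ∈ C) (he : ∀ k, f (e k : V) = (e (AdjoinRoot.root p * k) : V))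
    (x : AdjoinRoot p × C) :
    f (splitEquiv hc e x) = splitEquiv hc e ((mulRoot p).prodMap (f.restrict hC) x) := by
  simp only [splitEquiv, LinearEquiv.trans_apply, LinearEquiv.prodCongr_apply,
    LinearEquiv.refl_apply, Submodule.coe_prodEquivOfIsCompl', map_add, he,
    LinearMap.prodMap_apply, mulRoot, LinearMap.mulLeft_apply, LinearMap.restrict_apply]
  

theorem split_charpoly [FiniteDimensional F (AdjoinRoot p)] (hc : IsCompl W C)
    (e : AdjoinRoot p ≃ₗ[F] W)
    (hC : ∀ x ∈ C, f x ∈ C) (he : ∀ k, f (e k : V) = (e (AdjoinRoot.root p * k) : V)) :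
    f.charpoly = (mulRoot p).charpoly * (f.restrict hC).charpoly := by
  rw [← LinearMap.charpoly_prodMap, ← LinearEquiv.charpoly_conj (splitEquiv hc e)]
  congr 1
  refine LinearMap.ext fun y => ?_
  obtain ⟨x, rfl⟩ := (splitEquiv hc e).surjective y
  rw [LinearEquiv.conj_apply_apply, LinearEquiv.symm_apply_apply]
  exact split_comm hc e hC he x

end cyclic

theorem exists_factor {V : Type u} [AddCommGroup V] [Module F V] [FiniteDimensional F V]
    (f : V →ₗ[F] V) (hpos : 0 < finrank F V) :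
    ∃ p : F[X], p.Monic ∧ Irreducible p ∧ p ∣ f.charpoly := by
  refine Polynomial.exists_monic_irreducible_factor _ fun hu => ?_
  have := natDegree_eq_zero_of_isUnit hu
  rw [LinearMap.charpoly_natDegree] at this
  omega

/-- Semisimple linear maps with the same characteristic polynomial are equivalent. -/
theorem exists_equiv : ∀ (N : ℕ) {V V' : Type u} [AddCommGroup V] [Module F V]
    [FiniteDimensional F V] [AddCommGroup V'] [Module F V'] [FiniteDimensional F V']
    (f : V →ₗ[F] V) (f' : V' →ₗ[F] V'), finrank F V ≤ N → Module.End.IsSemisimple f →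
    Module.End.IsSemisimple f' → f.charpoly = f'.charpoly →
    ∃ e : V ≃ₗ[F] V', ∀ x, e (f x) = f' (e x) := by
  intro N
  induction N with
  | zero =>
    intro V V' _ _ _ _ _ _ f f' hN _ _ hcp
    have h0 : finrank F V = 0 := Nat.le_zero.1 hN
    have h0' : finrank F V' = 0 := by
      rw [← LinearMap.charpoly_natDegree f', ← hcp, LinearMap.charpoly_natDegree, h0]
    haveI : Subsingleton V := Module.finrank_zero_iff.mp h0
    haveI : Subsingleton V' := Module.finrank_zero_iff.mp h0'
    exact ⟨LinearEquiv.ofSubsingleton V V', fun x => Subsingleton.elim _ _⟩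
  | succ N ih =>
    intro V V' _ _ _ _ _ _ f f' hN hs hs' hcp
    by_cases hle : finrank F V ≤ N
    · exact ih f f' hle hs hs' hcp
    obtain ⟨p, hpm, hp, hpc⟩ := exists_factor f (by omega)
    haveI : Fact (Irreducible p) := ⟨hp⟩
    haveI : FiniteDimensional F (AdjoinRoot p) := (AdjoinRoot.powerBasis hp.ne_zero).finite
    obtain ⟨W, C, hc, e, hC, he⟩ := exists_split f hs hp hpc
    obtain ⟨W', C', hc', e', hC', he'⟩ := exists_split f' hs' hp (hcp ▸ hpc)
    have hCm : ∀ x ∈ C, f x ∈ C := fun x hx => hC hx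
    have hCm' : ∀ x ∈ C', f' x ∈ C' := fun x hx => hC' hx
    have hlt : finrank F C ≤ N := by
      have h1 := (splitEquiv hc e).finrank_eq
      rw [Module.finrank_prod] at h1
      have : 0 < finrank F (AdjoinRoot p) := Module.finrank_pos
      omega
    have hcp' : (f.restrict hCm).charpoly = (f'.restrict hCm').charpoly := by
      rw [split_charpoly hc e hCm he, split_charpoly hc' e' hCm' he'] at hcp
      exact mul_left_cancel₀ (LinearMap.charpoly_monic _).ne_zero hcp
    obtain ⟨d, hd⟩ := ih (f.restrict hCm) (f'.restrict hCm') hlt (hs.restrict hC) (hs'.restrict hC')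
      hcp'
    refine ⟨(splitEquiv hc e).symm.trans
      (((LinearEquiv.refl F _).prodCongr d).trans (splitEquiv hc' e')), fun x => ?_⟩
    obtain ⟨y, rfl⟩ := (splitEquiv hc e).surjective x
    rw [split_comm hc e hCm he]
    simp only [LinearEquiv.trans_apply, LinearEquiv.symm_apply_apply]
    rw [split_comm hc' e' hCm' he']
    congr 1
    exact Prod.ext rfl (hd y.2)

/-- The centraliser of a semisimple map has every non-zero determinant. -/
theorem exists_commute_det [Fintype F] {V : Type u} [AddCommGroup V] [Module F V]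
    [FiniteDimensional F V] (f : V →ₗ[F] V) (hs : Module.End.IsSemisimple f)
    (hpos : 0 < finrank F V) (c : F) :
    ∃ y : V →ₗ[F] V, y.comp f = f.comp y ∧ LinearMap.det y = c := by
  obtain ⟨p, hpm, hp, hpc⟩ := exists_factor f hpos
  haveI : Fact (Irreducible p) := ⟨hp⟩
  haveI : FiniteDimensional F (AdjoinRoot p) := (AdjoinRoot.powerBasis hp.ne_zero).finite
  haveI : Finite (AdjoinRoot p) := Module.finite_of_finite F
  obtain ⟨W, C, hc, e, hC, he⟩ := exists_split f hs hp hpc
  have hCm : ∀ x ∈ C, f x ∈ C := fun x hx => hC hx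
  obtain ⟨k, hk⟩ := FiniteField.norm_surjective F (AdjoinRoot p) c
  refine ⟨(splitEquiv hc e).conj ((LinearMap.mulLeft F k).prodMap LinearMap.id), ?_, ?_⟩
  · refine LinearMap.ext fun x => ?_
    obtain ⟨y, rfl⟩ := (splitEquiv hc e).surjective x
    simp only [LinearMap.comp_apply, LinearEquiv.conj_apply_apply, LinearEquiv.symm_apply_apply,
      split_comm hc e hCm he]
    congr 1
    simp [LinearMap.prodMap_apply, mulRoot, mul_left_comm]
  · rw [LinearEquiv.conj_apply, LinearMap.comp_assoc, LinearMap.det_conj, LinearMap.det_prodMap,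
      LinearMap.det_id, mul_one, ← hk, Algebra.norm_apply]
    rfl

section matrices

variable {n : ℕ}

theorem isSemisimple_of_pow (p : ℕ) [Fact p.Prime] [CharP F p] {M : Matrix (Fin n) (Fin n) F}
    {m : ℕ} (hm : M ^ m = 1) (hcop : m.Coprime p) : Module.End.IsSemisimple (Matrix.toLin' M) := by
  have hm0 : (m : F) ≠ 0 := by
    rw [Ne, CharP.cast_eq_zero_iff F p]
    intro h
    have := Nat.dvd_gcd h (dvd_refl p)
    rw [hcop] at this
    exact (Fact.out : p.Prime).one_lt.ne' (Nat.dvd_one.1 this)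
  refine Module.End.isSemisimple_of_squarefree_aeval_eq_zero
    (Polynomial.separable_X_pow_sub_C 1 hm0 one_ne_zero).squarefree ?_
  rw [map_sub, map_pow, aeval_X, map_one, map_one]
  have := congrArg Matrix.toLinAlgEquiv' hm
  rw [map_pow, map_one] at this
  exact sub_eq_zero.2 this

theorem exists_conjugator {M N : Matrix (Fin n) (Fin n) F}
    (hM : Module.End.IsSemisimple (Matrix.toLin' M))
    (hN : Module.End.IsSemisimple (Matrix.toLin' N)) (hc : M.charpoly = N.charpoly) :
    ∃ P : GL (Fin n) F, P.1 * M = N * P.1 := by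
  obtain ⟨e, he⟩ := exists_equiv _ (Matrix.toLin' M) (Matrix.toLin' N) le_rfl hM hN
    (by rw [Matrix.charpoly_toLin', Matrix.charpoly_toLin', hc])
  refine ⟨⟨LinearMap.toMatrix' (e : (Fin n → F) →ₗ[F] (Fin n → F)),
    LinearMap.toMatrix' (e.symm : (Fin n → F) →ₗ[F] (Fin n → F)), ?_, ?_⟩, ?_⟩
  · rw [← LinearMap.toMatrix'_comp]; simp
  · rw [← LinearMap.toMatrix'_comp]; simp
  · apply Matrix.toLin'.injective
    refine LinearMap.ext fun x => ?_
    simp only [Matrix.toLin'_mul, LinearMap.comp_apply, Matrix.toLin'_toMatrix', LinearEquiv.coe_coe]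
    exact he x

theorem isConj_gl (p : ℕ) [Fact p.Prime] [CharP F p] {g h : GL (Fin n) F}
    (hg : (orderOf g).Coprime p) (hh : (orderOf h).Coprime p)
    (hc : g.1.charpoly = h.1.charpoly) : IsConj g h := by
  have hg' : g.1 ^ orderOf g = 1 := by rw [← Units.val_pow_eq_pow_val, pow_orderOf_eq_one]; rfl
  have hh' : h.1 ^ orderOf h = 1 := by rw [← Units.val_pow_eq_pow_val, pow_orderOf_eq_one]; rfl
  obtain ⟨P, hP⟩ := exists_conjugator (isSemisimple_of_pow p hg' hg) (isSemisimple_of_pow p hh' hh) hc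
  exact isConj_iff.2 ⟨P, by rw [mul_inv_eq_iff_eq_mul]; exact Units.ext hP⟩

theorem isConj_sl [Fintype F] (p : ℕ) [Fact p.Prime] [CharP F p]
    {g h : Matrix.SpecialLinearGroup (Fin n) F}
    (hg : (orderOf g).Coprime p) (hh : (orderOf h).Coprime p)
    (hc : g.1.charpoly = h.1.charpoly) : IsConj g h := by
  rcases Nat.eq_zero_or_pos n with rfl | hn
  · rw [Subsingleton.elim g h]
  have key : ∀ x : Matrix.SpecialLinearGroup (Fin n) F, x.1 ^ orderOf x = 1 := fun x => by
    rw [← Matrix.SpecialLinearGroup.coe_pow, pow_orderOf_eq_one]; rfl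
  have hsg := isSemisimple_of_pow p (key g) hg
  obtain ⟨P, hP⟩ := exists_conjugator hsg (isSemisimple_of_pow p (key h) hh) hc
  obtain ⟨y, hy, hyd⟩ := exists_commute_det (Matrix.toLin' g.1) hsg
    (by rw [Module.finrank_fin_fun]; exact hn) (P.1.det)⁻¹
  set Y := LinearMap.toMatrix' y with hY
  have hYc : Y * g.1 = g.1 * Y := by
    apply Matrix.toLin'.injective
    rw [Matrix.toLin'_mul, Matrix.toLin'_mul, hY, Matrix.toLin'_toMatrix']
    exact hy
  have hYd : Y.det = (P.1.det)⁻¹ := by rw [hY, LinearMap.det_toMatrix', hyd]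
  let x : Matrix.SpecialLinearGroup (Fin n) F := ⟨P.1 * Y, by
    rw [Matrix.det_mul, hYd, mul_inv_cancel₀ P.det_ne_zero]⟩
  refine isConj_iff.2 ⟨x, ?_⟩
  rw [mul_inv_eq_iff_eq_mul]
  apply Subtype.ext
  show P.1 * Y * g.1 = h.1 * (P.1 * Y)
  rw [mul_assoc, hYc, ← mul_assoc, hP, mul_assoc]

/-- Some matrix has a given characteristic polynomial. -/
theorem exists_charpoly {f : F[X]} (hf : f.Monic) (hn : f.natDegree = n) :
    ∃ M : Matrix (Fin n) (Fin n) F, M.charpoly = f := by
  subst hn
  refine ⟨Matrix.reindex (finCongr (AdjoinRoot.powerBasis_dim hf.ne_zero))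
    (finCongr (AdjoinRoot.powerBasis_dim hf.ne_zero))
    (Algebra.leftMulMatrix (AdjoinRoot.powerBasis hf.ne_zero).basis
      (AdjoinRoot.powerBasis hf.ne_zero).gen), ?_⟩
  rw [Matrix.charpoly_reindex, charpoly_leftMulMatrix, AdjoinRoot.minpoly_powerBasis_gen_of_monic hf]

theorem charpoly_pow_card_pow [Fintype F] (M : Matrix (Fin n) (Fin n) F) (j : ℕ) :
    (M ^ Fintype.card F ^ j).charpoly = M.charpoly := by
  induction j with
  | zero => simp
  | succ j ih => rw [pow_succ, pow_mul, FiniteField.Matrix.charpoly_pow_card, ih]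

/-- The prime-to-`p` part of an element. -/
theorem exists_coprime_pow {G : Type*} [Group G] [Finite G] [Fintype F] (p : ℕ) [Fact p.Prime]
    [CharP F p] (g : G) : ∃ j : ℕ, (orderOf (g ^ Fintype.card F ^ j)).Coprime p := by
  have hp : p.Prime := Fact.out
  obtain ⟨a, -, hF⟩ := FiniteField.card F p
  obtain ⟨k, m, hm, hgm⟩ := Nat.exists_eq_pow_mul_and_not_dvd (orderOf_pos g).ne' p hp.ne_one
  refine ⟨k, Nat.Coprime.coprime_dvd_left ?_ ((Nat.coprime_comm).1 (hp.coprime_iff_not_dvd.2 hm))⟩
  refine orderOf_dvd_of_pow_eq_one ?_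
  rw [← pow_mul, ← orderOf_dvd_iff_pow_eq_one, hgm, hF, ← pow_mul]
  exact Nat.mul_dvd_mul_right (pow_dvd_pow p (Nat.le_mul_of_pos_left k a.2)) m

theorem exists_gl_rep [Fintype F] (p : ℕ) [Fact p.Prime] [CharP F p] {f : F[X]} (hf : f.Monic)
    (hn : f.natDegree = n) (h0 : f.coeff 0 ≠ 0) :
    ∃ g : GL (Fin n) F, (orderOf g).Coprime p ∧ g.1.charpoly = f := by
  classical
  obtain ⟨M, hM⟩ := exists_charpoly hf hn
  have hd : M.det ≠ 0 := by
    rw [Matrix.det_eq_sign_charpoly_coeff, hM]
    exact mul_ne_zero (pow_ne_zero _ (neg_ne_zero.2 one_ne_zero)) h0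
  obtain ⟨j, hj⟩ := exists_coprime_pow (F := F) p (Matrix.GeneralLinearGroup.mkOfDetNeZero M hd)
  refine ⟨_, hj, ?_⟩
  rw [Units.val_pow_eq_pow_val, charpoly_pow_card_pow]
  exact hM

theorem exists_sl_rep [Fintype F] (p : ℕ) [Fact p.Prime] [CharP F p] {f : F[X]} (hf : f.Monic)
    (hn : f.natDegree = n) (h0 : f.coeff 0 = (-1) ^ n) :
    ∃ g : Matrix.SpecialLinearGroup (Fin n) F, (orderOf g).Coprime p ∧ g.1.charpoly = f := by
  classical
  obtain ⟨M, hM⟩ := exists_charpoly hf hn
  have hd : M.det = 1 := by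
    rw [Matrix.det_eq_sign_charpoly_coeff, hM, Fintype.card_fin, h0, ← mul_pow, neg_one_mul,
      neg_neg, one_pow]
  let x : Matrix.SpecialLinearGroup (Fin n) F := ⟨M, hd⟩
  obtain ⟨j, hj⟩ := exists_coprime_pow (F := F) p x
  refine ⟨_, hj, ?_⟩
  rw [Matrix.SpecialLinearGroup.coe_pow, charpoly_pow_card_pow]
  exact hM

/-- Monic polynomials of given degree by their coefficient vectors. -/
noncomputable def monicEquiv (n : ℕ) : {f : F[X] // f.Monic ∧ f.natDegree = n} ≃ (Fin n → F) :=
  (Polynomial.monicEquivDegreeLT n).trans (Polynomial.degreeLTEquiv F n).toEquiv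

theorem monicEquiv_apply {n : ℕ} (f : {f : F[X] // f.Monic ∧ f.natDegree = n}) (i : Fin n) :
    monicEquiv n f i = f.1.coeff i := by
  simp [monicEquiv, Polynomial.monicEquivDegreeLT, Polynomial.degreeLTEquiv,
    Polynomial.eraseLead_coeff_of_ne, f.2.2, i.2.ne]

theorem card_coeff_eq [Fintype F] (m : ℕ) (P : F → Prop) :
    Nat.card {f : F[X] // (f.Monic ∧ f.natDegree = m + 1) ∧ P (f.coeff 0)} =
      Nat.card {c : F // P c} * Fintype.card F ^ m := by
  rw [Nat.card_congr ((Equiv.subtypeSubtypeEquivSubtypeInter _ (fun f : F[X] => P (f.coeff 0))).symm.trans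
    ((monicEquiv (m + 1)).subtypeEquiv (q := fun v : Fin (m + 1) → F => P (v 0)) fun f => by
      rw [monicEquiv_apply, Fin.val_zero]))]
  rw [Nat.card_congr (((Fin.consEquiv fun _ : Fin (m + 1) => F).symm.subtypeEquiv
    (q := fun v : F × (Fin m → F) => P v.1) fun v => by simp [Fin.consEquiv]).trans
      (Equiv.prodSubtypeFstEquivSubtypeProd (p := P) (β := Fin m → F)))]
  rw [Nat.card_prod, Nat.card_fun, Nat.card_fin, Nat.card_eq_fintype_card (α := F)]

theorem card_semisimple {G : Type*} [Group G] [Finite G] (val : G → Matrix (Fin n) (Fin n) F)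
    (hconj : ∀ a b, IsConj a b → (val a).charpoly = (val b).charpoly) (good : G → Prop)
    (hinj : ∀ a b, good a → good b → (val a).charpoly = (val b).charpoly → IsConj a b)
    (Q : F[X] → Prop) (hQ : ∀ a, Q (val a).charpoly) (hsurj : ∀ f, Q f → ∃ a, good a ∧ (val a).charpoly = f) :
    Nat.card {c : ConjClasses G // ∃ g, ConjClasses.mk g = c ∧ good g} =
      Nat.card {f : F[X] // Q f} := by
  let f : {c : ConjClasses G // ∃ g, ConjClasses.mk g = c ∧ good g} → {f : F[X] // Q f} :=
    fun c => ⟨(val c.2.choose).charpoly, hQ _⟩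
  refine Nat.card_eq_of_bijective f ⟨?_, ?_⟩
  · intro c d h
    apply Subtype.ext
    rw [← c.2.choose_spec.1, ← d.2.choose_spec.1]
    exact ConjClasses.mk_eq_mk_iff_isConj.2
      (hinj _ _ c.2.choose_spec.2 d.2.choose_spec.2 (congrArg Subtype.val h))
  · rintro ⟨φ, hφ⟩
    obtain ⟨a, ha, e⟩ := hsurj φ hφ
    refine ⟨⟨ConjClasses.mk a, a, rfl, ha⟩, Subtype.ext ?_⟩
    exact (hconj _ _ (ConjClasses.mk_eq_mk_iff_isConj.1
      ((⟨a, rfl, ha⟩ : ∃ g, ConjClasses.mk g = ConjClasses.mk a ∧ good g)).choose_spec.1)).trans e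

end matrices

end Cfsg.Agent.SemisimpleCl
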