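/-
Semisimple elements of symplectic groups over finite fields: similar elements are conjugate.
-/
import Cfsg.Agent.Lib.Classical.InvolRing
import Cfsg.Agent.Lib.Classical.SemisimpleClasses
import Cfsg.Agent.Lib.Spectra.SympOrders

set_option autoImplicit false

namespace Cfsg.Agent.SympClasses

open Matrix SympSpectra
open LinearMap (BilinForm)

variable {F : Type*} [Field F] {n : ℕ}

local notation "Mat" => Matrix (Fin n ⊕ Fin n) (Fin n ⊕ Fin n) F

section avg

variable {R : Type*} [Ring R] [Algebra F R]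

/-- The average of the powers of `x`: the projection to the fixed space. -/
noncomputable def avg (F : Type*) [Field F] [Algebra F R] (x : R) (N : ℕ) : R :=
  (N : F)⁻¹ • ∑ i ∈ Finset.range N, x ^ i

theorem mul_avg {x : R} {N : ℕ} (hx : x ^ N = 1) : x * avg F x N = avg F x N := by
  rw [avg, mul_smul_comm]
  congr 1
  have h := mul_geom_sum x N
  rw [hx, sub_self, sub_mul, one_mul, sub_eq_zero] at h
  exact h

theorem avg_mul_of_fix {x : R} {N : ℕ} (hN : (N : F) ≠ 0) {Y : R} (hY : x * Y = Y) :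
    avg F x N * Y = Y := by
  have h : ∀ i : ℕ, x ^ i * Y = Y := fun i => by
    induction i with
    | zero => rw [pow_zero, one_mul]
    | succ i ih => rw [pow_succ, mul_assoc, hY, ih]
  rw [avg, smul_mul_assoc, Finset.sum_mul, Finset.sum_congr rfl fun i _ => h i, Finset.sum_const,
    Finset.card_range, ← Nat.cast_smul_eq_nsmul F, smul_smul, inv_mul_cancel₀ hN, one_smul]

theorem semiconj_avg {a x y : R} (N : ℕ) (h : a * x = y * a) : a * avg F x N = avg F y N * a := by
  have hs : SemiconjBy a x y := h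
  rw [avg, avg, mul_smul_comm, smul_mul_assoc, Finset.mul_sum, Finset.sum_mul]
  exact congrArg _ (Finset.sum_congr rfl fun i _ => hs.pow_right i)

theorem commute_avg {a x : R} (N : ℕ) (h : Commute a x) : Commute a (avg F x N) :=
  semiconj_avg N h

end avg

theorem mulVec_fix {x : Mat} {N : ℕ} (hN : (N : F) ≠ 0) {v : Fin n ⊕ Fin n → F}
    (hv : x *ᵥ v = v) : avg F x N *ᵥ v = v := by
  have hY : x * Matrix.of (fun i (_ : Fin n ⊕ Fin n) => v i) = Matrix.of fun i _ => v i := by
    ext i j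
    simpa [Matrix.mul_apply, Matrix.mulVec, dotProduct] using congrFun hv i
  funext i
  have := congrArg (fun M : Mat => M i i) (avg_mul_of_fix hN hY)
  simpa [Matrix.mul_apply, Matrix.mulVec, dotProduct] using this

theorem adj_avg {x : Mat} {N : ℕ} (hN : (N : F) ≠ 0) (hx : x ^ N = 1) (hθ : adj x * x = 1) :
    adj (avg F x N) = avg F x N := by
  have h1 : adj (avg F x N) * x = adj (avg F x N) := by
    conv_lhs => rw [← mul_avg (F := F) hx, adj_mul, mul_assoc, hθ, mul_one]
  have h2 : adj (avg F x N) * avg F x N = adj (avg F x N) := by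
    have := semiconj_avg (F := F) N (show adj (avg F x N) * x = 1 * adj (avg F x N) by
      rw [h1, one_mul])
    rw [this]
    exact avg_mul_of_fix hN (one_mul _)
  calc adj (avg F x N) = adj (avg F x N) * avg F x N := h2.symm
    _ = adj (adj (avg F x N) * avg F x N) := by rw [adj_mul, adj_adj]
    _ = adj (adj (avg F x N)) := by rw [h2]
    _ = avg F x N := adj_adj _

theorem adj_zero : adj (0 : Mat) = 0 := by simp [adj]

theorem adj_neg (X : Mat) : adj (-X) = -adj X := by simp [adj]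

theorem mat_ext {M M' : Mat} (h : ∀ x y, x ⬝ᵥ (M *ᵥ y) = x ⬝ᵥ (M' *ᵥ y)) : M = M' := by
  ext i j
  simpa [Matrix.mulVec_single_one, single_dotProduct] using h (Pi.single i 1) (Pi.single j 1)

theorem sp_adj (X : Mat) (x y : Fin n ⊕ Fin n → F) :
    Cfsg.sympForm n F (X *ᵥ x) y = Cfsg.sympForm n F x (adj X *ᵥ y) := by
  have hJ : Matrix.J (Fin n) F * adj X = Xᵀ * Matrix.J (Fin n) F := by
    rw [adj, mul_neg, ← mul_assoc, ← mul_assoc, Matrix.J_squared]
    simp
  rw [ClassicalSp.sympForm_eq, ClassicalSp.sympForm_eq, Matrix.mulVec_mulVec, hJ, ← Matrix.mulVec_mulVec,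
    Matrix.dotProduct_mulVec x Xᵀ, Matrix.vecMul_transpose]

/-- Isometries between the ranges of two symmetric idempotents of equal rank. -/
theorem exists_partial_isometry {e e' : Mat} (he : e * e = e) (he' : e' * e' = e')
    (hθ : adj e = e) (hθ' : adj e' = e') (P : Matˣ) (hP : (P : Mat) * e = e' * P) :
    ∃ L : Mat, L * e = L ∧ e' * L = L ∧ adj L * L = e := by
  have hmk : ∀ {a : Mat}, a * a = a → adj a = a → ∃ k, ∃ b : Module.Basis (Fin k ⊕ Fin k) F
      (LinearMap.range a.mulVecLin), ∀ x y : LinearMap.range a.mulVecLin,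
        (ClassicalSp.spBilin n F) (x : Fin n ⊕ Fin n → F) (y : Fin n ⊕ Fin n → F) =
          ClassicalSp.spBilin k F (b.equivFun x) (b.equivFun y) := by
    intro a ha hθa
    obtain ⟨B, hB⟩ : ∃ B : BilinForm F (LinearMap.range a.mulVecLin),
        B = (ClassicalSp.spBilin n F).restrict (LinearMap.range a.mulVecLin) := ⟨_, rfl⟩
    have hBxy : ∀ x y : LinearMap.range a.mulVecLin, B x y =
        ClassicalSp.spBilin n F (x : Fin n ⊕ Fin n → F) (y : Fin n ⊕ Fin n → F) := by
      intro x y; rw [hB]; rfl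
    have hA : B.IsAlt := fun x => by rw [hBxy]; exact ClassicalSp.spBilin_isAlt _
    have hnd : B.Nondegenerate := by
      refine hA.isRefl.nondegenerate_iff_separatingLeft.2 fun x hx => ?_
      obtain ⟨x, u, rfl⟩ := x
      refine Subtype.ext ((ClassicalSp.spBilin_nondeg (m := n) (F := F)).1 _ fun v => ?_)
      have h := hx ⟨a *ᵥ v, v, rfl⟩
      rw [hBxy, ClassicalSp.spBilin_apply, ClassicalSp.sympForm_eq] at h
      rw [ClassicalSp.spBilin_apply, ClassicalSp.sympForm_eq]
      have e1 := sp_adj a (a *ᵥ u) v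
      rw [Matrix.mulVec_mulVec, ha, hθa] at e1
      exact e1.trans h
    obtain ⟨m, k, b, hef, hee, hff, hr⟩ := AltForm.exists_basis hA
    have hk : k = 0 := by
      by_contra hk
      exact b.ne_zero (Sum.inr ⟨0, Nat.pos_of_ne_zero hk⟩) (hnd.1 _ fun v => hr _ v)
    obtain ⟨b', hb'⟩ := exists_std_basis (n := m) hA hnd (by
      rw [Module.finrank_eq_card_basis b]; simp [hk]; omega)
    exact ⟨m, b', fun x y => (hBxy x y).symm.trans (hb' x y)⟩
  obtain ⟨k, b, hb⟩ := hmk he hθ
  obtain ⟨k', b', hb'⟩ := hmk he' hθ'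
  have hkk : k = k' := by
    have h1 : LinearMap.range e'.mulVecLin =
        (LinearMap.range e.mulVecLin).map (P : Mat).mulVecLin := by
      rw [← LinearMap.range_comp, ← Matrix.mulVecLin_mul, hP, Matrix.mulVecLin_mul,
        LinearMap.range_comp_of_range_eq_top]
      rw [LinearMap.range_eq_top]
      intro v
      exact ⟨((P⁻¹ : Matˣ) : Mat) *ᵥ v, by
        rw [Matrix.mulVecLin_apply, Matrix.mulVec_mulVec, Units.mul_inv, Matrix.one_mulVec]⟩
    have hinj : Function.Injective (P : Mat).mulVecLin :=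
      Matrix.mulVec_injective_iff_isUnit.2 P.isUnit
    have h2 := (Submodule.equivMapOfInjective _ hinj (LinearMap.range e.mulVecLin)).finrank_eq
    rw [← h1, Module.finrank_eq_card_basis b, Module.finrank_eq_card_basis b'] at h2
    simp at h2
    omega
  subst hkk
  obtain ⟨φ, hφ⟩ : ∃ φ : LinearMap.range e.mulVecLin ≃ₗ[F] LinearMap.range e'.mulVecLin,
      φ = b.equivFun.trans b'.equivFun.symm := ⟨_, rfl⟩
  obtain ⟨L, hL⟩ : ∃ L : Mat, ∀ v, L *ᵥ v = (φ ⟨e *ᵥ v, v, rfl⟩ : Fin n ⊕ Fin n → F) :=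
    ⟨LinearMap.toMatrix' ((LinearMap.range e'.mulVecLin).subtype ∘ₗ φ.toLinearMap ∘ₗ
      e.mulVecLin.rangeRestrict), fun v => by rw [LinearMap.toMatrix'_mulVec]; rfl⟩
  refine ⟨L, ?_, ?_, ?_⟩
  · refine Matrix.ext_of_mulVec_single fun i => ?_
    rw [← Matrix.mulVec_mulVec, hL, hL]
    simp only [Matrix.mulVec_mulVec, he]
  · refine Matrix.ext_of_mulVec_single fun i => ?_
    rw [← Matrix.mulVec_mulVec, hL]
    generalize φ ⟨e *ᵥ Pi.single i 1, _, rfl⟩ = w
    obtain ⟨w, u, rfl⟩ := w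
    show e' *ᵥ (e' *ᵥ u) = e' *ᵥ u
    rw [Matrix.mulVec_mulVec, he']
  · have hJ : Matrix.J (Fin n) F * (adj L * L) = Matrix.J (Fin n) F * e := by
      refine mat_ext fun x y => ?_
      have h1 := hb' (φ ⟨e *ᵥ x, x, rfl⟩) (φ ⟨e *ᵥ y, y, rfl⟩)
      have h2 := hb ⟨e *ᵥ x, x, rfl⟩ ⟨e *ᵥ y, y, rfl⟩
      rw [hφ] at h1 hL
      simp only [LinearEquiv.trans_apply, LinearEquiv.apply_symm_apply] at h1 hL
      rw [← h2, ← hL, ← hL, ClassicalSp.spBilin_apply, ClassicalSp.spBilin_apply,
        ClassicalSp.sympForm_eq, ClassicalSp.sympForm_eq] at h1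
      have h3 := sp_adj L x (L *ᵥ y)
      have h4 := sp_adj e x (e *ᵥ y)
      rw [hθ, Matrix.mulVec_mulVec, he] at h4
      simp only [← Matrix.mulVec_mulVec] at h3 ⊢
      exact (h3.symm.trans h1).trans h4
    have := congrArg (Matrix.J (Fin n) F * ·) hJ
    simpa [← mul_assoc, Matrix.J_squared] using this

/-- Normalising a conjugator on an eigenspace with eigenvalue `±1`. -/
theorem exists_normalise {g h e e' : Mat} (c : F) (he : e * e = e) (he' : e' * e' = e')
    (hθ : adj e = e) (hθ' : adj e' = e') (hge : g * e = c • e) (heg : e * g = c • e)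
    (hhe : h * e' = c • e') (P : Matˣ) (hPg : (P : Mat) * g = h * P) (hPe : (P : Mat) * e = e' * P) :
    ∃ P' : Matˣ, (P' : Mat) * g = h * P' ∧ adj (P' : Mat) * P' * e = e ∧
      ∀ e2 : Mat, e * e2 = 0 → adj (P : Mat) * P * e2 = e2 → adj (P' : Mat) * P' * e2 = e2 := by
  obtain ⟨L, hLe, heL, hLL⟩ := exists_partial_isometry he he' hθ hθ' P hPe
  obtain ⟨T, hT⟩ : ∃ T : Mat, T = (P : Mat) * (1 - e) + L := ⟨_, rfl⟩
  have hadjT : adj T = (1 - e) * adj (P : Mat) + adj L := by
    rw [hT, adj_add, adj_mul, adj_sub, adj_one, hθ]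
  have hPe' : adj (P : Mat) * e' = e * adj (P : Mat) := by
    conv_rhs => rw [← hθ, ← adj_mul, hPe, adj_mul, hθ']
  have he'T : e' * T = L := by
    rw [hT, mul_add, ← mul_assoc, ← hPe, heL, mul_assoc, mul_sub, mul_one, he, sub_self, mul_zero,
      zero_add]
  have hTu : IsUnit T := by
    rw [← Matrix.mulVec_injective_iff_isUnit, ← Matrix.coe_mulVecLin, ← LinearMap.ker_eq_bot,
      Submodule.eq_bot_iff]
    intro v hv
    rw [LinearMap.mem_ker, Matrix.mulVecLin_apply] at hv
    have h1 : e *ᵥ v = 0 := by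
      rw [← hLL, ← Matrix.mulVec_mulVec, ← he'T, ← Matrix.mulVec_mulVec, hv]; simp
    have h2 : L *ᵥ v = 0 := by rw [← hLe, ← Matrix.mulVec_mulVec, h1]; simp
    rw [hT, Matrix.add_mulVec, h2, add_zero, ← Matrix.mulVec_mulVec, Matrix.sub_mulVec, h1,
      sub_zero, Matrix.one_mulVec] at hv
    exact Matrix.mulVec_injective_iff_isUnit.2 P.isUnit (hv.trans (Matrix.mulVec_zero _).symm)
  obtain ⟨T, rfl⟩ := hTu
  refine ⟨T, ?_, ?_, fun e2 h2 hP2 => ?_⟩
  · have hLg : L * g = c • L := by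
      calc L * g = L * (e * g) := by rw [← mul_assoc, hLe]
        _ = c • L := by rw [heg, mul_smul_comm, hLe]
    have hhL : h * L = c • L := by
      calc h * L = h * e' * L := by rw [mul_assoc, heL]
        _ = c • L := by rw [hhe, smul_mul_assoc, heL]
    rw [hT, add_mul, mul_add, hLg, hhL, mul_assoc, sub_mul, one_mul, heg, ← hge, mul_sub,
      ← mul_assoc _ g e, hPg, mul_sub, mul_sub, mul_one, mul_assoc]
  · have : (T : Mat) * e = L := by
      rw [hT, add_mul, hLe, mul_assoc, sub_mul, one_mul, he, sub_self, mul_zero, zero_add]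
    rw [mul_assoc, this, hadjT, add_mul, hLL, ← heL, mul_assoc, ← mul_assoc (adj (P : Mat)), hPe',
      ← mul_assoc, ← mul_assoc, sub_mul, one_mul, he, sub_self, zero_mul, zero_mul, zero_add]
  · have h3 : (T : Mat) * e2 = (P : Mat) * e2 := by
      rw [hT, add_mul, ← hLe, mul_assoc L, h2, mul_zero, add_zero, mul_assoc, sub_mul, one_mul, h2,
        sub_zero]
    have hL' : adj L = adj L * e' := by
      conv_lhs => rw [← heL, adj_mul, hθ']
    rw [mul_assoc, h3, hadjT, add_mul, mul_assoc, ← mul_assoc (adj (P : Mat)), hP2, hL', mul_assoc,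
      ← mul_assoc e', ← hPe, mul_assoc (P : Mat), h2, mul_zero, mul_zero, add_zero, sub_mul,
      one_mul, h2, sub_zero]

/-- Similar symplectic elements of order prime to the characteristic are conjugate. -/
theorem isConj_of_conjugator [Fintype F] (p : ℕ) [Fact p.Prime] [CharP F p]
    (g h : Matrix.symplecticGroup (Fin n) F)
    (hg : (orderOf g).Coprime p) (hh : (orderOf h).Coprime p) (P : Matˣ)
    (hP : (P : Mat) * g = h * P) : IsConj g h := by
  have hp : p.Prime := Fact.out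
  obtain ⟨N, hN⟩ : ∃ N, N = orderOf g * orderOf h := ⟨_, rfl⟩
  have hNp : ¬ p ∣ N := fun hd =>
    hp.coprime_iff_not_dvd.1 (Nat.Coprime.symm (hN ▸ hg.mul_left hh)) hd
  have hN0 : (N : F) ≠ 0 := by rwa [Ne, CharP.cast_eq_zero_iff F p]
  have hpow : ∀ {x : Matrix.symplecticGroup (Fin n) F}, orderOf x ∣ N → (x : Mat) ^ N = 1 := by
    intro x hx
    rw [← SubmonoidClass.coe_pow, orderOf_dvd_iff_pow_eq_one.1 hx]; rfl
  have hgN : (g : Mat) ^ N = 1 := hpow (hN ▸ dvd_mul_right _ _)
  have hhN : (h : Mat) ^ N = 1 := hpow (hN ▸ dvd_mul_left _ _)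
  have hinv : ∀ x : Matrix.symplecticGroup (Fin n) F,
      adj (x : Mat) * x = 1 ∧ (x : Mat) * adj (x : Mat) = 1 := fun x => by
    rw [adj_eq_inv, ← Submonoid.coe_mul, ← Submonoid.coe_mul, inv_mul_cancel, mul_inv_cancel]
    exact ⟨rfl, rfl⟩
  obtain ⟨M, hM⟩ : ∃ M, M = 2 * N := ⟨_, rfl⟩
  obtain ⟨e, he_def⟩ : ∃ e, e = avg F (g : Mat) N := ⟨_, rfl⟩
  obtain ⟨e', he'_def⟩ : ∃ e, e = avg F (h : Mat) N := ⟨_, rfl⟩
  obtain ⟨d, hd_def⟩ : ∃ d, d = if p = 2 then (0 : Mat) else avg F (-(g : Mat)) M := ⟨_, rfl⟩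
  obtain ⟨d', hd'_def⟩ : ∃ d, d = if p = 2 then (0 : Mat) else avg F (-(h : Mat)) M := ⟨_, rfl⟩
  have hM0 : p ≠ 2 → (M : F) ≠ 0 := by
    intro hp2
    rw [Ne, CharP.cast_eq_zero_iff F p, hM, hp.dvd_mul]
    rintro (hd | hd)
    · exact hp2 ((Nat.prime_dvd_prime_iff_eq hp Nat.prime_two).1 hd)
    · exact hNp hd
  have hneg : ∀ {x : Mat}, x ^ N = 1 → (-x) ^ M = 1 := fun {x} hx => by
    rw [hM, pow_mul, neg_sq, ← pow_mul, mul_comm, pow_mul, hx, one_pow]
  have hE : ∀ {x : Matrix.symplecticGroup (Fin n) F} {a : Mat}, (x : Mat) ^ N = 1 →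
      a = avg F (x : Mat) N → (x : Mat) * a = (1 : F) • a ∧ a * x = (1 : F) • a ∧ a * a = a ∧ adj a = a := by
    rintro x a hx rfl
    have h1 := mul_avg (F := F) hx
    refine ⟨by rw [one_smul, h1], ?_, avg_mul_of_fix hN0 h1, adj_avg hN0 hx (hinv x).1⟩
    rw [← (commute_avg (F := F) N (Commute.refl (x : Mat))).eq, h1, one_smul]
  have hD : ∀ {x : Matrix.symplecticGroup (Fin n) F} {a : Mat}, (x : Mat) ^ N = 1 →
      a = (if p = 2 then (0 : Mat) else avg F (-(x : Mat)) M) →
      (x : Mat) * a = (-1 : F) • a ∧ a * x = (-1 : F) • a ∧ a * a = a ∧ adj a = a := by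
    rintro x a hx rfl
    split_ifs with hp2
    · simp [adj_zero]
    have h1 := mul_avg (F := F) (hneg hx)
    have h1' : (x : Mat) * avg F (-(x : Mat)) M = -avg F (-(x : Mat)) M := by
      rw [neg_mul] at h1
      exact neg_eq_iff_eq_neg.1 h1
    refine ⟨by rw [h1', neg_one_smul], ?_, avg_mul_of_fix (hM0 hp2) h1,
      adj_avg (hM0 hp2) (hneg hx) (by rw [adj_neg, neg_mul_neg, (hinv x).1])⟩
    rw [← (commute_avg (F := F) M (Commute.refl (x : Mat)).neg_right).eq, h1', neg_one_smul]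
  obtain ⟨hge, heg, hee, hθe⟩ := hE hgN he_def
  obtain ⟨hhe, -, hee', hθe'⟩ := hE hhN he'_def
  obtain ⟨hgd, hdg, hdd, hθd⟩ := hD hgN hd_def
  obtain ⟨hhd, -, hdd', hθd'⟩ := hD hhN hd'_def
  have hed : e * d = 0 := by
    by_cases hp2 : p = 2
    · rw [hd_def, if_pos hp2, mul_zero]
    have h2 : (2 : F) ≠ 0 := by
      intro h0
      refine hp2 ((Nat.prime_dvd_prime_iff_eq hp Nat.prime_two).1 ((CharP.cast_eq_zero_iff F p 2).1 ?_))
      exact_mod_cast h0
    have h1 : (1 : F) • (e * d) = (-1 : F) • (e * d) := by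
      rw [← smul_mul_assoc, ← heg, mul_assoc, hgd, mul_smul_comm]
    have h3 : (2 : F) • (e * d) = 0 := by
      linear_combination (norm := module) h1
    exact (smul_eq_zero.1 h3).resolve_left h2
  have hcomm : Commute e d := by
    by_cases hp2 : p = 2
    · rw [hd_def, if_pos hp2]; exact Commute.zero_right _
    · rw [hd_def, if_neg hp2, he_def]
      exact commute_avg M ((commute_avg N (Commute.refl (g : Mat))).symm.neg_right)
  have hde : d * e = 0 := hcomm.eq ▸ hed
  obtain ⟨P₁, hP₁, hC₁, -⟩ := exists_normalise 1 hee hee' hθe hθe' hge heg hhe P hP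
    (by rw [he_def, he'_def]; exact semiconj_avg N hP)
  obtain ⟨P₂, hP₂, hC₂, hC₂'⟩ := exists_normalise (-1) hdd hdd' hθd hθd' hgd hdg hhd P₁ hP₁
    (by
      by_cases hp2 : p = 2
      · rw [hd_def, hd'_def, if_pos hp2, if_pos hp2, mul_zero, zero_mul]
      · rw [hd_def, hd'_def, if_neg hp2, if_neg hp2]
        exact semiconj_avg M (by rw [mul_neg, neg_mul, hP₁]))
  obtain ⟨C, hC⟩ : ∃ C, C = adj (P₂ : Mat) * P₂ := ⟨_, rfl⟩
  have hCf : C * (e + d) = e + d := by rw [mul_add, hC, hC₂, hC₂' e hde hC₁]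
  have hCg : Commute C (g : Mat) := by
    have h1 : adj (P₂ : Mat) * h = (g : Mat) * adj (P₂ : Mat) := by
      have h2 := congrArg adj hP₂
      rw [adj_mul, adj_mul] at h2
      calc adj (P₂ : Mat) * h = (g : Mat) * (adj (g : Mat) * adj (P₂ : Mat)) * h := by
            rw [← mul_assoc (g : Mat), (hinv g).2, one_mul]
        _ = (g : Mat) * adj (P₂ : Mat) := by
            rw [h2, mul_assoc (g : Mat), mul_assoc (adj (P₂ : Mat)), (hinv h).1, mul_one]
    show C * g = (g : Mat) * C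
    rw [hC, mul_assoc, hP₂, ← mul_assoc, h1, mul_assoc]
  obtain ⟨gu, hgu⟩ : IsUnit (g : Mat) := ⟨⟨_, adj (g : Mat), (hinv g).2, (hinv g).1⟩, rfl⟩
  have hgi : adj (g : Mat) = ((gu⁻¹ : Matˣ) : Mat) :=
    (Units.inv_eq_of_mul_eq_one_left (by rw [hgu]; exact (hinv g).1)).symm
  have hca : ∀ a : Mat, Commute a (g : Mat) → Commute a (adj (g : Mat)) := fun a ha => by
    rw [hgi]; exact (hgu ▸ ha : Commute a (gu : Mat)).units_inv_right
  have hcf : ∀ a : Mat, Commute a (g : Mat) → Commute a (e + d) := fun a ha => by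
    refine Commute.add_right ?_ ?_
    · rw [he_def]; exact commute_avg N ha
    · rw [hd_def]; split_ifs
      exacts [Commute.zero_right _, commute_avg M ha.neg_right]
  have hfg : Commute (e + d) (g : Mat) := (hcf _ (Commute.refl _)).symm
  have hSg : ∀ a ∈ ({C, (g : Mat), adj (g : Mat), e + d} : Set Mat), Commute a (g : Mat) := by
    rintro a (rfl | rfl | rfl | rfl)
    exacts [hCg, Commute.refl _, (hca _ (Commute.refl _)).symm, hfg]
  have hu : IsUnit ((g : Mat) - adj (g : Mat) + (e + d)) := by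
    rw [← Matrix.mulVec_injective_iff_isUnit, ← Matrix.coe_mulVecLin, ← LinearMap.ker_eq_bot,
      Submodule.eq_bot_iff]
    intro v hv
    rw [LinearMap.mem_ker, Matrix.mulVecLin_apply] at hv
    have hd' : d * adj (g : Mat) = -d := by
      have := congrArg (· * adj (g : Mat)) hdg
      simp only [mul_assoc, (hinv g).2, mul_one, smul_mul_assoc, neg_one_smul] at this
      rw [neg_mul] at this
      exact (neg_eq_iff_eq_neg.2 this).symm
    have he' : e * adj (g : Mat) = e := by
      have := congrArg (· * adj (g : Mat)) heg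
      simp only [mul_assoc, (hinv g).2, mul_one, one_smul] at this
      exact this.symm
    have h1 : (e + d) * ((g : Mat) - adj (g : Mat) + (e + d)) = e + d := by
      simp only [mul_add, mul_sub, add_mul, heg, hdg, hd', he', hee, hdd, hed, hde, one_smul,
        neg_one_smul]
      abel
    have h2 : (e + d) *ᵥ v = 0 := by rw [← h1, ← Matrix.mulVec_mulVec, hv]; simp
    have hev : e *ᵥ v = 0 := by
      rw [show e = e * (e + d) by rw [mul_add, hee, hed, add_zero], ← Matrix.mulVec_mulVec, h2]; simp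
    have hdv : d *ᵥ v = 0 := by
      rw [show d = d * (e + d) by rw [mul_add, hdd, hde, zero_add], ← Matrix.mulVec_mulVec, h2]; simp
    rw [Matrix.add_mulVec, h2, add_zero, Matrix.sub_mulVec, sub_eq_zero] at hv
    have hggv : (g : Mat) *ᵥ ((g : Mat) *ᵥ v) = v := by
      rw [hv, Matrix.mulVec_mulVec, (hinv g).2, Matrix.one_mulVec]
    by_cases hp2 : p = 2
    · obtain ⟨r, hr⟩ : Odd N := Nat.not_even_iff_odd.1 fun he2 => hNp (hp2 ▸ even_iff_two_dvd.1 he2)
      have h2r : ∀ i : ℕ, (g : Mat) ^ (2 * i) *ᵥ v = v := fun i => by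
        induction i with
        | zero => rw [mul_zero, pow_zero, Matrix.one_mulVec]
        | succ i ih =>
          rw [mul_add, mul_one, pow_add, ← Matrix.mulVec_mulVec, sq, ← Matrix.mulVec_mulVec, hggv, ih]
      have hgv : (g : Mat) *ᵥ v = v := by
        have h3 := congrArg (· *ᵥ v) hgN
        simp only [hr, pow_succ', ← Matrix.mulVec_mulVec, h2r, Matrix.one_mulVec] at h3
        exact h3
      rw [he_def, mulVec_fix hN0 hgv] at hev
      exact hev
    · have hw : e *ᵥ (v + (g : Mat) *ᵥ v) = v + (g : Mat) *ᵥ v := by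
        rw [he_def]
        refine mulVec_fix hN0 ?_
        rw [Matrix.mulVec_add, hggv, add_comm]
      rw [Matrix.mulVec_add, Matrix.mulVec_mulVec, heg, one_smul, hev, zero_add] at hw
      have hgv : (-(g : Mat)) *ᵥ v = v := by
        rw [Matrix.neg_mulVec, neg_eq_iff_add_eq_zero, add_comm]
        exact hw.symm
      rw [hd_def, if_neg hp2, mulVec_fix (hM0 hp2) hgv] at hdv
      exact hdv
  obtain ⟨U, hU, hUU⟩ := InvolRing.exists_unitary_conj (adj : Mat → Mat) adj_mul adj_add adj_adj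
    ({C, (g : Mat), adj (g : Mat), e + d} : Set Mat)
    (by
      intro a ha b hb
      have hag := hSg a ha
      have hbg := hSg b hb
      show Commute a b
      rcases hb with rfl | rfl | rfl | rfl
      · rcases ha with rfl | rfl | rfl | rfl
        exacts [Commute.refl _, hCg.symm, (hca _ hCg).symm, (hcf _ hCg).symm]
      exacts [hag, hca _ hag, hcf _ hag])
    (by
      rintro a (rfl | rfl | rfl | rfl)
      · exact Or.inl (by rw [hC, adj_mul, adj_adj])
      · simp
      · simp [adj_adj]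
      · simp [adj_add, hθe, hθd])
    hSg P₂ hP₂ (by simp [hC]) (δ := (g : Mat)) (f := e + d) (by simp)
    (Subring.subset_closure (by simp)) (by rw [adj_add, hθe, hθd])
    (by rw [mul_add, add_mul, add_mul, hee, hdd, hed, hde]; abel)
    (hC ▸ hCf) hu
  refine isConj_iff.2 ⟨⟨U, mem_of_adj_mul (mul_eq_one_comm.1 hUU)⟩, ?_⟩
  rw [mul_inv_eq_iff_eq_mul]
  exact Subtype.ext hU

/-- Symplectic elements of order prime to the characteristic are determined by the characteristic
polynomial up to conjugacy. -/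
theorem isConj_of_charpoly [Fintype F] (p : ℕ) [Fact p.Prime] [CharP F p]
    (g h : Matrix.symplecticGroup (Fin n) F)
    (hg : (orderOf g).Coprime p) (hh : (orderOf h).Coprime p)
    (hc : (g : Mat).charpoly = (h : Mat).charpoly) : IsConj g h := by
  obtain ⟨e, he⟩ : ∃ e, e = Matrix.reindexAlgEquiv F F
      (finSumFinEquiv : Fin n ⊕ Fin n ≃ Fin (n + n)) := ⟨_, rfl⟩
  have hch : ∀ M : Mat, (e M).charpoly = M.charpoly := fun M => by
    rw [he, Matrix.coe_reindexAlgEquiv, Matrix.charpoly_reindex]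
  have hss : ∀ x : Matrix.symplecticGroup (Fin n) F, (orderOf x).Coprime p →
      Module.End.IsSemisimple (Matrix.toLin' (e (x : Mat))) := fun x hx =>
    SemisimpleCl.isSemisimple_of_pow p (m := orderOf x)
      (by rw [← map_pow, ← SubmonoidClass.coe_pow, pow_orderOf_eq_one, OneMemClass.coe_one, map_one]) hx
  obtain ⟨Q, hQ⟩ := SemisimpleCl.exists_conjugator (hss g hg) (hss h hh)
    (by rw [hch, hch, hc])
  refine isConj_of_conjugator p g h hg hh
    ⟨e.symm (Q : Matrix (Fin (n + n)) (Fin (n + n)) F),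
      e.symm ((Q⁻¹ : GL (Fin (n + n)) F) : Matrix (Fin (n + n)) (Fin (n + n)) F),
      by rw [← map_mul, Units.mul_inv, map_one], by rw [← map_mul, Units.inv_mul, map_one]⟩ ?_
  apply e.injective
  show e (e.symm _ * (g : Mat)) = e ((h : Mat) * e.symm _)
  rw [map_mul, map_mul, AlgEquiv.apply_symm_apply]
  exact hQ

end Cfsg.Agent.SympClasses
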