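/-
Self-reciprocal polynomials: the algebra `F[X]/(f)` with its involution, the top-coefficient
functional, and counting.
-/
import Cfsg.Agent.Lib.Classical.InvolRing
import Cfsg.Agent.Lib.Classical.SemisimpleClasses
import Mathlib.Algebra.Polynomial.Reverse
import Mathlib.RingTheory.AdjoinRoot
import Mathlib.LinearAlgebra.Matrix.Charpoly.Coeff

set_option autoImplicit false

namespace Cfsg.Agent.SelfRecip

open Polynomial

variable {F : Type*} [Field F] {f : F[X]}

theorem root_mul_inv (h0 : f.coeff 0 ≠ 0) :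
    AdjoinRoot.root f * (-(algebraMap F (AdjoinRoot f) (f.coeff 0)⁻¹) * AdjoinRoot.mk f f.divX) = 1 := by
  have h := congrArg (AdjoinRoot.mk f) (X_mul_divX_add f)
  rw [map_add, map_mul, AdjoinRoot.mk_X, AdjoinRoot.mk_C, AdjoinRoot.mk_self, ← AdjoinRoot.algebraMap_eq] at h
  have h2 : algebraMap F (AdjoinRoot f) (f.coeff 0)⁻¹ * algebraMap F (AdjoinRoot f) (f.coeff 0) = 1 := by
    rw [← map_mul, inv_mul_cancel₀ h0, map_one]
  linear_combination (-(algebraMap F (AdjoinRoot f) (f.coeff 0)⁻¹)) * h + h2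

/-- A ring endomorphism of `F[X]/(f)` inverting the root, for twisted self-reciprocal `f`. -/
theorem exists_invol (s : F →+* F) (hs : ∀ x, s (s x) = x) {n : ℕ} (hn : f.natDegree = n)
    (h0 : f.coeff 0 ≠ 0) (hf : ∀ i ≤ n, f.coeff (n - i) = f.coeff 0 * s (f.coeff i)) :
    ∃ τ : AdjoinRoot f →+* AdjoinRoot f, τ (AdjoinRoot.root f) * AdjoinRoot.root f = 1 ∧
      (∀ x, τ (τ x) = x) ∧ ∀ c, τ (algebraMap F (AdjoinRoot f) c) = algebraMap F (AdjoinRoot f) (s c) := by
  obtain ⟨z, hz⟩ : ∃ z, AdjoinRoot.root f * z = 1 := ⟨_, root_mul_inv h0⟩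
  have hrefl : f.reflect n = C (f.coeff 0) * f.map s := by
    ext i
    rw [coeff_reflect, coeff_C_mul, coeff_map]
    by_cases hi : i ≤ n
    · rw [revAt_le hi, hf i hi]
    · rw [show revAt n i = i by show (if i ≤ n then n - i else i) = i; rw [if_neg hi],
        coeff_eq_zero_of_natDegree_lt (by omega), map_zero, mul_zero]
  have hev : f.eval₂ ((algebraMap F (AdjoinRoot f)).comp s) z = 0 := by
    rw [← eval₂_map]
    show aeval z (f.map s) = 0
    have h1 : aeval z (f.reflect n) = z ^ n * aeval (AdjoinRoot.root f) f := by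
      refine induction_with_natDegree_le
        (fun P => aeval z (reflect n P) = z ^ n * aeval (AdjoinRoot.root f) P) n
        (by simp) (fun i c _ hi => ?_) (fun a b _ _ ha hb => ?_) f hn.le
      · rw [reflect_C_mul_X_pow, revAt_le hi, map_mul, map_mul, map_pow, map_pow, aeval_X, aeval_X,
          aeval_C, aeval_C]
        nth_rewrite 2 [← Nat.sub_add_cancel hi]
        rw [pow_add, mul_left_comm (z ^ (n - i) * z ^ i), mul_assoc, ← mul_pow, mul_comm z, hz,
          one_pow, mul_one]
      · simp only [reflect_add, map_add, ha, hb, mul_add]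
    rw [hrefl, AdjoinRoot.aeval_eq, AdjoinRoot.mk_self, mul_zero, map_mul, aeval_C] at h1
    have h2 : algebraMap F (AdjoinRoot f) (f.coeff 0)⁻¹ * algebraMap F (AdjoinRoot f) (f.coeff 0) = 1 := by
      rw [← map_mul, inv_mul_cancel₀ h0, map_one]
    rw [← one_mul (aeval z (f.map s)), ← h2, mul_assoc, h1, mul_zero]
  obtain ⟨τ, hτdef⟩ : ∃ τ, τ = AdjoinRoot.lift ((algebraMap F (AdjoinRoot f)).comp s) z hev := ⟨_, rfl⟩
  have hτroot : τ (AdjoinRoot.root f) = z := by rw [hτdef, AdjoinRoot.lift_root]
  have hτc : ∀ c, τ (algebraMap F (AdjoinRoot f) c) = algebraMap F (AdjoinRoot f) (s c) := fun c => by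
    rw [hτdef]
    exact AdjoinRoot.lift_of hev
  refine ⟨τ, by rw [hτroot, mul_comm, hz], fun x => ?_, hτc⟩
  have hinv : τ z = AdjoinRoot.root f := by
    have h := congrArg τ hz
    rw [map_mul, map_one, hτroot] at h
    calc τ z = AdjoinRoot.root f * z * τ z := by rw [hz, one_mul]
      _ = AdjoinRoot.root f := by rw [mul_assoc, h, mul_one]
  induction x using AdjoinRoot.induction_on with
  | ih p =>
    induction p using Polynomial.induction_on' with
    | add a b ha hb => rw [map_add, map_add, map_add, ha, hb]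
    | monomial i c =>
      rw [← C_mul_X_pow_eq_monomial, map_mul, map_pow, AdjoinRoot.mk_X, AdjoinRoot.mk_C,
        ← AdjoinRoot.algebraMap_eq, map_mul, map_mul, hτc, hτc, hs, map_pow, map_pow, hτroot, hinv]

variable (hf : f.Monic) {n : ℕ} (hn : f.natDegree = n)

/-- The coefficient of the top power of the root. -/
noncomputable def topCoeff : AdjoinRoot f →ₗ[F] F :=
  (Polynomial.lcoeff F (n - 1)).comp (AdjoinRoot.modByMonicHom hf)

include hn

theorem topCoeff_pow {i : ℕ} (hi : i < n) :
    topCoeff hf (n := n) (AdjoinRoot.root f ^ i) = if i + 1 = n then 1 else 0 := by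
  rw [topCoeff, ← AdjoinRoot.mk_X, ← map_pow, LinearMap.comp_apply, AdjoinRoot.modByMonicHom_mk,
    (modByMonic_eq_self_iff hf).2 (degree_lt_degree (by rw [natDegree_X_pow, hn]; exact hi)),
    lcoeff_apply, coeff_X_pow]
  exact if_congr (by omega) rfl rfl

theorem topCoeff_nondeg (x : AdjoinRoot f)
    (h : ∀ y, topCoeff hf (n := n) (x * y) = 0) : x = 0 := by
  obtain ⟨p, rfl⟩ := AdjoinRoot.mk_surjective (g := f) x
  rw [show AdjoinRoot.mk f p = AdjoinRoot.mk f (p %ₘ f) from by
    conv_lhs => rw [← modByMonic_add_div p f]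
    rw [map_add, map_mul, AdjoinRoot.mk_self, zero_mul, add_zero]] at h ⊢
  by_contra hne
  have hp0 : p %ₘ f ≠ 0 := fun e => hne (by rw [e, map_zero])
  have hf1 : f ≠ 1 := fun e => hp0 (by rw [e, modByMonic_one])
  have hd : (p %ₘ f).natDegree < n := hn ▸ natDegree_modByMonic_lt p hf hf1
  have hmod : (p %ₘ f * X ^ (n - 1 - (p %ₘ f).natDegree)).degree < f.degree := by
    refine degree_lt_degree ?_
    rw [natDegree_mul_X_pow _ hp0, hn]
    omega
  have h2 := h (AdjoinRoot.mk f (X ^ (n - 1 - (p %ₘ f).natDegree)))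
  rw [← map_mul, topCoeff, LinearMap.comp_apply, AdjoinRoot.modByMonicHom_mk,
    (modByMonic_eq_self_iff hf).2 hmod, lcoeff_apply, coeff_mul_X_pow', if_pos (by omega),
    show n - 1 - (n - 1 - (p %ₘ f).natDegree) = (p %ₘ f).natDegree by omega] at h2
  exact hp0 (leadingCoeff_eq_zero.1 h2)

omit hn in
/-- Vectors symmetric up to an involution. -/
theorem card_symm_vec [Finite F] (φ : F → F) (hφ : ∀ x, φ (φ x) = x) (K : ℕ) :
    Nat.card {v : Fin K → F // ∀ i : Fin K, v i.rev = φ (v i)} =
      Nat.card F ^ (K / 2) * Nat.card {x : F // φ x = x} ^ (K % 2) := by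
  let e : {v : Fin K → F // ∀ i : Fin K, v i.rev = φ (v i)} ≃
      (Fin (K / 2) → F) × (Fin (K % 2) → {x : F // φ x = x}) :=
    { toFun := fun v => (fun i => v.1 ⟨i, by have := i.isLt; omega⟩,
        fun j => ⟨v.1 ⟨K / 2, by have := j.isLt; omega⟩, by
          have := j.isLt
          rw [← v.2 ⟨K / 2, by omega⟩]
          exact congrArg v.1 (Fin.ext (by simp only [Fin.val_rev]; omega))⟩)
      invFun := fun p => ⟨fun i => if h : (i : ℕ) < K / 2 then p.1 ⟨i, h⟩ else
          if h' : K - 1 - (i : ℕ) < K / 2 then φ (p.1 ⟨K - 1 - i, h'⟩) else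
            (p.2 ⟨0, by omega⟩ : F), by
        intro i
        simp only [Fin.val_rev]
        by_cases h : (i : ℕ) < K / 2
        · rw [dif_neg (by omega : ¬ K - ((i : ℕ) + 1) < K / 2), dif_pos h,
            dif_pos (by omega : K - 1 - (K - ((i : ℕ) + 1)) < K / 2)]
          exact congrArg (fun a => φ (p.1 a)) (Fin.ext (by dsimp only; omega))
        by_cases h' : K - 1 - (i : ℕ) < K / 2
        · rw [dif_pos (by omega : K - ((i : ℕ) + 1) < K / 2), dif_neg h, dif_pos h', hφ]
          exact congrArg p.1 (Fin.ext (by dsimp only; omega))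
        · rw [dif_neg (by omega : ¬ K - ((i : ℕ) + 1) < K / 2),
            dif_neg (by omega : ¬ K - 1 - (K - ((i : ℕ) + 1)) < K / 2), dif_neg h, dif_neg h']
          exact (p.2 ⟨0, by omega⟩).2.symm⟩
      left_inv := fun v => by
        apply Subtype.ext
        funext i
        dsimp only
        split_ifs with h h'
        · rfl
        · rw [← v.2 ⟨K - 1 - i, by omega⟩]
          exact congrArg v.1 (Fin.ext (by simp only [Fin.val_rev]; omega))
        · exact congrArg v.1 (Fin.ext (by dsimp only; omega))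
      right_inv := fun p => by
        refine Prod.ext (funext fun i => dif_pos i.2) (funext fun j => Subtype.ext ?_)
        have := j.isLt
        dsimp only
        rw [dif_neg (by omega), dif_neg (by omega)]
        exact congrArg (fun a => (p.2 a : F)) (Fin.ext (by dsimp only; omega)) }
  rw [Nat.card_congr e, Nat.card_prod, Nat.card_fun, Nat.card_fun, Nat.card_fin, Nat.card_fin]

omit hn in
/-- Counting monic polynomials with prescribed constant term and reversal symmetry. -/
theorem card_selfrecip [Finite F] (φ : F → F) (hφ : ∀ x, φ (φ x) = x) (K : ℕ) (c : F) :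
    Nat.card {g : F[X] // g.Monic ∧ g.natDegree = K + 1 ∧ g.coeff 0 = c ∧
        ∀ i, 1 ≤ i → i ≤ K → g.coeff (K + 1 - i) = φ (g.coeff i)} =
      Nat.card F ^ (K / 2) * Nat.card {x : F // φ x = x} ^ (K % 2) := by
  rw [← card_symm_vec φ hφ K]
  let e1 := (Equiv.subtypeSubtypeEquivSubtypeInter (fun g : F[X] => g.Monic ∧ g.natDegree = K + 1)
    (fun g : F[X] => g.coeff 0 = c ∧
      ∀ i, 1 ≤ i → i ≤ K → g.coeff (K + 1 - i) = φ (g.coeff i))).symm
  let e2 := (SemisimpleCl.monicEquiv (F := F) (K + 1)).subtypeEquiv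
    (p := fun g => g.1.coeff 0 = c ∧ ∀ i, 1 ≤ i → i ≤ K → g.1.coeff (K + 1 - i) = φ (g.1.coeff i))
    (q := fun v : Fin (K + 1) → F => v 0 = c ∧ ∀ i : Fin K, v i.rev.succ = φ (v i.succ)) (fun g => by
      simp only [SemisimpleCl.monicEquiv_apply, Fin.val_zero, Fin.val_succ, Fin.val_rev]
      refine and_congr_right fun _ => ⟨fun h i => ?_, fun h i hi hiK => ?_⟩
      · have := h (i + 1) (by omega) (by omega)
        rwa [show K + 1 - ((i : ℕ) + 1) = K - ((i : ℕ) + 1) + 1 by omega] at this
      · have := h ⟨i - 1, by omega⟩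
        dsimp only at this
        rwa [show K - (i - 1 + 1) + 1 = K + 1 - i by omega, Nat.sub_add_cancel hi] at this)
  let e3 : {v : Fin (K + 1) → F // v 0 = c ∧ ∀ i : Fin K, v i.rev.succ = φ (v i.succ)} ≃
      {v : Fin K → F // ∀ i : Fin K, v i.rev = φ (v i)} :=
    { toFun := fun v => ⟨fun i => v.1 i.succ, v.2.2⟩
      invFun := fun w => ⟨Fin.cons c w.1, by simp, fun i => by simpa using w.2 i⟩
      left_inv := fun v => by
        apply Subtype.ext
        funext i
        refine Fin.cases ?_ (fun j => ?_) i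
        · simp [v.2.1]
        · simp
      right_inv := fun w => by apply Subtype.ext; funext i; simp }
  refine Nat.card_congr ((Equiv.subtypeEquivRight fun g => ?_).trans (e1.trans (e2.trans e3)))
  exact and_assoc.symm

omit hn in
/-- Characteristic polynomials of elements inverted by an adjoint map. -/
theorem coeff_rev_charpoly {ι : Type*} [Fintype ι] [DecidableEq ι] (g g' : Matrix ι ι F)
    (hg : g' * g = 1) (i : ℕ) (hi : i ≤ Fintype.card ι) :
    g.charpoly.coeff (Fintype.card ι - i) =
      g.charpoly.coeff 0 * g'.charpoly.coeff i := by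
  have h0 : g.charpoly.coeff 0 = (-1) ^ Fintype.card ι * g.det := by
    rw [Matrix.det_eq_sign_charpoly_coeff g, ← mul_assoc, ← mul_pow, neg_one_mul, neg_neg, one_pow, one_mul]
  have h1 : g.charpolyRev = C (g.charpoly.coeff 0) * g'.charpoly := by
    have h2 : (g.map C) * g'.charmatrix = -(1 - (X : F[X]) • g.map C) := by
      rw [show g'.charmatrix = (X : F[X]) • (1 : Matrix ι ι F[X]) - g'.map C by
          ext a b; simp [Matrix.charmatrix_apply, Matrix.diagonal, Matrix.one_apply],
        mul_sub, mul_smul_comm, mul_one, ← Matrix.map_mul, mul_eq_one_comm.1 hg, neg_sub,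
        Matrix.map_one C C_0 C_1]
    have h3 := congrArg Matrix.det h2
    rw [Matrix.det_mul, Matrix.det_neg, ← Matrix.charpolyRev, ← Matrix.charpoly] at h3
    rw [show (g.map C).det = C g.det from (RingHom.map_det C g).symm] at h3
    rw [h0, map_mul, map_pow, map_neg, map_one, mul_assoc, h3, ← mul_assoc, ← mul_pow, neg_one_mul,
      neg_neg, one_pow, one_mul]
  have h4 : g.charpolyRev.coeff i = g.charpoly.coeff (Fintype.card ι - i) := by
    rw [← Matrix.reverse_charpoly, coeff_reverse, Matrix.charpoly_natDegree_eq_dim, revAt_le hi]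
  rw [← h4, h1, coeff_C_mul]

end Cfsg.Agent.SelfRecip
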