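/-
Characteristic polynomials of symplectic matrices, and the number of classes of order prime to the
characteristic.
-/
import Cfsg.Agent.Lib.Classical.SympClasses
import Cfsg.Agent.Lib.Classical.SelfRecip

set_option autoImplicit false

namespace Cfsg.Agent.SympClasses

open Matrix Polynomial SympSpectra
open LinearMap (BilinForm)

variable {F : Type*} [Field F] {m : ℕ}

local notation "Mat" => Matrix (Fin m ⊕ Fin m) (Fin m ⊕ Fin m) F

theorem charpoly_palindrome (g : Matrix.symplecticGroup (Fin m) F) :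
    (g : Mat).charpoly.coeff 0 = 1 ∧
      ∀ i ≤ 2 * m, (g : Mat).charpoly.coeff (2 * m - i) = (g : Mat).charpoly.coeff i := by
  have hcard : Fintype.card (Fin m ⊕ Fin m) = 2 * m := by simp [two_mul]
  have hdet : (g : Mat).det = 1 := SymplecticGroup.det_eq_one g.2
  have h0 : (g : Mat).charpoly.coeff 0 = 1 := by
    have h := Matrix.det_eq_sign_charpoly_coeff (g : Mat)
    rw [hdet, hcard, pow_mul, neg_one_sq, one_pow, one_mul] at h
    exact h.symm
  have hadj : adj (g : Mat) * g = 1 := by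
    rw [adj_eq_inv, ← Submonoid.coe_mul, inv_mul_cancel]; rfl
  have hch : (adj (g : Mat)).charpoly = (g : Mat).charpoly := by
    have hJ : Matrix.J (Fin m) F * -Matrix.J (Fin m) F = 1 := by
      rw [mul_neg, Matrix.J_squared, neg_neg]
    let u : Matˣ := ⟨Matrix.J (Fin m) F, -Matrix.J (Fin m) F, hJ, mul_eq_one_comm.1 hJ⟩
    rw [← Matrix.charpoly_transpose (g : Mat), ← Matrix.charpoly_units_conj u (g : Mat)ᵀ]
    congr 1
    show adj (g : Mat) = Matrix.J (Fin m) F * (g : Mat)ᵀ * (Matrix.J (Fin m) F)⁻¹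
    rw [Matrix.inv_eq_right_inv hJ, adj, mul_neg]
  refine ⟨h0, fun i hi => ?_⟩
  have h := SelfRecip.coeff_rev_charpoly (g : Mat) (adj (g : Mat)) hadj i (hcard ▸ hi)
  rwa [hcard, h0, one_mul, hch] at h

theorem exists_charpoly_eq {f : F[X]} (hf : f.Monic) (hn : f.natDegree = 2 * m)
    (h0 : f.coeff 0 = 1) (hsym : ∀ i ≤ 2 * m, f.coeff (2 * m - i) = f.coeff i) :
    ∃ g : Matrix.symplecticGroup (Fin m) F, (g : Mat).charpoly = f := by
  rcases Nat.eq_zero_or_pos m with hm | hm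
  · subst hm
    refine ⟨1, ?_⟩
    rw [hf.natDegree_eq_zero.1 (by simpa using hn)]
    exact Matrix.det_isEmpty
  have h0' : f.coeff 0 ≠ 0 := by rw [h0]; exact one_ne_zero
  obtain ⟨τ, hτr, hττ, hτc⟩ := SelfRecip.exists_invol (RingHom.id F) (fun _ => rfl) hn h0'
    (fun i hi => by rw [hsym i hi, h0, one_mul, RingHom.id_apply])
  obtain ⟨r, hr⟩ : ∃ r, r = AdjoinRoot.root f := ⟨_, rfl⟩
  rw [← hr] at hτr
  obtain ⟨z, hz⟩ : ∃ z, z = τ r := ⟨_, rfl⟩
  have hzr : z * r = 1 := hz ▸ hτr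
  have hτs : ∀ (c : F) (x : AdjoinRoot f), τ (c • x) = c • τ x := fun c x => by
    rw [Algebra.smul_def, map_mul, hτc, RingHom.id_apply, Algebra.smul_def]
  let top := SelfRecip.topCoeff hf (n := 2 * m)
  have htop : ∀ i, i < 2 * m → top (r ^ i) = if i + 1 = 2 * m then 1 else 0 := fun i hi =>
    hr ▸ SelfRecip.topCoeff_pow hf hn hi
  have hcancel : ∀ (a b : ℕ), b ≤ a → r ^ a * z ^ b = r ^ (a - b) := fun a b hb => by
    nth_rewrite 1 [← Nat.sub_add_cancel hb]
    rw [pow_add, mul_assoc, ← mul_pow, mul_comm r z, hzr, one_pow, mul_one]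
  obtain ⟨ℓ, hℓ⟩ : ∃ ℓ : AdjoinRoot f →ₗ[F] F, ∀ x, ℓ x = top (r ^ (m - 1) * x) :=
    ⟨top.comp (LinearMap.mulLeft F (r ^ (m - 1))), fun _ => rfl⟩
  haveI : Module.Finite F (AdjoinRoot f) := hf.finite_adjoinRoot
  let pb := AdjoinRoot.powerBasis' hf
  have hdim : pb.dim = 2 * m := (AdjoinRoot.powerBasis'_dim hf).trans hn
  have hpb : ∀ i : Fin pb.dim, pb.basis i = r ^ (i : ℕ) := fun i => by
    rw [pb.basis_eq_pow, AdjoinRoot.powerBasis'_gen, hr]
  have htopz : top z = -1 := by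
    have hinv := SelfRecip.root_mul_inv h0'
    rw [h0, inv_one, map_one, ← hr] at hinv
    have hzeq : z = -1 * AdjoinRoot.mk f f.divX := by
      calc z = z * (r * (-1 * AdjoinRoot.mk f f.divX)) := by rw [hinv, mul_one]
        _ = _ := by rw [← mul_assoc, hzr, one_mul]
    rw [hzeq, neg_one_mul, map_neg]
    congr 1
    show SelfRecip.topCoeff hf (AdjoinRoot.mk f f.divX) = 1
    rw [SelfRecip.topCoeff, LinearMap.comp_apply, AdjoinRoot.modByMonicHom_mk,
      (modByMonic_eq_self_iff hf).2 (degree_lt_degree (by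
        rw [natDegree_divX_eq_natDegree_tsub_one, hn]; omega)),
      lcoeff_apply, coeff_divX, Nat.sub_add_cancel (by omega), ← hn]
    exact hf
  have hskew : ∀ x, ℓ (τ x) = -ℓ x := by
    let L : AdjoinRoot f →ₗ[F] F :=
      { toFun := fun y => ℓ (τ (y * z ^ (m - 1))) + ℓ (y * z ^ (m - 1))
        map_add' := fun a b => by simp only [add_mul, map_add]; abel
        map_smul' := fun c a => by
          simp only [smul_mul_assoc, hτs, map_smul, RingHom.id_apply, smul_add] }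
    have hL : L = 0 := pb.basis.ext fun i => by
      have hi : (i : ℕ) < 2 * m := hdim ▸ i.isLt
      show ℓ (τ (pb.basis i * z ^ (m - 1))) + ℓ (pb.basis i * z ^ (m - 1)) = 0
      have hτz : τ z = r := by rw [hz, hττ]
      rw [hℓ, hℓ, hpb, map_mul τ, map_pow τ, map_pow τ, hτz, ← hz, mul_comm (r ^ (i : ℕ)) (z ^ (m - 1)),
        ← mul_assoc (r ^ (m - 1)) (z ^ (m - 1)), hcancel _ _ le_rfl, Nat.sub_self, pow_zero, one_mul,
        htop _ hi, mul_left_comm, ← pow_add, mul_comm (z ^ (i : ℕ))]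
      by_cases hlast : (i : ℕ) + 1 = 2 * m
      · rw [if_pos hlast, show (i : ℕ) = (m - 1 + (m - 1)) + 1 by omega, pow_succ, ← mul_assoc,
          hcancel _ _ le_rfl, Nat.sub_self, pow_zero, one_mul, htopz, neg_add_cancel]
      · rw [if_neg hlast, hcancel _ _ (by omega), htop _ (by omega), if_neg (by omega), add_zero]
    intro x
    have h := LinearMap.congr_fun hL (x * r ^ (m - 1))
    rw [LinearMap.zero_apply] at h
    change ℓ (τ (x * r ^ (m - 1) * z ^ (m - 1))) + ℓ (x * r ^ (m - 1) * z ^ (m - 1)) = 0 at h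
    rw [mul_assoc, hcancel _ _ le_rfl, Nat.sub_self, pow_zero, mul_one] at h
    exact eq_neg_of_add_eq_zero_left h
  let B : BilinForm F (AdjoinRoot f) := LinearMap.mk₂ F (fun x y => ℓ (τ x * y))
    (fun a b c => by simp only [map_add, add_mul]) (fun c a b => by simp only [hτs, smul_mul_assoc, map_smul])
    (fun a b c => by simp only [mul_add, map_add]) (fun c a b => by simp only [mul_smul_comm, map_smul])
  have hB : ∀ x y, B x y = ℓ (τ x * y) := fun _ _ => rfl
  have hBs : ∀ x y, B y x = -B x y := fun x y => by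
    rw [hB, hB, ← hskew, map_mul τ, hττ, mul_comm]
  have hA : B.IsAlt := by
    intro x
    have hx : x ∈ Submodule.span F (Set.range pb.basis) := by rw [pb.basis.span_eq]; trivial
    induction hx using Submodule.span_induction with
    | mem y hy =>
      obtain ⟨i, rfl⟩ := hy
      rw [hB, hpb, map_pow τ, ← hz, ← mul_pow, hzr, one_pow, hℓ, mul_one, htop _ (by omega),
        if_neg (by omega)]
    | zero => simp
    | add a b _ _ ha hb =>
      rw [LinearMap.map_add₂, map_add, map_add, ha, hb, hBs a b, zero_add, add_zero, add_neg_cancel]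
    | smul c a _ ha => simp [ha]
  have hnd : B.Nondegenerate := by
    refine hA.isRefl.nondegenerate_iff_separatingLeft.2 fun x hx => ?_
    have h := SelfRecip.topCoeff_nondeg hf hn (r ^ (m - 1) * τ x) fun y => by
      rw [mul_assoc, ← hℓ, ← hB]; exact hx y
    have h2 := congrArg (fun a => τ (z ^ (m - 1) * a)) h
    simp only [← mul_assoc, ← mul_pow, hzr, one_pow, one_mul, mul_zero, map_zero, hττ] at h2
    exact h2
  obtain ⟨b, hb⟩ := exists_std_basis (n := m) hA hnd (by rw [pb.finrank, hdim])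
  obtain ⟨M, hM⟩ : ∃ M : Mat, M = LinearMap.toMatrix b b (LinearMap.mulLeft F r) := ⟨_, rfl⟩
  have hMb : ∀ x, b.equivFun (r * x) = M *ᵥ b.equivFun x := fun x => by
    rw [hM, Module.Basis.equivFun_apply, Module.Basis.equivFun_apply, LinearMap.toMatrix_mulVec_repr]
    rfl
  have hmem : M ∈ Matrix.symplecticGroup (Fin m) F := by
    rw [SymplecticGroup.mem_iff']
    refine mat_ext fun u v => ?_
    obtain ⟨x, rfl⟩ := b.equivFun.surjective u
    obtain ⟨y, rfl⟩ := b.equivFun.surjective v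
    have h := hb (r * x) (r * y)
    rw [hB, map_mul τ, ← hz, show z * τ x * (r * y) = z * r * (τ x * y) by ring, hzr, one_mul, ← hB,
      hb, hMb, hMb, ClassicalSp.spBilin_apply, ClassicalSp.spBilin_apply, ClassicalSp.sympForm_eq,
      ClassicalSp.sympForm_eq] at h
    rw [← Matrix.mulVec_mulVec, ← Matrix.mulVec_mulVec, Matrix.dotProduct_mulVec _ Mᵀ,
      Matrix.vecMul_transpose]
    exact h.symm
  refine ⟨⟨M, hmem⟩, ?_⟩
  show M.charpoly = f
  rw [hM, LinearMap.charpoly_toMatrix, ← LinearMap.charpoly_toMatrix _ pb.basis]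
  have h := charpoly_leftMulMatrix pb
  rw [AdjoinRoot.powerBasis'_gen, ← hr] at h
  refine (h.trans ?_ : _)
  rw [hr, ← AdjoinRoot.powerBasis'_gen hf]
  have hne : f ≠ 0 := hf.ne_zero
  rw [AdjoinRoot.powerBasis'_gen, AdjoinRoot.minpoly_root hne, hf.leadingCoeff, inv_one, map_one, mul_one]

theorem card_classes [Fintype F] {q : ℕ} (hq : Fintype.card F = q) (p : ℕ) [Fact p.Prime] [CharP F p]
    (m : ℕ) :
    Nat.card {c : ConjClasses ↥(Matrix.symplecticGroup (Fin m) F) //
      ∃ g : ↥(Matrix.symplecticGroup (Fin m) F), ConjClasses.mk g = c ∧ (orderOf g).Coprime p} =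
        q ^ m := by
  classical
  subst hq
  obtain ⟨e, he⟩ : ∃ e, e = Matrix.reindexAlgEquiv F F
      (finSumFinEquiv : Fin m ⊕ Fin m ≃ Fin (m + m)) := ⟨_, rfl⟩
  have hch : ∀ M : Matrix (Fin m ⊕ Fin m) (Fin m ⊕ Fin m) F, (e M).charpoly = M.charpoly := fun M => by
    rw [he, Matrix.coe_reindexAlgEquiv, Matrix.charpoly_reindex]
  rw [SemisimpleCl.card_semisimple (fun g : ↥(Matrix.symplecticGroup (Fin m) F) => e g.1)
    (fun a b hab => by
      obtain ⟨c, hc⟩ := isConj_iff.1 hab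
      have hcc : (c : Matrix (Fin m ⊕ Fin m) (Fin m ⊕ Fin m) F) *
          ((c⁻¹ : Matrix.symplecticGroup (Fin m) F) : Matrix (Fin m ⊕ Fin m) (Fin m ⊕ Fin m) F) = 1 := by
        rw [← Submonoid.coe_mul, mul_inv_cancel]; rfl
      let u : (Matrix (Fin m ⊕ Fin m) (Fin m ⊕ Fin m) F)ˣ := ⟨c.1, (c⁻¹).1, hcc, mul_eq_one_comm.1 hcc⟩
      rw [hch, hch, ← hc]
      rw [Submonoid.coe_mul, Submonoid.coe_mul, ← Matrix.inv_eq_right_inv hcc]
      exact (Matrix.charpoly_units_conj u a.1).symm)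
    (fun g => (orderOf g).Coprime p)
    (fun a b ha hb hab => isConj_of_charpoly p a b ha hb (by rwa [hch, hch] at hab))
    (fun f => (f.Monic ∧ f.natDegree = 2 * m) ∧ f.coeff 0 = 1 ∧
      ∀ i ≤ 2 * m, f.coeff (2 * m - i) = f.coeff i)
    (fun g => by
      rw [hch]
      exact ⟨⟨Matrix.charpoly_monic _, by rw [Matrix.charpoly_natDegree_eq_dim]; simp [two_mul]⟩,
        charpoly_palindrome g⟩)
    (fun f hf => by
      obtain ⟨g, hg⟩ := exists_charpoly_eq hf.1.1 hf.1.2 hf.2.1 hf.2.2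
      obtain ⟨j, hj⟩ := SemisimpleCl.exists_coprime_pow (F := F) p g
      refine ⟨_, hj, ?_⟩
      rw [SubmonoidClass.coe_pow, map_pow, SemisimpleCl.charpoly_pow_card_pow, hch, hg])]
  rcases Nat.eq_zero_or_pos m with hm | hm
  · subst hm
    rw [pow_zero, Nat.card_eq_one_iff_unique]
    refine ⟨⟨fun a b => Subtype.ext ?_⟩, ⟨1, ⟨monic_one, by simp⟩, by simp, fun i hi => ?_⟩⟩
    · rw [a.2.1.1.natDegree_eq_zero.1 (by simpa using a.2.1.2),
        b.2.1.1.natDegree_eq_zero.1 (by simpa using b.2.1.2)]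
    · rw [Nat.le_zero.1 hi]
  obtain ⟨K, hK⟩ : ∃ K, 2 * m = K + 1 := ⟨2 * m - 1, by omega⟩
  rw [hK, Nat.card_congr (Equiv.subtypeEquivRight (q := fun f : F[X] =>
      f.Monic ∧ f.natDegree = K + 1 ∧ f.coeff 0 = 1 ∧
        ∀ i, 1 ≤ i → i ≤ K → f.coeff (K + 1 - i) = id (f.coeff i)) fun f => ?_),
    SelfRecip.card_selfrecip id (fun _ => rfl) K 1]
  · rw [Nat.card_congr (Equiv.subtypeUnivEquiv (p := fun x : F => id x = x) fun _ => rfl), Nat.card_eq_fintype_card (α := F),
      ← pow_add]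
    congr 1
    omega
  · refine ⟨fun h => ⟨h.1.1, h.1.2, h.2.1, fun i _ hi => h.2.2 i (by omega)⟩,
      fun h => ⟨⟨h.1, h.2.1⟩, h.2.2.1, fun i hi => ?_⟩⟩
    rcases Nat.eq_zero_or_pos i with rfl | hi0
    · rw [Nat.sub_zero, h.2.2.1]
      have := h.1.coeff_natDegree
      rwa [h.2.1] at this
    rcases Nat.lt_or_ge K i with hKi | hKi
    · obtain rfl : i = K + 1 := by omega
      rw [Nat.sub_self, h.2.2.1]
      have := h.1.coeff_natDegree
      rw [h.2.1] at this
      exact this.symm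
    exact h.2.2.2 i hi0 hKi

end Cfsg.Agent.SympClasses
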