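/-
Semisimple elements of special unitary groups over finite fields: similar elements are conjugate.
-/
import Cfsg.Agent.Lib.Classical.InvolRing
import Cfsg.Agent.Lib.Classical.SemisimpleClasses
import Cfsg.Agent.Lib.Classical.HermStd
import Cfsg.Agent.Lib.Spectra.UnitaryModels

set_option autoImplicit false

namespace Cfsg.Agent.UnitaryClasses

open Matrix Polynomial UnitarySpectra

variable {F : Type*} [Field F] {n : ℕ}

/-- The conjugate transpose for `σ`. -/
def ct (σ : F ≃+* F) {ι κ : Type*} (X : Matrix ι κ F) : Matrix κ ι F := (X.map σ)ᵀ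

theorem ct_mul (σ : F ≃+* F) {ι κ μ : Type*} [Fintype κ] (X : Matrix ι κ F) (Y : Matrix κ μ F) :
    ct σ (X * Y) = ct σ Y * ct σ X := by
  simp [ct, Matrix.map_mul, Matrix.transpose_mul]

theorem ct_ct {σ : F ≃+* F} (hσσ : ∀ x, σ (σ x) = x) {ι κ : Type*} (X : Matrix ι κ F) :
    ct σ (ct σ X) = X := by
  ext i j
  simp [ct, hσσ]

theorem ct_one (σ : F ≃+* F) {ι : Type*} [DecidableEq ι] : ct σ (1 : Matrix ι ι F) = 1 := by
  simp [ct]

theorem dot_adj (σ : F ≃+* F) (M : Matrix (Fin n) (Fin n) F) (y x : Fin n → F) :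
    (fun i => σ ((M *ᵥ y) i)) ⬝ᵥ x = (fun i => σ (y i)) ⬝ᵥ (adj σ M *ᵥ x) := by
  rw [show (fun i => σ ((M *ᵥ y) i)) = M.map σ *ᵥ fun i => σ (y i) from
    funext fun i => RingHom.map_mulVec σ.toRingHom _ _ i, adj, Matrix.dotProduct_mulVec,
    Matrix.vecMul_transpose]

/-- A vector of non-zero length in the range of a symmetric idempotent. -/
theorem exists_aniso {σ : F ≃+* F} (hσσ : ∀ x, σ (σ x) = x) {μ : F} (hμ : σ μ ≠ μ)
    {E : Matrix (Fin n) (Fin n) F} (hE : E * E = E) (hθ : adj σ E = E) (h0 : E ≠ 0) :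
    ∃ v : Fin n → F, E *ᵥ v = v ∧ (fun i => σ (v i)) ⬝ᵥ v ≠ 0 := by
  by_contra hne
  push Not at hne
  obtain ⟨i, j, hij⟩ : ∃ i j, E i j ≠ 0 := by
    by_contra hc
    push Not at hc
    exact h0 (Matrix.ext hc)
  obtain ⟨x, hx⟩ : ∃ x, x = E *ᵥ Pi.single j 1 := ⟨_, rfl⟩
  obtain ⟨y, hy⟩ : ∃ y, y = E *ᵥ Pi.single i 1 := ⟨_, rfl⟩
  obtain ⟨t, ht⟩ : ∃ t, t = (fun k => σ (y k)) ⬝ᵥ x := ⟨_, rfl⟩
  have htne : t ≠ 0 := by
    rw [ht, hy, dot_adj, hθ, hx, Matrix.mulVec_mulVec, hE,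
      show (fun k => σ ((Pi.single i 1 : Fin n → F) k)) = Pi.single i 1 by
        funext k
        rcases eq_or_ne k i with rfl | hk
        · simp
        · simp [hk]]
    simpa [Matrix.mulVec_single_one] using hij
  obtain ⟨ω, hω⟩ := InvolRing.exists_split (τ := σ.toRingHom) hσσ (δ := μ)
    (IsUnit.mk0 _ (sub_ne_zero.2 fun h => hμ h.symm))
  obtain ⟨c, hc⟩ : ∃ c, c * σ t = ω := ⟨ω / σ t, div_mul_cancel₀ _ ((map_ne_zero σ).2 htne)⟩
  have hxE : E *ᵥ x = x := by rw [hx, Matrix.mulVec_mulVec, hE]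
  have hyE : E *ᵥ y = y := by rw [hy, Matrix.mulVec_mulVec, hE]
  have h1 := hne x hxE
  have h2 := hne y hyE
  have h3 := hne (c • y + x) (by rw [Matrix.mulVec_add, Matrix.mulVec_smul, hxE, hyE])
  have hswap : (fun k => σ (x k)) ⬝ᵥ y = σ t := by
    simp [ht, dotProduct, map_sum, hσσ, mul_comm]
  rw [show (fun k => σ ((c • y + x) k)) = σ c • (fun k => σ (y k)) + fun k => σ (x k) by
    funext k; simp] at h3
  simp only [add_dotProduct, dotProduct_add, smul_dotProduct, dotProduct_smul, smul_eq_mul, h1, h2,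
    ← ht, hswap, hc, mul_zero, add_zero, zero_add] at h3
  have hc' : σ c * t = σ ω := by rw [← hc, map_mul, hσσ]
  rw [hc'] at h3
  have hω' : ω + σ ω = 1 := hω
  exact one_ne_zero (α := F) (by linear_combination h3 - hω')

/-- Determinants of unitary elements commuting with a semisimple unitary element. -/
theorem exists_unit_det [Fintype F] (p : ℕ) [Fact p.Prime] [CharP F p] {σ : F ≃+* F}
    (hσσ : ∀ x, σ (σ x) = x) {μ : F} (hμ : σ μ ≠ μ) (hn : 0 < n)
    {g : Matrix (Fin n) (Fin n) F} {N : ℕ} (hN : N.Coprime p) (hN0 : 0 < N) (hg : g ^ N = 1)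
    (hθg : adj σ g * g = 1) {d : F} (hd : d ≠ 0) :
    ∃ Y : Matrix (Fin n) (Fin n) F, Commute Y g ∧ Commute Y (adj σ Y) ∧ Y.det = d := by
  have hginv : adj σ g = g ^ (N - 1) := by
    rw [← one_mul (g ^ (N - 1)), ← hθg, mul_assoc, ← pow_succ', Nat.sub_add_cancel hN0, hg, mul_one]
  have hpoly : ∀ a : F[X], ∃ b : F[X], aeval g b = adj σ (aeval g a) := by
    intro a
    induction a using Polynomial.induction_on' with
    | add a b ha hb =>
      obtain ⟨a', ha⟩ := ha
      obtain ⟨b', hb⟩ := hb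
      exact ⟨a' + b', by rw [map_add, map_add, adj_add, ha, hb]⟩
    | monomial i c =>
      refine ⟨C (σ c) * (X ^ (N - 1)) ^ i, ?_⟩
      rw [map_mul, map_pow, map_pow, aeval_X, aeval_C, aeval_monomial, ← Algebra.smul_def,
        ← Algebra.smul_def, adj_smul, ← hginv]
      congr 1
      induction i with
      | zero => rw [pow_zero, pow_zero, adj_one]
      | succ i ih => rw [pow_succ, pow_succ', adj_mul, ih]
  -- a simple component
  have hN0' : (N : F) ≠ 0 := by
    rw [Ne, CharP.cast_eq_zero_iff F p]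
    exact fun h => (Fact.out : p.Prime).coprime_iff_not_dvd.1 hN.symm h
  have hint : IsIntegral F g := Algebra.IsIntegral.isIntegral g
  have hmdeg : ¬ IsUnit (minpoly F g) := by
    haveI : Nonempty (Fin n) := ⟨⟨0, hn⟩⟩
    exact minpoly.not_isUnit F g
  obtain ⟨P, hPm, hP, r, hr⟩ := Polynomial.exists_monic_irreducible_factor _ hmdeg
  have hsq : Squarefree (minpoly F g) :=
    ((Polynomial.separable_X_pow_sub_C 1 hN0' one_ne_zero).squarefree).squarefree_of_dvd
      (minpoly.dvd F g (by simp [hg]))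
  obtain ⟨a₀, b₀, hab⟩ : IsCoprime P r := (hP.coprime_iff_not_dvd).2 fun h =>
    hP.not_isUnit (hsq P (hr ▸ mul_dvd_mul_left P h))
  obtain ⟨E, hE⟩ : ∃ E, E = aeval g (b₀ * r) := ⟨_, rfl⟩
  have hPE : aeval g P * E = 0 := by
    rw [hE, ← map_mul, show P * (b₀ * r) = b₀ * minpoly F g by rw [hr]; ring, map_mul,
      minpoly.aeval, mul_zero]
  have hE1 : E = 1 - aeval g a₀ * aeval g P := by
    rw [eq_sub_iff_add_eq', hE, ← map_mul, ← map_add, hab, map_one]
  have hEE : E * E = E := by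
    nth_rewrite 1 [hE1]
    rw [sub_mul, one_mul, mul_assoc, hPE, mul_zero, sub_zero]
  have hE0 : E ≠ 0 := by
    intro h0
    have hr0 : r ≠ 0 := fun h => minpoly.ne_zero hint (by rw [hr, h, mul_zero])
    have h1 : aeval g r = 0 := by
      rw [show aeval g r = aeval g (a₀ * P * r + b₀ * r * r) by
        rw [show a₀ * P * r + b₀ * r * r = (a₀ * P + b₀ * r) * r by ring, hab, one_mul],
        map_add, map_mul _ (b₀ * r), ← hE, h0, zero_mul, add_zero, mul_assoc, map_mul, ← hr,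
        minpoly.aeval, mul_zero]
    have := natDegree_le_of_dvd (minpoly.dvd F g h1) hr0
    rw [hr, natDegree_mul hP.ne_zero hr0] at this
    have := hP.natDegree_pos
    omega
  have hdiv : ∀ a : F[X], ¬ P ∣ a → ∃ c : F[X], ∀ v, aeval g P *ᵥ v = 0 →
      aeval g c *ᵥ (aeval g a *ᵥ v) = v := by
    intro a ha
    obtain ⟨u, c, huc⟩ := (hP.coprime_iff_not_dvd).2 ha
    refine ⟨c, fun v hv => ?_⟩
    rw [Matrix.mulVec_mulVec, ← map_mul, show c * a = 1 - u * P by rw [← huc]; ring, map_sub,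
      map_one, map_mul, Matrix.sub_mulVec, Matrix.one_mulVec, ← Matrix.mulVec_mulVec, hv,
      Matrix.mulVec_zero, sub_zero]
  have hEkill : ∀ v, aeval g P *ᵥ (E *ᵥ v) = 0 := fun v => by
    rw [Matrix.mulVec_mulVec, hPE, Matrix.zero_mulVec]
  -- the field
  haveI : Fact (Irreducible P) := ⟨hP⟩
  let pb := AdjoinRoot.powerBasis' hPm
  haveI : Module.Finite F (AdjoinRoot P) := pb.finite
  haveI : Finite (AdjoinRoot P) := Module.finite_of_finite F
  have hdim : pb.dim = P.natDegree := AdjoinRoot.powerBasis'_dim hPm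
  obtain ⟨a, ha⟩ := FiniteField.norm_surjective F (AdjoinRoot P) d
  obtain ⟨Cm, hCm⟩ : ∃ Cm, Cm = Algebra.leftMulMatrix pb.basis (AdjoinRoot.root P) := ⟨_, rfl⟩
  obtain ⟨B, hB⟩ : ∃ B, B = Algebra.leftMulMatrix pb.basis (a - 1) := ⟨_, rfl⟩
  have hBC : Commute B Cm := by
    rw [hB, hCm]; exact (Commute.all _ _).map _
  obtain ⟨q, hq⟩ := AdjoinRoot.mk_surjective (g := P) (a - 1)
  have hBq : B = aeval Cm q := by
    rw [hB, hCm, ← hq, ← AdjoinRoot.aeval_eq, ← Polynomial.aeval_algHom_apply]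
  have hdetB : (1 + B).det = d := by
    rw [hB, ← map_one (Algebra.leftMulMatrix pb.basis), ← map_add, add_sub_cancel,
      ← Algebra.norm_eq_matrix_det, ha]
  have hrepr : ∀ k : AdjoinRoot P, ∃ b : F[X], AdjoinRoot.mk P b = k ∧
      ∀ v, aeval g P *ᵥ v = 0 → ∀ c : F[X], AdjoinRoot.mk P c = k →
        aeval g c *ᵥ v = ∑ i : Fin pb.dim, pb.basis.repr k i • (g ^ (i : ℕ) *ᵥ v) := by
    intro k
    obtain ⟨b, hb⟩ := AdjoinRoot.mk_surjective (g := P) k
    refine ⟨b, hb, fun v hv c hc => ?_⟩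
    have h1 : AdjoinRoot.mk P c =
        AdjoinRoot.mk P (∑ i : Fin pb.dim, C (pb.basis.repr k i) * X ^ (i : ℕ)) := by
      rw [hc, map_sum]
      conv_lhs => rw [← pb.basis.sum_repr k]
      refine Finset.sum_congr rfl fun i _ => ?_
      rw [map_mul, map_pow, AdjoinRoot.mk_C, AdjoinRoot.mk_X, pb.basis_eq_pow, Algebra.smul_def,
        AdjoinRoot.algebraMap_eq, AdjoinRoot.powerBasis'_gen]
    obtain ⟨e, he⟩ := AdjoinRoot.mk_eq_mk.1 h1
    rw [show c = P * e + ∑ i : Fin pb.dim, C (pb.basis.repr k i) * X ^ (i : ℕ) by rw [← he]; ring,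
      map_add, Matrix.add_mulVec, mul_comm P, map_mul, ← Matrix.mulVec_mulVec, hv,
      Matrix.mulVec_zero, zero_add, map_sum, Matrix.sum_mulVec]
    refine Finset.sum_congr rfl fun i _ => ?_
    rw [map_mul, map_pow, aeval_X, aeval_C, ← Algebra.smul_def, Matrix.smul_mulVec]
  -- the column matrix of a vector killed by `P`
  let col : (Fin n → F) → Matrix (Fin n) (Fin pb.dim) F := fun v =>
    Matrix.of fun i j => (g ^ (j : ℕ) *ᵥ v) i
  have hcol : ∀ v u, col v *ᵥ u = ∑ i : Fin pb.dim, u i • (g ^ (i : ℕ) *ᵥ v) := by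
    intro v u
    ext i
    simp [col, Matrix.mulVec, dotProduct, Finset.sum_apply, mul_comm]
  have hgX : ∀ v, aeval g P *ᵥ v = 0 → g * col v = col v * Cm := by
    intro v hv
    refine Matrix.ext_of_mulVec_single fun j => ?_
    obtain ⟨b, -, hb⟩ := hrepr (AdjoinRoot.root P * pb.basis j)
    rw [← Matrix.mulVec_mulVec, ← Matrix.mulVec_mulVec, hcol, hcol]
    have h := hb v hv (X ^ ((j : ℕ) + 1)) (by
      rw [map_pow, AdjoinRoot.mk_X, pb.basis_eq_pow, AdjoinRoot.powerBasis'_gen, pow_succ'])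
    rw [map_pow, aeval_X] at h
    rw [hCm]
    simp only [Algebra.leftMulMatrix_eq_repr_mul, Matrix.mulVec_single_one, Matrix.col_apply] at h ⊢
    rw [← h, Finset.sum_eq_single j (fun i _ hij => by simp [hij]) (fun hj => absurd (Finset.mem_univ j) hj),
      Pi.single_eq_same, one_smul, Matrix.mulVec_mulVec, ← pow_succ']
  have hspan : ∀ v, aeval g P *ᵥ v = 0 → ∀ c : F[X], ∃ u, col v *ᵥ u = aeval g c *ᵥ v := fun v hv c => by
    obtain ⟨b, -, hb⟩ := hrepr (AdjoinRoot.mk P c)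
    exact ⟨_, (hcol v _).trans (hb v hv c rfl).symm⟩
  have hnondiv : ∀ v u, u ≠ 0 → ∃ a : F[X], ¬ P ∣ a ∧ col v *ᵥ u = aeval g a *ᵥ v := by
    intro v u hu
    refine ⟨∑ i : Fin pb.dim, C (u i) * X ^ (i : ℕ), fun hdvd => hu ?_, ?_⟩
    · have h0 := AdjoinRoot.mk_eq_zero.2 hdvd
      have h1 : ∑ i : Fin pb.dim, u i • pb.basis i = 0 := by
        rw [← h0, map_sum]
        refine Finset.sum_congr rfl fun i _ => ?_
        rw [map_mul, map_pow, AdjoinRoot.mk_C, AdjoinRoot.mk_X, pb.basis_eq_pow, Algebra.smul_def,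
          AdjoinRoot.algebraMap_eq, AdjoinRoot.powerBasis'_gen]
      exact funext fun i => Fintype.linearIndependent_iff.1 pb.basis.linearIndependent u h1 i
    · rw [hcol, map_sum, Matrix.sum_mulVec]
      refine Finset.sum_congr rfl fun i _ => ?_
      rw [map_mul, map_pow, aeval_X, aeval_C, ← Algebra.smul_def, Matrix.smul_mulVec]
  -- the general correction
  have main : ∀ (X₁ : Matrix (Fin n) (Fin pb.dim) F) (R : Matrix (Fin pb.dim) (Fin n) F)
      (C' : Matrix (Fin pb.dim) (Fin pb.dim) F), g * X₁ = X₁ * Cm → R * g = C' * R →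
      IsUnit (R * X₁) →
      ∃ Y, Y = 1 + X₁ * (B * (R * X₁)⁻¹ * R) ∧ Commute Y g ∧ Y.det = d := by
    intro X₁ R C' hX hR hG
    obtain ⟨G, hGdef⟩ : ∃ G, G = R * X₁ := ⟨_, rfl⟩
    rw [← hGdef] at hG ⊢
    have hGd : IsUnit G.det := (Matrix.isUnit_iff_isUnit_det G).1 hG
    refine ⟨_, rfl, ?_, ?_⟩
    · have hC' : C' * G = G * Cm := by
        rw [hGdef, ← Matrix.mul_assoc, ← hR, Matrix.mul_assoc, hX, Matrix.mul_assoc]
      have hC'' : G⁻¹ * C' = Cm * G⁻¹ := by
        have := congrArg (fun M => G⁻¹ * M * G⁻¹) hC'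
        simp only [Matrix.mul_assoc, Matrix.mul_nonsing_inv G hGd, Matrix.mul_one] at this
        rw [this, ← Matrix.mul_assoc, Matrix.nonsing_inv_mul G hGd, Matrix.one_mul]
      show (1 + X₁ * (B * G⁻¹ * R)) * g = g * (1 + X₁ * (B * G⁻¹ * R))
      rw [Matrix.add_mul, Matrix.mul_add, Matrix.one_mul, Matrix.mul_one, ← Matrix.mul_assoc g, hX]
      simp only [Matrix.mul_assoc]
      rw [hR, ← Matrix.mul_assoc G⁻¹, hC'', ← Matrix.mul_assoc Cm B, ← hBC.eq]
      simp only [Matrix.mul_assoc]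
    · rw [Matrix.det_one_add_mul_comm, Matrix.mul_assoc, ← hGdef, Matrix.mul_assoc,
        Matrix.nonsing_inv_mul G hGd, Matrix.mul_one, hdetB]
  have hadd : ∀ M : Matrix (Fin n) (Fin n) F, adj σ M = ct σ M := fun _ => rfl
  by_cases hcase : adj σ E = E
  · -- a nondegenerate cyclic subspace
    obtain ⟨v, hEv, hv⟩ := exists_aniso hσσ hμ hEE hcase hE0
    have hPv : aeval g P *ᵥ v = 0 := hEv ▸ hEkill v
    have hgXc := hgX v hPv
    have hG : IsUnit (ct σ (col v) * col v) := by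
      rw [← Matrix.mulVec_injective_iff_isUnit, ← Matrix.coe_mulVecLin, ← LinearMap.ker_eq_bot,
        Submodule.eq_bot_iff]
      intro u hu
      rw [LinearMap.mem_ker, Matrix.mulVecLin_apply] at hu
      by_contra hu0
      obtain ⟨a, hPa, hXu⟩ := hnondiv v u hu0
      obtain ⟨c, hc⟩ := hdiv a hPa
      obtain ⟨b, hb⟩ := hpoly c
      obtain ⟨w, hw⟩ := hspan v hPv b
      have h0 : (fun i => σ ((col v *ᵥ w) i)) ⬝ᵥ (col v *ᵥ u) = 0 := by
        rw [show (fun i => σ ((col v *ᵥ w) i)) = (col v).map σ *ᵥ fun i => σ (w i) from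
          funext fun i => RingHom.map_mulVec σ.toRingHom _ _ i, ← Matrix.vecMul_transpose,
          ← Matrix.dotProduct_mulVec, Matrix.mulVec_mulVec]
        exact (congrArg _ hu).trans (dotProduct_zero _)
      rw [hw, hXu, hb, dot_adj, adj_adj σ hσσ, hc v hPv] at h0
      exact hv h0
    have hCu : IsUnit Cm := by
      rw [hCm]
      refine IsUnit.map _ (IsUnit.mk0 _ fun h0 => ?_)
      rw [← AdjoinRoot.mk_X, AdjoinRoot.mk_eq_zero] at h0
      have h1 : minpoly F g ∣ (X : F[X]) ^ N - 1 := minpoly.dvd F g (by simp [hg])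
      have h2 := dvd_sub (h0.trans (dvd_pow_self X hN0.ne')) (((Dvd.intro r hr.symm)).trans h1)
      rw [sub_sub_cancel] at h2
      exact hP.not_isUnit (isUnit_of_dvd_one h2)
    obtain ⟨Cu, hCu⟩ := hCu
    obtain ⟨Ci, hCi⟩ : ∃ Ci : Matrix (Fin pb.dim) (Fin pb.dim) F,
        Ci = ((Cu⁻¹ : (Matrix (Fin pb.dim) (Fin pb.dim) F)ˣ) : Matrix (Fin pb.dim) (Fin pb.dim) F) := ⟨_, rfl⟩
    have hR : ct σ (col v) * g = ct σ Ci * ct σ (col v) := by
      have h1 : ct σ (col v) * adj σ g = ct σ Cm * ct σ (col v) := by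
        rw [hadd, ← ct_mul, hgXc, ct_mul]
      have h2 := congrArg (fun M => ct σ Ci * M * g) h1
      simp only [Matrix.mul_assoc, hθg, Matrix.mul_one] at h2
      rw [h2, ← Matrix.mul_assoc, ← ct_mul, ← hCu, hCi, Units.mul_inv, ct_one, Matrix.one_mul]
    obtain ⟨Y, hY, hYg, hYd⟩ := main (col v) (ct σ (col v)) _ hgXc hR hG
    refine ⟨Y, hYg, ?_, hYd⟩
    obtain ⟨G, hGdef⟩ : ∃ G, G = ct σ (col v) * col v := ⟨_, rfl⟩
    rw [← hGdef] at hG hY
    have hGd : IsUnit G.det := (Matrix.isUnit_iff_isUnit_det G).1 hG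
    have hGs : ct σ G = G := by rw [hGdef, ct_mul, ct_ct hσσ]
    have hGis : ct σ G⁻¹ = G⁻¹ := by
      refine (Matrix.inv_eq_left_inv (B := ct σ G⁻¹) ?_).symm
      conv_lhs => arg 2; rw [← hGs]
      rw [← ct_mul, Matrix.mul_nonsing_inv G hGd, ct_one]
    have hCG : ct σ Cm * G * Cm = G := by
      rw [hGdef, ← Matrix.mul_assoc, ← ct_mul, ← hgXc, Matrix.mul_assoc, ← hgXc, ct_mul, ← hadd,
        Matrix.mul_assoc, ← Matrix.mul_assoc (adj σ g), hθg, Matrix.one_mul]
    obtain ⟨B', hB'⟩ : ∃ B', B' = G⁻¹ * ct σ B * G := ⟨_, rfl⟩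
    have hB'C : Commute B' Cm := by
      have hK : G⁻¹ * ct σ Cm * G * Cm = 1 := by
        rw [Matrix.mul_assoc G⁻¹, Matrix.mul_assoc, hCG, Matrix.nonsing_inv_mul G hGd]
      have hK' : Commute B' (G⁻¹ * ct σ Cm * G) := by
        show B' * (G⁻¹ * ct σ Cm * G) = G⁻¹ * ct σ Cm * G * B'
        rw [hB']
        simp only [Matrix.mul_assoc]
        rw [← Matrix.mul_assoc G G⁻¹, Matrix.mul_nonsing_inv G hGd, Matrix.one_mul,
          ← Matrix.mul_assoc G G⁻¹, Matrix.mul_nonsing_inv G hGd, Matrix.one_mul,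
          ← Matrix.mul_assoc (ct σ B), ← Matrix.mul_assoc (ct σ Cm), ← ct_mul, ← ct_mul, hBC.eq]
      have := (show Commute B' ((⟨G⁻¹ * ct σ Cm * G, Cm, hK, mul_eq_one_comm.1 hK⟩ :
        (Matrix (Fin pb.dim) (Fin pb.dim) F)ˣ) : Matrix _ _ F) from hK').units_inv_right
      exact this
    have hBB : B * B' = B' * B := by
      rw [hBq]
      exact (Algebra.commute_of_mem_adjoin_singleton_of_commute
        (Polynomial.aeval_mem_adjoin_singleton F Cm) hB'C.symm.symm).symm.eq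
    have hθY : adj σ Y = 1 + col v * (B' * G⁻¹ * ct σ (col v)) := by
      rw [hY, adj_add, adj_one, hadd, ct_mul, ct_mul, ct_mul, ct_ct hσσ, hGis, hB',
        Matrix.mul_assoc (G⁻¹ * ct σ B), Matrix.mul_nonsing_inv G hGd, Matrix.mul_one]
      simp only [Matrix.mul_assoc]
    have key : ∀ B₁ B₂ : Matrix (Fin pb.dim) (Fin pb.dim) F,
        col v * (B₁ * G⁻¹ * ct σ (col v)) * (col v * (B₂ * G⁻¹ * ct σ (col v))) =
          col v * (B₁ * B₂ * G⁻¹ * ct σ (col v)) := by
      intro B₁ B₂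
      simp only [Matrix.mul_assoc]
      rw [← Matrix.mul_assoc (ct σ (col v)) (col v), ← hGdef, ← Matrix.mul_assoc G⁻¹ G,
        Matrix.nonsing_inv_mul G hGd, Matrix.one_mul]
    show Y * adj σ Y = adj σ Y * Y
    rw [hθY, hY]
    simp only [Matrix.add_mul, Matrix.mul_add, Matrix.one_mul, Matrix.mul_one, key, hBB]
    abel
  · -- a pair of totally isotropic subspaces
    obtain ⟨eθ, heθ⟩ := hpoly (b₀ * r)
    have hperp : E * adj σ E = 0 := by
      by_contra h0
      by_cases hdvd : P ∣ eθ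
      · obtain ⟨t, rfl⟩ := hdvd
        apply h0
        rw [hE, ← heθ, ← map_mul,
          show b₀ * r * (P * t) = b₀ * t * minpoly F g by rw [hr]; ring, map_mul, minpoly.aeval,
          mul_zero]
      · obtain ⟨c, hc⟩ := hdiv eθ hdvd
        have h1 : aeval g c * adj σ E * E = E := by
          refine Matrix.ext_of_mulVec_single fun j => ?_
          rw [← Matrix.mulVec_mulVec, ← Matrix.mulVec_mulVec, hE, ← heθ, ← hE]
          exact hc _ (hEkill _)
        have hcomm : Commute (adj σ E) E := by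
          rw [hE, ← heθ]; exact (Commute.all eθ (b₀ * r)).map (aeval g)
        have hθθ : adj σ E * adj σ E = adj σ E := by rw [← adj_mul, hEE]
        have h2 : adj σ E * E = E := by
          calc adj σ E * E = adj σ E * (aeval g c * adj σ E * E) := by rw [h1]
            _ = aeval g c * adj σ E * E := by
              rw [← mul_assoc, ← mul_assoc, show adj σ E * aeval g c = aeval g c * adj σ E by
                rw [hE, ← heθ]; exact ((Commute.all eθ c).map (aeval g)).eq, mul_assoc (aeval g c),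
                hθθ]
            _ = E := h1
        apply hcase
        calc adj σ E = adj σ (adj σ E * E) := by rw [h2]
          _ = adj σ E * E := by rw [adj_mul, adj_adj σ hσσ]
          _ = E := h2
    have hperp' : adj σ E * E = 0 := by
      rw [hE, ← heθ, ← map_mul, mul_comm, map_mul, heθ, ← hE]; exact hperp
    obtain ⟨i₀, j₀, hij⟩ : ∃ i j, E i j ≠ 0 := by
      by_contra hc
      push Not at hc
      exact hE0 (Matrix.ext hc)
    obtain ⟨v, hv⟩ : ∃ v, v = E *ᵥ Pi.single j₀ 1 := ⟨_, rfl⟩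
    have hEv : E *ᵥ v = v := by rw [hv, Matrix.mulVec_mulVec, hEE]
    obtain ⟨R, hR⟩ : ∃ R : Matrix (Fin pb.dim) (Fin n) F,
        R = Matrix.of fun (i : Fin pb.dim) k => (g ^ (i : ℕ) * E) i₀ k := ⟨_, rfl⟩
    have hRsum : ∀ (u : Fin n → F) i, (R *ᵥ u) i = ((g ^ (i : ℕ) * E) *ᵥ u) i₀ := fun u i => by
      rw [hR]; rfl
    have hcommg : ∀ a : F[X], aeval g a * g = g * aeval g a := fun a => by
      have h := (Commute.all a X).map (aeval g : F[X] →ₐ[F] _)
      rw [aeval_X] at h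
      exact h.eq
    have hRg : R * g = Cmᵀ * R := by
      refine Matrix.ext_of_mulVec_single fun k => funext fun i => ?_
      rw [← Matrix.mulVec_mulVec, ← Matrix.mulVec_mulVec, hRsum]
      obtain ⟨u, hu⟩ : ∃ u, u = (Pi.single k 1 : Fin n → F) := ⟨_, rfl⟩
      rw [← hu]
      have h1 : (g ^ (i : ℕ) * E) *ᵥ (g *ᵥ u) = g *ᵥ (g ^ (i : ℕ) *ᵥ (E *ᵥ u)) := by
        have hc : Commute g (g ^ (i : ℕ) * E) :=
          (Commute.pow_right (Commute.refl g) _).mul_right (by rw [hE]; exact (hcommg _).symm)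
        simp only [Matrix.mulVec_mulVec]
        rw [hc.eq.symm]
      have h2 := congrFun (congrFun (hgX (E *ᵥ u) (hEkill u)) i₀) i
      rw [h1]
      refine Eq.trans h2 ?_
      rw [Matrix.mul_apply, Matrix.mulVec, dotProduct]
      refine Finset.sum_congr rfl fun j _ => ?_
      rw [hRsum, Matrix.transpose_apply, ← Matrix.mulVec_mulVec, mul_comm]
      rfl
    have hXc := hgX v (hEv ▸ hEkill v)
    have hG : IsUnit (R * col v) := by
      rw [← Matrix.mulVec_injective_iff_isUnit, ← Matrix.coe_mulVecLin, ← LinearMap.ker_eq_bot,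
        Submodule.eq_bot_iff]
      intro u hu
      rw [LinearMap.mem_ker, Matrix.mulVecLin_apply, ← Matrix.mulVec_mulVec] at hu
      by_contra hu0
      obtain ⟨a, hPa, hXu⟩ := hnondiv v u hu0
      obtain ⟨c, hc⟩ := hdiv a hPa
      obtain ⟨w, hw⟩ : ∃ w, w = aeval g a *ᵥ v := ⟨_, rfl⟩
      have hEw : E *ᵥ w = w := by
        rw [hw, Matrix.mulVec_mulVec, show E * aeval g a = aeval g a * E by
          rw [hE]; exact ((Commute.all _ a).map (aeval g)).eq, ← Matrix.mulVec_mulVec, hEv]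
      obtain ⟨u', hu'⟩ := hspan w (hEw ▸ hEkill w) c
      have hcv : aeval g c *ᵥ w = v := hw ▸ hc v (hEv ▸ hEkill v)
      rw [hcol, hcv] at hu'
      have h0 : v i₀ = 0 := by
        rw [← hu', Finset.sum_apply]
        refine Finset.sum_eq_zero fun i _ => ?_
        have h := congrFun hu i
        rw [hRsum, hXu, ← hw, ← Matrix.mulVec_mulVec, hEw] at h
        rw [Pi.smul_apply, h]; simp
      rw [hv] at h0
      exact hij (by simpa [Matrix.mulVec_single_one] using h0)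
    obtain ⟨Y, hY, hYg, hYd⟩ := main (col v) R _ hXc hRg hG
    refine ⟨Y, hYg, ?_, hYd⟩
    have hEX : E * col v = col v := by
      refine Matrix.ext_of_mulVec_single fun j => ?_
      rw [← Matrix.mulVec_mulVec, hcol, Matrix.mulVec_sum]
      refine Finset.sum_congr rfl fun i _ => ?_
      rw [Matrix.mulVec_smul, Matrix.mulVec_mulVec, show E * g ^ (i : ℕ) = g ^ (i : ℕ) * E by
        rw [hE]; exact ((show Commute (aeval g (b₀ * r)) g from hcommg _).pow_right _).eq,
        ← Matrix.mulVec_mulVec, hEv]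
    have hRE : R * E = R := by
      ext i k
      rw [hR, Matrix.mul_apply]
      simp only [Matrix.of_apply]
      rw [← Matrix.mul_apply, mul_assoc, hEE]
    have h1 : ct σ (col v) * col v = 0 := by
      rw [← hEX, ct_mul, Matrix.mul_assoc, ← Matrix.mul_assoc (ct σ E), ← hadd, hperp',
        Matrix.zero_mul, Matrix.mul_zero]
    have h2 : R * ct σ R = 0 := by
      rw [← hRE, ct_mul, Matrix.mul_assoc, ← Matrix.mul_assoc E, ← hadd, hperp, Matrix.zero_mul,
        Matrix.mul_zero]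
    show Y * adj σ Y = adj σ Y * Y
    obtain ⟨K, hK⟩ : ∃ K, K = B * (R * col v)⁻¹ := ⟨_, rfl⟩
    rw [hY, ← hK, adj_add, adj_one, hadd, ct_mul, ct_mul]
    simp only [Matrix.add_mul, Matrix.mul_add, Matrix.one_mul, Matrix.mul_one]
    rw [show col v * (K * R) * (ct σ R * ct σ K * ct σ (col v)) =
        col v * K * (R * ct σ R) * (ct σ K * ct σ (col v)) by simp only [Matrix.mul_assoc],
      show ct σ R * ct σ K * ct σ (col v) * (col v * (K * R)) =
        ct σ R * ct σ K * (ct σ (col v) * col v) * (K * R) by simp only [Matrix.mul_assoc], h1, h2]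
    simp only [Matrix.mul_zero, Matrix.zero_mul, add_zero]
    abel

/-- Elements of `SU` of order prime to the characteristic are determined by the characteristic
polynomial up to conjugacy. -/
theorem isConj_of_charpoly [Fintype F] {q : ℕ} (hF : Fintype.card F = q ^ 2) (p : ℕ) [Fact p.Prime]
    [CharP F p] (g h : ↥(Cfsg.SU n F q)) (hg : (orderOf g).Coprime p) (hh : (orderOf h).Coprime p)
    (hc : ((g : Matrix.SpecialLinearGroup (Fin n) F) : Matrix (Fin n) (Fin n) F).charpoly =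
      ((h : Matrix.SpecialLinearGroup (Fin n) F) : Matrix (Fin n) (Fin n) F).charpoly) :
    IsConj g h := by
  rcases Nat.eq_zero_or_pos n with hn | hn
  · subst hn
    rw [Subsingleton.elim g h]
  obtain ⟨σ₀, hσ₀, hne, hinv, -, -⟩ := HermStd.exists_sigma hF
  obtain ⟨σ, hσ⟩ : ∃ σ : F ≃+* F, ∀ x, σ x = σ₀ x :=
    ⟨Hermitian.sEquiv hinv, Hermitian.sEquiv_apply hinv⟩
  have hσq : ∀ x, σ x = x ^ q := fun x => (hσ x).trans (hσ₀ x)
  have hσσ : ∀ x, σ (σ x) = x := fun x => by rw [hσ, hσ, hinv]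
  obtain ⟨μ, hμ⟩ : ∃ μ, σ μ ≠ μ := by
    by_contra hc'
    push Not at hc'
    exact hne (RingHom.ext fun x => (hσ x).symm.trans (hc' x))
  obtain ⟨gm, hgm⟩ : ∃ gm : Matrix (Fin n) (Fin n) F, gm = (g : Matrix.SpecialLinearGroup (Fin n) F) := ⟨_, rfl⟩
  obtain ⟨hm, hhm⟩ : ∃ hm : Matrix (Fin n) (Fin n) F, hm = (h : Matrix.SpecialLinearGroup (Fin n) F) := ⟨_, rfl⟩
  have hpow : ∀ x : ↥(Cfsg.SU n F q),
      ((x : Matrix.SpecialLinearGroup (Fin n) F) : Matrix (Fin n) (Fin n) F) ^ orderOf x = 1 := by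
    intro x
    rw [← coe_pow_SU, pow_orderOf_eq_one]; rfl
  have hgu : adj σ gm * gm = 1 := hgm ▸ (mem_SU_iff σ hσq _).1 g.2
  have hhu : adj σ hm * hm = 1 := hhm ▸ (mem_SU_iff σ hσq _).1 h.2
  obtain ⟨P, hP⟩ := SemisimpleCl.exists_conjugator
    (SemisimpleCl.isSemisimple_of_pow p (hgm ▸ hpow g) hg)
    (SemisimpleCl.isSemisimple_of_pow p (hhm ▸ hpow h) hh) (hgm ▸ hhm ▸ hc)
  obtain ⟨C, hC⟩ : ∃ C, C = adj σ P.1 * P.1 := ⟨_, rfl⟩
  have hCg : C * gm = gm * C := by
    have h2 := congrArg (adj σ) hP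
    rw [adj_mul, adj_mul] at h2
    rw [hC, mul_assoc, hP, ← mul_assoc, ← mul_assoc]
    congr 1
    calc adj σ P.1 * hm = gm * (adj σ gm * adj σ P.1) * hm := by
          rw [← mul_assoc gm, mul_eq_one_comm.1 hgu, one_mul]
      _ = gm * adj σ P.1 := by rw [h2, mul_assoc gm, mul_assoc (adj σ P.1), hhu, mul_one]
  have hscal : ∀ (a : F) (M : Matrix (Fin n) (Fin n) F), a • (1 : Matrix (Fin n) (Fin n) F) * M =
      M * a • (1 : Matrix (Fin n) (Fin n) F) := fun a M => by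
    rw [smul_mul_assoc, mul_smul_comm, one_mul, mul_one]
  obtain ⟨U, hU, hUU⟩ := InvolRing.exists_unitary_conj (adj σ) (adj_mul σ) (adj_add σ)
    (adj_adj σ hσσ) ({C, μ • 1, σ μ • 1} : Set (Matrix (Fin n) (Fin n) F))
    (by rintro a (rfl | rfl | rfl) b (rfl | rfl | rfl) <;>
      first | rfl | exact hscal _ _ | exact (hscal _ _).symm)
    (by
      rintro a (rfl | rfl | rfl)
      · exact Or.inl (by rw [hC, adj_mul, adj_adj σ hσσ])
      · simp [adj_smul, adj_one]
      · simp [adj_smul, adj_one, hσσ])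
    (g := gm) (h := hm) (by rintro a (rfl | rfl | rfl) <;> first | exact hCg | exact hscal _ _)
    P hP (by simp [hC]) (δ := μ • 1) (f := 0) (by simp) (zero_mem _) (adj_zero σ) (mul_zero _)
    (mul_zero _) (by
      rw [add_zero, adj_smul, adj_one, ← sub_smul]
      refine (Matrix.isUnit_iff_isUnit_det _).2 ?_
      rw [Matrix.det_smul, Matrix.det_one, mul_one]
      exact (IsUnit.mk0 _ (sub_ne_zero.2 fun e => hμ e.symm)).pow _)
  -- correct the determinant
  obtain ⟨D, hD⟩ : ∃ D, D = U.1.det := ⟨_, rfl⟩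
  have hDD : σ D * D = 1 := by rw [hD, ← det_adj, ← Matrix.det_mul, hUU, Matrix.det_one]
  obtain ⟨d, hd, hd90⟩ := InvolRing.exists_h90 (τ := σ.toRingHom) hσσ (δ := μ)
    (IsUnit.mk0 _ (sub_ne_zero.2 fun e => hμ e.symm)) (u := D⁻¹)
    (by
      show σ D⁻¹ * D⁻¹ = 1
      rw [map_inv₀, ← mul_inv, hDD, inv_one])
  replace hd90 : D⁻¹ * σ d = d := hd90
  obtain ⟨Y, hYg, hYY, hYd⟩ := exists_unit_det p hσσ hμ hn (N := orderOf g) hg (orderOf_pos g)
    (hgm ▸ hpow g) hgu hd.ne_zero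
  have hYu : IsUnit (adj σ Y) := by
    refine (Matrix.isUnit_iff_isUnit_det _).2 ?_
    rw [det_adj, hYd]
    exact IsUnit.mk0 _ ((map_ne_zero σ).2 hd.ne_zero)
  obtain ⟨Yu, hYu⟩ := hYu
  obtain ⟨Z, hZ⟩ : ∃ Z, Z = Y * ((Yu⁻¹ : (Matrix (Fin n) (Fin n) F)ˣ) : Matrix (Fin n) (Fin n) F) :=
    ⟨_, rfl⟩
  have hZg : Z * gm = gm * Z := by
    have h1 : Commute (adj σ Y) gm := by
      have h2 := congrArg (adj σ) hYg.eq
      rw [adj_mul, adj_mul] at h2
      show adj σ Y * gm = gm * adj σ Y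
      calc adj σ Y * gm = gm * (adj σ gm * adj σ Y) * gm := by
            rw [← mul_assoc gm, mul_eq_one_comm.1 hgu, one_mul]
        _ = gm * adj σ Y := by rw [h2, mul_assoc gm, mul_assoc (adj σ Y), hgu, mul_one]
    rw [← hYu] at h1
    rw [hZ]
    exact (hYg.mul_left h1.units_inv_left).eq
  have hZZ : adj σ Z * Z = 1 := by
    have h3 : adj σ ((Yu⁻¹ : (Matrix (Fin n) (Fin n) F)ˣ) : Matrix (Fin n) (Fin n) F) * Y = 1 := by
      rw [show Y = adj σ (Yu : Matrix (Fin n) (Fin n) F) by rw [hYu, adj_adj σ hσσ], ← adj_mul,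
        Units.mul_inv, adj_one]
    rw [hZ, adj_mul, mul_assoc, ← mul_assoc (adj σ Y), ← hYY.eq, mul_assoc Y, ← hYu, Units.mul_inv,
      mul_one, h3]
  have hZd : Z.det = D⁻¹ := by
    have h4 : Z * adj σ Y = Y := by rw [hZ, mul_assoc, ← hYu, Units.inv_mul, mul_one]
    have h5 := congrArg Matrix.det h4
    rw [Matrix.det_mul, det_adj, hYd] at h5
    exact mul_right_cancel₀ ((map_ne_zero σ).2 hd.ne_zero) (h5.trans hd90.symm)
  have hDne : D ≠ 0 := right_ne_zero_of_mul_eq_one hDD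
  obtain ⟨s, hs⟩ := exists_mem_SU (q := q) σ hσq (M := U.1 * Z)
    (by rw [adj_mul, mul_assoc, ← mul_assoc (adj σ U.1), hUU, one_mul, hZZ])
    (by rw [Matrix.det_mul, hZd, ← hD, mul_inv_cancel₀ hDne])
  refine isConj_iff.2 ⟨s, ?_⟩
  rw [mul_inv_eq_iff_eq_mul]
  apply Subtype.ext
  apply Subtype.ext
  show ((s : Matrix.SpecialLinearGroup (Fin n) F) : Matrix (Fin n) (Fin n) F) *
      ((g : Matrix.SpecialLinearGroup (Fin n) F) : Matrix (Fin n) (Fin n) F) =
    ((h : Matrix.SpecialLinearGroup (Fin n) F) : Matrix (Fin n) (Fin n) F) *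
      ((s : Matrix.SpecialLinearGroup (Fin n) F) : Matrix (Fin n) (Fin n) F)
  rw [hs, ← hgm, ← hhm, mul_assoc, hZg, ← mul_assoc, hU, mul_assoc]

end Cfsg.Agent.UnitaryClasses
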