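/-
Characteristic polynomials of unitary matrices, and the number of classes of `SU` of order prime to
the characteristic.
-/
import Cfsg.Agent.Lib.Classical.UnitaryClasses
import Cfsg.Agent.Lib.Classical.SelfRecip

set_option autoImplicit false

namespace Cfsg.Agent.UnitaryClasses

open Matrix Polynomial UnitarySpectra

variable {F : Type*} [Field F] {n : ℕ}

theorem charpoly_symm (σ : F ≃+* F) {g : Matrix (Fin n) (Fin n) F} (hg : adj σ g * g = 1)
    {i : ℕ} (hi : i ≤ n) :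
    g.charpoly.coeff (n - i) = g.charpoly.coeff 0 * σ (g.charpoly.coeff i) := by
  have h := SelfRecip.coeff_rev_charpoly g (adj σ g) hg i (by rwa [Fintype.card_fin])
  rw [Fintype.card_fin] at h
  rw [h, adj, Matrix.charpoly_transpose, show g.map σ = g.map σ.toRingHom from rfl,
    Matrix.charpoly_map, coeff_map]
  rfl

theorem exists_charpoly_eq [Fintype F] (σ : F ≃+* F) (hσ2 : orderOf σ = 2) {μ : F} (hμ : σ μ ≠ μ)
    {f : F[X]} (hf : f.Monic) (hn : f.natDegree = n) (h0 : f.coeff 0 ≠ 0)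
    (hsym : ∀ i ≤ n, f.coeff (n - i) = f.coeff 0 * σ (f.coeff i)) :
    ∃ M : Matrix (Fin n) (Fin n) F, adj σ M * M = 1 ∧ M.charpoly = f := by
  have hσσ : ∀ x, σ (σ x) = x := fun x => by
    have h : σ ^ 2 = 1 := hσ2 ▸ pow_orderOf_eq_one σ
    rw [sq] at h
    exact RingEquiv.congr_fun h x
  obtain ⟨τ, hτr, hττ, hτc⟩ := SelfRecip.exists_invol (σ.toRingHom) hσσ hn h0 hsym
  have hτs : ∀ (c : F) (x : AdjoinRoot f), τ (c • x) = σ c • τ x := fun c x => by
    rw [Algebra.smul_def, map_mul, hτc, Algebra.smul_def]; rfl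
  haveI : Module.Finite F (AdjoinRoot f) := hf.finite_adjoinRoot
  haveI : Finite (AdjoinRoot f) := Module.finite_of_finite F
  obtain ⟨top, htop⟩ : ∃ top : AdjoinRoot f →ₗ[F] F, top = SelfRecip.topCoeff hf (n := n) := ⟨_, rfl⟩
  have hnd : ∀ x, (∀ y, top (x * y) = 0) → x = 0 := fun x hx =>
    SelfRecip.topCoeff_nondeg hf hn x (htop ▸ hx)
  let Ψ : AdjoinRoot f →ₗ[F] (AdjoinRoot f →ₗ[F] F) :=
    LinearMap.mk₂ F (fun x y => top (x * y))
      (fun a b c => by simp only [add_mul, map_add]) (fun c a b => by simp only [smul_mul_assoc, map_smul])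
      (fun a b c => by simp only [mul_add, map_add]) (fun c a b => by simp only [mul_smul_comm, map_smul])
  have hΨ : Function.Injective Ψ := by
    rw [← LinearMap.ker_eq_bot, LinearMap.ker_eq_bot']
    exact fun x hx => hnd x fun y => LinearMap.congr_fun hx y
  let φ : AdjoinRoot f →ₗ[F] F :=
    { toFun := fun y => σ (top (τ y))
      map_add' := fun a b => by simp only [map_add]
      map_smul' := fun c a => by
        simp only [hτs, map_smul, smul_eq_mul, RingHom.id_apply, map_mul σ, hσσ] }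
  obtain ⟨u, hu⟩ := (LinearMap.injective_iff_surjective_of_finrank_eq_finrank
    Subspace.dual_finrank_eq.symm).1 hΨ φ
  replace hu : ∀ y, σ (top (τ y)) = top (u * y) := fun y => (LinearMap.congr_fun hu y).symm
  have huu : τ u * u = 1 := by
    have h : ∀ y, top ((τ u * u - 1) * y) = 0 := fun y => by
      have h1 := hu (τ u * y)
      have h2 := hu (τ y)
      rw [map_mul τ, hττ, ← h2, hσσ, hττ] at h1
      rw [sub_mul, one_mul, map_sub top, sub_eq_zero, mul_comm (τ u) u, mul_assoc]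
      exact h1.symm
    exact sub_eq_zero.1 (hnd _ h)
  obtain ⟨w, hw, hwu⟩ := InvolRing.exists_h90 (τ := τ) hττ
    (δ := algebraMap F (AdjoinRoot f) μ)
    (by
      rw [hτc, ← map_sub]
      exact (IsUnit.mk0 _ (sub_ne_zero.2 fun e => hμ e.symm)).map _) huu
  obtain ⟨ℓ, hℓ⟩ : ∃ ℓ : AdjoinRoot f →ₗ[F] F, ∀ x, ℓ x = top (w * x) :=
    ⟨top.comp (LinearMap.mulLeft F w), fun _ => rfl⟩
  have hℓτ : ∀ x, ℓ (τ x) = σ (ℓ x) := fun x => by
    have h := hu (τ w * x)
    rw [map_mul τ, hττ, ← mul_assoc, hwu, ← hℓ x, ← hℓ (τ x)] at h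
    rw [← h, hσσ]
  obtain ⟨b, hb⟩ := exists_model (n := n) σ hσ2 (A := AdjoinRoot f)
    (by rw [(AdjoinRoot.powerBasis' hf).finrank, AdjoinRoot.powerBasis'_dim, hn]) τ hττ hτc ℓ hℓτ
    (fun x hx => by
      refine (IsUnit.mul_right_eq_zero hw).1 (hnd _ fun y => ?_)
      rw [mul_assoc, ← hℓ]; exact hx y)
  refine ⟨Algebra.leftMulMatrix b (AdjoinRoot.root f), ?_, ?_⟩
  · rw [hb, ← map_mul, hτr, map_one]
  · have h := charpoly_leftMulMatrix (AdjoinRoot.powerBasis' hf)
    rw [AdjoinRoot.powerBasis'_gen, AdjoinRoot.minpoly_root hf.ne_zero, hf.leadingCoeff, inv_one,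
      map_one, mul_one] at h
    refine Eq.trans ?_ h
    exact (LinearMap.charpoly_toMatrix (LinearMap.mulLeft F (AdjoinRoot.root f)) b).trans
      (LinearMap.charpoly_toMatrix (LinearMap.mulLeft F (AdjoinRoot.root f))
        (AdjoinRoot.powerBasis' hf).basis).symm

theorem card_classes [Fintype F] {q : ℕ} (hF : Fintype.card F = q ^ 2) (p : ℕ) [Fact p.Prime]
    [CharP F p] (n : ℕ) (hn : 1 ≤ n) :
    Nat.card {c : ConjClasses ↥(Cfsg.SU n F q) //
      ∃ g : ↥(Cfsg.SU n F q), ConjClasses.mk g = c ∧ (orderOf g).Coprime p} = q ^ (n - 1) := by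
  classical
  obtain ⟨σ₀, hσ₀, hne, hinv, hfix, -⟩ := HermStd.exists_sigma hF
  obtain ⟨σ, hσ⟩ : ∃ σ : F ≃+* F, ∀ x, σ x = σ₀ x :=
    ⟨Hermitian.sEquiv hinv, Hermitian.sEquiv_apply hinv⟩
  have hσq : ∀ x, σ x = x ^ q := fun x => (hσ x).trans (hσ₀ x)
  have hσσ : ∀ x, σ (σ x) = x := fun x => by rw [hσ, hσ, hinv]
  obtain ⟨μ, hμ⟩ : ∃ μ, σ μ ≠ μ := by
    by_contra hc'
    push Not at hc'
    exact hne (RingHom.ext fun x => (hσ x).symm.trans (hc' x))
  have hσ2 : orderOf σ = 2 := by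
    haveI : Fact (Nat.Prime 2) := ⟨Nat.prime_two⟩
    refine orderOf_eq_prime (RingEquiv.ext fun x => ?_) fun h => hμ ?_
    · rw [sq]; exact hσσ x
    · rw [h]; rfl
  rw [SemisimpleCl.card_semisimple
    (fun g : ↥(Cfsg.SU n F q) => ((g : Matrix.SpecialLinearGroup (Fin n) F) : Matrix (Fin n) (Fin n) F))
    (fun a b hab => by
      obtain ⟨c, hc⟩ := isConj_iff.1 hab
      have hcc : ((c : Matrix.SpecialLinearGroup (Fin n) F) : Matrix (Fin n) (Fin n) F) *
          (((c⁻¹ : Cfsg.SU n F q) : Matrix.SpecialLinearGroup (Fin n) F) : Matrix (Fin n) (Fin n) F) = 1 := by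
        rw [← Matrix.SpecialLinearGroup.coe_mul, ← Subgroup.coe_mul, mul_inv_cancel]; rfl
      let u : (Matrix (Fin n) (Fin n) F)ˣ := ⟨_, _, hcc, mul_eq_one_comm.1 hcc⟩
      rw [← hc]
      simp only [Subgroup.coe_mul, Matrix.SpecialLinearGroup.coe_mul]
      rw [← Matrix.inv_eq_right_inv hcc]
      exact (Matrix.charpoly_units_conj u _).symm)
    (fun g => (orderOf g).Coprime p) (fun a b ha hb hab => isConj_of_charpoly hF p a b ha hb hab)
    (fun f => (f.Monic ∧ f.natDegree = n) ∧ f.coeff 0 = (-1) ^ n ∧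
      ∀ i ≤ n, f.coeff (n - i) = f.coeff 0 * σ (f.coeff i))
    (fun g => by
      refine ⟨⟨Matrix.charpoly_monic _, by rw [Matrix.charpoly_natDegree_eq_dim, Fintype.card_fin]⟩,
        ?_, fun i hi => charpoly_symm σ ((mem_SU_iff σ hσq _).1 g.2) hi⟩
      have h := Matrix.det_eq_sign_charpoly_coeff ((g : Matrix.SpecialLinearGroup (Fin n) F) : Matrix (Fin n) (Fin n) F)
      rw [(g : Matrix.SpecialLinearGroup (Fin n) F).det_coe, Fintype.card_fin] at h
      calc _ = (-1 : F) ^ n * ((-1) ^ n *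
            ((g : Matrix.SpecialLinearGroup (Fin n) F) : Matrix (Fin n) (Fin n) F).charpoly.coeff 0) := by
            rw [← mul_assoc, ← mul_pow, neg_one_mul, neg_neg, one_pow, one_mul]
        _ = (-1 : F) ^ n := by rw [← h, mul_one])
    (fun f hf => by
      obtain ⟨M, hM, hMf⟩ := exists_charpoly_eq σ hσ2 hμ hf.1.1 hf.1.2
        (by rw [hf.2.1]; exact pow_ne_zero _ (neg_ne_zero.2 one_ne_zero)) hf.2.2
      obtain ⟨g, hg⟩ := exists_mem_SU (q := q) σ hσq hM (by
        rw [Matrix.det_eq_sign_charpoly_coeff, hMf, hf.2.1, Fintype.card_fin, ← mul_pow, neg_one_mul,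
          neg_neg, one_pow])
      obtain ⟨j, hj⟩ := SemisimpleCl.exists_coprime_pow (F := F) p g
      refine ⟨_, hj, ?_⟩
      rw [coe_pow_SU, SemisimpleCl.charpoly_pow_card_pow, hg, hMf])]
  obtain ⟨K, rfl⟩ : ∃ K, n = K + 1 := ⟨n - 1, by omega⟩
  have hε : ∀ x, (-1 : F) ^ (K + 1) * σ ((-1) ^ (K + 1) * σ x) = x := fun x => by
    rw [map_mul, map_pow, map_neg, map_one, hσσ, ← mul_assoc, ← mul_pow, neg_one_mul, neg_neg,
      one_pow, one_mul]
  rw [Nat.card_congr (Equiv.subtypeEquivRight (q := fun f : F[X] =>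
      f.Monic ∧ f.natDegree = K + 1 ∧ f.coeff 0 = (-1) ^ (K + 1) ∧
        ∀ i, 1 ≤ i → i ≤ K → f.coeff (K + 1 - i) = (-1) ^ (K + 1) * σ (f.coeff i)) fun f => ?_),
    SelfRecip.card_selfrecip (fun x => (-1) ^ (K + 1) * σ x) hε K]
  · rw [Nat.card_eq_fintype_card (α := F), hF, ← pow_mul, Nat.add_sub_cancel]
    rcases Nat.mod_two_eq_zero_or_one K with hK | hK
    · rw [hK, pow_zero, mul_one]; congr 1; omega
    · have heven : (-1 : F) ^ (K + 1) = 1 := Even.neg_one_pow (Nat.even_iff.2 (by omega))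
      rw [hK, pow_one, Nat.card_congr (Equiv.subtypeEquivRight (q := fun x => x ∈ Hermitian.fixed σ₀)
        fun x => by rw [heven, one_mul, Hermitian.mem_fixed, hσ]), show
        Nat.card {x // x ∈ Hermitian.fixed σ₀} = q from hfix, ← pow_succ]
      congr 1; omega
  · refine ⟨fun h => ⟨h.1.1, h.1.2, h.2.1, fun i _ hi => (h.2.2 i (by omega)).trans (by rw [h.2.1])⟩,
      fun h => ⟨⟨h.1, h.2.1⟩, h.2.2.1, fun i hi => ?_⟩⟩
    have hlead : f.coeff (K + 1) = 1 := by
      have := h.1.coeff_natDegree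
      rwa [h.2.1] at this
    rcases Nat.eq_zero_or_pos i with rfl | hi0
    · rw [Nat.sub_zero, hlead, h.2.2.1, map_pow, map_neg, map_one, ← mul_pow, neg_one_mul, neg_neg,
        one_pow]
    rcases Nat.lt_or_ge K i with hKi | hKi
    · obtain rfl : i = K + 1 := by omega
      rw [Nat.sub_self, hlead, map_one, mul_one]
    rw [h.2.2.1]
    exact h.2.2.2 i hi0 hKi

end Cfsg.Agent.UnitaryClasses
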