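/-
The stabiliser in Sp_2m of a non-degenerate subspace splits as a product.
-/
import Cfsg.Agent.Lib.Classical.AlternatingWitt
import Cfsg.Agent.Lib.Classical.Symplectic

set_option autoImplicit false

namespace Cfsg.Agent.SympStab

open Module AltForm
open LinearMap (BilinForm)

variable {F : Type*} [Field F]

theorem exists_isometry {m : ℕ} {V : Type*} [AddCommGroup V] [Module F V] [FiniteDimensional F V]
    {B : BilinForm F V} (hA : B.IsAlt) (hB : ∀ x, (∀ y, B x y = 0) → x = 0) (hm : finrank F V = 2 * m) :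
    ∃ ψ : (Fin m ⊕ Fin m → F) ≃ₗ[F] V, ∀ a b, B (ψ a) (ψ b) = ClassicalSp.spBilin m F a b := by
  classical
  obtain ⟨m', k, b, he, hee, hff, hr⟩ := exists_basis hA
  have hk : k = 0 := by
    by_contra hk
    exact b.ne_zero (Sum.inr ⟨0, by omega⟩) (hB _ fun y => hr _ y)
  subst hk
  have hmm : m' = m := by
    have := finrank_eq_card_basis b
    rw [hm] at this
    simp at this
    omega
  subst hmm
  let b' := b.reindex (Equiv.sumEmpty (Fin m' ⊕ Fin m') (Fin 0))
  let b'' := b'.reindex (Equiv.sumComm (Fin m') (Fin m'))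
  refine ⟨b''.equivFun.symm, fun x y => ?_⟩
  have h : ∀ i j, B (b'' i) (b'' j) = ClassicalSp.spBilin m' F (Pi.single i 1) (Pi.single j 1) := by
    intro i j
    rw [ClassicalSp.spBilin, Matrix.toBilin'_apply']
    have hfe : ∀ i j : Fin m', B (b (Sum.inl (Sum.inr i))) (b (Sum.inl (Sum.inl j))) =
        if i = j then -1 else 0 := fun i j => by
      rw [AltForm.swap hA, he]
      by_cases h : i = j
      · subst h; simp
      · simp [h, Ne.symm h]
    rcases i with i | i <;> rcases j with j | j <;>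
      simp [b'', b', Matrix.J, Matrix.fromBlocks, he, hee, hff, hfe, Matrix.one_apply, neg_ite] 
  rw [Module.Basis.equivFun_symm_apply, Module.Basis.equivFun_symm_apply]
  conv_rhs => rw [pi_eq_sum_univ' x, pi_eq_sum_univ' y]
  simp only [map_sum, map_smul, LinearMap.sum_apply, LinearMap.smul_apply, smul_eq_mul, h]

theorem exists_equiv_stab {m k : ℕ} (hk : k ≤ m) (W : Submodule F (Fin m ⊕ Fin m → F))
    (hWk : finrank F W = 2 * k)
    (hW : ∀ u ∈ W, (∀ v ∈ W, ClassicalSp.spBilin m F u v = 0) → u = 0) :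
    Nonempty (↥(Cfsg.stabilizing (Cfsg.spToMat m F) (W : Set (Fin m ⊕ Fin m → F))) ≃*
      Matrix.symplecticGroup (Fin k) F × Matrix.symplecticGroup (Fin (m - k)) F) := by
  classical
  set B := ClassicalSp.spBilin m F with hBdef
  have hA : B.IsAlt := ClassicalSp.spBilin_isAlt
  have hB : B.Nondegenerate := ClassicalSp.spBilin_nondeg
  have hWn : (B.restrict W).Nondegenerate := by
    have h1 : ∀ x : W, (∀ y : W, B (x : Fin m ⊕ Fin m → F) y = 0) → x = 0 := fun x hx =>
      Subtype.ext (hW x.1 x.2 fun v hv => hx ⟨v, hv⟩)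
    exact ⟨fun x hx => h1 x hx, fun x hx => h1 x fun y => by
      rw [AltForm.swap hA (y : Fin m ⊕ Fin m → F)]; exact neg_eq_zero.2 (hx y)⟩
  set U := B.orthogonal W with hU
  have hc : IsCompl W U := LinearMap.BilinForm.isCompl_orthogonal_of_restrict_nondegenerate
    hA.isRefl hWn
  have hdU : finrank F U = 2 * (m - k) := by
    have h := Submodule.finrank_add_eq_of_isCompl hc
    rw [ClassicalSp.finrank_space, hWk] at h
    omega
  have hUn : ∀ x : U, (∀ y : U, B (x : Fin m ⊕ Fin m → F) y = 0) → x = 0 := by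
    intro x hx
    refine Subtype.ext (hB.1 x.1 fun v => ?_)
    obtain ⟨w, hw, u, hu, rfl⟩ := Submodule.mem_sup.1 (hc.sup_eq_top ▸ Submodule.mem_top : v ∈ W ⊔ U)
    rw [map_add, show B (x : Fin m ⊕ Fin m → F) u = 0 from hx ⟨u, hu⟩, add_zero, AltForm.swap hA w,
      show B w (x : Fin m ⊕ Fin m → F) = 0 from x.2 w hw, neg_zero]
  obtain ⟨ψ, hψ⟩ := exists_isometry (m := k) (B := B.restrict W) (restrict_isAlt hA W)
    (fun x hx => hWn.1 x hx) hWk
  obtain ⟨χ, hχ⟩ := exists_isometry (m := m - k) (B := B.restrict U) (restrict_isAlt hA U) hUn hdU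
  have hψ' : ∀ a b, B (ψ a).1 (ψ b).1 = ClassicalSp.spBilin k F a b := hψ
  have hχ' : ∀ a b, B (χ a).1 (χ b).1 = ClassicalSp.spBilin (m - k) F a b := hχ
  have hWU : ∀ (w : W) (u : U), B (w : Fin m ⊕ Fin m → F) u = 0 ∧ B (u : Fin m ⊕ Fin m → F) w = 0 :=
    fun w u => ⟨u.2 w w.2, by rw [AltForm.swap hA (w : Fin m ⊕ Fin m → F), show B w.1 u.1 = 0 from u.2 w w.2, neg_zero]⟩
  let e : ((Fin k ⊕ Fin k → F) × (Fin (m - k) ⊕ Fin (m - k) → F)) ≃ₗ[F] (Fin m ⊕ Fin m → F) :=
    (ψ.prodCongr χ).trans (Submodule.prodEquivOfIsCompl W U hc)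
  have he : ∀ p, e p = (ψ p.1 : Fin m ⊕ Fin m → F) + (χ p.2 : Fin m ⊕ Fin m → F) := fun p => rfl
  have hef : ∀ p r, B (e p) (e r) =
      ClassicalSp.spBilin k F p.1 r.1 + ClassicalSp.spBilin (m - k) F p.2 r.2 := fun p r => by
    simp [he, hWU, hψ', hχ']
  have hinW : ∀ p, e p ∈ W ↔ p.2 = 0 := fun p => by
    rw [he, W.add_mem_iff_right (ψ p.1).2]
    constructor
    · intro h
      have h0 : (χ p.2 : Fin m ⊕ Fin m → F) = 0 :=
        Submodule.mem_bot F |>.1 (hc.inf_eq_bot ▸ ⟨h, (χ p.2).2⟩)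
      exact χ.map_eq_zero_iff.1 (Subtype.ext h0)
    · intro h; simp [h]
  -- the embedding
  let L : Matrix.symplecticGroup (Fin k) F × Matrix.symplecticGroup (Fin (m - k)) F →*
      ((Fin m ⊕ Fin m → F) ≃ₗ[F] (Fin m ⊕ Fin m → F)) :=
    { toFun := fun g => (e.symm.trans ((ClassicalSp.toEquiv g.1).prodCongr (ClassicalSp.toEquiv g.2))).trans e
      map_one' := by
        refine LinearEquiv.ext fun x => ?_
        simp
      map_mul' := fun g g' => by
        refine LinearEquiv.ext fun x => ?_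
        simp [Matrix.mulVec_mulVec] }
  have hL : ∀ g p, L g (e p) = e (ClassicalSp.toEquiv g.1 p.1, ClassicalSp.toEquiv g.2 p.2) := fun g p => by
    simp [L]
  have hLmem : ∀ g, L g ∈ isoGroup B := fun g x y => by
    obtain ⟨p, rfl⟩ := e.surjective x
    obtain ⟨r, rfl⟩ := e.surjective y
    rw [hL, hL, hef, hef, ClassicalSp.toEquiv_mem g.1, ClassicalSp.toEquiv_mem g.2]
  let Φ : Matrix.symplecticGroup (Fin k) F × Matrix.symplecticGroup (Fin (m - k)) F →*
      Matrix.symplecticGroup (Fin m) F :=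
    (ClassicalSp.spEquiv (m := m) (F := F)).symm.toMonoidHom.comp (L.codRestrict _ hLmem)
  have hΦ : ∀ g x, Matrix.mulVec (Φ g).1 x = L g x := fun g x => by
    rw [← ClassicalSp.spEquiv_apply]
    simp [Φ]
  have hrange : Φ.range = Cfsg.stabilizing (Cfsg.spToMat m F) (W : Set (Fin m ⊕ Fin m → F)) := by
    refine le_antisymm ?_ ?_
    · rintro _ ⟨g, rfl⟩ x
      obtain ⟨p, rfl⟩ := e.surjective x
      show e p ∈ W ↔ Matrix.mulVec (Φ g).1 (e p) ∈ W
      rw [hΦ, hL, hinW, hinW]
      exact (ClassicalSp.toEquiv g.2).map_eq_zero_iff.symm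
    · intro A hA'
      have hW' : ∀ x, x ∈ W ↔ ClassicalSp.toEquiv A x ∈ W := hA'
      let T := e.trans ((ClassicalSp.toEquiv A).trans e.symm)
      have hT : ∀ p, e (T p) = ClassicalSp.toEquiv A (e p) := fun p => e.apply_symm_apply _
      have hTf : ∀ p r, ClassicalSp.spBilin k F (T p).1 (T r).1 + ClassicalSp.spBilin (m - k) F (T p).2 (T r).2 =
          ClassicalSp.spBilin k F p.1 r.1 + ClassicalSp.spBilin (m - k) F p.2 r.2 := fun p r => by
        rw [← hef, ← hef, hT, hT]; exact ClassicalSp.toEquiv_mem A _ _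
      have hz1 : ∀ p, p.2 = 0 → (T p).2 = 0 := fun p hp => by
        rw [← hinW, hT, ← hW', hinW]; exact hp
      have hz2 : ∀ p, p.1 = 0 → (T p).1 = 0 := fun p hp => by
        refine ClassicalSp.spBilin_nondeg.1 _ fun w => ?_
        obtain ⟨r, hr⟩ := T.surjective (w, 0)
        have hr2 : r.2 = 0 := by
          rw [← hinW, hW', ← hT, hr, hinW]
        simpa [hr, hp, hr2] using hTf p r
      let a : (Fin k ⊕ Fin k → F) →ₗ[F] (Fin k ⊕ Fin k → F) :=
        LinearMap.fst F _ _ ∘ₗ T.toLinearMap ∘ₗ LinearMap.inl F _ _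
      let c : (Fin (m - k) ⊕ Fin (m - k) → F) →ₗ[F] (Fin (m - k) ⊕ Fin (m - k) → F) :=
        LinearMap.snd F _ _ ∘ₗ T.toLinearMap ∘ₗ LinearMap.inr F _ _
      have hsplit : ∀ p, T p = (a p.1, c p.2) := fun p => by
        have h : T p = T (p.1, 0) + T (0, p.2) := by
          rw [← map_add]; congr 1; exact Prod.ext (by simp) (by simp)
        rw [h]
        refine Prod.ext ?_ ?_
        · simp [a, hz2 (0, p.2) rfl]
        · simp [c, hz1 (p.1, 0) rfl]
      have haf : LinearMap.toMatrix' a ∈ Matrix.symplecticGroup (Fin k) F :=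
        (ClassicalSp.mem_iff_preserves _).2 fun u v => by
          rw [LinearMap.toMatrix'_mulVec, LinearMap.toMatrix'_mulVec, ← ClassicalSp.spBilin_apply,
            ← ClassicalSp.spBilin_apply]
          simpa [hsplit] using hTf (u, 0) (v, 0)
      have hcf : LinearMap.toMatrix' c ∈ Matrix.symplecticGroup (Fin (m - k)) F :=
        (ClassicalSp.mem_iff_preserves _).2 fun u v => by
          rw [LinearMap.toMatrix'_mulVec, LinearMap.toMatrix'_mulVec, ← ClassicalSp.spBilin_apply,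
            ← ClassicalSp.spBilin_apply]
          simpa [hsplit] using hTf (0, u) (0, v)
      refine ⟨(⟨_, haf⟩, ⟨_, hcf⟩), ClassicalSp.toEquiv_injective (LinearEquiv.ext fun x => ?_)⟩
      obtain ⟨p, rfl⟩ := e.surjective x
      rw [ClassicalSp.toEquiv_apply, hΦ, hL, ← hT, hsplit]
      simp
  have hinj : Function.Injective Φ := by
    intro g g' h
    have hp : ∀ p : (Fin k ⊕ Fin k → F) × (Fin (m - k) ⊕ Fin (m - k) → F), (ClassicalSp.toEquiv g.1 p.1, ClassicalSp.toEquiv g.2 p.2) =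
        (ClassicalSp.toEquiv g'.1 p.1, ClassicalSp.toEquiv g'.2 p.2) := fun p =>
      e.injective (by rw [← hL, ← hL, ← hΦ, ← hΦ, h])
    exact Prod.ext
      (ClassicalSp.toEquiv_injective (LinearEquiv.ext fun x => congrArg Prod.fst (hp (x, 0))))
      (ClassicalSp.toEquiv_injective (LinearEquiv.ext fun x => congrArg Prod.snd (hp (0, x))))
  exact ⟨(MulEquiv.subgroupCongr hrange.symm).trans (MonoidHom.ofInjective hinj).symm⟩

end Cfsg.Agent.SympStab
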