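import Cfsg.Prelude.Def_EvenType
import Cfsg.Prelude.Def_CaseTheorems
import Mathlib.LinearAlgebra.SymplecticGroup
import Mathlib.LinearAlgebra.Matrix.ToLin
import Mathlib.FieldTheory.Finite.Basic
import Mathlib.Tactic

/-! The 2-rank of symplectic groups in odd characteristic. -/

set_option autoImplicit false

namespace Cfsg.Agent.SympRank

open Module

variable {F : Type*} [Field F]

/-- Commuting involutive isometries of an alternating nondegenerate form. -/
theorem card_sq_le (h2 : (2 : F) ≠ 0) (m : ℕ) : ∀ (V : Type _) [AddCommGroup V] [Module F V] [FiniteDimensional F V],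
    finrank F V = m → ∀ (B : V →ₗ[F] V →ₗ[F] F), (∀ v, B v v = 0) → (∀ v, v ≠ 0 → ∃ w, B v w ≠ 0) →
    ∀ (S : Finset (V →ₗ[F] V)), (∀ e ∈ S, ∀ v w, B (e v) (e w) = B v w) → (∀ e ∈ S, ∀ v, e (e v) = v) →
      (∀ e ∈ S, ∀ f ∈ S, ∀ v, e (f v) = f (e v)) → S.card ^ 2 ≤ 2 ^ m := by
  induction m using Nat.strong_induction_on with
  | _ m ih =>
    intro V _ _ _ hm B halt hnd S hiso hinv hcomm
    classical
    by_cases hsc : ∀ e ∈ S, e = LinearMap.id ∨ e = -LinearMap.id
    · have h2c : S.card ≤ 2 := by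
        refine (Finset.card_le_card (t := {LinearMap.id, -LinearMap.id}) fun e he => ?_).trans Finset.card_le_two
        rcases hsc e he with rfl | rfl <;> simp
      by_cases hm0 : m = 0
      · subst hm0
        have : Subsingleton V := finrank_zero_iff.mp hm
        have hS1 : S.card ≤ 1 := Finset.card_le_one.mpr fun a _ b _ => Subsingleton.elim a b
        simpa using Nat.pow_le_pow_left hS1 2
      · have hm2 : 2 ≤ m := by
          by_contra hlt
          have h1 : finrank F V = 1 := by omega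
          obtain ⟨v, hv, hspan⟩ := finrank_eq_one_iff'.mp h1
          obtain ⟨w, hw⟩ := hnd v hv
          obtain ⟨c, rfl⟩ := hspan w
          exact hw (by rw [map_smul, halt, smul_zero])
        calc S.card ^ 2 ≤ 2 ^ 2 := Nat.pow_le_pow_left h2c 2
          _ ≤ 2 ^ m := Nat.pow_le_pow_right two_pos hm2
    · push Not at hsc
      obtain ⟨e, he, he1, hem1⟩ := hsc
      let P : Submodule F V := LinearMap.ker (e - LinearMap.id)
      let M : Submodule F V := LinearMap.ker (e + LinearMap.id)
      have hP : ∀ v, v ∈ P ↔ e v = v := fun v => by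
        show (e - LinearMap.id : V →ₗ[F] V) v = 0 ↔ _
        rw [LinearMap.sub_apply, LinearMap.id_apply, sub_eq_zero]
      have hM : ∀ v, v ∈ M ↔ e v = -v := fun v => by
        show (e + LinearMap.id : V →ₗ[F] V) v = 0 ↔ _
        rw [LinearMap.add_apply, LinearMap.id_apply, add_eq_zero_iff_eq_neg]
      have hsum : ∀ v, v + e v ∈ P ∧ v - e v ∈ M := fun v => by
        rw [hP, hM, map_add, map_sub, hinv e he]
        exact ⟨add_comm _ _, (neg_sub _ _).symm⟩
      have hdisj : ∀ v ∈ P, v ∈ M → v = 0 := fun v h1 h1' => by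
        rw [hP] at h1; rw [hM, h1, eq_neg_iff_add_eq_zero, ← two_smul F, smul_eq_zero] at h1'
        exact h1'.resolve_left h2
      have hdim : finrank F P + finrank F M = finrank F V := by
        refine Submodule.finrank_add_eq_of_isCompl ⟨Submodule.disjoint_def.mpr hdisj, ?_⟩
        rw [codisjoint_iff, eq_top_iff]
        intro v _
        have h := Submodule.add_mem_sup (P.smul_mem (2 : F)⁻¹ (hsum v).1) (M.smul_mem (2 : F)⁻¹ (hsum v).2)
        rwa [← smul_add, show v + e v + (v - e v) = (2 : F) • v by rw [two_smul]; abel, inv_smul_smul₀ h2] at h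
      have hPlt : finrank F P < m := by
        by_contra hge
        have := Submodule.eq_top_of_finrank_eq (S := P) (le_antisymm (Submodule.finrank_le P) (by omega))
        exact he1 (LinearMap.ext fun v => (hP v).mp (this ▸ Submodule.mem_top))
      have hMlt : finrank F M < m := by
        by_contra hge
        have := Submodule.eq_top_of_finrank_eq (S := M) (le_antisymm (Submodule.finrank_le M) (by omega))
        exact hem1 (LinearMap.ext fun v => (hM v).mp (this ▸ Submodule.mem_top))
      -- one eigenspace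
      have side : ∀ (W : Submodule F V), finrank F W < m → (∀ f ∈ S, ∀ v ∈ W, f v ∈ W) →
          (∀ v ∈ W, ∀ w, ∃ w' ∈ W, B v w' = 2 * B v w) →
          ∃ T : Finset (W →ₗ[F] W), (∀ f ∈ S, ∃ g ∈ T, ∀ v : W, (g v : V) = f v) ∧ T.card ^ 2 ≤ 2 ^ finrank F W := by
        intro W hlt hinvW hpair
        let res : {f // f ∈ S} → (W →ₗ[F] W) := fun f => f.1.restrict (hinvW f.1 f.2)
        refine ⟨S.attach.image res, fun f hf => ⟨res ⟨f, hf⟩, Finset.mem_image_of_mem _ (S.mem_attach _), fun v => rfl⟩, ?_⟩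
        refine ih _ hlt W rfl (B.compl₁₂ W.subtype W.subtype) (fun v => halt v) (fun v hv => ?_) _ ?_ ?_ ?_
        · obtain ⟨w, hw⟩ := hnd v (fun e' => hv (Subtype.ext e'))
          obtain ⟨w', hw', e'⟩ := hpair v v.2 w
          exact ⟨⟨w', hw'⟩, by show B v w' ≠ 0; rw [e']; exact mul_ne_zero h2 hw⟩
        · intro g hg v w
          obtain ⟨⟨f, hf⟩, -, rfl⟩ := Finset.mem_image.mp hg
          exact hiso f hf v w
        · intro g hg v
          obtain ⟨⟨f, hf⟩, -, rfl⟩ := Finset.mem_image.mp hg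
          exact Subtype.ext (hinv f hf v)
        · intro g hg g' hg' v
          obtain ⟨⟨f, hf⟩, -, rfl⟩ := Finset.mem_image.mp hg
          obtain ⟨⟨f', hf'⟩, -, rfl⟩ := Finset.mem_image.mp hg'
          exact Subtype.ext (hcomm f hf f' hf' v)
      obtain ⟨TP, hTP, cP⟩ := side P hPlt (fun f hf v hv => by rw [hP] at hv ⊢; rw [hcomm e he f hf, hv])
        (fun v hv w => ⟨w + e w, (hsum w).1, by
          rw [hP] at hv
          have := hiso e he v w
          rw [hv] at this
          rw [map_add, this, two_mul]⟩)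
      obtain ⟨TM, hTM, cM⟩ := side M hMlt (fun f hf v hv => by rw [hM] at hv ⊢; rw [hcomm e he f hf, hv, map_neg])
        (fun v hv w => ⟨w - e w, (hsum w).2, by
          rw [hM] at hv
          have := hiso e he v w
          rw [hv, map_neg, LinearMap.neg_apply] at this
          rw [map_sub, ← neg_neg (B v (e w)), this, sub_neg_eq_add, two_mul]⟩)
      choose gP hgP hgP' using hTP
      choose gM hgM hgM' using hTM
      have hle : S.card ≤ TP.card * TM.card := by
        rw [← Finset.card_product, ← Finset.card_attach]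
        refine Finset.card_le_card_of_injOn (fun f => (gP f.1 f.2, gM f.1 f.2))
          (fun f _ => Finset.mem_product.mpr ⟨hgP _ _, hgM _ _⟩) ?_
        rintro ⟨f, hf⟩ _ ⟨f', hf'⟩ _ heq
        simp only [Prod.mk.injEq] at heq
        refine Subtype.ext (LinearMap.ext fun v => ?_)
        show f v = f' v
        have e1 : f (v + e v) = f' (v + e v) := by
          rw [← hgP' f hf ⟨_, (hsum v).1⟩, ← hgP' f' hf' ⟨_, (hsum v).1⟩, heq.1]
        have e2 : f (v - e v) = f' (v - e v) := by
          rw [← hgM' f hf ⟨_, (hsum v).2⟩, ← hgM' f' hf' ⟨_, (hsum v).2⟩, heq.2]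
        have := congrArg₂ (· + ·) e1 e2
        simp only [← map_add, show v + e v + (v - e v) = (2 : F) • v by rw [two_smul]; abel, map_smul] at this
        exact smul_right_injective V h2 this
      calc S.card ^ 2 ≤ (TP.card * TM.card) ^ 2 := Nat.pow_le_pow_left hle 2
        _ = TP.card ^ 2 * TM.card ^ 2 := mul_pow _ _ _
        _ ≤ 2 ^ finrank F P * 2 ^ finrank F M := Nat.mul_le_mul cP cM
        _ = 2 ^ m := by rw [← pow_add, hdim, hm]

open Matrix in
theorem pRankLE_two [Fintype F] (h2 : (2 : F) ≠ 0) (n : ℕ) : Cfsg.PRankLE 2 n (Matrix.symplecticGroup (Fin n) F) := by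
  intro A hA hexp
  classical
  let B : (Fin n ⊕ Fin n → F) →ₗ[F] (Fin n ⊕ Fin n → F) →ₗ[F] F := Matrix.toLinearMap₂' F (J (Fin n) F)
  have hB : ∀ v w, B v w = v ⬝ᵥ J (Fin n) F *ᵥ w := fun v w => Matrix.toLinearMap₂'_apply' _ _ _
  let φ : A → ((Fin n ⊕ Fin n → F) →ₗ[F] (Fin n ⊕ Fin n → F)) := fun a =>
    Matrix.toLin' ((a : Matrix.symplecticGroup (Fin n) F) : Matrix (Fin n ⊕ Fin n) (Fin n ⊕ Fin n) F)
  have hφ : Function.Injective φ := fun a b h => Subtype.ext (Subtype.ext (Matrix.toLin'.injective h))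
  have : Fintype A := Fintype.ofFinite A
  have key := card_sq_le h2 _ _ rfl B ?_ ?_ (Finset.univ.image φ) ?_ ?_ ?_
  · rw [Finset.card_image_of_injective _ hφ, Finset.card_univ, ← Nat.card_eq_fintype_card, finrank_fintype_fun_eq_card,
      Fintype.card_sum, Fintype.card_fin, ← two_mul, mul_comm, pow_mul] at key
    exact (Nat.pow_le_pow_iff_left two_ne_zero).mp key
  · intro v
    rw [hB]
    have h : v ⬝ᵥ J (Fin n) F *ᵥ v = -(v ⬝ᵥ J (Fin n) F *ᵥ v) := by
      conv_lhs => rw [dotProduct_mulVec, ← Matrix.mulVec_transpose, J_transpose, dotProduct_comm]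
      rw [neg_mulVec, dotProduct_neg]
    exact (mul_eq_zero.mp (show (2 : F) * (v ⬝ᵥ J (Fin n) F *ᵥ v) = 0 by
      rw [two_mul]; nth_rewrite 1 [h]; exact neg_add_cancel _)).resolve_left h2
  · intro v hv
    obtain ⟨i, hi⟩ := Function.ne_iff.mp hv
    refine ⟨J (Fin n) F *ᵥ Pi.single i 1, ?_⟩
    rw [hB, mulVec_mulVec, J_squared, neg_mulVec, one_mulVec, dotProduct_neg, dotProduct_single, mul_one]
    exact neg_ne_zero.mpr hi
  · intro e he v w
    obtain ⟨a, -, rfl⟩ := Finset.mem_image.mp he
    simp only [φ, hB, Matrix.toLin'_apply]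
    rw [mulVec_mulVec, ← vecMul_transpose, ← dotProduct_mulVec, mulVec_mulVec, ← Matrix.mul_assoc,
      SymplecticGroup.mem_iff'.mp (a : Matrix.symplecticGroup (Fin n) F).2]
  · intro e he v
    obtain ⟨a, -, rfl⟩ := Finset.mem_image.mp he
    simp only [φ, Matrix.toLin'_apply, mulVec_mulVec]
    have := congrArg (fun g : Matrix.symplecticGroup (Fin n) F => (g : Matrix (Fin n ⊕ Fin n) (Fin n ⊕ Fin n) F))
      (hexp a a.2)
    simp only [pow_two] at this
    rw [show ((a : Matrix.symplecticGroup (Fin n) F) : Matrix (Fin n ⊕ Fin n) (Fin n ⊕ Fin n) F) *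
      ((a : Matrix.symplecticGroup (Fin n) F) : Matrix (Fin n ⊕ Fin n) (Fin n ⊕ Fin n) F) = 1 from this, one_mulVec]
  · intro e he f hf v
    obtain ⟨a, -, rfl⟩ := Finset.mem_image.mp he
    obtain ⟨b, -, rfl⟩ := Finset.mem_image.mp hf
    simp only [φ, Matrix.toLin'_apply, mulVec_mulVec]
    congr 1
    exact congrArg (fun g : A => ((g : Matrix.symplecticGroup (Fin n) F) : Matrix (Fin n ⊕ Fin n) (Fin n ⊕ Fin n) F))
      (hA.is_comm.comm a b)

open Matrix in
theorem pRankAtLeast_two [Fintype F] (h2 : (2 : F) ≠ 0) (n : ℕ) :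
    Cfsg.PRankAtLeast 2 n (Matrix.symplecticGroup (Fin n) F) := by
  classical
  let d : (Fin n → ℤˣ) → Matrix (Fin n ⊕ Fin n) (Fin n ⊕ Fin n) F := fun ε =>
    Matrix.diagonal (Sum.elim (fun i => ((ε i : ℤ) : F)) (fun i => ((ε i : ℤ) : F)))
  have hsq : ∀ (ε : Fin n → ℤˣ) i, ((ε i : ℤ) : F) * ((ε i : ℤ) : F) = 1 := fun ε i => by
    rw [← Int.cast_mul, ← Units.val_mul, Int.units_mul_self, Units.val_one, Int.cast_one]
  have hd : ∀ ε, d ε ∈ Matrix.symplecticGroup (Fin n) F := fun ε => by
    rw [SymplecticGroup.mem_iff]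
    show Matrix.diagonal _ * J (Fin n) F * (Matrix.diagonal _)ᵀ = _
    rw [Matrix.diagonal_transpose]
    ext i j
    rw [Matrix.mul_diagonal, Matrix.diagonal_mul]
    rcases i with i | i <;> rcases j with j | j <;>
      simp [J, Matrix.fromBlocks, Matrix.one_apply] <;>
      split_ifs with h <;> first | (subst h; exact hsq ε _) | rfl
  let φ : (Fin n → ℤˣ) →* Matrix.symplecticGroup (Fin n) F :=
    { toFun := fun ε => ⟨d ε, hd ε⟩
      map_one' := Subtype.ext (by
        show d 1 = 1
        rw [← Matrix.diagonal_one]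
        simp only [d]
        congr 1
        ext (i | i) <;> simp)
      map_mul' := fun ε δ => Subtype.ext (by
        show d (ε * δ) = d ε * d δ
        simp only [d, Matrix.diagonal_mul_diagonal]
        congr 1
        ext (i | i) <;> simp) }
  have hinj : Function.Injective φ := by
    intro ε δ h
    funext i
    have := congrFun (congrFun (congrArg Subtype.val h) (Sum.inl i)) (Sum.inl i)
    simp only [φ, MonoidHom.coe_mk, OneHom.coe_mk, d, Matrix.diagonal_apply_eq, Sum.elim_inl] at this
    rcases Int.units_eq_one_or (ε i) with h1 | h1 <;> rcases Int.units_eq_one_or (δ i) with h1' | h1' <;>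
      rw [h1, h1'] at this ⊢ <;> simp at this <;>
      first
        | exact absurd (show (2 : F) = 0 by linear_combination this) h2
        | exact absurd (show (2 : F) = 0 by linear_combination -this) h2
  refine ⟨φ.range, ⟨⟨?_⟩⟩, ?_, ?_⟩
  · rintro ⟨_, ε, rfl⟩ ⟨_, δ, rfl⟩
    exact Subtype.ext (by show φ ε * φ δ = φ δ * φ ε; rw [← map_mul, mul_comm, map_mul])
  · rintro _ ⟨ε, rfl⟩
    rw [← map_pow, show ε ^ 2 = 1 from funext fun i => Int.units_sq _, map_one]
  · rw [← Nat.card_congr (MonoidHom.ofInjective hinj).toEquiv, Nat.card_fun, Nat.card_eq_fintype_card,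
      Nat.card_eq_fintype_card, Fintype.card_fin, Fintype.card_units_int]

end Cfsg.Agent.SympRank
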