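/-
Two-element generation of SL_{n+1}(K) by diag(k,k⁻¹,1,…), a transvection and a monomial cycle.
-/
import Cfsg.Agent.Lib.Classical.SL
import Mathlib

set_option autoImplicit false

namespace Cfsg.Agent.TwoGenSL

open Matrix
open Fin.NatCast Fin.CommRing

variable {K : Type*} [Field K] {n : ℕ}

local notation "SLn" => Matrix.SpecialLinearGroup (Fin (n + 1)) K

/-- `H` contains all transvections at position `(i,j)`. -/
def Has (H : Subgroup (Matrix.SpecialLinearGroup (Fin (n + 1)) K)) (i j : Fin (n + 1)) : Prop :=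
  ∀ (h : i ≠ j) (t : K), Matrix.SpecialLinearGroup.transvection h t ∈ H

/-- The monomial cycle. -/
def IsCycle (w : Matrix.SpecialLinearGroup (Fin (n + 1)) K) : Prop :=
  (w : Matrix (Fin (n + 1)) (Fin (n + 1)) K) =
    Matrix.of (fun i j => if j.val = i.val + 1 then 1 else if i.val = n ∧ j.val = 0 then (-1) ^ n else 0)

/-- the sign of a column of the monomial cycle -/
def sg (K : Type*) [Field K] {n : ℕ} (i : Fin (n + 1)) : K := if i = 0 then (-1) ^ n else 1

theorem sg_ne_zero (i : Fin (n + 1)) : sg K i ≠ 0 := by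
  unfold sg; split_ifs <;> simp

theorem cycle_apply (hn : 1 ≤ n) {w : Matrix.SpecialLinearGroup (Fin (n + 1)) K} (hw : IsCycle w)
    (a b : Fin (n + 1)) :
    (w : Matrix (Fin (n + 1)) (Fin (n + 1)) K) a b = if b = a + 1 then sg K b else 0 := by
  rw [show (w : Matrix (Fin (n + 1)) (Fin (n + 1)) K) = _ from hw, Matrix.of_apply]
  have h1 : (1 : Fin (n + 1)).val = 1 := by simp [Fin.val_one', Nat.mod_eq_of_lt (show 1 < n + 1 by omega)]
  have ha : (a + 1).val = if a.val = n then 0 else a.val + 1 := by
    rw [Fin.val_add, h1]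
    split_ifs with h
    · rw [h, Nat.mod_self]
    · exact Nat.mod_eq_of_lt (by omega)
  have hb : b = a + 1 ↔ b.val = if a.val = n then 0 else a.val + 1 := by rw [Fin.ext_iff, ha]
  by_cases h : a.val = n
  · have hne : ¬ b.val = a.val + 1 := by omega
    rw [if_neg hne]
    rw [if_pos h] at hb
    by_cases hb0 : b.val = 0
    · rw [if_pos ⟨h, hb0⟩, if_pos (hb.2 hb0), sg, if_pos (Fin.ext hb0)]
    · rw [if_neg (fun h' => hb0 h'.2), if_neg (fun h' => hb0 (hb.1 h'))]
  · rw [if_neg h] at hb
    by_cases hb1 : b.val = a.val + 1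
    · rw [if_pos hb1, if_pos (hb.2 hb1), sg, if_neg (fun e => by rw [e] at hb1; simp at hb1)]
    · rw [if_neg hb1, if_neg (fun h' => h h'.1), if_neg (fun h' => hb1 (hb.1 h'))]

theorem diag_mul_transvection {D : Matrix.SpecialLinearGroup (Fin (n + 1)) K} {d : Fin (n + 1) → K}
    (hD : (D : Matrix (Fin (n + 1)) (Fin (n + 1)) K) = Matrix.diagonal d) {i j : Fin (n + 1)}
    (hij : i ≠ j) (hj : d j ≠ 0) (t : K) :
    D * Matrix.SpecialLinearGroup.transvection hij t =
      Matrix.SpecialLinearGroup.transvection hij (d i * t / d j) * D := by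
  refine Subtype.ext ?_
  rw [Matrix.SpecialLinearGroup.coe_mul, Matrix.SpecialLinearGroup.coe_mul, hD,
    Matrix.SpecialLinearGroup.transvection_coe, Matrix.SpecialLinearGroup.transvection_coe,
    mul_add, add_mul, mul_one, one_mul]
  congr 1
  ext a b
  rw [diagonal_mul, mul_diagonal]
  by_cases hab : i = a ∧ j = b
  · obtain ⟨rfl, rfl⟩ := hab
    simp only [single_apply_same]
    field_simp
  · simp [Matrix.single_apply, hab]

theorem cycle_mul_transvection (hn : 1 ≤ n) {w : Matrix.SpecialLinearGroup (Fin (n + 1)) K}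
    (hw : IsCycle w) {i j : Fin (n + 1)} (hij : i + 1 ≠ j + 1) (hij' : i ≠ j) (t : K) :
    w * Matrix.SpecialLinearGroup.transvection hij t =
      Matrix.SpecialLinearGroup.transvection hij' (sg K (i + 1) * t / sg K (j + 1)) * w := by
  refine Subtype.ext ?_
  rw [Matrix.SpecialLinearGroup.coe_mul, Matrix.SpecialLinearGroup.coe_mul,
    Matrix.SpecialLinearGroup.transvection_coe, Matrix.SpecialLinearGroup.transvection_coe,
    mul_add, add_mul, mul_one, one_mul]
  congr 1
  ext a b
  have hs := sg_ne_zero (K := K) (j + 1)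
  by_cases hb : b = j + 1
  · subst hb
    rw [mul_single_apply_same, cycle_apply hn hw]
    by_cases ha : a = i
    · subst ha
      rw [if_pos rfl, single_mul_apply_same, cycle_apply hn hw, if_pos rfl]
      field_simp
    · rw [if_neg (fun e => ha (add_right_cancel e).symm), zero_mul, single_mul_apply_of_ne _ _ _ _ _ ha]
  · rw [mul_single_apply_of_ne _ _ _ _ _ hb]
    by_cases ha : a = i
    · subst ha
      rw [single_mul_apply_same, cycle_apply hn hw, if_neg hb, mul_zero]
    · rw [single_mul_apply_of_ne _ _ _ _ _ ha]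

theorem transvection_comm {i j l : Fin (n + 1)} (hij : i ≠ j) (hjl : j ≠ l) (hil : i ≠ l) (a b : K) :
    Matrix.SpecialLinearGroup.transvection hij a * Matrix.SpecialLinearGroup.transvection hjl b =
      Matrix.SpecialLinearGroup.transvection hil (a * b) * Matrix.SpecialLinearGroup.transvection hjl b *
        Matrix.SpecialLinearGroup.transvection hij a := by
  refine Subtype.ext ?_
  simp only [Matrix.SpecialLinearGroup.coe_mul, Matrix.SpecialLinearGroup.transvection_coe, mul_add,
    add_mul, mul_one, one_mul, single_mul_single_same,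
    single_mul_single_of_ne _ _ _ _ hil.symm, single_mul_single_of_ne _ _ _ _ hjl.symm, zero_mul,
    mul_zero, add_zero, zero_add]
  abel

variable {H : Subgroup (Matrix.SpecialLinearGroup (Fin (n + 1)) K)}

theorem eq_top (hn : 1 ≤ n) {w : Matrix.SpecialLinearGroup (Fin (n + 1)) K} (hw : IsCycle w)
    (hwH : w ∈ H) (h01 : Has H 0 1) : H = ⊤ := by
  have h10 : (0 : Fin (n + 1)) ≠ 1 := by
    intro e
    have := congrArg Fin.val e
    simp [Fin.val_one', Nat.mod_eq_of_lt (show 1 < n + 1 by omega)] at this
  have hshift : ∀ i j : Fin (n + 1), Has H (i + 1) (j + 1) → Has H i j := by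
    intro i j h hij t
    have hij1 : i + 1 ≠ j + 1 := fun e => hij (add_right_cancel e)
    have hm := mul_mem (mul_mem hwH (h hij1 (sg K (j + 1) * t / sg K (i + 1)))) (inv_mem hwH)
    rw [cycle_mul_transvection hn hw hij1 hij, mul_inv_cancel_right] at hm
    have e : sg K (i + 1) * (sg K (j + 1) * t / sg K (i + 1)) / sg K (j + 1) = t := by
      have := sg_ne_zero (K := K) (i + 1)
      have := sg_ne_zero (K := K) (j + 1)
      field_simp
    rwa [e] at hm
  have hnat : ∀ m : ℕ, Has H (-(m : Fin (n + 1))) (-(m : Fin (n + 1)) + 1) := by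
    intro m
    induction m with
    | zero => simpa using h01
    | succ m ih =>
      apply hshift
      rw [Nat.cast_succ, neg_add, neg_add_cancel_right]
      exact ih
  have hsucc : ∀ i : Fin (n + 1), Has H i (i + 1) := by
    intro i
    have := hnat (-i).val
    rw [Fin.cast_val_eq_self, neg_neg] at this
    exact this
  have hd : ∀ d : ℕ, 1 ≤ d → d ≤ n → ∀ i : Fin (n + 1), Has H i (i + (d : Fin (n + 1))) := by
    intro d hd1
    induction d, hd1 using Nat.le_induction with
    | base => intro _ i; simpa using hsucc i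
    | succ d hd1 ih =>
      intro hdn i hij t
      have hne : ∀ (i : Fin (n + 1)) (e : ℕ), 1 ≤ e → e ≤ n → i ≠ i + (e : Fin (n + 1)) := by
        intro i e h1 h2 he
        have he' : (e : Fin (n + 1)) = 0 := by
          have := congrArg (fun z => -i + z) he
          simpa using this.symm
        have := congrArg Fin.val he'
        rw [Fin.val_natCast, Nat.mod_eq_of_lt (by omega), Fin.val_zero] at this
        omega
      have e1 : i + ((d + 1 : ℕ) : Fin (n + 1)) = i + 1 + (d : Fin (n + 1)) := by push_cast; abel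
      have a1 : i ≠ i + 1 := by simpa using hne i 1 le_rfl hn
      have a2 : i + 1 ≠ i + ((d + 1 : ℕ) : Fin (n + 1)) := by
        rw [e1]; exact hne (i + 1) d hd1 (by omega)
      have m1 := hsucc i a1 t
      have m2 : Matrix.SpecialLinearGroup.transvection a2 (1 : K) ∈ H := by
        have := ih (by omega) (i + 1)
        rw [← e1] at this
        exact this a2 1
      have hc := transvection_comm a1 a2 hij t 1
      rw [mul_one] at hc
      have : Matrix.SpecialLinearGroup.transvection hij t =
          Matrix.SpecialLinearGroup.transvection a1 t * Matrix.SpecialLinearGroup.transvection a2 1 *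
            (Matrix.SpecialLinearGroup.transvection a1 t)⁻¹ *
            (Matrix.SpecialLinearGroup.transvection a2 1)⁻¹ := by
        rw [hc]; group
      rw [this]
      exact mul_mem (mul_mem (mul_mem m1 m2) (inv_mem m1)) (inv_mem m2)
  haveI : Nontrivial (Fin (n + 1)) := ⟨⟨0, 1, h10⟩⟩
  rw [eq_top_iff, ← ClassicalSL.closure_elemTransvections, Subgroup.closure_le]
  rintro g ⟨i, j, hij, c, rfl⟩
  have hpos : 1 ≤ (j - i).val := by
    rcases Nat.eq_zero_or_pos (j - i).val with h | h
    · exact absurd (sub_eq_zero.1 (Fin.ext h)).symm hij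
    · exact h
  have hij' := hd (j - i).val hpos (Nat.lt_succ_iff.1 (j - i).2) i
  rw [Fin.cast_val_eq_self, add_sub_cancel] at hij'
  exact hij' hij c

theorem exists_sum_two_squares [Fintype K] (x : K) : ∃ a b : K, a ^ 2 + b ^ 2 = x := by
  by_cases h2 : ringChar K = 2
  · obtain ⟨a, ha⟩ := FiniteField.isSquare_of_char_two h2 x
    exact ⟨a, 0, by rw [ha]; ring⟩
  · obtain ⟨a, b, hab⟩ := FiniteField.exists_root_sum_quadratic
      (f := (Polynomial.X : Polynomial K) ^ 2) (g := Polynomial.X ^ 2 - Polynomial.C x)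
      (Polynomial.degree_X_pow 2) (Polynomial.degree_X_pow_sub_C (by norm_num) _)
      (FiniteField.odd_card_of_char_ne_two h2)
    refine ⟨a, b, ?_⟩
    simp only [Polynomial.eval_pow, Polynomial.eval_X, Polynomial.eval_sub, Polynomial.eval_C] at hab
    linear_combination hab

theorem small_field [Fintype K] (hK : Fintype.card K ≤ 3) (t : K) : t = 0 ∨ t = 1 ∨ t = -1 := by
  classical
  by_contra h
  simp only [not_or] at h
  obtain ⟨h0, h1, hm⟩ := h
  by_cases h11 : (-1 : K) = 1
  · have hc : Fintype.card K ≠ 3 := fun h3 => by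
      haveI : CharP K 3 := charP_of_card_eq_prime_pow (p := 3) (f := 1) (by simpa using h3)
      have h2 : ((2 : ℕ) : K) = 0 := by push_cast; linear_combination (-(1 : K)) * h11
      have := (CharP.cast_eq_zero_iff K 3 2).1 h2
      omega
    have : ({0, 1, t} : Finset K).card = 3 := by
      rw [Finset.card_insert_of_notMem (by simp [Ne.symm h0]),
        Finset.card_insert_of_notMem (by simp [Ne.symm h1]), Finset.card_singleton]
    have := Finset.card_le_univ ({0, 1, t} : Finset K)
    omega
  · have : ({0, 1, -1, t} : Finset K).card = 4 := by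
      rw [Finset.card_insert_of_notMem (by simp [Ne.symm h0, eq_comm]),
        Finset.card_insert_of_notMem (by simp [Ne.symm h1, Ne.symm h11]),
        Finset.card_insert_of_notMem (by simp [Ne.symm hm]), Finset.card_singleton]
    have := Finset.card_le_univ ({0, 1, -1, t} : Finset K)
    omega

theorem eq_top_small [Fintype K] (hK : Fintype.card K ≤ 3) (hn : 1 ≤ n)
    {x w : Matrix.SpecialLinearGroup (Fin (n + 1)) K}
    (hx : (x : Matrix (Fin (n + 1)) (Fin (n + 1)) K) = Matrix.transvection (0 : Fin (n + 1)) 1 1)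
    (hw : IsCycle w) (hxH : x ∈ H) (hwH : w ∈ H) : H = ⊤ := by
  refine eq_top hn hw hwH fun h t => ?_
  have hx' : x = Matrix.SpecialLinearGroup.transvection h 1 := Subtype.ext hx
  rcases small_field hK t with rfl | rfl | rfl
  · rw [Matrix.SpecialLinearGroup.transvection_coeff_zero]; exact one_mem H
  · rw [← hx']; exact hxH
  · rw [← Matrix.SpecialLinearGroup.transvection_inv, ← hx']; exact inv_mem hxH

theorem eq_top_big [Fintype K] (hK : 3 < Fintype.card K) (hn : 1 ≤ n) (k : Kˣ)
    (hk : ∀ u : Kˣ, u ∈ Subgroup.zpowers k) {h x w : Matrix.SpecialLinearGroup (Fin (n + 1)) K}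
    (hh : (h : Matrix (Fin (n + 1)) (Fin (n + 1)) K) =
      Matrix.diagonal (fun i => if i.val = 0 then (k : K) else if i.val = 1 then ((k⁻¹ : Kˣ) : K) else 1))
    (hx : (x : Matrix (Fin (n + 1)) (Fin (n + 1)) K) = Matrix.transvection (0 : Fin (n + 1)) 1 1)
    (hw : IsCycle w) (hhH : h ∈ H) (hyH : x * w ∈ H) : H = ⊤ := by
  classical
  set d : Fin (n + 1) → K := fun i => if i.val = 0 then (k : K) else if i.val = 1 then ((k⁻¹ : Kˣ) : K) else 1
    with hd
  have h1v : (1 : Fin (n + 1)).val = 1 := by
    simp [Fin.val_one', Nat.mod_eq_of_lt (show 1 < n + 1 by omega)]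
  have hd0 : d 0 = k := by simp [hd]
  have hd1 : d 1 = ((k⁻¹ : Kˣ) : K) := by
    show (if (1 : Fin (n + 1)).val = 0 then (k : K)
      else if (1 : Fin (n + 1)).val = 1 then ((k⁻¹ : Kˣ) : K) else 1) = _
    rw [h1v]; simp
  have hdne : ∀ i, d i ≠ 0 := fun i => by
    simp only [hd]; split_ifs <;> simp
  have hk2 : (k : K) ^ 2 ≠ 1 := by
    intro e
    have e' : k ^ 2 = 1 := Units.ext (by simpa using e)
    have hord : orderOf k = Fintype.card Kˣ := by
      rw [← Nat.card_eq_fintype_card, orderOf_eq_card_of_forall_mem_zpowers hk]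
    have := Nat.le_of_dvd (by norm_num) (orderOf_dvd_of_pow_eq_one e')
    rw [hord, Fintype.card_units] at this
    omega
  have h01 : (0 : Fin (n + 1)) ≠ 1 := fun e => by
    have := congrArg Fin.val e; rw [h1v] at this; simp at this
  have hx' : x = Matrix.SpecialLinearGroup.transvection h01 1 := Subtype.ext hx
  obtain ⟨h', hh'⟩ : ∃ h', h' = w * h * w⁻¹ := ⟨_, rfl⟩
  have hh'd : (h' : Matrix (Fin (n + 1)) (Fin (n + 1)) K) = Matrix.diagonal (fun a => d (a + 1)) := by
    have e : (w * h : Matrix.SpecialLinearGroup (Fin (n + 1)) K).1 =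
        Matrix.diagonal (fun a => d (a + 1)) * w.1 := by
      rw [Matrix.SpecialLinearGroup.coe_mul, hh]
      ext a b
      rw [mul_diagonal, diagonal_mul, cycle_apply hn hw]
      split_ifs with hb <;> simp [hb, mul_comm]
    rw [hh', Matrix.SpecialLinearGroup.coe_mul, e, Matrix.mul_assoc,
      ← Matrix.SpecialLinearGroup.coe_mul, mul_inv_cancel, Matrix.SpecialLinearGroup.coe_one, mul_one]
  have hcomm : h * h' = h' * h := Subtype.ext (by
    rw [Matrix.SpecialLinearGroup.coe_mul, Matrix.SpecialLinearGroup.coe_mul, hh, hh'd,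
      diagonal_mul_diagonal, diagonal_mul_diagonal]
    exact congrArg _ (funext fun i => mul_comm _ _))
  set r : K := d ((0 : Fin (n + 1)) + 1) / d ((1 : Fin (n + 1)) + 1) with hr
  have hr1 : r ≠ 1 := by
    rw [hr, Ne, div_eq_one_iff_eq (hdne _), zero_add, hd1]
    intro e
    simp only [hd, Fin.val_add, h1v] at e
    by_cases hn2 : 2 ≤ n
    · rw [Nat.mod_eq_of_lt (by omega)] at e
      simp at e
      exact hk2 (by simp [e])
    · obtain rfl : n = 1 := by omega
      norm_num at e
      apply hk2
      have hk' : (k : K) * (k : K)⁻¹ = 1 := mul_inv_cancel₀ k.ne_zero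
      rw [e] at hk'
      rw [pow_two]; exact hk'
  have hz : Matrix.SpecialLinearGroup.transvection h01 (1 - r) * h' ∈ H := by
    have := mul_mem (mul_mem hyH hhH) (inv_mem hyH)
    have e : x * w * h * (x * w)⁻¹ = x * h' * x⁻¹ := by rw [hh']; group
    rw [e, hx', Matrix.SpecialLinearGroup.transvection_inv,
      mul_assoc, diag_mul_transvection hh'd h01 (hdne _), ← mul_assoc,
      ← Matrix.SpecialLinearGroup.transvection_add] at this
    convert this using 3
    rw [hr]; ring
  have hconj : ∀ t : K, h * Matrix.SpecialLinearGroup.transvection h01 t * h⁻¹ =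
      Matrix.SpecialLinearGroup.transvection h01 ((k : K) ^ 2 * t) := by
    intro t
    rw [diag_mul_transvection hh h01 (hdne 1), mul_inv_cancel_right]
    congr 1
    show d 0 * t / d 1 = _
    rw [hd0, hd1, Units.val_inv_eq_inv_val, div_inv_eq_mul]
    ring
  set c : K := ((k : K) ^ 2 - 1) * (1 - r) with hc
  have hcH : Matrix.SpecialLinearGroup.transvection h01 c ∈ H := by
    have := mul_mem (mul_mem (mul_mem hhH hz) (inv_mem hhH)) (inv_mem hz)
    have e : h * (Matrix.SpecialLinearGroup.transvection h01 (1 - r) * h') * h⁻¹ *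
        (Matrix.SpecialLinearGroup.transvection h01 (1 - r) * h')⁻¹ =
        Matrix.SpecialLinearGroup.transvection h01 ((k : K) ^ 2 * (1 - r)) *
          Matrix.SpecialLinearGroup.transvection h01 (-(1 - r)) := by
      rw [← Matrix.SpecialLinearGroup.transvection_inv, ← hconj]
      calc _ = h * Matrix.SpecialLinearGroup.transvection h01 (1 - r) * h⁻¹ *
            (h * h' * h⁻¹ * h'⁻¹) * (Matrix.SpecialLinearGroup.transvection h01 (1 - r))⁻¹ := by group
        _ = _ := by rw [hcomm, mul_inv_cancel_right, mul_inv_cancel, mul_one]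
    rw [e, ← Matrix.SpecialLinearGroup.transvection_add] at this
    convert this using 2
    rw [hc]; ring
  have hc0 : c ≠ 0 := mul_ne_zero (sub_ne_zero.2 hk2) (sub_ne_zero.2 (Ne.symm hr1))
  have hsq : ∀ a : K, Matrix.SpecialLinearGroup.transvection h01 (a ^ 2 * c) ∈ H := by
    intro a
    rcases eq_or_ne a 0 with rfl | ha
    · simp [one_mem H]
    obtain ⟨m, hm⟩ := mem_powers_iff_mem_zpowers.2 (hk (Units.mk0 a ha))
    have ha' : a = (k : K) ^ m := by
      have := congrArg Units.val hm; simpa using this.symm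
    subst ha'
    clear hm ha
    induction m with
    | zero => simpa using hcH
    | succ m ih =>
      have := mul_mem (mul_mem hhH ih) (inv_mem hhH)
      rw [hconj] at this
      convert this using 2
      ring
  have hall : ∀ t : K, Matrix.SpecialLinearGroup.transvection h01 t ∈ H := by
    intro t
    obtain ⟨a, b, hab⟩ := exists_sum_two_squares (t / c)
    rw [show t = a ^ 2 * c + b ^ 2 * c by rw [← add_mul, hab, div_mul_cancel₀ _ hc0],
      Matrix.SpecialLinearGroup.transvection_add]
    exact mul_mem (hsq a) (hsq b)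
  refine eq_top hn hw ?_ fun _ t => hall t
  have := mul_mem (inv_mem (hall 1)) hyH
  rwa [← hx', inv_mul_cancel_left] at this

end Cfsg.Agent.TwoGenSL
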