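/-
Normalizers of semisimple cyclic subgroups of PSL_2(q).
-/
import Cfsg.Agent.Lib.Classical.DicksonProper

set_option autoImplicit false

namespace Cfsg.Agent.Dickson

open Matrix PStable Polynomial

variable {F : Type*} [Field F] [Finite F]

local notation "SL2" => Matrix.SpecialLinearGroup (Fin 2) F
local notation "M2" => Matrix (Fin 2) (Fin 2) F
local notation "P" => Matrix.ProjectiveSpecialLinearGroup (Fin 2) F
local notation "prH" => PSL2Inv.pr (F := F)
local notation "zz" => Nat.card (Subgroup.center SL2)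

theorem exists_zero_form (x : SL2) (hτ : Matrix.trace (x : M2) ^ 2 ≠ 4) :
    ∃ a b c : F, -a * a - b * c = 1 ∧ a * ((x : M2) 0 0 - (x : M2) 1 1) + b * (x : M2) 1 0 + c * (x : M2) 0 1 = 0 := by
  classical
  haveI := Fintype.ofFinite F
  have hd := det_one x
  rw [Matrix.trace_fin_two] at hτ
  set d := (x : M2) 0 0 - (x : M2) 1 1 with hd'
  set m := (x : M2) 0 1
  set n := (x : M2) 1 0
  have hΔ : d ^ 2 + 4 * (m * n) ≠ 0 := fun h => hτ (by
    rw [hd'] at h; linear_combination h + 4 * hd)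
  by_cases hn : n = 0
  · have hd0 : d ≠ 0 := fun h => hΔ (by rw [h, hn]; ring)
    refine ⟨-m / d, -1 - (m / d) ^ 2, 1, by field_simp; ring, ?_⟩
    rw [hn]; field_simp; ring
  by_cases h2 : (2 : F) = 0
  · refine ⟨1, -d / n, 0, by linear_combination (-1 : F) * h2, ?_⟩
    field_simp; ring
  have h4 : (4 : F) ≠ 0 := fun h => h2 (pow_eq_zero_iff two_ne_zero |>.1 (show (2 : F) ^ 2 = 0 by
    rw [← h]; norm_num))
  set e := (d ^ 2 + 4 * (m * n)) / (4 * n ^ 2) with he
  have he0 : e ≠ 0 := div_ne_zero hΔ (mul_ne_zero h4 (pow_ne_zero _ hn))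
  obtain ⟨u, c, huc⟩ := FiniteField.exists_root_sum_quadratic (f := (X ^ 2 + C 1 : F[X]))
    (g := C (-e) * X ^ 2) (degree_X_pow_add_C (by norm_num) 1)
    (degree_C_mul_X_pow 2 (neg_ne_zero.2 he0))
    (FiniteField.odd_card_of_char_ne_two fun h => h2 (by
      have := ringChar.Nat.cast_ringChar (R := F)
      rw [h] at this; simpa using this))
  simp only [eval_add, eval_pow, eval_X, eval_C, eval_mul] at huc
  refine ⟨u + d * c / (2 * n), -((u + d * c / (2 * n)) * d + c * m) / n, c, ?_, ?_⟩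
  · have h2n : (2 : F) * n ≠ 0 := mul_ne_zero h2 hn
    rw [he] at huc
    field_simp at huc ⊢
    linear_combination (-1 : F) * huc
  · field_simp; ring

/-- A semisimple element is inverted by an element of the group. -/
theorem exists_inverter_top {x : SL2} (hτ : Matrix.trace (x : M2) ^ 2 ≠ 4) :
    ∃ w : SL2, w * x * w⁻¹ = x⁻¹ := by
  obtain ⟨a, b, c, hdet, hlin⟩ := exists_zero_form x hτ
  let w : SL2 := ⟨!![a, b; c, -a], by rw [Matrix.det_fin_two_of]; linear_combination hdet⟩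
  refine ⟨w, mul_inv_eq_iff_eq_mul.2 ?_⟩
  apply Subtype.ext
  simp only [Matrix.SpecialLinearGroup.coe_mul, Matrix.SpecialLinearGroup.coe_inv, Matrix.adjugate_fin_two]
  apply ext2 <;> simp [w, Matrix.mul_apply, Fin.sum_univ_two]
  · linear_combination hlin
  · ring
  · ring
  · linear_combination hlin

/-- The centralizer of a semisimple element is a full torus. -/
theorem card_cent_top {x : SL2} (hx : ¬ IsSc x) (hτ : Matrix.trace (x : M2) ^ 2 ≠ 4) :
    Nat.card (cent (⊤ : Subgroup SL2) x) = Nat.card F + 1 ∨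
      Nat.card (cent (⊤ : Subgroup SL2) x) = Nat.card F - 1 := by
  classical
  haveI := Fintype.ofFinite F
  by_cases hn : SL2Tori.NoEigen (x : M2)
  · left
    rw [← SL2Tori.card_torus hn]
    exact Nat.card_congr (MulEquiv.subgroupCongr (Subgroup.ext fun y => by
      simp [mem_cent, Subgroup.mem_centralizer_singleton_iff, SL2Tori.torus])).toEquiv
  right
  have hdx := det_one x
  rw [SL2Tori.noEigen_iff] at hn
  push Not at hn
  obtain ⟨a, ha⟩ := hn
  rw [x.2] at ha
  have ha0 : a ≠ 0 := fun h => by rw [h] at ha; simp at ha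
  rw [Matrix.trace_fin_two] at hτ ha
  set t := (x : M2) 0 0 + (x : M2) 1 1 with ht
  have htr : t = a + a⁻¹ := by field_simp; linear_combination -ha
  have hne : a - a⁻¹ ≠ 0 := fun h => hτ (by
    rw [htr]; linear_combination (a - a⁻¹) * h + 4 * (mul_inv_cancel₀ ha0))
  have hdet : ∀ α β : F, (α • (1 : M2) + β • (x : M2)).det = (α + β * a) * (α + β * a⁻¹) := fun α β => by
    rw [Matrix.det_fin_two]
    simp
    linear_combination β ^ 2 * hdx + α * β * (ht.symm.trans htr) - β ^ 2 * mul_inv_cancel₀ ha0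
  let β : Fˣ → F := fun c => ((c : F) - (c : F)⁻¹) / (a - a⁻¹)
  let α : Fˣ → F := fun c => (c : F) - β c * a
  have h1 : ∀ c, α c + β c * a = c := fun c => by simp [α]
  have h2 : ∀ c, α c + β c * a⁻¹ = (c : F)⁻¹ := fun c => by
    have : β c * (a - a⁻¹) = (c : F) - (c : F)⁻¹ := div_mul_cancel₀ _ hne
    linear_combination (h1 c) - this
  let Y : Fˣ → SL2 := fun c => ⟨α c • (1 : M2) + β c • (x : M2),
    by rw [hdet, h1, h2, mul_inv_cancel₀ c.ne_zero]⟩
  have hY : ∀ c, Y c ∈ cent (⊤ : Subgroup SL2) x := fun c => mem_cent.2 ⟨Subgroup.mem_top _, Subtype.ext (by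
    show (α c • (1 : M2) + β c • (x : M2)) * (x : M2) = (x : M2) * (α c • (1 : M2) + β c • (x : M2))
    simp [add_mul, mul_add])⟩
  rw [← Nat.card_units]
  refine (Nat.card_eq_of_bijective (fun c : Fˣ => (⟨Y c, hY c⟩ : cent (⊤ : Subgroup SL2) x)) ⟨?_, ?_⟩).symm
  · intro c c' h
    have h' : α c • (1 : M2) + β c • (x : M2) = α c' • (1 : M2) + β c' • (x : M2) :=
      congrArg (fun y : cent (⊤ : Subgroup SL2) x => ((y : SL2) : M2)) h
    have hb : β c = β c' := by
      by_contra hb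
      refine hx ⟨(α c' - α c) / (β c - β c'), ?_⟩
      rw [div_eq_inv_mul, ← smul_smul]
      refine (inv_smul_smul₀ (sub_ne_zero.2 hb) (x : M2)).symm.trans (congrArg _ ?_)
      rw [sub_smul, sub_smul]
      rw [← sub_eq_zero] at h' ⊢
      rw [← h']; abel
    rw [hb] at h'
    have ha' : α c = α c' := by simpa using congrFun (congrFun h' 0) 0
    exact Units.ext (by rw [← h1 c, ← h1 c', hb, ha'])
  · rintro ⟨y, hy⟩
    obtain ⟨u, v, e⟩ := exists_repr hx (mem_cent.1 hy).2.symm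
    have hd : (u + v * a) * (u + v * a⁻¹) = 1 := by rw [← hdet, ← e, y.2]
    refine ⟨Units.mk0 _ (left_ne_zero_of_mul_eq_one hd), ?_⟩
    have hv : β (Units.mk0 _ (left_ne_zero_of_mul_eq_one hd)) = v := by
      simp only [β, Units.val_mk0, inv_eq_of_mul_eq_one_right hd]
      rw [show u + v * a - (u + v * a⁻¹) = v * (a - a⁻¹) by ring, mul_div_cancel_right₀ _ hne]
    have hu : α (Units.mk0 _ (left_ne_zero_of_mul_eq_one hd)) = u := by
      simp only [α]; rw [hv, Units.val_mk0]; ring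
    exact Subtype.ext (Subtype.ext (show α _ • (1 : M2) + β _ • (x : M2) = _ by rw [hu, hv, e]))

theorem semis_of_pow (p : ℕ) [Fact p.Prime] [CharP F p] {x : SL2} (h : prH x ^ p ≠ 1) :
    ¬ IsSc x ∧ Matrix.trace (x : M2) ^ 2 ≠ 4 := by
  have hx : ¬ IsSc x := fun hs => h (by rw [pr_eq_one.2 hs, one_pow])
  refine ⟨hx, fun h4 => h ?_⟩
  obtain ⟨s, hs, -, hsy, -⟩ := exists_sign (p := p) hx h4
  have := congrArg prH hsy
  rwa [map_pow, map_mul, pr_eq_one.2 hs, one_mul, map_one] at this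

/-- Everything normalizing a semisimple cyclic subgroup lies in the dihedral torus normalizer. -/
theorem torus_dihedral' (p : ℕ) [Fact p.Prime] [CharP F p] {g : P} (hg : g ^ p ≠ 1) :
    ∃ (D : Subgroup P) (h : ℕ), (zz * h = Nat.card F + 1 ∨ zz * h = Nat.card F - 1) ∧
      Nonempty (D ≃* DihedralGroup h) ∧ Nat.card D = 2 * h ∧
      (∀ m : P, m * g * m⁻¹ ∈ Subgroup.zpowers g → m ∈ D) ∧
      ∀ m ∈ D, m * g * m⁻¹ = g ∨ m * g * m⁻¹ = g⁻¹ := by
  obtain ⟨x, rfl⟩ := PSL2Inv.pr_surjective g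
  obtain ⟨hx, hτ⟩ := semis_of_pow p hg
  obtain ⟨w, hw⟩ := exists_inverter_top hτ
  have hd : zz ∣ Nat.card (cent (⊤ : Subgroup SL2) x) := by
    rw [← scPart_eq (H := (⊤ : Subgroup SL2)) fun y _ => trivial]
    exact Subgroup.card_dvd_of_le (scPart_le_cent _ x)
  obtain ⟨k, hk⟩ := hd
  obtain ⟨e, hc⟩ := dihedral_of_inverter hx hτ hw hk
  refine ⟨_, k, hk ▸ card_cent_top hx hτ, e, hc, fun m hm => ?_, ?_⟩
  rotate_left
  · rintro _ ⟨y, hy, rfl⟩
    have hyx : y * x * y⁻¹ ∈ cent (⊤ : Subgroup SL2) x :=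
      (Subgroup.mem_normalizer_iff.1 (Subgroup.mem_inf.1 hy).2 x).1 (mem_cent.2 ⟨Subgroup.mem_top _, rfl⟩)
    rcases commute_eq_or_inv' hx (mem_cent.1 hyx).2.symm (trace_conj y x) hτ with h | h
    · left; rw [← map_inv, ← map_mul, ← map_mul, h]
    · right; rw [← map_inv, ← map_mul, ← map_mul, h, map_inv]
  obtain ⟨y, rfl⟩ := PSL2Inv.pr_surjective m
  obtain ⟨i, hi⟩ := hm
  refine Subgroup.mem_map_of_mem _ (mem_nz_of_conj_mem hx (Subgroup.mem_top y)
    (mem_cent.2 ⟨Subgroup.mem_top _, rfl⟩) hx (mem_cent.2 ⟨Subgroup.mem_top _, ?_⟩))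
  have hs : IsSc ((x ^ i)⁻¹ * (y * x * y⁻¹)) := pr_eq_one.1 (by
    rw [map_mul, map_inv, map_zpow, map_mul, map_mul, map_inv, inv_mul_eq_one]
    exact hi)
  have hcomm : Commute ((x ^ i)⁻¹ * (y * x * y⁻¹)) x := hs.commute x
  have := ((Commute.refl x).zpow_left i).mul_left hcomm
  rw [mul_inv_cancel_left] at this
  exact this

/-- Everything normalizing a semisimple cyclic subgroup lies in a dihedral group. -/
theorem torus_dihedral (p : ℕ) [Fact p.Prime] [CharP F p] {g : P} (hg : g ^ p ≠ 1) :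
    ∃ (D : Subgroup P) (h : ℕ), (zz * h = Nat.card F + 1 ∨ zz * h = Nat.card F - 1) ∧
      Nonempty (D ≃* DihedralGroup h) ∧ Nat.card D = 2 * h ∧
      ∀ m : P, m * g * m⁻¹ ∈ Subgroup.zpowers g → m ∈ D := by
  obtain ⟨D, h, h1, h2, h3, h4, -⟩ := torus_dihedral' p hg
  exact ⟨D, h, h1, h2, h3, h4⟩

end Cfsg.Agent.Dickson
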