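/-
Binary icosahedral groups in SL_2 and A_5 in PSL_2.
-/
import Cfsg.Agent.Lib.Classical.DicksonBasics
import Cfsg.Agent.Lib.SL2Pres.Universal
import Cfsg.Agent.S0253
import Mathlib.FieldTheory.Finite.Basic
import Mathlib.Algebra.Field.ZMod

set_option autoImplicit false
set_option linter.style.haveILetI false

namespace Cfsg.Agent.Icosahedral

open Matrix

variable {F : Type*} [Field F]

local notation "SL2" => Matrix.SpecialLinearGroup (Fin 2) F
local notation "M2" => Matrix (Fin 2) (Fin 2) F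

/-- Traces of the generators. -/
structure Rel (τ : F) (a b : SL2) : Prop where
  ta : Matrix.trace (a : M2) = τ
  tb : Matrix.trace (b : M2) = τ
  tab : Matrix.trace ((a : M2) * (b : M2)) = 1
  hτ : τ ^ 2 + τ = 1

variable {τ : F} {a b : Matrix.SpecialLinearGroup (Fin 2) F}

theorem sq_val {x : SL2} (h : Matrix.trace (x : M2) = τ) : (x : M2) * x = τ • (x : M2) - 1 := by
  have hd := PStable.det_one x
  rw [Matrix.trace_fin_two] at h
  apply PStable.ext2 <;> simp [Matrix.mul_apply, Fin.sum_univ_two]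
  · linear_combination (x : M2) 0 0 * h - hd
  · linear_combination (x : M2) 0 1 * h
  · linear_combination (x : M2) 1 0 * h
  · linear_combination (x : M2) 1 1 * h - hd

theorem inv_val {x : SL2} (h : Matrix.trace (x : M2) = τ) : ((x⁻¹ : SL2) : M2) = τ • (1 : M2) - x := by
  rw [Matrix.SpecialLinearGroup.coe_inv, Matrix.adjugate_fin_two]
  rw [Matrix.trace_fin_two] at h
  apply PStable.ext2 <;> simp
  · linear_combination h
  · linear_combination h

theorem trace_inv {x : SL2} : Matrix.trace ((x⁻¹ : SL2) : M2) = Matrix.trace (x : M2) := by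
  rw [inv_val rfl, Matrix.trace_fin_two, Matrix.trace_fin_two]
  simp
  ring

theorem Rel.symm (h : Rel τ a b) : Rel τ b a := ⟨h.tb, h.ta, by rw [Matrix.trace_mul_comm]; exact h.tab, h.hτ⟩

theorem Rel.inv (h : Rel τ a b) : Rel τ a⁻¹ b⁻¹ :=
  ⟨trace_inv.trans h.ta, trace_inv.trans h.tb, by
    rw [← Matrix.SpecialLinearGroup.coe_mul, ← _root_.mul_inv_rev, trace_inv,
      Matrix.SpecialLinearGroup.coe_mul, Matrix.trace_mul_comm]
    exact h.tab, h.hτ⟩

theorem Rel.pow_five {x : SL2} (h : Matrix.trace (x : M2) = τ) (hτ : τ ^ 2 + τ = 1) : x ^ 5 = 1 := by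
  apply Subtype.ext
  rw [Matrix.SpecialLinearGroup.coe_pow, Matrix.SpecialLinearGroup.coe_one]
  have h2 := sq_val h
  set X := (x : M2)
  have h3 : X ^ 3 = (τ ^ 2 - 1) • X - τ • (1 : M2) := by
    rw [pow_succ, pow_two, h2, sub_mul, smul_mul_assoc, h2, one_mul, smul_sub, smul_smul, sub_smul, one_smul,
      ← pow_two τ]
    abel
  rw [show (5 : ℕ) = 2 + 3 by rfl, pow_add, pow_two, h2, h3]
  simp only [sub_mul, mul_sub, smul_mul_assoc, mul_smul_comm, h2, one_mul, mul_one, smul_sub, smul_smul]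
  have hs : τ ^ 2 = 1 - τ := by linear_combination hτ
  apply PStable.ext2 <;> simp [Matrix.sub_apply, Matrix.smul_apply]
  all_goals grind

theorem Rel.aba (h : Rel τ a b) : (a : M2) * b * a = (b : M2) + (a : M2) - τ • 1 := by
  have hs : (a : M2) * b + (b : M2) * a = τ • (a : M2) + τ • (b : M2) + τ • 1 := by
    have ha := h.ta; have hb := h.tb; have hab := h.tab; have hτ := h.hτ
    rw [Matrix.trace_fin_two] at ha hb hab
    simp only [Matrix.mul_apply, Fin.sum_univ_two] at hab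
    apply PStable.ext2 <;> simp [Matrix.mul_apply, Fin.sum_univ_two] <;> grind
  have e : (b : M2) * a = τ • (a : M2) + τ • (b : M2) + τ • 1 - (a : M2) * b := eq_sub_of_add_eq' hs
  rw [mul_assoc, e]
  simp only [mul_add, mul_sub, mul_smul_comm, ← mul_assoc, sq_val h.ta, sub_mul, smul_mul_assoc, one_mul,
    mul_one, smul_sub, smul_smul]
  have ht : τ * τ = 1 - τ := by linear_combination h.hτ
  rw [ht, sub_smul, one_smul]
  abel

theorem Rel.braid (h : Rel τ a b) : a * b * a = b * a * b := by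
  apply Subtype.ext
  simp only [Matrix.SpecialLinearGroup.coe_mul]
  rw [h.aba, h.symm.aba, add_comm]

theorem Rel.conj_one (h : Rel τ a b) : (a * b * a) * a * (a * b * a)⁻¹ = b := by
  rw [mul_inv_eq_iff_eq_mul]
  nth_rw 1 [h.braid]
  rw [h.braid]
  calc b * a * b * a = b * (a * b * a) := by group
    _ = b * (b * a * b) := by rw [h.braid]

theorem Rel.mid (h : Rel τ a b) :
    ((a * a * (b⁻¹ * b⁻¹) * (a * a) : SL2) : M2) = τ • ((a : M2) - (b : M2)) := by
  simp only [Matrix.SpecialLinearGroup.coe_mul, inv_val h.tb, sq_val h.ta]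
  have h1 : (τ • (1 : M2) - (b : M2)) * (τ • 1 - (b : M2)) = (-τ) • (1 + (b : M2)) := by
    have ht : τ * τ = 1 - τ := by linear_combination h.hτ
    simp only [sub_mul, mul_sub, smul_mul_assoc, mul_smul_comm, one_mul, mul_one, sq_val h.tb]
    apply PStable.ext2 <;> simp [Matrix.sub_apply, Matrix.smul_apply] <;> grind
  have h2 := h.aba
  have hs : (a : M2) * b + (b : M2) * a = τ • (a : M2) + τ • (b : M2) + τ • 1 := by
    have ha := h.ta; have hb := h.tb; have hab := h.tab; have hτ := h.hτ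
    rw [Matrix.trace_fin_two] at ha hb hab
    simp only [Matrix.mul_apply, Fin.sum_univ_two] at hab
    apply PStable.ext2 <;> simp [Matrix.mul_apply, Fin.sum_univ_two] <;> grind
  rw [h1]
  simp only [mul_smul_comm, smul_mul_assoc, mul_add, add_mul, sub_mul, mul_sub, one_mul, mul_one, sq_val h.ta,
    smul_sub, smul_add, smul_smul, h2]
  have e : (b : M2) * a = τ • (a : M2) + τ • (b : M2) + τ • 1 - (a : M2) * b := eq_sub_of_add_eq' hs
  rw [e]
  have ht : τ ^ 2 = 1 - τ := by linear_combination h.hτ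
  apply PStable.ext2 <;> simp [Matrix.sub_apply, Matrix.smul_apply, Matrix.add_apply] <;> grind

theorem Rel.conj_two (h : Rel τ a b) :
    (a * a * (b⁻¹ * b⁻¹) * (a * a)) * a * (a * a * (b⁻¹ * b⁻¹) * (a * a))⁻¹ = b⁻¹ := by
  rw [mul_inv_eq_iff_eq_mul]
  apply Subtype.ext
  rw [Matrix.SpecialLinearGroup.coe_mul, Matrix.SpecialLinearGroup.coe_mul b⁻¹, h.mid, inv_val h.tb]
  simp only [smul_mul_assoc, mul_smul_comm, sub_mul, mul_sub, one_mul, smul_sub, sq_val h.ta, sq_val h.tb]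
  abel

instance : Fact (Nat.Prime 5) := ⟨Nat.prime_five⟩

/-- `a` to the power `t`. -/
def pz (a : SL2) (t : ZMod 5) : SL2 := a ^ t.val

theorem pz_add {a : SL2} (h : a ^ 5 = 1) (t u : ZMod 5) : pz a t * pz a u = pz a (t + u) := by
  rw [pz, pz, pz, ← pow_add, ZMod.val_add, ← pow_eq_pow_mod _ h]

theorem rel_aux (h : Rel τ a b) (t u : ZMod 5) (ht : t ≠ 0) :
    (pz a t * pz b⁻¹ (-t⁻¹) * pz a t) * pz a u * (pz a t * pz b⁻¹ (-t⁻¹) * pz a t)⁻¹ =
      pz b⁻¹ (-(t⁻¹ ^ 2 * u)) := by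
  have ha5 := Rel.pow_five h.ta h.hτ
  have hb5 : b⁻¹ ^ 5 = 1 := Rel.pow_five (trace_inv.trans h.tb) h.hτ
  set w := pz a t * pz b⁻¹ (-t⁻¹) * pz a t with hw
  suffices key : w * a * w⁻¹ = pz b⁻¹ (-(t⁻¹ ^ 2)) by
    show w * a ^ u.val * w⁻¹ = _
    rw [← conj_pow, key, pz, ← pow_mul, pz, pow_eq_pow_mod _ hb5]
    congr 1
    rw [show -(t⁻¹ ^ 2 * u) = -(t⁻¹ ^ 2) * u by ring, ZMod.val_mul]
  have p2 : ∀ x : SL2, x * x = x ^ 2 := fun x => (pow_two x).symm
  have i4 : ∀ x : SL2, x ^ 5 = 1 → x ^ 4 = x⁻¹ := fun x hx =>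
    eq_inv_of_mul_eq_one_left (by rw [← pow_succ, hx])
  have i3 : ∀ x : SL2, x ^ 5 = 1 → x ^ 3 = x⁻¹ * x⁻¹ := fun x hx => by
    rw [← _root_.mul_inv_rev, ← pow_two]
    exact eq_inv_of_mul_eq_one_left (by rw [← pow_add, hx])
  have cases : t = 1 ∨ t = 2 ∨ t = 3 ∨ t = 4 := by
    clear hw w
    revert ht
    revert t
    decide +kernel
  rcases cases with rfl | rfl | rfl | rfl
  · rw [hw, show (-(1 : ZMod 5)⁻¹) = 4 by decide +kernel, show (-((1 : ZMod 5)⁻¹ ^ 2)) = 4 by decide +kernel]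
    show a ^ 1 * b⁻¹ ^ 4 * a ^ 1 * a * (a ^ 1 * b⁻¹ ^ 4 * a ^ 1)⁻¹ = b⁻¹ ^ 4
    rw [i4 _ hb5, inv_inv, pow_one]
    exact h.conj_one
  · rw [hw, show (-(2 : ZMod 5)⁻¹) = 2 by decide +kernel, show (-((2 : ZMod 5)⁻¹ ^ 2)) = 1 by decide +kernel]
    show a ^ 2 * b⁻¹ ^ 2 * a ^ 2 * a * (a ^ 2 * b⁻¹ ^ 2 * a ^ 2)⁻¹ = b⁻¹ ^ 1
    rw [pow_one, ← p2, ← p2]
    exact h.conj_two
  · rw [hw, show (-(3 : ZMod 5)⁻¹) = 3 by decide +kernel, show (-((3 : ZMod 5)⁻¹ ^ 2)) = 1 by decide +kernel]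
    show a ^ 3 * b⁻¹ ^ 3 * a ^ 3 * a * (a ^ 3 * b⁻¹ ^ 3 * a ^ 3)⁻¹ = b⁻¹ ^ 1
    rw [i3 _ ha5, i3 _ hb5, pow_one]
    set m := a⁻¹ * a⁻¹ * (b⁻¹⁻¹ * b⁻¹⁻¹) * (a⁻¹ * a⁻¹) with hm
    have := congrArg Inv.inv h.inv.conj_two
    rw [← hm] at this
    rw [inv_inv] at this
    rw [← this]
    group
  · rw [hw, show (-(4 : ZMod 5)⁻¹) = 1 by decide +kernel, show (-((4 : ZMod 5)⁻¹ ^ 2)) = 4 by decide +kernel]
    show a ^ 4 * b⁻¹ ^ 1 * a ^ 4 * a * (a ^ 4 * b⁻¹ ^ 1 * a ^ 4)⁻¹ = b⁻¹ ^ 4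
    rw [i4 _ ha5, i4 _ hb5, pow_one, inv_inv]
    have hwc := congrArg Inv.inv h.inv.conj_one
    rw [inv_inv] at hwc
    calc _ = (a⁻¹ * b⁻¹ * a⁻¹ * a⁻¹ * (a⁻¹ * b⁻¹ * a⁻¹)⁻¹)⁻¹ := by group
      _ = _ := hwc

theorem exists_hom_sl (h : Rel τ a b) :
    ∃ ψ : Matrix.SpecialLinearGroup (Fin 2) (ZMod 5) →* SL2, ψ (SL2Pres.up 1) = a := by
  have h' : Rel τ b⁻¹ a⁻¹ := h.inv.symm
  let D : SL2Pres.SData (ZMod 5) SL2 :=
    { X := pz a, Y := pz b⁻¹
      addX := pz_add (Rel.pow_five h.ta h.hτ)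
      addY := pz_add (Rel.pow_five (trace_inv.trans h.tb) h.hτ)
      relX := rel_aux h
      relY := fun t u ht => by
        have := rel_aux h' t u ht
        rwa [inv_inv] at this }
  obtain ⟨ψ, h1, -⟩ := SL2Pres.exists_hom D
  exact ⟨ψ, (h1 1).trans (by show a ^ (1 : ZMod 5).val = a; rw [ZMod.val_one, pow_one])⟩

theorem exists_rel [Finite F] (h2 : (2 : F) ≠ 0) (h5 : (5 : F) ≠ 0) (hd : 5 ∣ Nat.card SL2) :
    ∃ (τ : F) (a b : SL2), Rel τ a b := by
  classical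
  haveI := Fintype.ofFinite F
  obtain ⟨u, hu⟩ := exists_prime_orderOf_dvd_card' 5 hd
  have hu5 : u ^ 5 = 1 := hu ▸ pow_orderOf_eq_one u
  have hns : ¬ PStable.IsSc u := by
    intro hs
    have h1 : u * u = 1 := by
      apply Subtype.ext
      rw [Matrix.SpecialLinearGroup.coe_mul]
      rcases hs.eq_or_eq with h | h <;> rw [h] <;> simp
    have h2' := orderOf_dvd_of_pow_eq_one (show u ^ 2 = 1 by rw [pow_two, h1])
    rw [hu] at h2'
    norm_num at h2'
  set τ := Matrix.trace (u : M2) with hτdef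
  have hτ : τ ^ 2 + τ = 1 := by
    have h4 : u ^ 4 = u⁻¹ := eq_inv_of_mul_eq_one_left (by rw [← pow_succ, hu5])
    have h4' : ((u ^ 4 : SL2) : M2) = ((u⁻¹ : SL2) : M2) := congrArg Subtype.val h4
    rw [inv_val rfl, Matrix.SpecialLinearGroup.coe_pow, show (4 : ℕ) = 2 * 2 by rfl, pow_mul, pow_two,
      pow_two, sq_val rfl] at h4'
    simp only [sub_mul, mul_sub, smul_mul_assoc, mul_smul_comm, one_mul, mul_one, sq_val (rfl : Matrix.trace (u : M2) = _),
      smul_sub, smul_smul, ← hτdef] at h4'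
    have e00 := congrFun (congrFun h4' 0) 0
    have e01 := congrFun (congrFun h4' 0) 1
    have e10 := congrFun (congrFun h4' 1) 0
    have e11 := congrFun (congrFun h4' 1) 1
    simp [Matrix.sub_apply, Matrix.smul_apply] at e00 e01 e10 e11
    by_contra hne
    refine hns (PStable.isSc_iff.2 ?_)
    have hc : (τ * τ * τ - 2 * τ + 1) = (τ - 1) * (τ ^ 2 + τ - 1) := by ring
    rcases eq_or_ne (τ * τ * τ - 2 * τ + 1) 0 with h0 | h0
    · exfalso
      exact hne (by linear_combination -e00 + (u : M2) 0 0 * h0)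
    · exact ⟨(mul_eq_zero.1 (show (τ * τ * τ - 2 * τ + 1) * (u : M2) 0 1 = 0 by linear_combination e01)).resolve_left h0,
        (mul_eq_zero.1 (show (τ * τ * τ - 2 * τ + 1) * (u : M2) 1 0 = 0 by linear_combination e10)).resolve_left h0,
        sub_eq_zero.1 ((mul_eq_zero.1 (show (τ * τ * τ - 2 * τ + 1) * ((u : M2) 0 0 - (u : M2) 1 1) = 0 by
          linear_combination e00 - e11)).resolve_left h0)⟩
  have hτ4 : τ ^ 2 / 4 - 1 ≠ 0 := by
    intro h
    have h4 : (4 : F) ≠ 0 := by rw [show (4 : F) = 2 * 2 by norm_num]; exact mul_ne_zero h2 h2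
    field_simp at h
    exact h5 (by linear_combination h - (τ - 3) * (hτ - h))
  have hodd : Fintype.card F % 2 = 1 := FiniteField.odd_card_of_char_ne_two fun h => by
    haveI := ringChar.of_eq h
    exact h2 CharTwo.two_eq_zero
  obtain ⟨w, x, hwx⟩ := FiniteField.exists_root_sum_quadratic
    (f := Polynomial.C (-1 : F) * Polynomial.X ^ 2 + Polynomial.C (-τ) * Polynomial.X + Polynomial.C (-1))
    (g := Polynomial.C (τ ^ 2 / 4 - 1) * Polynomial.X ^ 2 + Polynomial.C (τ + τ ^ 2 / 2) * Polynomial.X + Polynomial.C 0)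
    (Polynomial.degree_quadratic (by simp)) (Polynomial.degree_quadratic hτ4) hodd
  simp only [Polynomial.eval_add, Polynomial.eval_mul, Polynomial.eval_C, Polynomial.eval_pow, Polynomial.eval_X] at hwx
  let z := w - τ * x / 2
  refine ⟨τ, ⟨!![0, -1; 1, τ], by simp [Matrix.det_fin_two]⟩,
    ⟨!![x, z + τ + τ * x; z, τ - x], ?_⟩, ?_, ?_, ?_, hτ⟩
  · rw [Matrix.det_fin_two_of]
    simp only [z]
    have h4i : (4 : F)⁻¹ = 2⁻¹ * 2⁻¹ := by rw [← mul_inv]; norm_num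
    have h2i : (2 : F) * 2⁻¹ = 1 := mul_inv_cancel₀ h2
    simp only [div_eq_mul_inv, h4i] at hwx ⊢
    linear_combination hwx + τ * x * (w - τ * x * 2⁻¹) * h2i
  · simp [Matrix.trace_fin_two]
  · simp [Matrix.trace_fin_two]
  · simp [Matrix.trace_fin_two, Matrix.mul_apply, Fin.sum_univ_two]
    linear_combination hτ

/-- `PSL₂(F)` contains `A₅` when 5 divides the order. -/
theorem exists_alternating_five [Finite F] (h2 : (2 : F) ≠ 0) (h5 : (5 : F) ≠ 0) (hd : 5 ∣ Nat.card SL2) :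
    ∃ f : alternatingGroup (Fin 5) →* Matrix.ProjectiveSpecialLinearGroup (Fin 2) F, Function.Injective f := by
  obtain ⟨τ, a, b, hab⟩ := exists_rel h2 h5 hd
  obtain ⟨ψ, hψ⟩ := exists_hom_sl hab
  let M := (PSL2Inv.pr (F := F)).comp ψ
  have hz : Subgroup.center (Matrix.SpecialLinearGroup (Fin 2) (ZMod 5)) ≤ M.ker := by
    intro x hx
    have hxx : x * x = 1 := by
      rcases SL2Inv.mem_center_iff.1 hx with rfl | rfl
      · exact one_mul 1
      · exact SL2Inv.negOne_mul_self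
    have h1 : ψ x * ψ x = 1 := by rw [← map_mul, hxx, map_one]
    rw [MonoidHom.mem_ker]
    exact PSL2Inv.pr_eq_one_iff.2 (SL2Inv.eq_or_eq_negOne_of_mul_self h2 h1)
  let φ : Matrix.ProjectiveSpecialLinearGroup (Fin 2) (ZMod 5) →* _ := QuotientGroup.lift _ M hz
  have hne : φ (PSL2Inv.pr (SL2Pres.up 1)) ≠ 1 := by
    show PSL2Inv.pr (ψ _) ≠ 1
    rw [hψ]
    intro h
    obtain ⟨c, hc⟩ := Dickson.pr_eq_one.1 h
    have hdet := PStable.det_one a
    have ht := hab.ta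
    rw [hc, Matrix.trace_fin_two] at ht
    simp [hc] at hdet ht
    refine h5 ?_
    linear_combination (-(τ + 2 * c) * ht + 4 * hdet) - (τ - 3) * (hab.hτ - (-(τ + 2 * c) * ht + 4 * hdet))
  obtain ⟨e⟩ := S0253.result (F := ZMod 5) (ZMod.card 5)
  let χ := φ.comp e.symm.toMonoidHom
  refine ⟨χ, ?_⟩
  haveI : IsSimpleGroup (alternatingGroup (Fin 5)) := alternatingGroup.isSimpleGroup (by simp)
  rcases χ.normal_ker.eq_bot_or_eq_top with h | h
  · exact (MonoidHom.ker_eq_bot_iff χ).1 h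
  · exfalso
    refine hne ?_
    have hm : e (PSL2Inv.pr (SL2Pres.up 1)) ∈ χ.ker := h ▸ Subgroup.mem_top _
    simpa [χ] using hm

end Cfsg.Agent.Icosahedral
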