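/-
SU_2(q) is SL_2 of the fixed field.
-/
import Cfsg.Agent.Lib.Classical.HermSU
import Cfsg.Agent.Lib.Classical.PSL2Subfield

set_option autoImplicit false

namespace Cfsg.Agent.SU2

open Matrix Hermitian HermStd HermSU

variable {F : Type*} [Field F] [Fintype F] {q : ℕ} {σ : F →+* F}

theorem card_SU2 (hne : σ ≠ RingHom.id F) (hinv : ∀ a, σ (σ a) = a) (hσ : ∀ x, σ x = x ^ q)
    (hq : Nat.card (fixed σ) = q) : Nat.card (Cfsg.SU 2 F q) = q * (q - 1) * (q + 1) := by
  refine Nat.eq_of_mul_eq_mul_left (show 0 < q + 1 by omega) ?_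
  rw [card_SU_mul hne hinv hσ (by norm_num) hq, card_GU hne hinv hσ 2 hq, Finset.prod_range_succ,
    Finset.prod_range_succ, Finset.prod_range_zero, if_pos (by decide), if_neg (by decide), one_mul]
  have h := Nat.sq_sub_sq q 1
  rw [one_pow] at h
  rw [show q ^ (1 + 1) - 1 = q ^ 2 - 1 from rfl, h]
  norm_num
  ring

theorem exists_equiv_SU2 {K : Type*} [Field K] [Fintype K] (hne : σ ≠ RingHom.id F)
    (hinv : ∀ a, σ (σ a) = a) (hσ : ∀ x, σ x = x ^ q)
    (hq : Nat.card (fixed σ) = q) (hK : Fintype.card K = q) :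
    Nonempty (Cfsg.SU 2 F q ≃* Matrix.SpecialLinearGroup (Fin 2) K) := by
  classical
  haveI := Fintype.ofFinite (fixed σ)
  let ι : K →+* F := (fixed σ).subtype.comp
    (FiniteField.ringEquivOfCardEq (K := K) (K' := fixed σ)
      (by rw [hK, ← hq, Nat.card_eq_fintype_card])).toRingHom
  have hfix : ∀ k : K, σ (ι k) = ι k := fun k =>
    ((FiniteField.ringEquivOfCardEq (K := K) (K' := fixed σ)
      (by rw [hK, ← hq, Nat.card_eq_fintype_card])) k).2
  obtain ⟨t, ht0, ht⟩ : ∃ t : F, t ≠ 0 ∧ σ t = -t := by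
    obtain ⟨a, ha⟩ : ∃ a, σ a ≠ a := by
      by_contra! h
      exact hne (RingHom.ext h)
    exact ⟨a - σ a, sub_ne_zero.2 (Ne.symm ha), by rw [map_sub, hinv, neg_sub]⟩
  have hneg : σ (-1 : F) = -1 := by rw [map_neg, map_one]
  obtain ⟨a, b, hab, ha, hb⟩ : ∃ a b : F, a ≠ b ∧ a * σ a = -1 ∧ b * σ b = -1 := by
    have h := card_norm_fibre hne hinv hneg (neg_ne_zero.2 one_ne_zero)
    haveI : Nontrivial {a : F // a * σ a = -1} := Finite.one_lt_card_iff_nontrivial.1 (by
      rw [h, hq]; have := (Finite.one_lt_card : 1 < Nat.card (fixed σ)); omega)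
    obtain ⟨a, b, hne'⟩ := exists_pair_ne {a : F // a * σ a = -1}
    exact ⟨a.1, b.1, fun e => hne' (Subtype.ext e), a.2, b.2⟩
  set u := 1 + a * σ b with hu
  have hu0 : u ≠ 0 := by
    intro h
    apply hab
    have h1 : a * σ b = a * σ a := by rw [ha]; linear_combination h
    have ha0 : a ≠ 0 := fun e => by simp [e] at ha
    exact σ.injective (mul_left_cancel₀ ha0 h1.symm)
  set s := σ (t / u) with hs
  let Pm : Matrix (Fin 2) (Fin 2) F := !![1, s; a, s * b]
  have hgram : Pmᵀ * Pm.map σ = !![0, t; -t, 0] := by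
    have h1 : σ s * u = t := by rw [hs, hinv, div_mul_cancel₀ _ hu0]
    have h2 : s * (1 + b * σ a) = -t := by
      rw [← ht, ← h1, map_mul, hinv, hu, map_add, map_one, map_mul, hinv, mul_comm b]
    ext i j
    fin_cases i <;> fin_cases j <;>
      simp [Pm, Matrix.mul_apply, Fin.sum_univ_two]
    · linear_combination ha
    · rw [← h1, hu]; ring
    · linear_combination h2
    · linear_combination (s * σ s) * hb
  have hdet : Pm.det ≠ 0 := by
    intro h
    have := congrArg Matrix.det hgram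
    rw [det_mul, det_transpose, h, zero_mul, det_fin_two] at this
    simp [ht0] at this
  let P : GL (Fin 2) F := GeneralLinearGroup.mkOfDetNeZero Pm hdet
  let φ : Matrix.SpecialLinearGroup (Fin 2) K →* Matrix.SpecialLinearGroup (Fin 2) F :=
    { toFun := fun S => ⟨P.1 * S.1.map ι * (P⁻¹).1, by
        rw [det_mul, det_mul, mul_comm _ (S.1.map ι).det, mul_assoc, ← det_mul, Units.mul_inv,
          det_one, mul_one, ← RingHom.mapMatrix_apply, ← RingHom.map_det, S.2, map_one]⟩
      map_one' := Subtype.ext (by simp)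
      map_mul' := fun S T => Subtype.ext (by
        show P.1 * (S * T).1.map ι * (P⁻¹).1 =
          P.1 * S.1.map ι * (P⁻¹).1 * (P.1 * T.1.map ι * (P⁻¹).1)
        rw [Matrix.SpecialLinearGroup.coe_mul, Matrix.map_mul]
        simp only [mul_assoc, Units.inv_mul_cancel_left]) }
  have hmem : ∀ S, φ S ∈ Cfsg.SU 2 F q := by
    intro S
    refine (mem_SU_iff hσ _).2 ?_
    show (P.1 * S.1.map ι * (P⁻¹).1)ᵀ * (P.1 * S.1.map ι * (P⁻¹).1).map σ = 1
    have hS : (S.1.map ι).map σ = S.1.map ι := by ext i j; exact hfix _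
    have hSJ : (S.1.map ι)ᵀ * !![0, t; -t, 0] * S.1.map ι = !![0, t; -t, 0] := by
      have hd : (S.1.map ι).det = 1 := by
        rw [← RingHom.mapMatrix_apply, ← RingHom.map_det, S.2, map_one]
      rw [det_fin_two] at hd
      simp only [Matrix.map_apply] at hd
      ext i j
      fin_cases i <;> fin_cases j <;> simp [Matrix.mul_apply, Fin.sum_univ_two]
      · ring
      · linear_combination t * hd
      · linear_combination -t * hd
      · ring
    have hinvσ : P.1.map σ * ((P⁻¹).1).map σ = 1 := by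
      rw [← Matrix.map_mul, Units.mul_inv, Matrix.map_one σ (map_zero σ) (map_one σ)]
    rw [Matrix.map_mul, Matrix.map_mul, hS, transpose_mul, transpose_mul]
    calc ((P⁻¹).1)ᵀ * ((S.1.map ι)ᵀ * P.1ᵀ) * (P.1.map σ * S.1.map ι * ((P⁻¹).1).map σ)
        = ((P⁻¹).1)ᵀ * ((S.1.map ι)ᵀ * (P.1ᵀ * P.1.map σ) * S.1.map ι) * ((P⁻¹).1).map σ := by
          simp only [mul_assoc]
      _ = ((P⁻¹).1)ᵀ * (P.1ᵀ * P.1.map σ) * ((P⁻¹).1).map σ := by
          rw [show P.1ᵀ * P.1.map σ = _ from hgram, hSJ]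
      _ = (P.1 * (P⁻¹).1)ᵀ * (P.1.map σ * ((P⁻¹).1).map σ) := by
          rw [transpose_mul]; simp only [mul_assoc]
      _ = 1 := by rw [hinvσ, Units.mul_inv, transpose_one, one_mul]
  let ψ := φ.codRestrict _ hmem
  have hinj : Function.Injective ψ := by
    intro S T h
    have h1 : P.1 * S.1.map ι * (P⁻¹).1 = P.1 * T.1.map ι * (P⁻¹).1 :=
      congrArg (fun X : Cfsg.SU 2 F q => X.1.1) h
    have h2 : S.1.map ι = T.1.map ι := by
      have e := congrArg (fun X => (P⁻¹).1 * X * P.1) h1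
      simpa [mul_assoc] using e
    exact Subtype.ext (Matrix.map_injective ι.injective h2)
  have hcard : Nat.card (Matrix.SpecialLinearGroup (Fin 2) K) = Nat.card (Cfsg.SU 2 F q) := by
    rw [SL2Inv.card_sl2, card_SU2 hne hinv hσ hq, Nat.card_eq_fintype_card, hK]
  exact ⟨(MulEquiv.ofBijective ψ ((Nat.bijective_iff_injective_and_card ψ).2 ⟨hinj, hcard⟩)).symm⟩

end Cfsg.Agent.SU2
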