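/-
Semisimple elements commuting with a non-trivial unipotent element.
-/
import Cfsg.Agent.Lib.Classical.SL
import Mathlib

set_option autoImplicit false

namespace Cfsg.Agent.UnipCentralizer

open Module

section Linear

variable {F : Type*} [Field F] [Fintype F]

/-- `r` divides no `q^k - 1`, `1 ≤ k ≤ m`. -/
def NoSmall (F : Type*) [Fintype F] (r m : ℕ) : Prop :=
  ∀ k, 1 ≤ k → k ≤ m → ¬ r ∣ Fintype.card F ^ k - 1

theorem eq_one_of_small {r m : ℕ} (hr : r.Prime) (hrq : ¬ r ∣ Fintype.card F) (hsmall : NoSmall F r m)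
    {W : Type*} [AddCommGroup W] [Module F W] [FiniteDimensional F W] (hW : finrank F W ≤ m)
    (f : Module.End F W) (hf : f ^ r = 1) : f = 1 := by
  let b := Module.finBasis F W
  let e := LinearMap.toMatrixAlgEquiv b
  apply e.injective
  have hM : e f ^ r = 1 := by rw [← map_pow, hf, map_one]
  let u : GL (Fin (finrank F W)) F := Units.ofPowEqOne (e f) r hM hr.ne_zero
  have hu : u ^ r = 1 := Units.pow_ofPowEqOne hM hr.ne_zero
  have hnd : ¬ r ∣ Nat.card (GL (Fin (finrank F W)) F) := by
    rw [Matrix.card_GL_field]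
    intro h
    obtain ⟨i, -, hi⟩ := (hr.prime.dvd_finsetProd_iff _).1 h
    have e' : Fintype.card F ^ finrank F W - Fintype.card F ^ (i : ℕ) =
        Fintype.card F ^ (i : ℕ) * (Fintype.card F ^ (finrank F W - (i : ℕ)) - 1) := by
      rw [Nat.mul_sub, mul_one, ← pow_add, Nat.add_sub_cancel' i.2.le]
    rw [e'] at hi
    rcases hr.dvd_mul.1 hi with h' | h'
    · exact hrq (hr.dvd_of_dvd_pow h')
    · exact hsmall _ (by have := i.2; omega) (by omega) h'
  have h1 : orderOf u = 1 := by
    rcases (Nat.dvd_prime hr).1 (orderOf_dvd_of_pow_eq_one hu) with h | h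
    · exact h
    · exact absurd (h ▸ orderOf_dvd_natCard u) hnd
  rw [map_one]
  exact congrArg Units.val (orderOf_eq_one_iff.1 h1)

variable {V : Type*} [AddCommGroup V] [Module F V] [FiniteDimensional F V]

theorem sub_mem_of_quot {r m : ℕ} (hr : r.Prime) (hrq : ¬ r ∣ Fintype.card F) (hsmall : NoSmall F r m)
    (y : Module.End F V) (hy : y ^ r = 1) {A B : Submodule F V} (hAB : A ≤ B)
    (hA : ∀ v ∈ A, y v ∈ A) (hB : ∀ v ∈ B, y v ∈ B) (hd : finrank F B ≤ finrank F A + m)
    {v : V} (hv : v ∈ B) : y v - v ∈ A := by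
  set yB := LinearMap.restrict y hB
  set P := A.comap B.subtype
  have hP : P ≤ P.comap yB := fun x hx => hA _ hx
  set f := P.mapQ P yB hP
  have hpow : ∀ (j : ℕ) (x : B), (f ^ j) (Submodule.Quotient.mk x) = Submodule.Quotient.mk ((yB ^ j) x) := by
    intro j
    induction j with
    | zero => intro x; rfl
    | succ j ih => intro x; rw [pow_succ, pow_succ, Module.End.mul_apply, Module.End.mul_apply,
        Submodule.mapQ_apply, ih]
  have hval : ∀ (j : ℕ) (x : B), ((yB ^ j) x : V) = (y ^ j) x := by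
    intro j
    induction j with
    | zero => intro x; rfl
    | succ j ih => intro x; rw [pow_succ, pow_succ, Module.End.mul_apply, Module.End.mul_apply, ih]; rfl
  have hfr : f ^ r = 1 := by
    refine LinearMap.ext fun z => ?_
    obtain ⟨x, rfl⟩ := Submodule.Quotient.mk_surjective P z
    rw [hpow, show (yB ^ r) x = x from Subtype.ext (by rw [hval, hy]; rfl)]
    rfl
  have hdim : finrank F (B ⧸ P) ≤ m := by
    have h1 := P.finrank_quotient_add_finrank
    have h2 : finrank F P = finrank F A := (Submodule.comapSubtypeEquivOfLe hAB).finrank_eq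
    omega
  have h := LinearMap.congr_fun (eq_one_of_small hr hrq hsmall hdim f hfr)
    (Submodule.Quotient.mk ⟨v, hv⟩)
  rw [Submodule.mapQ_apply, Module.End.one_apply, Submodule.Quotient.eq] at h
  exact h

theorem eq_one_of_commute {r p n : ℕ} (hr : r.Prime) [Fact p.Prime] [CharP F p] (hrp : r ≠ p)
    (hn : 4 ≤ n) (hV : finrank F V = n) (hsmall : NoSmall F r (n - 2))
    (y N : Module.End F V) (hy : y ^ r = 1) (hN : IsNilpotent N) (hN0 : N ≠ 0)
    (hcomm : Commute y N) : y = 1 := by
  have hp : p.Prime := Fact.out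
  have hrq : ¬ r ∣ Fintype.card F := by
    obtain ⟨a, -, ha⟩ := FiniteField.card F p
    rw [ha]
    exact fun h => hrp ((Nat.prime_dvd_prime_iff_eq hr hp).1 (hr.dvd_of_dvd_pow h))
  have hker : ∀ v ∈ LinearMap.ker N, y v ∈ LinearMap.ker N := fun v hv => by
    rw [LinearMap.mem_ker] at hv ⊢
    have := LinearMap.congr_fun hcomm.eq v
    rw [Module.End.mul_apply, Module.End.mul_apply, hv, map_zero] at this
    exact this.symm
  have hrange : ∀ v ∈ LinearMap.range N, y v ∈ LinearMap.range N := by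
    rintro _ ⟨w, rfl⟩
    exact ⟨y w, (LinearMap.congr_fun hcomm.eq w).symm⟩
  set A := LinearMap.ker N ⊓ LinearMap.range N with hA
  set B := LinearMap.ker N ⊔ LinearMap.range N with hB
  have hAinv : ∀ v ∈ A, y v ∈ A := fun v hv => ⟨hker v hv.1, hrange v hv.2⟩
  have hBinv : ∀ v ∈ B, y v ∈ B := by
    intro v hv
    obtain ⟨a, ha, b, hb, rfl⟩ := Submodule.mem_sup.1 hv
    rw [map_add]
    exact Submodule.add_mem_sup (hker a ha) (hrange b hb)
  have hsum := N.finrank_range_add_finrank_ker
  have hsup : finrank F B + finrank F A = finrank F (LinearMap.ker N) + finrank F (LinearMap.range N) :=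
    Submodule.finrank_sup_add_finrank_inf_eq _ _
  have ha1 : 1 ≤ finrank F A := by
    rw [Nat.one_le_iff_ne_zero, Ne, Submodule.finrank_eq_zero]
    intro hbot
    have key : ∀ v, N (N v) = 0 → N v = 0 := fun v hv => by
      have : N v ∈ A := ⟨LinearMap.mem_ker.2 hv, v, rfl⟩
      rwa [hbot, Submodule.mem_bot] at this
    obtain ⟨k, hk⟩ := hN
    have hdown : ∀ j : ℕ, N ^ (j + 2) = 0 → N ^ (j + 1) = 0 := fun j hj => LinearMap.ext fun v => by
      rw [pow_succ', Module.End.mul_apply]
      refine key _ ?_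
      have := LinearMap.congr_fun hj v
      rwa [pow_succ', pow_succ', Module.End.mul_apply, Module.End.mul_apply] at this
    have hall : ∀ j : ℕ, N ^ (j + 1) = 0 → N = 0 := by
      intro j
      induction j with
      | zero => intro h; simpa using h
      | succ j ih => intro h; exact ih (hdown j h)
    exact hN0 (hall k (by rw [pow_succ, hk, zero_mul]))
  have ha2 : finrank F A ≤ finrank F (LinearMap.ker N) := Submodule.finrank_mono inf_le_left
  have ha3 : finrank F A ≤ finrank F (LinearMap.range N) := Submodule.finrank_mono inf_le_right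
  have h1 : ∀ v, y v - v ∈ B := fun v =>
    sub_mem_of_quot hr hrq hsmall y hy (le_top : B ≤ ⊤) hBinv (fun _ _ => trivial)
      (by rw [finrank_top]; omega) (Submodule.mem_top (x := v))
  have h2 : ∀ v ∈ B, y v - v ∈ A := fun v hv =>
    sub_mem_of_quot hr hrq hsmall y hy (A := A) (B := B) (inf_le_left.trans le_sup_left) hAinv hBinv
      (by omega) hv
  have h3 : ∀ v ∈ A, y v - v = 0 := fun v hv => by
    have := sub_mem_of_quot hr hrq hsmall y hy (bot_le : (⊥ : Submodule F V) ≤ A)
      (fun w hw => by rw [Submodule.mem_bot] at hw ⊢; rw [hw, map_zero]) hAinv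
      (by rw [finrank_bot]; omega) hv
    simpa using this
  rcases subsingleton_or_nontrivial V with h | h
  · exact LinearMap.ext fun v => Subsingleton.elim _ _
  haveI : CharP (Module.End F V) p := charP_of_injective_algebraMap' F p
  have hcube : (y - 1) ^ (p ^ 2) = 0 := by
    refine pow_eq_zero_of_le (m := 3) (by nlinarith [hp.two_le]) (LinearMap.ext fun v => ?_)
    simp only [pow_succ, pow_zero, one_mul, Module.End.mul_apply, LinearMap.sub_apply,
      Module.End.one_apply, LinearMap.zero_apply]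
    exact h3 _ (h2 _ (h1 v))
  rw [sub_pow_char_pow_of_commute p 2 (Commute.one_right y), one_pow, sub_eq_zero] at hcube
  have hcop : Nat.gcd (p ^ 2) r = 1 := Nat.Coprime.pow_left 2 ((Nat.coprime_primes hp hr).2 hrp.symm)
  have h := pow_gcd_eq_one.2 ⟨hcube, hy⟩
  rwa [hcop, pow_one] at h

end Linear

section PSL

variable {F : Type*} [Field F] [Fintype F]

theorem dvd_card_sl {m k : ℕ} (hm : 2 ≤ m) (hk1 : 1 ≤ k) (hk : k ≤ m) :
    Fintype.card F ^ k - 1 ∣ Nat.card (Matrix.SpecialLinearGroup (Fin m) F) := by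
  obtain ⟨m, rfl⟩ : ∃ j, m = j + 1 := ⟨m - 1, by omega⟩
  have hc := ClassicalSL.card_sl_mul (ι := Fin (m + 1)) (F := F)
  rw [Matrix.card_GL_field, Fin.prod_univ_castSucc, Nat.card_eq_fintype_card (α := F)] at hc
  simp only [Fin.val_castSucc, Fin.val_last] at hc
  set q := Fintype.card F with hq
  have hq1 : 1 < q := Fintype.one_lt_card
  have e : q ^ (m + 1) - q ^ m = (q - 1) * q ^ m := by
    rw [pow_succ, Nat.mul_comm (q - 1), Nat.mul_sub, mul_one]
  rw [e, ← mul_assoc, mul_comm _ (q - 1), mul_assoc] at hc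
  have hc' := Nat.eq_of_mul_eq_mul_left (by omega) hc
  rw [hc']
  have hfac : ∀ j, 2 ≤ j → j ≤ m + 1 → q ^ j - 1 ∣ (∏ i : Fin m, (q ^ (m + 1) - q ^ (i : ℕ))) * q ^ m := by
    intro j hj2 hj
    refine Dvd.dvd.mul_right (dvd_trans ?_
      (Finset.dvd_prod_of_mem _ (Finset.mem_univ (⟨m + 1 - j, by omega⟩ : Fin m)))) _
    rw [show q ^ (m + 1) - q ^ (m + 1 - j) = q ^ (m + 1 - j) * (q ^ j - 1) by
      rw [Nat.mul_sub, mul_one, ← pow_add, Nat.sub_add_cancel hj]]
    exact dvd_mul_left _ _
  rcases Nat.lt_or_ge k 2 with h | h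
  · obtain rfl : k = 1 := by omega
    refine dvd_trans ?_ (hfac 2 le_rfl hm)
    exact Nat.pow_sub_one_dvd_pow_sub_one q ⟨2, rfl⟩
  · exact hfac k h hk

open Matrix in
theorem prime_dvd_card_sl (p : ℕ) [Fact p.Prime] [CharP F p] {n : ℕ} (hn : 4 ≤ n)
    {a b : Matrix.ProjectiveSpecialLinearGroup (Fin n) F} (ha : orderOf a = p) (hab : Commute a b)
    {r : ℕ} (hr : r.Prime) (hrb : r ∣ orderOf b) :
    r ∣ Nat.card (Matrix.SpecialLinearGroup (Fin (n - 2)) F) := by
  classical
  haveI : Nonempty (Fin n) := ⟨⟨0, by omega⟩⟩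
  haveI := Matrix.charP (n := Fin n) (R := F) p
  have hp : p.Prime := Fact.out
  set q := Fintype.card F with hq
  have hq1 : 1 < q := Fintype.one_lt_card
  obtain ⟨e, -, he⟩ := FiniteField.card F p
  have hpq : p ∣ q := (dvd_pow_self p e.2.ne').trans he.symm.dvd
  by_contra hndvd
  have hsmall : NoSmall F r (n - 2) := fun k h1 h2 hd =>
    hndvd (hd.trans (dvd_card_sl (by omega) h1 h2))
  have hpq1 : ¬ p ∣ q - 1 := fun h => hp.ne_one (Nat.dvd_one.1 (by
    have := Nat.dvd_sub hpq h
    rwa [Nat.sub_sub_self hq1.le] at this))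
  have hrp : r ≠ p := by
    rintro rfl
    refine hndvd ?_
    rw [← hq] at *
    have hc := ClassicalSL.card_sl_mul (ι := Fin (n - 2 - 1 + 1)) (F := F)
    rw [Matrix.card_GL_field, Nat.card_eq_fintype_card (α := F)] at hc
    have hd : r ∣ (q - 1) * Nat.card (Matrix.SpecialLinearGroup (Fin (n - 2 - 1 + 1)) F) := by
      rw [hc]
      refine dvd_trans ?_ (Finset.dvd_prod_of_mem _ (Finset.mem_univ (Fin.last (n - 2 - 1))))
      exact Nat.dvd_sub (dvd_trans hpq (dvd_pow_self q (by omega)))
        (dvd_trans hpq (dvd_pow_self q (by rw [Fin.val_last]; omega)))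
    rw [show n - 2 - 1 + 1 = n - 2 by omega] at hd
    exact (hr.dvd_mul.1 hd).resolve_left hpq1
  obtain ⟨a', rfl⟩ := QuotientGroup.mk_surjective a
  obtain ⟨b', rfl⟩ := QuotientGroup.mk_surjective b
  -- a lift of order `p`
  have hz : a' ^ p ∈ Subgroup.center (Matrix.SpecialLinearGroup (Fin n) F) := by
    rw [← QuotientGroup.eq_one_iff, QuotientGroup.mk_pow, ← ha]
    exact pow_orderOf_eq_one _
  have hcent : ∀ z ∈ Subgroup.center (Matrix.SpecialLinearGroup (Fin n) F), z ^ (q - 1) = 1 := by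
    intro z hz
    obtain ⟨c, hc, hcz⟩ := Matrix.SpecialLinearGroup.mem_center_iff.1 hz
    have hc0 : c ≠ 0 := by
      intro h
      rw [h, Fintype.card_fin, zero_pow (by omega)] at hc
      exact zero_ne_one hc
    refine Subtype.ext ?_
    rw [Matrix.SpecialLinearGroup.coe_pow, ← hcz, ← map_pow, hq,
      FiniteField.pow_card_sub_one_eq_one c hc0, map_one]
    rfl
  set u := a' ^ (q - 1) with hu
  have hup : u ^ p = 1 := by rw [hu, ← pow_mul, mul_comm, pow_mul, hcent _ hz]
  have hu1 : u ≠ 1 := by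
    intro h
    apply hpq1
    rw [← ha]
    refine orderOf_dvd_of_pow_eq_one ?_
    rw [← QuotientGroup.mk_pow, ← hu, h, QuotientGroup.mk_one]
  -- an element of order `r` commuting with it
  have hrb' : r ∣ orderOf b' := hrb.trans (orderOf_map_dvd (QuotientGroup.mk' _) b')
  set y := b' ^ (orderOf b' / r) with hy
  have hyr : orderOf y = r := orderOf_pow_orderOf_div (orderOf_pos b').ne' hrb'
  have hyu : Commute y u := by
    refine Commute.pow_left ?_ _
    have hc : (b' * u * b'⁻¹ * u⁻¹) ∈ Subgroup.center (Matrix.SpecialLinearGroup (Fin n) F) := by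
      rw [← QuotientGroup.eq_one_iff, hu]
      simp only [QuotientGroup.mk_mul, QuotientGroup.mk_inv, QuotientGroup.mk_pow]
      rw [(hab.symm.pow_right (q - 1)).eq]
      group
    set ζ := b' * u * b'⁻¹ * u⁻¹ with hζ
    have h1 : ζ * u = b' * u * b'⁻¹ := by rw [hζ]; group
    have h2 : (ζ * u) ^ p = 1 := by rw [h1, conj_pow, hup, mul_one, mul_inv_cancel]
    rw [(show Commute ζ u from (Subgroup.mem_center_iff.1 hc u).symm).mul_pow, hup, mul_one] at h2
    have hgcd : Nat.gcd p (q - 1) = 1 := (hp.coprime_iff_not_dvd).2 hpq1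
    have h3 := pow_gcd_eq_one.2 ⟨h2, hcent ζ hc⟩
    rw [hgcd, pow_one] at h3
    rw [h3, one_mul] at h1
    exact (eq_mul_inv_iff_mul_eq.1 h1).symm
  let E := (Matrix.toLinAlgEquiv' : Matrix (Fin n) (Fin n) F ≃ₐ[F] _)
  have hnil : IsNilpotent (u.1 - 1) := ⟨p ^ 1, by
    rw [sub_pow_char_pow_of_commute p 1 (Commute.one_right _), one_pow, pow_one,
      ← Matrix.SpecialLinearGroup.coe_pow, hup, Matrix.SpecialLinearGroup.coe_one, sub_self]⟩
  have hc' : Commute y.1 (u.1 - 1) := by
    refine Commute.sub_right ?_ (Commute.one_right _)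
    exact congrArg Subtype.val hyu.eq
  have h := eq_one_of_commute hr hrp hn (Module.finrank_fin_fun F) hsmall (E y.1) (E (u.1 - 1))
    (by rw [← map_pow, ← Matrix.SpecialLinearGroup.coe_pow, ← hyr, pow_orderOf_eq_one,
      Matrix.SpecialLinearGroup.coe_one, map_one])
    (hnil.map E) (fun h => hu1 (Subtype.ext (sub_eq_zero.1 (E.injective (h.trans (map_zero E).symm)))))
    (hc'.map E)
  have : y = 1 := Subtype.ext (E.injective (h.trans (map_one E).symm))
  rw [this, orderOf_one] at hyr
  exact hr.ne_one hyr.symm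

end PSL

end Cfsg.Agent.UnipCentralizer
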