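/-
Adjacency in the prime graph of PSL(n,q).
-/
import Cfsg.Agent.Lib.Classical.UnipCentralizer
import Cfsg.Agent.Lib.Spectra.LinearOrders
import Cfsg.Agent.Lib.Spectra.Projective
import Mathlib

set_option autoImplicit false

namespace Cfsg.Agent.PrimeGraphPSL

open Module UnipCentralizer

section Num

theorem orderOf_zmod_dvd_iff {q r j : ℕ} (hq : 1 ≤ q) :
    orderOf ((q : ℕ) : ZMod r) ∣ j ↔ r ∣ q ^ j - 1 := by
  rw [orderOf_dvd_iff_pow_eq_one, ← ZMod.natCast_eq_zero_iff, Nat.cast_sub (Nat.one_le_pow _ _ hq),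
    Nat.cast_pow, Nat.cast_one, sub_eq_zero]

end Num

section Linear

variable {F : Type*} [Field F] [Fintype F] {p : ℕ} [Fact p.Prime] [CharP F p]
variable {V : Type*} [AddCommGroup V] [Module F V] [FiniteDimensional F V]

omit [Fintype F] [FiniteDimensional F V] in
theorem sub_apply_eq (y : Module.End F V) (v : V) : (y - 1) v = y v - v := rfl

/-- A fixed-point-free element of prime order `r` forces `r ∣ q^d - 1`. -/
theorem dvd_of_fpf {r : ℕ} [Fact r.Prime] {f : Module.End F V} (hf : f ^ r = 1)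
    (hfix : ∀ v, f v = v → v = 0) : r ∣ Fintype.card F ^ finrank F V - 1 := by
  haveI : Finite V := Module.finite_of_finite F
  have hr : r.Prime := Fact.out
  let u : (Module.End F V)ˣ := Units.ofPowEqOne f r hf hr.ne_zero
  have hu : u ^ r = 1 := Units.pow_ofPowEqOne hf hr.ne_zero
  let P : Subgroup (Module.End F V)ˣ := Subgroup.zpowers u
  have hP : IsPGroup r P := by
    rintro ⟨x, j, rfl⟩
    refine ⟨1, Subtype.ext ?_⟩
    show (u ^ j) ^ (r ^ 1) = 1
    rw [pow_one, ← zpow_natCast, ← zpow_mul, mul_comm, zpow_mul, zpow_natCast, hu, one_zpow]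
  letI : MulAction P V :=
    { smul := fun g v => ((g : (Module.End F V)ˣ) : Module.End F V) v
      one_smul := fun _ => rfl
      mul_smul := fun _ _ _ => rfl }
  have hfixed : MulAction.fixedPoints P V = {0} := by
    ext v
    constructor
    · intro hv; exact hfix v (hv ⟨u, Subgroup.mem_zpowers u⟩)
    · rintro rfl g; exact map_zero ((g : (Module.End F V)ˣ) : Module.End F V)
  have hm := hP.card_modEq_card_fixedPoints V
  rw [hfixed, Nat.card_coe_set_eq, Set.ncard_singleton, Module.natCard_eq_pow_finrank (K := F),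
    Nat.card_eq_fintype_card] at hm
  exact (Nat.modEq_iff_dvd' (Nat.one_le_pow _ _ Fintype.card_pos)).1 hm.symm

omit [Fintype F] [FiniteDimensional F V] in
theorem eq_zero_of_fixed_range {r : ℕ} (hr : r.Prime) (hrp : r ≠ p) {y : Module.End F V}
    (hy : y ^ r = 1) {v : V} (hv : y v = v) (hv' : v ∈ LinearMap.range (y - 1)) : v = 0 := by
  obtain ⟨x, rfl⟩ := hv'
  have key : ∀ j : ℕ, (y ^ j) x = x + (j : F) • (y - 1) x := by
    intro j
    induction j with
    | zero => simp
    | succ j ih =>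
      rw [pow_succ', Module.End.mul_apply, ih, map_add, map_smul, hv, Nat.cast_succ, add_smul,
        one_smul, sub_apply_eq]
      abel
  have h := key r
  rw [hy, Module.End.one_apply, left_eq_add, smul_eq_zero] at h
  refine h.resolve_left fun h0 => hrp ?_
  exact ((Nat.prime_dvd_prime_iff_eq Fact.out hr).1 ((CharP.cast_eq_zero_iff F p r).1 h0)).symm

omit [Fintype F] [FiniteDimensional F V] in
theorem pow_restrict_eq_one {y : Module.End F V} {r : ℕ} (hy : y ^ r = 1) {W : Submodule F V}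
    (hW : ∀ v ∈ W, y v ∈ W) : LinearMap.restrict y hW ^ r = 1 := by
  have hval : ∀ (j : ℕ) (x : W), ((LinearMap.restrict y hW ^ j) x : V) = (y ^ j) x := by
    intro j
    induction j with
    | zero => intro x; rfl
    | succ j ih => intro x; rw [pow_succ, pow_succ, Module.End.mul_apply, Module.End.mul_apply, ih]; rfl
  exact LinearMap.ext fun x => Subtype.ext (by rw [hval, hy]; rfl)

theorem orderOf_dvd_finrank {r : ℕ} (hr : r.Prime) {y : Module.End F V} (hy : y ^ r = 1)
    {W : Submodule F V} (hW : ∀ v ∈ W, y v ∈ W) (hfix : ∀ v ∈ W, y v = v → v = 0) :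
    orderOf ((Fintype.card F : ℕ) : ZMod r) ∣ finrank F W := by
  haveI : Fact r.Prime := ⟨hr⟩
  rw [orderOf_zmod_dvd_iff Fintype.card_pos]
  exact dvd_of_fpf (pow_restrict_eq_one hy hW) fun v hv =>
    Subtype.ext (hfix v v.2 (congrArg Subtype.val hv))

/-- Two commuting non-trivial elements of prime orders `r`, `s`. -/
theorem rs_bound {r s : ℕ} (hr : r.Prime) (hs : s.Prime) (hrp : r ≠ p) (hsp : s ≠ p)
    {y z : Module.End F V} (hy : y ^ r = 1) (hz : z ^ s = 1) (hy1 : y ≠ 1) (hz1 : z ≠ 1)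
    (hc : Commute y z) :
    (∃ d, 0 < d ∧ d ≤ finrank F V ∧ orderOf ((Fintype.card F : ℕ) : ZMod r) ∣ d ∧
      orderOf ((Fintype.card F : ℕ) : ZMod s) ∣ d) ∨
    orderOf ((Fintype.card F : ℕ) : ZMod r) + orderOf ((Fintype.card F : ℕ) : ZMod s) ≤ finrank F V := by
  set W := LinearMap.range (y - 1) with hW
  set K := LinearMap.ker (y - 1) with hK
  have hcy : Commute z (y - 1) := hc.symm.sub_right (Commute.one_right z)
  have hyW : ∀ v ∈ W, y v ∈ W := by
    rintro _ ⟨x, rfl⟩
    exact ⟨y x, (LinearMap.congr_fun ((Commute.refl y).sub_right (Commute.one_right y)).eq x).symm⟩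
  have hzW : ∀ v ∈ W, z v ∈ W := by
    rintro _ ⟨x, rfl⟩
    exact ⟨z x, (LinearMap.congr_fun hcy.eq x).symm⟩
  have hdis : Disjoint W K := by
    rw [Submodule.disjoint_def]
    intro v hv hv'
    exact eq_zero_of_fixed_range hr hrp hy (sub_eq_zero.1 (LinearMap.mem_ker.1 hv')) hv
  have hsum := (y - 1).finrank_range_add_finrank_ker
  have hWfix : ∀ v ∈ W, y v = v → v = 0 := fun v hv hv' => eq_zero_of_fixed_range hr hrp hy hv' hv
  have hWpos : 0 < finrank F W := by
    rw [Nat.pos_iff_ne_zero, Ne, Submodule.finrank_eq_zero, hW, LinearMap.range_eq_bot, sub_eq_zero]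
    exact hy1
  have hkW := orderOf_dvd_finrank hr hy hyW hWfix
  by_cases hzW1 : ∀ v ∈ W, z v = v
  · right
    set W' := LinearMap.range (z - 1)
    have hle : W' ≤ K := by
      rintro _ ⟨v, rfl⟩
      rw [hK, LinearMap.mem_ker]
      have e : (y - 1) ((z - 1) v) = (z - 1) ((y - 1) v) :=
        LinearMap.congr_fun ((hcy.symm.sub_right (Commute.one_right (y - 1))).eq) v
      rw [e, sub_apply_eq z, hzW1 _ ⟨v, rfl⟩, sub_self]
    have hW'pos : 0 < finrank F W' := by
      rw [Nat.pos_iff_ne_zero, Ne, Submodule.finrank_eq_zero, LinearMap.range_eq_bot, sub_eq_zero]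
      exact hz1
    have hzW' : ∀ v ∈ W', z v ∈ W' := by
      rintro _ ⟨x, rfl⟩
      exact ⟨z x, (LinearMap.congr_fun ((Commute.refl z).sub_right (Commute.one_right z)).eq x).symm⟩
    have hlW := orderOf_dvd_finrank hs hz hzW' fun v hv hv' => eq_zero_of_fixed_range hs hsp hz hv' hv
    have := Submodule.finrank_mono hle
    have hdim : finrank F W + finrank F K = finrank F V := hsum
    have := Nat.le_of_dvd hW'pos hlW
    have := Nat.le_of_dvd hWpos hkW
    omega
  · left
    set W' := W.map (z - 1)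
    have hle : W' ≤ W := by
      rintro _ ⟨v, hv, rfl⟩
      exact W.sub_mem (hzW v hv) hv
    have hW'pos : 0 < finrank F W' := by
      rw [Nat.pos_iff_ne_zero, Ne, Submodule.finrank_eq_zero]
      intro h
      refine hzW1 fun v hv => sub_eq_zero.1 ?_
      have : (z - 1) v ∈ W' := ⟨v, hv, rfl⟩
      rwa [h, Submodule.mem_bot] at this
    have hyW' : ∀ v ∈ W', y v ∈ W' := by
      rintro _ ⟨x, hx, rfl⟩
      exact ⟨y x, hyW x hx, (LinearMap.congr_fun (hc.sub_right (Commute.one_right y)).eq x).symm⟩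
    have hzW' : ∀ v ∈ W', z v ∈ W' := by
      rintro _ ⟨x, hx, rfl⟩
      exact ⟨z x, hzW x hx,
        (LinearMap.congr_fun ((Commute.refl z).sub_right (Commute.one_right z)).eq x).symm⟩
    exact ⟨finrank F W', hW'pos, (Submodule.finrank_le W'),
      orderOf_dvd_finrank hr hy hyW' fun v hv => hWfix v (hle hv),
      orderOf_dvd_finrank hs hz hzW' fun v hv hv' =>
        eq_zero_of_fixed_range hs hsp hz hv' (LinearMap.map_le_range hv)⟩

/-- An element of prime order `r` commuting with a nilpotent map, small dimensions allowed. -/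
theorem eq_one_of_commute_small {r n : ℕ} (hr : r.Prime) (hrp : r ≠ p) (hn : 2 ≤ n)
    (hV : finrank F V = n) (hsmall : NoSmall F r (max (n - 2) 1))
    (y N : Module.End F V) (hy : y ^ r = 1) (hN : IsNilpotent N) (hN0 : N ≠ 0)
    (hcomm : Commute y N) : y = 1 := by
  rcases Nat.lt_or_ge n 4 with h4 | h4
  swap
  · exact UnipCentralizer.eq_one_of_commute (p := p) hr hrp h4 hV
      (fun k h1 h2 => hsmall k h1 (by omega)) y N hy hN hN0 hcomm
  have hp : p.Prime := Fact.out
  have hrq : ¬ r ∣ Fintype.card F := by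
    obtain ⟨a, -, ha⟩ := FiniteField.card F p
    rw [ha]
    exact fun h => hrp ((Nat.prime_dvd_prime_iff_eq hr hp).1 (hr.dvd_of_dvd_pow h))
  -- all small pieces are trivial
  set A := LinearMap.ker N ⊓ LinearMap.range N with hA
  set B := LinearMap.ker N ⊔ LinearMap.range N with hB
  have hAinv : ∀ v ∈ A, y v ∈ A := by
    rintro v ⟨hv, w, rfl⟩
    refine ⟨?_, y w, (LinearMap.congr_fun hcomm.eq w).symm⟩
    show y (N w) ∈ LinearMap.ker N
    rw [LinearMap.mem_ker, ← Module.End.mul_apply, ← hcomm.eq, Module.End.mul_apply,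
      LinearMap.mem_ker.1 hv, map_zero]
  have hBinv : ∀ v ∈ B, y v ∈ B := by
    intro v hv
    obtain ⟨a, ha, b, ⟨w, rfl⟩, rfl⟩ := Submodule.mem_sup.1 hv
    rw [map_add]
    refine Submodule.add_mem_sup ?_ ⟨y w, (LinearMap.congr_fun hcomm.eq w).symm⟩
    rw [LinearMap.mem_ker, ← Module.End.mul_apply, ← hcomm.eq, Module.End.mul_apply,
      LinearMap.mem_ker.1 ha, map_zero]
  have hsum := N.finrank_range_add_finrank_ker
  have hsup : finrank F B + finrank F A = finrank F (LinearMap.ker N) + finrank F (LinearMap.range N) :=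
    Submodule.finrank_sup_add_finrank_inf_eq _ _
  have ha1 : 1 ≤ finrank F A := by
    rw [Nat.one_le_iff_ne_zero, Ne, Submodule.finrank_eq_zero]
    intro hbot
    have key : ∀ v, N (N v) = 0 → N v = 0 := fun v hv => by
      have : N v ∈ A := ⟨LinearMap.mem_ker.2 hv, v, rfl⟩
      rwa [hbot, Submodule.mem_bot] at this
    obtain ⟨k, hk⟩ := hN
    have hall : ∀ j : ℕ, N ^ (j + 1) = 0 → N = 0 := by
      intro j
      induction j with
      | zero => intro h; simpa using h
      | succ j ih =>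
        intro hj
        refine ih (LinearMap.ext fun v => ?_)
        rw [pow_succ', Module.End.mul_apply]
        refine key _ ?_
        have := LinearMap.congr_fun hj v
        rwa [pow_succ', pow_succ', Module.End.mul_apply, Module.End.mul_apply] at this
    exact hN0 (hall k (by rw [pow_succ, hk, zero_mul]))
  have ha2 : finrank F A ≤ finrank F (LinearMap.ker N) := Submodule.finrank_mono inf_le_left
  have ha3 : finrank F A ≤ finrank F (LinearMap.range N) := Submodule.finrank_mono inf_le_right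
  have h1 : ∀ v, y v - v ∈ B := fun v =>
    sub_mem_of_quot hr hrq hsmall y hy (A := B) (B := ⊤) le_top hBinv (fun _ _ => trivial)
      (by rw [finrank_top]; omega) (Submodule.mem_top (x := v))
  have h2 : ∀ v ∈ B, y v - v ∈ A := fun v hv =>
    sub_mem_of_quot hr hrq hsmall y hy (A := A) (B := B) (inf_le_left.trans le_sup_left) hAinv hBinv
      (by omega) hv
  have h3 : ∀ v ∈ A, y v - v = 0 := fun v hv => by
    have := sub_mem_of_quot hr hrq hsmall y hy (bot_le : (⊥ : Submodule F V) ≤ A)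
      (fun w hw => by rw [Submodule.mem_bot] at hw ⊢; rw [hw, map_zero]) hAinv
      (by rw [finrank_bot]; omega) hv
    simpa using this
  refine LinearMap.ext fun v => ?_
  have f1 : ∀ v ∈ B, y v = v := fun w hw => sub_eq_zero.1 (eq_zero_of_fixed_range hr hrp hy
    (sub_eq_zero.1 (h3 _ (h2 w hw))) ⟨w, rfl⟩)
  exact sub_eq_zero.1 (eq_zero_of_fixed_range hr hrp hy (f1 _ (h1 v)) ⟨v, rfl⟩)

omit [Fintype F] in
/-- In dimension `2` or `3`, an element commuting with a non-zero nilpotent map is scalar on the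
kernel and cokernel of its top power, with the same scalar. -/
theorem exists_flag {n : ℕ} (hn2 : 2 ≤ n) (hn3 : n ≤ 3) (hV : finrank F V = n) (y N : Module.End F V)
    (hN : IsNilpotent N) (hN0 : N ≠ 0) (hcomm : Commute y N) :
    ∃ (α : F) (A B : Submodule F V), A ≤ B ∧ finrank F A = 1 ∧ finrank F B = n - 1 ∧
      (∀ v ∈ A, y v = α • v) ∧ (∀ v, y v - α • v ∈ B) ∧ ∀ v ∈ B, y v ∈ B := by
  classical
  obtain ⟨j, hj, hj1⟩ : ∃ j, N ^ (j + 1) ≠ 0 ∧ N ^ (j + 2) = 0 := by
    obtain ⟨k, hk⟩ := hN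
    by_contra hc
    push Not at hc
    have : ∀ j, N ^ (j + 1) ≠ 0 := by
      intro j
      induction j with
      | zero => simpa using hN0
      | succ j ih => exact hc j ih
    exact this k (by rw [pow_succ, hk, zero_mul])
  set f := N ^ (j + 1) with hf
  have hA : LinearMap.range f ≤ LinearMap.ker N ⊓ LinearMap.range N := by
    rintro _ ⟨v, rfl⟩
    refine ⟨LinearMap.mem_ker.2 ?_, (N ^ j) v, ?_⟩
    · rw [← Module.End.mul_apply, hf, ← pow_succ', hj1, LinearMap.zero_apply]
    · rw [← Module.End.mul_apply, ← pow_succ']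
  have hsum := N.finrank_range_add_finrank_ker
  have hsumf := f.finrank_range_add_finrank_ker
  have h1 := Submodule.finrank_mono (hA.trans inf_le_left)
  have h2 := Submodule.finrank_mono (hA.trans inf_le_right)
  have hpos : 0 < finrank F (LinearMap.range f) := by
    rw [Nat.pos_iff_ne_zero, Ne, Submodule.finrank_eq_zero, LinearMap.range_eq_bot]; exact hj
  have hA1 : finrank F (LinearMap.range f) = 1 := by omega
  have hcf : Commute y f := hcomm.pow_right _
  obtain ⟨⟨a, ha⟩, ha0, hspan⟩ := finrank_eq_one_iff'.1 hA1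
  obtain ⟨α, hα⟩ := hspan ⟨y a, by
    obtain ⟨w, hw⟩ := ha
    exact ⟨y w, by rw [← Module.End.mul_apply, ← hcf.eq, Module.End.mul_apply, hw]⟩⟩
  have hAs : ∀ v ∈ LinearMap.range f, y v = α • v := by
    intro v hv
    obtain ⟨c, hc⟩ := hspan ⟨v, hv⟩
    have hc' : c • a = v := congrArg Subtype.val hc
    have hα' : α • a = y a := congrArg Subtype.val hα
    rw [← hc', map_smul, ← hα', smul_comm]
  refine ⟨α, LinearMap.range f, LinearMap.ker f, ?_, hA1, by omega, hAs, fun v => ?_, fun v hv => ?_⟩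
  · rintro _ ⟨v, rfl⟩
    rw [LinearMap.mem_ker, ← Module.End.mul_apply, hf, ← pow_add,
      pow_eq_zero_of_le (by omega : j + 2 ≤ j + 1 + (j + 1)) hj1, LinearMap.zero_apply]
  · rw [LinearMap.mem_ker, map_sub, map_smul, ← Module.End.mul_apply, ← hcf.eq,
      Module.End.mul_apply, hAs _ ⟨v, rfl⟩, sub_self]
  · rw [LinearMap.mem_ker] at hv ⊢
    rw [← Module.End.mul_apply, ← hcf.eq, Module.End.mul_apply, hv, map_zero]

omit [Fintype F] in
theorem mul_unipotent_of_flag2 (hV : finrank F V = 2) {y : Module.End F V} {α : F} {A B : Submodule F V}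
    (hA : finrank F A = 1) (hB : finrank F B = 1) (hAB : A ≤ B) (hyA : ∀ v ∈ A, y v = α • v)
    (hyV : ∀ v, y v - α • v ∈ B) : IsNilpotent (y - α • 1) := by
  have hBA : B = A := (Submodule.eq_of_le_of_finrank_eq hAB (by omega)).symm
  refine ⟨2, LinearMap.ext fun v => ?_⟩
  rw [pow_two, Module.End.mul_apply]
  show y (y v - α • v) - α • (y v - α • v) = 0
  rw [hyA _ (hBA ▸ hyV v), sub_self]

omit [Fintype F] in
/-- In dimension three with determinant one and `α^3 = 1`, the element is scalar times unipotent. -/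
theorem flag3_unipotent (hV : finrank F V = 3) {y : Module.End F V} (hdet : LinearMap.det y = 1)
    {α : F} (hα : α ^ 3 = 1) {A B : Submodule F V}
    (hA : finrank F A = 1) (hB : finrank F B = 2) (hAB : A ≤ B) (hyA : ∀ v ∈ A, y v = α • v)
    (hyV : ∀ v, y v - α • v ∈ B) (hyB : ∀ v ∈ B, y v ∈ B) : IsNilpotent (y - α • 1) := by
  classical
  obtain ⟨⟨a, ha⟩, ha0, hspan⟩ := finrank_eq_one_iff'.1 hA
  have ha0' : a ≠ 0 := fun h => ha0 (Subtype.ext h)
  obtain ⟨b, hbB, hbA⟩ := SetLike.exists_of_lt (lt_of_le_of_ne hAB fun h => by rw [h] at hA; omega)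
  obtain ⟨c, hcB⟩ : ∃ c, c ∉ B := by
    by_contra h
    push Not at h
    rw [Submodule.eq_top_iff'.2 h, finrank_top] at hB
    omega
  have hspanA : ∀ v ∈ A, ∃ t : F, v = t • a := fun v hv => by
    obtain ⟨t, ht⟩ := hspan ⟨v, hv⟩; exact ⟨t, (congrArg Subtype.val ht).symm⟩
  have hli : LinearIndependent F ![a, b, c] := by
    rw [Fintype.linearIndependent_iff]
    intro g hg
    simp only [Fin.sum_univ_three, Matrix.cons_val_zero, Matrix.cons_val_one, Matrix.cons_val_two,
      Matrix.head_cons, Matrix.tail_cons] at hg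
    have h2 : g 2 = 0 := by
      by_contra h2
      refine hcB ((B.smul_mem_iff h2).1 ?_)
      rw [show g 2 • c = -(g 0 • a + g 1 • b) from eq_neg_of_add_eq_zero_right hg]
      exact B.neg_mem (B.add_mem (B.smul_mem _ (hAB ha)) (B.smul_mem _ hbB))
    rw [h2, zero_smul, add_zero] at hg
    have h1 : g 1 = 0 := by
      by_contra h1
      refine hbA ((A.smul_mem_iff h1).1 ?_)
      rw [show g 1 • b = -(g 0 • a) from eq_neg_of_add_eq_zero_right hg]
      exact A.neg_mem (A.smul_mem _ ha)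
    rw [h1, zero_smul, add_zero, smul_eq_zero] at hg
    intro i; fin_cases i
    · exact hg.resolve_right ha0'
    · exact h1
    · exact h2
  set e := basisOfLinearIndependentOfCardEqFinrank hli (by simp [hV]) with he
  have he0 : e 0 = a := by rw [he, coe_basisOfLinearIndependentOfCardEqFinrank]; rfl
  have he1 : e 1 = b := by rw [he, coe_basisOfLinearIndependentOfCardEqFinrank]; rfl
  have he2 : e 2 = c := by rw [he, coe_basisOfLinearIndependentOfCardEqFinrank]; rfl
  have hspanB : ∀ v ∈ B, e.repr v 2 = 0 := by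
    intro v hv
    by_contra hne
    refine hcB ((B.smul_mem_iff hne).1 ?_)
    have hs := e.sum_repr v
    rw [Fin.sum_univ_three, he0, he1, he2] at hs
    rw [show e.repr v 2 • c = v - (e.repr v 0 • a + e.repr v 1 • b) from eq_sub_of_add_eq' hs]
    exact B.sub_mem hv (B.add_mem (B.smul_mem _ (hAB ha)) (B.smul_mem _ hbB))
  set γ := e.repr (y b) 1 with hγ
  have hM : LinearMap.det y = α * γ * α := by
    rw [← LinearMap.det_toMatrix e, Matrix.det_fin_three]
    have m00 : LinearMap.toMatrix e e y 0 0 = α := by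
      rw [LinearMap.toMatrix_apply, he0, hyA a ha, ← he0, map_smul, e.repr_self]; simp
    have m10 : LinearMap.toMatrix e e y 1 0 = 0 := by
      rw [LinearMap.toMatrix_apply, he0, hyA a ha, ← he0, map_smul, e.repr_self]; simp
    have m20 : LinearMap.toMatrix e e y 2 0 = 0 := by
      rw [LinearMap.toMatrix_apply, he0, hyA a ha, ← he0, map_smul, e.repr_self]; simp
    have m21 : LinearMap.toMatrix e e y 2 1 = 0 := by
      rw [LinearMap.toMatrix_apply, he1]; exact hspanB _ (hyB b hbB)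
    have m11 : LinearMap.toMatrix e e y 1 1 = γ := by rw [LinearMap.toMatrix_apply, he1]
    have m22 : LinearMap.toMatrix e e y 2 2 = α := by
      rw [LinearMap.toMatrix_apply, he2]
      have h := hspanB _ (hyV c)
      rw [map_sub, map_smul, Finsupp.sub_apply, Finsupp.smul_apply, ← he2, e.repr_self,
        Finsupp.single_eq_same, smul_eq_mul, mul_one, sub_eq_zero] at h
      rw [← he2]; exact h
    rw [m00, m10, m20, m21, m11, m22]
    ring
  have hγα : γ = α := by
    rw [hdet] at hM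
    have h1 : α ^ 3 * γ = α * (α * γ * α) := by ring
    rwa [hα, ← hM, one_mul, mul_one] at h1
  refine ⟨3, LinearMap.ext fun v => ?_⟩
  have hB2 : ∀ w ∈ B, y w - α • w ∈ A := by
    intro w hw
    have hs := e.sum_repr w
    rw [Fin.sum_univ_three, hspanB w hw, zero_smul, add_zero, he0, he1] at hs
    have hb' : y b - α • b ∈ A := by
      have hsb := e.sum_repr (y b)
      rw [Fin.sum_univ_three, hspanB _ (hyB b hbB), zero_smul, add_zero, he0, he1, ← hγ, hγα] at hsb
      rw [← hsb, add_sub_cancel_right]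
      exact A.smul_mem _ ha
    rw [← hs, map_add, map_smul, map_smul, hyA a ha, smul_add, smul_comm α (e.repr w 1) b,
      smul_comm (e.repr w 0) α a, add_sub_add_left_eq_sub, ← smul_sub]
    exact A.smul_mem _ hb'
  simp only [pow_succ, pow_zero, one_mul, Module.End.mul_apply, LinearMap.zero_apply]
  show y _ - α • _ = 0
  exact sub_eq_zero.2 (hyA _ (hB2 _ (hyV v)))

end Linear

section Projective

variable {F : Type*} [Field F] [Fintype F] {n : ℕ}

local notation "SLn" => Matrix.SpecialLinearGroup (Fin n) F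
local notation "PSLn" => Matrix.ProjectiveSpecialLinearGroup (Fin n) F

theorem not_dvd_card {r : ℕ} (hr : r.Prime) (p : ℕ) [Fact p.Prime] [CharP F p] (hrp : r ≠ p) :
    ¬ r ∣ Fintype.card F := by
  obtain ⟨a, -, ha⟩ := FiniteField.card F p
  rw [ha]
  exact fun h => hrp ((Nat.prime_dvd_prime_iff_eq hr (Fact.out : p.Prime)).1 (hr.dvd_of_dvd_pow h))

/-- A prime divisor of the group order, different from the characteristic, has small order. -/
theorem orderOf_le_of_dvd_card {r : ℕ} (hr : r.Prime) (p : ℕ) [Fact p.Prime] [CharP F p]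
    (hrp : r ≠ p) (hrG : r ∣ Nat.card PSLn) :
    1 ≤ orderOf ((Fintype.card F : ℕ) : ZMod r) ∧ orderOf ((Fintype.card F : ℕ) : ZMod r) ≤ n := by
  haveI : Fact r.Prime := ⟨hr⟩
  have h1 : r ∣ Nat.card SLn := hrG.trans (Subgroup.card_quotient_dvd_card _)
  have h2 : r ∣ Nat.card (GL (Fin n) F) := h1.trans
    (Subgroup.card_dvd_of_injective Matrix.SpecialLinearGroup.toGL
      Matrix.SpecialLinearGroup.toGL_injective)
  rw [Matrix.card_GL_field] at h2
  obtain ⟨i, -, hi⟩ := (hr.prime.dvd_finsetProd_iff _).1 h2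
  have e' : Fintype.card F ^ n - Fintype.card F ^ (i : ℕ) =
      Fintype.card F ^ (i : ℕ) * (Fintype.card F ^ (n - (i : ℕ)) - 1) := by
    rw [Nat.mul_sub, mul_one, ← pow_add, Nat.add_sub_cancel' i.2.le]
  rw [e'] at hi
  rcases hr.dvd_mul.1 hi with h' | h'
  · exact absurd (hr.dvd_of_dvd_pow h') (not_dvd_card hr p hrp)
  · have := (orderOf_zmod_dvd_iff Fintype.card_pos).2 h'
    have hpos : 0 < n - (i : ℕ) := by have := i.2; omega
    exact ⟨Nat.one_le_iff_ne_zero.2 fun h0 => hpos.ne' (Nat.eq_zero_of_zero_dvd (h0 ▸ this)),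
      (Nat.le_of_dvd hpos this).trans (Nat.sub_le _ _)⟩

theorem noSmall_of_lt {r m : ℕ} (h : m < orderOf ((Fintype.card F : ℕ) : ZMod r)) : NoSmall F r m :=
  fun j h1 h2 hd => by
    have := Nat.le_of_dvd (by omega) ((orderOf_zmod_dvd_iff Fintype.card_pos).2 hd)
    omega

theorem coprime_sub_one {r : ℕ} (hr : r.Prime) (h : 2 ≤ orderOf ((Fintype.card F : ℕ) : ZMod r)) :
    r.Coprime (Fintype.card F - 1) :=
  hr.coprime_iff_not_dvd.2 fun hd => by
    have := noSmall_of_lt (F := F) (m := 1) h 1 le_rfl le_rfl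
    rw [pow_one] at this
    exact this hd

theorem exists_psl_of_coprime (hn : 1 ≤ n) (g : GL (Fin n) F)
    (hg : (orderOf g).Coprime (Fintype.card F - 1)) : ∃ x : PSLn, orderOf x = orderOf g := by
  classical
  have one_of : ∀ c : F, c ^ orderOf g = 1 → c = 1 := by
    intro c hc
    have hc0 : c ≠ 0 := by rintro rfl; simp [zero_pow (orderOf_pos g).ne'] at hc
    have h1 := pow_gcd_eq_one.2 ⟨hc, FiniteField.pow_card_sub_one_eq_one c hc0⟩
    rwa [(hg : Nat.gcd _ _ = 1), pow_one] at h1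
  have hdet : (g : Matrix (Fin n) (Fin n) F).det = 1 := one_of _ (by
    rw [← Matrix.det_pow, ← Units.val_pow_eq_pow_val, pow_orderOf_eq_one, Units.val_one, Matrix.det_one])
  let s : SLn := ⟨g, hdet⟩
  refine ⟨QuotientGroup.mk s, Nat.dvd_antisymm ?_ ?_⟩
  · refine orderOf_dvd_of_pow_eq_one ((Spectra.mk_eq_one_iff _).2 ⟨1, ?_⟩)
    rw [one_smul, Matrix.SpecialLinearGroup.coe_pow]
    change (g : Matrix (Fin n) (Fin n) F) ^ orderOf g = 1
    rw [← Units.val_pow_eq_pow_val, pow_orderOf_eq_one, Units.val_one]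
  · obtain ⟨j, hj⟩ : ∃ j, orderOf (QuotientGroup.mk s : PSLn) = j := ⟨_, rfl⟩
    have h1 := pow_orderOf_eq_one (QuotientGroup.mk s : PSLn)
    rw [hj, ← QuotientGroup.mk_pow, Spectra.mk_eq_one_iff] at h1
    obtain ⟨c, hc⟩ := h1
    change (g : Matrix (Fin n) (Fin n) F) ^ j = c • 1 at hc
    have hc1 : c = 1 := one_of c (by
      have h2 := congrArg (fun M : Matrix (Fin n) (Fin n) F => (M ^ orderOf g) ⟨0, hn⟩ ⟨0, hn⟩) hc
      simp only [smul_pow, one_pow] at h2
      rw [← Units.val_pow_eq_pow_val, ← Units.val_pow_eq_pow_val, ← pow_mul, mul_comm, pow_mul,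
        pow_orderOf_eq_one, one_pow, Units.val_one] at h2
      simpa using h2.symm)
    rw [hj]
    refine orderOf_dvd_of_pow_eq_one (Units.ext ?_)
    rw [Units.val_pow_eq_pow_val, hc, hc1, one_smul, Units.val_one]

theorem exists_orderOf_eq_of_dvd_card {G : Type*} [Group G] [Finite G] [IsCyclic G] {m : ℕ}
    (h : m ∣ Nat.card G) : ∃ x : G, orderOf x = m := by
  obtain ⟨g, hg⟩ := IsCyclic.exists_ofOrder_eq_natCard (α := G)
  exact ⟨g ^ (orderOf g / m), orderOf_pow_orderOf_div (orderOf_pos g).ne' (hg ▸ h)⟩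

theorem exists_unit_extension (p : ℕ) [Fact p.Prime] [CharP F p] {k m : ℕ} [NeZero k]
    (h : m ∣ Fintype.card F ^ k - 1) : ∃ u : (FiniteField.Extension F p k)ˣ, orderOf u = m := by
  haveI := Fintype.ofFinite (FiniteField.Extension F p k)
  refine exists_orderOf_eq_of_dvd_card ?_
  rwa [Nat.card_units, FiniteField.natCard_extension, Nat.card_eq_fintype_card]

theorem exists_rs_of_dvd (p : ℕ) [Fact p.Prime] [CharP F p] {r s : ℕ} (hr : r.Prime) (hs : s.Prime)
    (hrs : r ≠ s) (hk : 2 ≤ orderOf ((Fintype.card F : ℕ) : ZMod r))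
    (hl : 2 ≤ orderOf ((Fintype.card F : ℕ) : ZMod s)) (hln : orderOf ((Fintype.card F : ℕ) : ZMod s) ≤ n)
    (hdvd : orderOf ((Fintype.card F : ℕ) : ZMod r) ∣ orderOf ((Fintype.card F : ℕ) : ZMod s)) :
    ∃ x : PSLn, orderOf x = r * s := by
  haveI : NeZero (orderOf ((Fintype.card F : ℕ) : ZMod s)) := ⟨by omega⟩
  obtain ⟨u, hu⟩ := exists_unit_extension (F := F) p (k := orderOf ((Fintype.card F : ℕ) : ZMod s))
    (Nat.Coprime.mul_dvd_of_dvd_of_dvd ((Nat.coprime_primes hr hs).2 hrs)
      ((orderOf_zmod_dvd_iff Fintype.card_pos).1 hdvd)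
      ((orderOf_zmod_dvd_iff Fintype.card_pos).1 dvd_rfl))
  obtain ⟨g, hg⟩ := Spectra.exists_GL_orderOf (F := F) (n := n)
    (by rw [FiniteField.finrank_extension]; exact hln) u
  obtain ⟨x, hx⟩ := exists_psl_of_coprime (by omega) g
    (by rw [hg, hu]; exact Nat.Coprime.mul_left (coprime_sub_one hr hk) (coprime_sub_one hs hl))
  exact ⟨x, by rw [hx, hg, hu]⟩

theorem exists_rs_of_add (p : ℕ) [Fact p.Prime] [CharP F p] {r s : ℕ} (hr : r.Prime) (hs : s.Prime)
    (hrs : r ≠ s) (hk : 2 ≤ orderOf ((Fintype.card F : ℕ) : ZMod r))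
    (hl : 2 ≤ orderOf ((Fintype.card F : ℕ) : ZMod s))
    (hkl : orderOf ((Fintype.card F : ℕ) : ZMod r) + orderOf ((Fintype.card F : ℕ) : ZMod s) ≤ n) :
    ∃ x : PSLn, orderOf x = r * s := by
  haveI : NeZero (orderOf ((Fintype.card F : ℕ) : ZMod r)) := ⟨by omega⟩
  haveI : NeZero (orderOf ((Fintype.card F : ℕ) : ZMod s)) := ⟨by omega⟩
  obtain ⟨u, hu⟩ := exists_unit_extension (F := F) p (k := orderOf ((Fintype.card F : ℕ) : ZMod r))
    ((orderOf_zmod_dvd_iff Fintype.card_pos).1 dvd_rfl)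
  obtain ⟨v, hv⟩ := exists_unit_extension (F := F) p (k := orderOf ((Fintype.card F : ℕ) : ZMod s))
    ((orderOf_zmod_dvd_iff Fintype.card_pos).1 dvd_rfl)
  obtain ⟨g, hg⟩ := Spectra.exists_GL_orderOf (F := F) (n := n)
    (A := FiniteField.Extension F p (orderOf ((Fintype.card F : ℕ) : ZMod r)) ×
      FiniteField.Extension F p (orderOf ((Fintype.card F : ℕ) : ZMod s)))
    (by rw [finrank_prod, FiniteField.finrank_extension, FiniteField.finrank_extension]; exact hkl)
    (MulEquiv.prodUnits.symm (u, v))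
  rw [MulEquiv.orderOf_eq, Prod.orderOf, hu, hv,
    Nat.Coprime.lcm_eq_mul ((Nat.coprime_primes hr hs).2 hrs)] at hg
  obtain ⟨x, hx⟩ := exists_psl_of_coprime (by omega) g
    (by rw [hg]; exact Nat.Coprime.mul_left (coprime_sub_one hr hk) (coprime_sub_one hs hl))
  exact ⟨x, by rw [hx, hg]⟩

theorem card_sub_one_coprime_char (p : ℕ) [Fact p.Prime] [CharP F p] :
    p.Coprime (Fintype.card F - 1) := by
  have hp : p.Prime := Fact.out
  obtain ⟨a, -, ha⟩ := FiniteField.card F p
  refine hp.coprime_iff_not_dvd.2 fun hd => ?_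
  have h1 : p ∣ Fintype.card F := ha ▸ dvd_pow_self p a.ne_zero
  have := Nat.dvd_sub h1 hd
  rw [Nat.sub_sub_self Fintype.card_pos] at this
  exact hp.not_dvd_one this

theorem exists_rp_of_two_le (p : ℕ) [Fact p.Prime] [CharP F p] {r : ℕ} (hr : r.Prime) (hrp : r ≠ p)
    (hk : 2 ≤ orderOf ((Fintype.card F : ℕ) : ZMod r))
    (hkn : orderOf ((Fintype.card F : ℕ) : ZMod r) + 2 ≤ n) : ∃ x : PSLn, orderOf x = r * p := by
  haveI : NeZero (orderOf ((Fintype.card F : ℕ) : ZMod r)) := ⟨by omega⟩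
  have hp : p.Prime := Fact.out
  obtain ⟨u, hu⟩ := exists_unit_extension (F := F) p (k := orderOf ((Fintype.card F : ℕ) : ZMod r))
    ((orderOf_zmod_dvd_iff Fintype.card_pos).1 dvd_rfl)
  obtain ⟨v, hv, -⟩ := Spectra.exists_unipotent_unit (F := F) p (m := 2) (by norm_num)
  have hclog : Nat.clog p 2 = 1 := le_antisymm
    (Nat.clog_le_of_le_pow (by rw [pow_one]; exact hp.two_le))
    (Nat.clog_pos hp.one_lt (by norm_num))
  rw [hclog, pow_one] at hv
  haveI := (Polynomial.monic_X_pow (R := F) 2).free_adjoinRoot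
  haveI := (Polynomial.monic_X_pow (R := F) 2).finite_adjoinRoot
  obtain ⟨g, hg⟩ := Spectra.exists_GL_orderOf (F := F) (n := n)
    (A := FiniteField.Extension F p (orderOf ((Fintype.card F : ℕ) : ZMod r)) ×
      AdjoinRoot (Polynomial.X ^ 2 : Polynomial F))
    (by rw [finrank_prod, FiniteField.finrank_extension, Spectra.finrank_adjoinRoot_X_pow]; exact hkn)
    (MulEquiv.prodUnits.symm (u, v))
  rw [MulEquiv.orderOf_eq, Prod.orderOf, hu, hv,
    Nat.Coprime.lcm_eq_mul ((Nat.coprime_primes hr hp).2 hrp)] at hg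
  obtain ⟨x, hx⟩ := exists_psl_of_coprime (by omega) g
    (by rw [hg]; exact Nat.Coprime.mul_left (coprime_sub_one hr hk) (card_sub_one_coprime_char p))
  exact ⟨x, by rw [hx, hg]⟩

/-- A diagonal matrix with two equal entries and a transvection in these two coordinates. -/
theorem exists_rp_of_diag (p : ℕ) [Fact p.Prime] [CharP F p] {r : ℕ} (hr : r.Prime) (hrp : r ≠ p)
    (d : Fin n → F) (hd : ∏ m, d m = 1) {i j : Fin n} (hij : i ≠ j) (hdij : d i = d j)
    {a : Fin n} (ha : d a ≠ d i) (hpow : ∀ m, d m ^ r = d i ^ r) : ∃ x : PSLn, orderOf x = r * p := by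
  classical
  have hp : p.Prime := Fact.out
  let D : SLn := ⟨Matrix.diagonal d, by rw [Matrix.det_diagonal, hd]⟩
  let T : SLn := ⟨Matrix.transvection i j 1, Matrix.det_transvection_of_ne i j hij 1⟩
  have hcomm : Commute D T := by
    refine Subtype.ext ?_
    change Matrix.diagonal d * Matrix.transvection i j 1 = Matrix.transvection i j 1 * Matrix.diagonal d
    ext a b
    rw [Matrix.diagonal_mul, Matrix.mul_diagonal]
    by_cases hab : a = i ∧ b = j
    · obtain ⟨rfl, rfl⟩ := hab
      rw [hdij, mul_comm]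
    · rw [Matrix.transvection, Matrix.add_apply, Matrix.single_apply,
        if_neg fun h => hab ⟨h.1.symm, h.2.symm⟩, add_zero]
      by_cases h : a = b
      · rw [h, mul_comm]
      · rw [Matrix.one_apply_ne h, mul_zero, zero_mul]
  have hDo : orderOf (QuotientGroup.mk D : PSLn) = r := by
    haveI : Fact r.Prime := ⟨hr⟩
    refine orderOf_eq_prime ?_ fun h => ?_
    · rw [← QuotientGroup.mk_pow, Spectra.mk_eq_one_iff]
      refine ⟨d i ^ r, ?_⟩
      rw [Matrix.SpecialLinearGroup.coe_pow, Matrix.smul_one_eq_diagonal]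
      change Matrix.diagonal d ^ r = _
      rw [Matrix.diagonal_pow]
      exact congrArg _ (funext hpow)
    · rw [Spectra.mk_eq_one_iff] at h
      obtain ⟨c, hc⟩ := h
      change Matrix.diagonal d = c • 1 at hc
      rw [Matrix.smul_one_eq_diagonal, Matrix.diagonal_eq_diagonal_iff] at hc
      exact ha ((hc a).trans (hc i).symm)
  have hTpow : ∀ k : ℕ, Matrix.transvection i j (1 : F) ^ k = Matrix.transvection i j (k : F) := by
    intro k
    induction k with
    | zero => rw [pow_zero, Nat.cast_zero, Matrix.transvection_zero]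
    | succ k ih => rw [pow_succ, ih, Matrix.transvection_mul_transvection_same i j hij, Nat.cast_succ]
  have hTo : orderOf (QuotientGroup.mk T : PSLn) = p := by
    refine orderOf_eq_prime ?_ fun h => ?_
    · rw [← QuotientGroup.mk_pow, Spectra.mk_eq_one_iff]
      refine ⟨1, ?_⟩
      rw [Matrix.SpecialLinearGroup.coe_pow, one_smul]
      change Matrix.transvection i j 1 ^ p = _
      rw [hTpow, CharP.cast_eq_zero, Matrix.transvection_zero]
    · rw [Spectra.mk_eq_one_iff] at h
      obtain ⟨c, hc⟩ := h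
      have := congrFun (congrFun hc i) j
      change Matrix.transvection i j (1 : F) i j = _ at this
      simp [Matrix.transvection, Matrix.single_apply, hij] at this
  refine ⟨QuotientGroup.mk D * QuotientGroup.mk T, ?_⟩
  have hc' : Commute (QuotientGroup.mk D : PSLn) (QuotientGroup.mk T) := hcomm.map (QuotientGroup.mk' _)
  rw [hc'.orderOf_mul_eq_mul_orderOf_of_coprime, hDo, hTo]
  rw [hDo, hTo]
  exact (Nat.coprime_primes hr hp).2 hrp

theorem exists_unit_field {m : ℕ} (h : m ∣ Fintype.card F - 1) : ∃ c : Fˣ, orderOf c = m :=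
  exists_orderOf_eq_of_dvd_card (by rwa [Nat.card_units, Nat.card_eq_fintype_card])

theorem exists_rp_of_four_le (p : ℕ) [Fact p.Prime] [CharP F p] {r : ℕ} (hr : r.Prime) (hrp : r ≠ p)
    (hrq : r ∣ Fintype.card F - 1) (hn : 4 ≤ n) : ∃ x : PSLn, orderOf x = r * p := by
  obtain ⟨m, rfl⟩ := Nat.exists_eq_add_of_le' hn
  obtain ⟨c, hc⟩ := exists_unit_field hrq
  have hcr : (c : F) ^ r = 1 := by
    rw [← Units.val_pow_eq_pow_val, ← hc, pow_orderOf_eq_one, Units.val_one]
  have hc1 : (c : F) ≠ 1 := fun h => hr.ne_one (by rw [← hc, Units.val_eq_one.1 h, orderOf_one])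
  refine exists_rp_of_diag p hr hrp
    (Fin.cons (c : F) (Fin.cons (c : F)⁻¹ (fun _ => 1))) ?_ (i := ⟨2, by omega⟩)
    (j := ⟨3, by omega⟩) ?_ ?_ (a := 0) ?_ ?_
  · rw [Fin.prod_univ_succ, Fin.prod_univ_succ]
    simp
  · simp [Fin.ext_iff]
  · rfl
  · exact hc1
  · intro k
    change _ = (1 : F) ^ r
    cases k using Fin.cases with
    | zero => simp [hcr]
    | succ k => cases k using Fin.cases with
      | zero => simp [hcr]
      | succ k => simp

theorem exists_rp_three (p : ℕ) [Fact p.Prime] [CharP F p] {r : ℕ} (hr : r.Prime) (hrp : r ≠ p)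
    (hrq : r ∣ Fintype.card F - 1) (hn : n = 3) (h9 : r = 3 → 9 ∣ Fintype.card F - 1) :
    ∃ x : PSLn, orderOf x = r * p := by
  subst hn
  obtain ⟨m, hm, hmr, hm3⟩ : ∃ m, m ∣ Fintype.card F - 1 ∧ m ∣ 3 * r ∧ ¬ m ∣ 3 := by
    by_cases h3 : r = 3
    · exact ⟨9, h9 h3, by rw [h3], by norm_num⟩
    · exact ⟨r, hrq, dvd_mul_left r 3, fun h => h3 ((Nat.prime_dvd_prime_iff_eq hr Nat.prime_three).1 h)⟩
  obtain ⟨c, hc⟩ := exists_unit_field hm
  have hc3 : (c : F) ^ 3 ≠ 1 := fun h => hm3 (hc ▸ orderOf_dvd_of_pow_eq_one (Units.ext (by simpa using h)))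
  have hc3r : (c : F) ^ (3 * r) = 1 := by
    rw [← Units.val_pow_eq_pow_val, orderOf_dvd_iff_pow_eq_one.1 (hc ▸ hmr), Units.val_one]
  refine exists_rp_of_diag p hr hrp ![(c : F), c, ((c : F) ^ 2)⁻¹] ?_ (i := 0) (j := 1)
    (by decide) rfl (a := 2) ?_ ?_
  · rw [Fin.prod_univ_three]
    simp [← sq]
  · intro h
    apply hc3
    simp only [Matrix.cons_val_zero, Matrix.cons_val_two, Matrix.head_cons, Matrix.tail_cons] at h
    calc (c : F) ^ 3 = (c : F) ^ 2 * ((c : F) ^ 2)⁻¹ := by rw [h, ← pow_succ]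
      _ = 1 := mul_inv_cancel₀ (pow_ne_zero _ c.ne_zero)
  · intro k
    fin_cases k
    · rfl
    · rfl
    · change ((c : F) ^ 2)⁻¹ ^ r = (c : F) ^ r
      rw [inv_pow]
      refine inv_eq_of_mul_eq_one_right ?_
      rw [← mul_pow, ← pow_succ, ← pow_mul]
      exact hc3r

variable (p : ℕ) [Fact p.Prime] [CharP F p]

theorem pow_div_orderOf {G : Type*} [Group G] [Finite G] {g : G} {r : ℕ} (h : r ∣ orderOf g) :
    orderOf (g ^ (orderOf g / r)) = r :=
  orderOf_pow_orderOf_div (orderOf_pos g).ne' h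

/-- The obstruction to an element of order `r * s`. -/
theorem rs_necessary {r s : ℕ} (hr : r.Prime) (hs : s.Prime) (hrp : r ≠ p) (hsp : s ≠ p)
    {x : PSLn} (hx : orderOf x = r * s) :
    (∃ d, 0 < d ∧ d ≤ n ∧ orderOf ((Fintype.card F : ℕ) : ZMod r) ∣ d ∧
      orderOf ((Fintype.card F : ℕ) : ZMod s) ∣ d) ∨
    orderOf ((Fintype.card F : ℕ) : ZMod r) + orderOf ((Fintype.card F : ℕ) : ZMod s) ≤ n := by
  obtain ⟨g, rfl⟩ := QuotientGroup.mk_surjective x
  have hd : r * s ∣ orderOf g := hx ▸ orderOf_map_dvd (QuotientGroup.mk' _) g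
  have hy := pow_div_orderOf (dvd_of_mul_right_dvd hd)
  have hz := pow_div_orderOf (dvd_of_mul_left_dvd hd)
  set f : SLn →* Module.End F (Fin n → F) :=
    { toFun := fun a => Matrix.toLinAlgEquiv' (a : Matrix (Fin n) (Fin n) F)
      map_one' := map_one _
      map_mul' := fun a b => map_mul _ _ _ } with hf
  have hfi : Function.Injective f := fun a b h => Subtype.ext (Matrix.toLinAlgEquiv'.injective h)
  have h := rs_bound (F := F) (V := Fin n → F) hr hs hrp hsp
    (y := f (g ^ (orderOf g / r))) (z := f (g ^ (orderOf g / s)))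
    (by rw [← map_pow, orderOf_dvd_iff_pow_eq_one.1 hy.dvd, map_one])
    (by rw [← map_pow, orderOf_dvd_iff_pow_eq_one.1 hz.dvd, map_one])
    (fun h => hr.ne_one (by rw [← hy, hfi (h.trans (map_one f).symm), orderOf_one]))
    (fun h => hs.ne_one (by rw [← hz, hfi (h.trans (map_one f).symm), orderOf_one]))
    (((Commute.refl g).pow_pow _ _).map f)
  rwa [finrank_fin_fun] at h

theorem rp_necessary {r : ℕ} (hr : r.Prime) (hrp : r ≠ p) (hn : 2 ≤ n) {x : PSLn}
    (hx : orderOf x = r * p)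
    (hk1 : 1 ≤ orderOf ((Fintype.card F : ℕ) : ZMod r))
    (h : n - 2 < orderOf ((Fintype.card F : ℕ) : ZMod r) ∨
      (n = 3 ∧ r = 3 ∧ 3 ∣ Fintype.card F - 1 ∧ ¬ 9 ∣ Fintype.card F - 1)) : False := by
  classical
  have hp : p.Prime := Fact.out
  haveI : Nonempty (Fin n) := ⟨⟨0, by omega⟩⟩
  haveI : Fact r.Prime := ⟨hr⟩
  obtain ⟨g, rfl⟩ := QuotientGroup.mk_surjective x
  have hd : r * p ∣ orderOf g := hx ▸ orderOf_map_dvd (QuotientGroup.mk' _) g
  have hu := pow_div_orderOf (dvd_of_mul_left_dvd hd)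
  set e : Matrix (Fin n) (Fin n) F ≃ₐ[F] Module.End F (Fin n → F) := Matrix.toLinAlgEquiv' with he
  set f : SLn →* Module.End F (Fin n → F) :=
    { toFun := fun a => e (a : Matrix (Fin n) (Fin n) F)
      map_one' := map_one _
      map_mul' := fun a b => map_mul e _ _ } with hf
  have hfi : Function.Injective f := fun a b h => Subtype.ext (e.injective h)
  set U : Matrix (Fin n) (Fin n) F :=
    ((g ^ (orderOf g / p) : SLn) : Matrix (Fin n) (Fin n) F) with hU
  have hU1 : U ^ p = 1 := by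
    rw [hU, ← Matrix.SpecialLinearGroup.coe_pow]
    conv_lhs => arg 1; arg 2; rw [← hu]
    rw [pow_orderOf_eq_one, Matrix.SpecialLinearGroup.coe_one]
  have hN : IsNilpotent (e (U - 1)) := (show IsNilpotent (U - 1) from
    ⟨p, by rw [sub_pow_char_of_commute p (Commute.one_right U), one_pow, hU1, sub_self]⟩).map e
  have hN0 : e (U - 1) ≠ 0 := fun h0 => hp.ne_one (by
    have : (g ^ (orderOf g / p) : SLn) = 1 :=
      Subtype.ext (sub_eq_zero.1 (e.injective (h0.trans (map_zero e).symm)))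
    rw [← hu, this, orderOf_one])
  have hcU : ∀ k : ℕ, Commute (f (g ^ k)) (e (U - 1)) := by
    intro k
    rw [map_sub, map_one]
    exact (((Commute.refl g).pow_pow k (orderOf g / p)).map f).sub_right (Commute.one_right _)
  by_cases hA : 2 ≤ orderOf ((Fintype.card F : ℕ) : ZMod r)
  · have hy := pow_div_orderOf (dvd_of_mul_right_dvd hd)
    rcases h with h | ⟨-, h3, hq, -⟩
    · have hV : finrank F (Fin n → F) = n := finrank_fin_fun F
      have := eq_one_of_commute_small (p := p) hr hrp hn hV (noSmall_of_lt (by omega))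
        (f (g ^ (orderOf g / r))) (e (U - 1))
        (by rw [← map_pow]; conv_lhs => arg 2; arg 2; rw [← hy]
            rw [pow_orderOf_eq_one, map_one]) hN hN0 (hcU _)
      exact hr.ne_one (by rw [← hy, hfi (this.trans (map_one f).symm), orderOf_one])
    · exact coprime_sub_one hr hA |> hr.coprime_iff_not_dvd.1 <| (by rw [h3]; exact hq)
  · have hn3 : n = 2 ∨ n = 3 ∧ r = 3 ∧ ¬ 9 ∣ Fintype.card F - 1 := by
      rcases h with h | ⟨h1, h2, -, h4⟩
      · left; omega
      · exact Or.inr ⟨h1, h2, h4⟩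
    obtain ⟨α, A, B, hAB, hA1, hB1, hyA, hyV, hyB⟩ := exists_flag (F := F) hn
      (by rcases hn3 with h | ⟨h, -⟩ <;> omega) (finrank_fin_fun F) (f (g ^ p)) (e (U - 1)) hN hN0 (hcU p)
    obtain ⟨c, hc⟩ : ∃ c : F, ((g ^ p : SLn) : Matrix (Fin n) (Fin n) F) ^ r = c • 1 := by
      rw [← Matrix.SpecialLinearGroup.coe_pow, ← Spectra.mk_eq_one_iff, ← pow_mul, QuotientGroup.mk_pow,
        mul_comm, ← hx]
      exact pow_orderOf_eq_one _
    have hnil : IsNilpotent (f (g ^ p) - α • 1) := by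
      rcases hn3 with h2 | ⟨h3, hr3, h9⟩
      · exact mul_unipotent_of_flag2 (by rw [finrank_fin_fun, h2]) hA1 (by omega) hAB hyA hyV
      · subst h3 hr3
        obtain ⟨⟨a, ha⟩, ha0, -⟩ := finrank_eq_one_iff'.1 hA1
        have ha0' : a ≠ 0 := fun h0 => ha0 (Subtype.ext h0)
        have hpw : ∀ k : ℕ, (f (g ^ p) ^ k) a = α ^ k • a := by
          intro k
          induction k with
          | zero => simp
          | succ k ih => rw [pow_succ', Module.End.mul_apply, ih, map_smul, hyA a ha, smul_smul, ← pow_succ]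
        have hαc : α ^ 3 = c := by
          have h1 : f (g ^ p) ^ 3 = e (c • 1) := by rw [← map_pow, ← hc]; rfl
          have h2 := hpw 3
          rw [h1, map_smul, map_one] at h2
          exact (smul_left_injective F ha0' h2).symm
        have hc3 : c ^ 3 = 1 := by
          have := congrArg Matrix.det hc
          rw [Matrix.det_pow, Matrix.SpecialLinearGroup.det_coe, one_pow, Matrix.det_smul,
            Matrix.det_one, mul_one, Fintype.card_fin] at this
          exact this.symm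
        have hα9 : α ^ 9 = 1 := by rw [show (9 : ℕ) = 3 * 3 by rfl, pow_mul, hαc, hc3]
        have hα0 : α ≠ 0 := by rintro rfl; simp at hα9
        have hα3 : α ^ 3 = 1 := by
          have h1 := pow_gcd_eq_one.2 ⟨hα9, FiniteField.pow_card_sub_one_eq_one α hα0⟩
          obtain ⟨i, hi, he'⟩ := (Nat.dvd_prime_pow Nat.prime_three).1
            (show Nat.gcd 9 (Fintype.card F - 1) ∣ 3 ^ 2 from Nat.gcd_dvd_left _ _)
          have hi1 : i ≤ 1 := by
            by_contra hi'
            have : i = 2 := by omega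
            subst this
            exact h9 (by rw [show (9 : ℕ) = 3 ^ 2 by rfl, ← he']; exact Nat.gcd_dvd_right _ _)
          rw [he'] at h1
          obtain ⟨j, hj⟩ := pow_dvd_pow 3 hi1
          rw [show α ^ 3 = (α ^ 3 ^ i) ^ j by rw [← pow_mul, ← hj, pow_one], h1, one_pow]
        refine flag3_unipotent (finrank_fin_fun F) ?_ hα3 hA1 hB1 hAB hyA hyV hyB
        show LinearMap.det (Matrix.toLinAlgEquiv' ((g ^ p : Matrix.SpecialLinearGroup (Fin 3) F) : Matrix (Fin 3) (Fin 3) F)) = 1
        rw [show Matrix.toLinAlgEquiv' ((g ^ p : Matrix.SpecialLinearGroup (Fin 3) F) : Matrix (Fin 3) (Fin 3) F) =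
          Matrix.toLin' ((g ^ p : Matrix.SpecialLinearGroup (Fin 3) F) : Matrix (Fin 3) (Fin 3) F) from rfl, LinearMap.det_toLin',
          Matrix.SpecialLinearGroup.det_coe]
    obtain ⟨k, hk⟩ : IsNilpotent (((g ^ p : SLn) : Matrix (Fin n) (Fin n) F) - α • 1) := by
      have := hnil.map e.symm
      rwa [map_sub, map_smul, map_one, show e.symm (f (g ^ p)) = _ from e.symm_apply_apply _] at this
    have hk' := pow_eq_zero_of_le (Nat.lt_pow_self hp.one_lt (n := k)).le hk
    rw [sub_pow_char_pow_of_commute _ _ ((Commute.one_right _).smul_right α), sub_eq_zero, smul_pow,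
      one_pow, ← Matrix.SpecialLinearGroup.coe_pow] at hk'
    have h1 := (Spectra.mk_eq_one_iff _).2 ⟨_, hk'⟩
    rw [← pow_mul, QuotientGroup.mk_pow, ← orderOf_dvd_iff_pow_eq_one, hx, ← pow_succ'] at h1
    exact hrp ((Nat.prime_dvd_prime_iff_eq hr hp).1 (hr.dvd_of_dvd_pow (dvd_of_mul_right_dvd h1)))

end Projective

end Cfsg.Agent.PrimeGraphPSL
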