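/-
Adjacency in the prime graph of PSp(2n,q).
-/
import Cfsg.Agent.Lib.Classical.PrimeGraphPSL
import Cfsg.Agent.Lib.Classical.SympStab
import Cfsg.Agent.Lib.Spectra.SympModels
import Mathlib

set_option autoImplicit false

namespace Cfsg.Agent.PrimeGraphSp

open Module
open LinearMap (BilinForm)
open PrimeGraphPSL (orderOf_zmod_dvd_iff eq_zero_of_fixed_range orderOf_dvd_finrank)

section Linear

variable {F : Type*} [Field F] [Fintype F] {p : ℕ} [Fact p.Prime] [CharP F p]
variable {V : Type*} [AddCommGroup V] [Module F V] [FiniteDimensional F V]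

/-- `W` is a non-degenerate subspace for `B`. -/
def NDeg (B : BilinForm F V) (W : Submodule F V) : Prop :=
  ∀ w ∈ W, (∀ v ∈ W, B w v = 0) → w = 0

omit [Fintype F] in
theorem even_finrank {B : BilinForm F V} (hA : B.IsAlt) {W : Submodule F V} (hW : NDeg B W) :
    2 ∣ finrank F W := by
  have hl : ∀ x : W, (∀ y : W, B (x : V) y = 0) → x = 0 := fun x hx =>
    Subtype.ext (hW x x.2 fun v hv => hx ⟨v, hv⟩)
  have hnd : (B.restrict W).Nondegenerate :=
    ⟨fun x hx => hl x hx, fun x hx => hl x fun y => by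
      rw [AltForm.swap hA (y : V)]; exact neg_eq_zero.2 (hx y)⟩
  obtain ⟨m, hm⟩ := AltForm.exists_finrank_eq (AltForm.restrict_isAlt hA W) hnd
  exact Dvd.intro m hm.symm

/-- An element with a power equal to one and no non-zero fixed points acts surjectively after
subtracting one. -/
theorem exists_preimage {y : Module.End F V} {W : Submodule F V}
    (hyW : ∀ v ∈ W, y v ∈ W) (hfix : ∀ v ∈ W, y v = v → v = 0) {u : V} (hu : u ∈ W) :
    ∃ w ∈ W, y w - w = u := by
  have hW : ∀ v ∈ W, (y - 1) v ∈ W := fun v hv => W.sub_mem (hyW v hv) hv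
  have hinj : Function.Injective (LinearMap.restrict (y - 1) hW) := by
    rw [← LinearMap.ker_eq_bot, LinearMap.ker_eq_bot']
    intro v hv
    exact Subtype.ext (hfix v v.2 (sub_eq_zero.1 (congrArg Subtype.val hv)))
  obtain ⟨w, hw⟩ := LinearMap.injective_iff_surjective.1 hinj ⟨u, hu⟩
  exact ⟨w, w.2, congrArg Subtype.val hw⟩

omit [Fintype F] [FiniteDimensional F V] in
theorem isometry_pow {B : BilinForm F V} {y : Module.End F V} (hyB : ∀ u v, B (y u) (y v) = B u v)
    (j : ℕ) (u v : V) : B ((y ^ j) u) ((y ^ j) v) = B u v := by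
  induction j with
  | zero => rfl
  | succ j ih => rw [pow_succ', Module.End.mul_apply, Module.End.mul_apply, hyB, ih]

/-- The image of `z - 1` on a non-degenerate invariant subspace. -/
theorem nondeg_map {B : BilinForm F V} {W : Submodule F V} (hW : NDeg B W) {z : Module.End F V}
    (hzB : ∀ u v, B (z u) (z v) = B u v) {s : ℕ} (hs : s.Prime) (hsp : s ≠ p) (hz : z ^ s = 1)
    (hzW : ∀ v ∈ W, z v ∈ W) :
    W.map (z - 1) ≤ W ∧ (∀ v ∈ W.map (z - 1), z v ∈ W.map (z - 1)) ∧ NDeg B (W.map (z - 1)) ∧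
      ∀ v ∈ W.map (z - 1), z v = v → v = 0 := by
  have hle : W.map (z - 1) ≤ W := by
    rintro _ ⟨v, hv, rfl⟩
    exact W.sub_mem (hzW v hv) hv
  have hinv : ∀ v ∈ W.map (z - 1), z v ∈ W.map (z - 1) := by
    rintro _ ⟨v, hv, rfl⟩
    exact ⟨z v, hzW v hv, (map_sub z (z v) v).symm⟩
  have hfix : ∀ v ∈ W.map (z - 1), z v = v → v = 0 := fun v hv hv' =>
    eq_zero_of_fixed_range hs hsp hz hv' (LinearMap.map_le_range hv)
  refine ⟨hle, hinv, fun w hw hperp => hW w (hle hw) fun u hu => ?_, hfix⟩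
  obtain ⟨w', hw', he⟩ := exists_preimage hinv hfix
    (show z u - u ∈ W.map (z - 1) from ⟨u, hu, rfl⟩)
  obtain ⟨v, -, rfl⟩ := hw
  have hk : z (u - w') = u - w' := by
    rw [map_sub, sub_eq_sub_iff_sub_eq_sub]; exact he.symm
  have h0 : B ((z - 1) v) (u - w') = 0 := by
    show B (z v - v) (u - w') = 0
    rw [LinearMap.map_sub₂]
    conv_lhs => arg 1; arg 2; rw [← hk]
    rw [hzB, sub_self]
  have h1 := hperp w' hw'
  rw [map_sub, sub_eq_zero] at h0
  rw [h0, h1]

/-- The dimension of a non-degenerate subspace with a fixed-point-free isometry. -/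
theorem two_eta_dvd {B : BilinForm F V} (hA : B.IsAlt) {W : Submodule F V} (hW : NDeg B W)
    {r : ℕ} (hr : r.Prime) {y : Module.End F V} (hy : y ^ r = 1) (hyW : ∀ v ∈ W, y v ∈ W)
    (hfix : ∀ v ∈ W, y v = v → v = 0) {η : ℕ}
    (hη : (Odd (orderOf ((Fintype.card F : ℕ) : ZMod r)) ∧ η = orderOf ((Fintype.card F : ℕ) : ZMod r)) ∨
      (Even (orderOf ((Fintype.card F : ℕ) : ZMod r)) ∧ 2 * η = orderOf ((Fintype.card F : ℕ) : ZMod r))) :
    2 * η ∣ finrank F W := by
  have h1 := orderOf_dvd_finrank hr hy hyW hfix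
  rcases hη with ⟨ho, rfl⟩ | ⟨-, he⟩
  · exact Nat.Coprime.mul_dvd_of_dvd_of_dvd (Nat.coprime_two_left.2 ho) (even_finrank hA hW) h1
  · rwa [he]

/-- An invariant bilinear form on an irreducible module of odd dimension is zero. -/
theorem no_invariant_form {U : Type*} [AddCommGroup U] [Module F U] [FiniteDimensional F U]
    {s : ℕ} (hs : s.Prime) (hs2 : s ≠ 2) {z : Module.End F U} (hz : z ^ s = 1)
    (hfix : ∀ v, z v = v → v = 0) (hodd : Odd (finrank F U))
    (hd : orderOf ((Fintype.card F : ℕ) : ZMod s) = finrank F U)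
    (β : BilinForm F U) (hinv : ∀ u v, β (z u) (z v) = β u v) : β = 0 := by
  haveI : Finite U := Module.finite_of_finite F
  have hsurj : Function.Surjective z := fun u => ⟨(z ^ (s - 1)) u, by
    rw [← Module.End.mul_apply, ← pow_succ', Nat.sub_add_cancel hs.pos, hz]; rfl⟩
  have hsymm : ∀ γ : BilinForm F U, (∀ u v, γ (z u) (z v) = γ u v) → ∀ u v, γ u v = γ v u := by
    intro γ hγ
    let δ : BilinForm F U := γ - γ.flip
    have hδ : δ.IsAlt := fun u => by simp [δ]
    have hδi : ∀ u v, δ (z u) (z v) = δ u v := fun u v => by simp [δ, hγ]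
    have hker : ∀ v ∈ LinearMap.ker δ, z v ∈ LinearMap.ker δ := by
      intro v hv
      rw [LinearMap.mem_ker] at hv ⊢
      refine LinearMap.ext fun w => ?_
      obtain ⟨w, rfl⟩ := hsurj w
      rw [hδi, hv]; rfl
    have hne : LinearMap.ker δ ≠ ⊥ := by
      intro hbot
      have hl : ∀ x, (∀ y, δ x y = 0) → x = 0 := fun x hx =>
        (Submodule.mem_bot F).1 (hbot ▸ LinearMap.mem_ker.2 (LinearMap.ext hx))
      obtain ⟨m, hm⟩ := AltForm.exists_finrank_eq hδ
        ⟨hl, fun x hx => hl x fun y => by rw [AltForm.swap hδ y]; exact neg_eq_zero.2 (hx y)⟩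
      rw [hm] at hodd
      exact (Nat.not_odd_iff_even.2 (even_two_mul m)) hodd
    have h1 := orderOf_dvd_finrank hs hz hker fun v _ hv => hfix v hv
    rw [hd] at h1
    have h2 : 0 < finrank F (LinearMap.ker δ) := Nat.pos_of_ne_zero fun h => hne (Submodule.finrank_eq_zero.1 h)
    have htop : LinearMap.ker δ = ⊤ := Submodule.eq_top_of_finrank_eq
      (le_antisymm (Submodule.finrank_le _) (Nat.le_of_dvd h2 h1))
    intro u v
    have hu : δ u = 0 := LinearMap.mem_ker.1 (htop ▸ Submodule.mem_top)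
    have := LinearMap.congr_fun hu v
    simpa [δ, sub_eq_zero] using this
  have key : ∀ u v, β (z u) v = β u (z v) := by
    intro u v
    have h1 := hsymm (β.comp z LinearMap.id) (fun a b => by simp [hinv]) u v
    simp only [LinearMap.BilinForm.comp_apply, LinearMap.id_coe, id_eq] at h1
    rw [h1, hsymm β hinv]
  refine LinearMap.ext fun u => LinearMap.ext fun v => ?_
  have h2 : ∀ w, β (z (z w) - w) v = 0 := fun w => by
    rw [map_sub, LinearMap.sub_apply, key, hinv, sub_self]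
  have hinj : Function.Injective (z * z - 1 : Module.End F U) := by
    rw [← LinearMap.ker_eq_bot, LinearMap.ker_eq_bot']
    intro w hw
    have hw' : (z ^ 2) w = w := by rw [sq]; exact sub_eq_zero.1 hw
    obtain ⟨c, hc⟩ := hs.odd_of_ne_two hs2
    have hpw : ∀ j : ℕ, ((z ^ 2) ^ j) w = w := by
      intro j
      induction j with
      | zero => rfl
      | succ j ih => rw [pow_succ, Module.End.mul_apply, hw', ih]
    have := LinearMap.congr_fun hz w
    rw [hc, pow_succ', Module.End.mul_apply, pow_mul, hpw, Module.End.one_apply] at this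
    exact hfix w this
  obtain ⟨w, rfl⟩ := LinearMap.injective_iff_surjective.1 hinj u
  exact h2 w

/-- An invariant subspace of dimension at most the order of `q` modulo `s`, cyclic. -/
theorem exists_cyclic {s : ℕ} (hs : s.Prime) {z : Module.End F V} (hz : z ^ s = 1) {W : Submodule F V}
    (hzW : ∀ v ∈ W, z v ∈ W) (hW : W ≠ ⊥) (hl : 0 < orderOf ((Fintype.card F : ℕ) : ZMod s)) :
    ∃ v ∈ W, v ≠ 0 ∧ ∃ U : Submodule F V, U ≤ W ∧ v ∈ U ∧ (∀ w ∈ U, z w ∈ U) ∧
      finrank F U ≤ orderOf ((Fintype.card F : ℕ) : ZMod s) ∧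
      ∀ w ∈ U, ∃ P : Polynomial F, Polynomial.aeval z P v = w := by
  classical
  haveI : Nontrivial W := Submodule.nontrivial_iff_ne_bot.2 hW
  obtain ⟨l, hl'⟩ : ∃ l, orderOf ((Fintype.card F : ℕ) : ZMod s) = l := ⟨_, rfl⟩
  rw [hl'] at hl ⊢
  let zW : Module.End F W := LinearMap.restrict z hzW
  have hzW1 : zW ^ s = 1 := PrimeGraphPSL.pow_restrict_eq_one hz hzW
  have hQ : zW ^ (Fintype.card F ^ l) = zW := by
    obtain ⟨c, hc⟩ := (orderOf_zmod_dvd_iff (r := s) (j := l) (Fintype.card_pos (α := F))).1 (hl' ▸ dvd_rfl)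
    rw [← Nat.sub_add_cancel (Nat.one_le_pow l _ (Fintype.card_pos (α := F))), hc, pow_succ, pow_mul,
      hzW1, one_pow, one_mul]
  have hint : IsIntegral F zW := Algebra.IsIntegral.isIntegral zW
  obtain ⟨f, hfirr, hfdvd⟩ := WfDvdMonoid.exists_irreducible_factor (minpoly.not_isUnit F zW)
    (minpoly.ne_zero hint)
  have hdeg : f.natDegree ∣ l := hfirr.natDegree_dvd_of_dvd_X_pow_card_pow_sub_X
    (hfdvd.trans (minpoly.dvd F zW (by
      rw [map_sub, map_pow, Polynomial.aeval_X, Nat.card_eq_fintype_card, hQ, sub_self])))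
  obtain ⟨v, hv, hv0⟩ : ∃ v : W, Polynomial.aeval zW f v = 0 ∧ v ≠ 0 := by
    by_contra hc
    push Not at hc
    obtain ⟨g, hg⟩ := hfdvd
    have hg0 : g ≠ 0 := fun h => minpoly.ne_zero hint (by rw [hg, h, mul_zero])
    have hzero : Polynomial.aeval zW g = 0 := LinearMap.ext fun w => hc _ (by
      rw [← Module.End.mul_apply, ← map_mul, ← hg, minpoly.aeval]; rfl)
    have h1 := Polynomial.natDegree_le_of_dvd (minpoly.dvd F zW hzero) hg0
    rw [hg, Polynomial.natDegree_mul hfirr.ne_zero hg0] at h1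
    have := hfirr.natDegree_pos
    omega
  have hcoe : ∀ (P : Polynomial F) (w : W), ((Polynomial.aeval zW P w : W) : V) = Polynomial.aeval z P w := by
    intro P w
    induction P using Polynomial.induction_on with
    | C a => simp [Module.algebraMap_end_apply]
    | add P Q hP hQ => simp [hP, hQ]
    | monomial j a ih =>
      rw [pow_succ', ← mul_assoc, mul_comm (Polynomial.C a), mul_assoc,
        map_mul (Polynomial.aeval zW) Polynomial.X, map_mul (Polynomial.aeval z) Polynomial.X,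
        Polynomial.aeval_X, Polynomial.aeval_X, Module.End.mul_apply, Module.End.mul_apply, ← ih]
      rfl
  let φ : Polynomial F →ₗ[F] V :=
    { toFun := fun P => Polynomial.aeval z P v
      map_add' := fun P Q => by rw [map_add, LinearMap.add_apply]
      map_smul' := fun c P => by rw [map_smul, LinearMap.smul_apply, RingHom.id_apply] }
  have hf0 : φ f = 0 := by
    show Polynomial.aeval z f v = 0
    rw [← hcoe, hv]; rfl
  set d := f.natDegree with hd
  have hmod : ∀ P, φ P ∈ (Polynomial.degreeLT F d).map φ := by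
    intro P
    refine ⟨P % f, Polynomial.mem_degreeLT.2 ?_, ?_⟩
    · rw [hd, ← Polynomial.degree_eq_natDegree hfirr.ne_zero]
      exact Polynomial.degree_mod_lt P hfirr.ne_zero
    · conv_rhs => rw [← EuclideanDomain.mod_add_div P f, map_add]
      have : φ (f * (P / f)) = 0 := by
        show Polynomial.aeval z (f * (P / f)) v = 0
        rw [mul_comm, map_mul, Module.End.mul_apply]
        show Polynomial.aeval z (P / f) (φ f) = 0
        rw [hf0, map_zero]
      rw [this, add_zero]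
  refine ⟨v, v.2, fun h => hv0 (Subtype.ext h), (Polynomial.degreeLT F d).map φ, ?_, ?_, ?_, ?_, ?_⟩
  · rintro _ ⟨P, -, rfl⟩
    show Polynomial.aeval z P v ∈ W
    rw [← hcoe]; exact (Polynomial.aeval zW P v).2
  · have := hmod 1
    rwa [show φ 1 = v by show Polynomial.aeval z 1 (v : V) = v; rw [map_one]; rfl] at this
  · rintro _ ⟨P, -, rfl⟩
    have := hmod (Polynomial.X * P)
    rwa [show φ (Polynomial.X * P) = z (φ P) by
      show Polynomial.aeval z (Polynomial.X * P) (v : V) = _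
      rw [map_mul, Polynomial.aeval_X]; rfl] at this
  · refine le_trans (le_trans (Submodule.finrank_map_le _ _) ?_) (Nat.le_of_dvd hl hdeg)
    rw [LinearEquiv.finrank_eq (Polynomial.degreeLTEquiv F d), finrank_fin_fun]
  · rintro _ ⟨P, -, rfl⟩; exact ⟨P, rfl⟩

omit [FiniteDimensional F V] in
theorem aeval_isometry {B : BilinForm F V} {z z' : Module.End F V}
    (h : ∀ u v, B (z u) v = B u (z' v)) (P : Polynomial F) (u v : V) :
    B (Polynomial.aeval z P u) v = B u (Polynomial.aeval z' P v) := by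
  induction P using Polynomial.induction_on generalizing u v with
  | C a => simp [Module.algebraMap_end_apply]
  | add P Q hP hQ => simp [hP, hQ]
  | monomial j a ih =>
    conv_lhs => rw [pow_succ, ← mul_assoc, map_mul, Polynomial.aeval_X, Module.End.mul_apply, ih, h]
    conv_rhs => rw [pow_succ', ← mul_assoc, mul_comm (Polynomial.C a), mul_assoc, map_mul,
      Polynomial.aeval_X, Module.End.mul_apply]

theorem pow_card_eq_comp (P : Polynomial F) (j : ℕ) :
    P ^ (Fintype.card F ^ j) = P.comp (Polynomial.X ^ (Fintype.card F ^ j)) := by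
  induction j with
  | zero => simp
  | succ j ih =>
    rw [pow_succ, pow_mul, ih, ← FiniteField.expand_card, ← Polynomial.expand_eq_comp_X_pow,
      ← Polynomial.expand_mul, mul_comm]
    rw [Polynomial.expand_eq_comp_X_pow]

/-- Two commuting fixed-point-free isometries in the smallest possible dimension. -/
theorem no_pair {B : BilinForm F V} (hA : B.IsAlt) {W : Submodule F V} (hW : NDeg B W) {r s : ℕ}
    (hr : r.Prime) (hr2 : r ≠ 2) (hs : s.Prime) (hs2 : s ≠ 2)
    {y z : Module.End F V} (hy : y ^ r = 1) (hz : z ^ s = 1) (hc : Commute y z)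
    (hyB : ∀ u v, B (y u) (y v) = B u v) (hzB : ∀ u v, B (z u) (z v) = B u v)
    (hyW : ∀ v ∈ W, y v ∈ W) (hzW : ∀ v ∈ W, z v ∈ W)
    (hfy : ∀ v ∈ W, y v = v → v = 0) (hfz : ∀ v ∈ W, z v = v → v = 0) {η : ℕ} (hη : 0 < η)
    (hdim : finrank F W = 2 * η)
    (h : (Odd (orderOf ((Fintype.card F : ℕ) : ZMod s)) ∧ η = orderOf ((Fintype.card F : ℕ) : ZMod s) ∧
        ¬ orderOf ((Fintype.card F : ℕ) : ZMod r) ∣ η) ∨
      (Even (orderOf ((Fintype.card F : ℕ) : ZMod s)) ∧ 2 * η = orderOf ((Fintype.card F : ℕ) : ZMod s) ∧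
        orderOf ((Fintype.card F : ℕ) : ZMod r) ∣ η)) : False := by
  haveI : Fact r.Prime := ⟨hr⟩
  haveI : Fact s.Prime := ⟨hs⟩
  have hWne : W ≠ ⊥ := fun h0 => by rw [h0, finrank_bot] at hdim; omega
  have hlpos : 0 < orderOf ((Fintype.card F : ℕ) : ZMod s) := by
    rcases h with ⟨-, h, -⟩ | ⟨-, h, -⟩ <;> omega
  obtain ⟨v, hvW, hv0, U, hUW, hvU, hzU, hUle, hUP⟩ := exists_cyclic hs hz hzW hWne hlpos
  have hUpos : 0 < finrank F U := Nat.pos_of_ne_zero fun h0 => by
    rw [Submodule.finrank_eq_zero] at h0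
    exact hv0 (by rw [h0] at hvU; exact hvU)
  have hUdim : finrank F U = orderOf ((Fintype.card F : ℕ) : ZMod s) := le_antisymm hUle
    (Nat.le_of_dvd hUpos (orderOf_dvd_finrank hs hz hzU fun w hw => hfz w (hUW hw)))
  rcases h with ⟨hodd, hl, hk⟩ | ⟨-, hl, hk⟩
  · -- the subspace is invariant under both elements
    apply hk
    rw [hl, ← hUdim]
    refine orderOf_dvd_finrank hr hy ?_ fun w hw => hfy w (hUW hw)
    let zU : Module.End F U := LinearMap.restrict z hzU
    have hno : ∀ β : BilinForm F U, (∀ a b, β (zU a) (zU b) = β a b) → β = 0 :=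
      no_invariant_form hs hs2 (PrimeGraphPSL.pow_restrict_eq_one hz hzU)
        (fun w hw => Subtype.ext (hfz w (hUW w.2) (congrArg Subtype.val hw))) (hUdim ▸ hodd) hUdim.symm
    have hUU := hno (B.restrict U) fun a b => hzB a b
    have hUy := hno (B.comp U.subtype (y ∘ₗ U.subtype)) fun a b => by
      show B (z a) (y (z b)) = B a (y b)
      rw [show y (z b) = z (y b) from LinearMap.congr_fun hc.eq b, hzB]
    let ρ : W →ₗ[F] U →ₗ[F] F := U.subtype.dualMap ∘ₗ B ∘ₗ W.subtype
    have hUT : ∀ (a : V) (ha : a ∈ U), (⟨a, hUW ha⟩ : W) ∈ LinearMap.ker ρ := by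
      intro a ha
      rw [LinearMap.mem_ker]
      exact LinearMap.ext fun b => LinearMap.congr_fun (LinearMap.congr_fun hUU ⟨a, ha⟩) b
    have hsur : Function.Surjective ρ := by
      have : ρ = (ρ.flip).dualMap.comp (Module.Dual.eval F W) := rfl
      rw [this, LinearMap.coe_comp]
      refine Function.Surjective.comp (LinearMap.dualMap_surjective_of_injective ?_)
        (Module.bijective_dual_eval F W).2
      rw [← LinearMap.ker_eq_bot, LinearMap.ker_eq_bot']
      intro b hb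
      refine Subtype.ext (hW b (hUW b.2) fun w hw => ?_)
      rw [AltForm.swap hA]
      exact neg_eq_zero.2 (LinearMap.congr_fun hb ⟨w, hw⟩)
    have hkd : finrank F (LinearMap.ker ρ) = finrank F U := by
      have := ρ.finrank_range_add_finrank_ker
      rw [LinearMap.range_eq_top.2 hsur, finrank_top, Subspace.dual_finrank_eq, hdim, hUdim] at this
      omega
    let U' : Submodule F W := U.comap W.subtype
    have hU'eq : U' = LinearMap.ker ρ := by
      refine Submodule.eq_of_le_of_finrank_eq (fun a ha => hUT a ha) ?_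
      rw [hkd]
      exact LinearEquiv.finrank_eq (Submodule.comapSubtypeEquivOfLe hUW)
    intro a ha
    have : (⟨y a, hyW a (hUW ha)⟩ : W) ∈ U' := by
      rw [hU'eq, LinearMap.mem_ker]
      refine LinearMap.ext fun b => ?_
      show B (y a) b = 0
      rw [AltForm.swap hA (b : V) (y a),
        show B (b : V) (y a) = 0 from LinearMap.congr_fun (LinearMap.congr_fun hUy b) ⟨a, ha⟩, neg_zero]
    exact this
  · -- `y` is a polynomial in `z` on `W`
    have hUeq : U = W := Submodule.eq_of_le_of_finrank_eq hUW (by rw [hUdim, hdim, hl])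
    subst hUeq
    obtain ⟨P, hP⟩ := hUP (y v) (hyW v hvW)
    have hcR : ∀ R : Polynomial F, Commute y (Polynomial.aeval z R) := by
      intro R
      induction R using Polynomial.induction_on with
      | C a => rw [Polynomial.aeval_C]; exact Algebra.commute_algebraMap_right a y
      | add A C h1 h2 => rw [map_add]; exact h1.add_right h2
      | monomial j a _ =>
        rw [map_mul, map_pow, Polynomial.aeval_C, Polynomial.aeval_X]
        exact (Algebra.commute_algebraMap_right a y).mul_right (hc.pow_right _)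
    have hPy : ∀ w ∈ U, Polynomial.aeval z P w = y w := by
      intro w hw
      obtain ⟨R, rfl⟩ := hUP w hw
      rw [← Module.End.mul_apply, ← map_mul, mul_comm, map_mul, Module.End.mul_apply, hP,
        ← Module.End.mul_apply, ← (hcR R).eq, Module.End.mul_apply]
    obtain ⟨Q, hQ⟩ : ∃ Q, Fintype.card F ^ η = Q := ⟨_, rfl⟩
    have hQpos : 0 < Q := hQ ▸ pow_pos Fintype.card_pos _
    obtain ⟨c, hc'⟩ : r ∣ Q - 1 := hQ ▸ (orderOf_zmod_dvd_iff Fintype.card_pos).1 hk
    have hyQ : y ^ Q = y := by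
      rw [← Nat.sub_add_cancel (hQpos : 1 ≤ Q), hc', pow_succ, pow_mul, hy, one_pow, one_mul]
    have hsQ : z ^ Q * z = 1 := by
      have h1 : ((Q : ℕ) : ZMod s) ^ 2 = 1 := by
        rw [← hQ, Nat.cast_pow, ← pow_mul, mul_comm, hl, pow_orderOf_eq_one]
      rcases sq_eq_one_iff.1 h1 with h1 | h1
      · rw [← hQ, Nat.cast_pow] at h1
        have := Nat.le_of_dvd hη (orderOf_dvd_of_pow_eq_one h1)
        omega
      · obtain ⟨e, he⟩ : s ∣ Q + 1 := (ZMod.natCast_eq_zero_iff _ _).1 (by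
          rw [Nat.cast_add, Nat.cast_one, h1, neg_add_cancel])
        rw [← pow_succ, he, pow_mul, hz, one_pow]
    have hadj : ∀ a b, B (z a) b = B a ((z ^ Q) b) := fun a b => by
      have hsQ' : z ((z ^ Q) b) = b := by
        rw [← Module.End.mul_apply, ← pow_succ', pow_succ, hsQ]; rfl
      conv_lhs => rw [← hsQ', hzB]
    have hPQ : Polynomial.aeval (z ^ Q) P = Polynomial.aeval z P ^ Q := by
      rw [← map_pow, ← hQ, pow_card_eq_comp, Polynomial.aeval_comp, map_pow, Polynomial.aeval_X]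
    have hyQP : ∀ (j : ℕ) (w : V), w ∈ U → (Polynomial.aeval z P ^ j) w = (y ^ j) w ∧ (y ^ j) w ∈ U := by
      intro j
      induction j with
      | zero => exact fun w hw => ⟨rfl, hw⟩
      | succ j ih =>
        intro w hw
        obtain ⟨h1, h2⟩ := ih w hw
        rw [pow_succ', pow_succ', Module.End.mul_apply, Module.End.mul_apply, h1, hPy _ h2]
        exact ⟨rfl, hyW _ h2⟩
    have hself : ∀ a ∈ U, ∀ b ∈ U, B (y a) b = B a (y b) := by
      intro a ha b hb
      rw [← hPy a ha, aeval_isometry hadj, hPQ, (hyQP Q b hb).1, hyQ]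
    have hy2 : ∀ a ∈ U, y (y a) = a := by
      intro a ha
      refine sub_eq_zero.1 (hW _ (U.sub_mem (hyW _ (hyW _ ha)) ha) fun b hb => ?_)
      rw [map_sub, LinearMap.sub_apply, hself _ (hyW _ ha) b hb, hyB, sub_self]
    have hy1 : ∀ a ∈ U, y a = a := by
      intro a ha
      obtain ⟨e, he⟩ := hr.odd_of_ne_two hr2
      have hpw : ∀ j : ℕ, ((y ^ 2) ^ j) a = a := by
        intro j
        induction j with
        | zero => rfl
        | succ j ih => rw [pow_succ, Module.End.mul_apply, sq, Module.End.mul_apply, hy2 a ha, ← sq, ih]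
      have := LinearMap.congr_fun hy a
      rwa [he, pow_succ', Module.End.mul_apply, pow_mul, hpw, Module.End.one_apply] at this
    exact hv0 (hfy v hvW (hy1 v hvW))

/-- The two cases of `no_pair` apply unless the quotient of the orders is an odd integer. -/
theorem eta_cases {k l a b : ℕ} (hk : (Odd k ∧ a = k) ∨ (Even k ∧ 2 * a = k))
    (hl : (Odd l ∧ b = l) ∨ (Even l ∧ 2 * b = l)) (hab : a ∣ b) (h : ¬ ∃ t : ℕ, Odd t ∧ l = k * t) :
    (Odd l ∧ b = l ∧ ¬ k ∣ b) ∨ (Even l ∧ 2 * b = l ∧ k ∣ b) := by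
  rcases hl with ⟨hlo, rfl⟩ | ⟨hle, hb⟩
  · refine Or.inl ⟨hlo, rfl, fun ⟨t, ht⟩ => h ⟨t, ?_, ht⟩⟩
    rw [ht] at hlo
    exact (Nat.odd_mul.1 hlo).2
  · refine Or.inr ⟨hle, hb, ?_⟩
    rcases hk with ⟨-, rfl⟩ | ⟨-, ha⟩
    · exact hab
    · obtain ⟨t, ht⟩ := hab
      rcases Nat.even_or_odd t with ⟨c, hc⟩ | hto
      · exact ⟨c, by rw [← ha, ht, hc]; ring⟩
      · exact absurd ⟨t, hto, by rw [← hb, ← ha, ht, mul_assoc]⟩ h

/-- The obstruction for two commuting symplectic elements of orders `r`, `s`. -/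
theorem rs_bound {B : BilinForm F V} (hA : B.IsAlt) (hB : NDeg B ⊤) {n r s : ℕ}
    (hV : finrank F V = 2 * n) (hr : r.Prime) (hr2 : r ≠ 2) (hs : s.Prime) (hs2 : s ≠ 2)
    (hrp : r ≠ p) (hsp : s ≠ p) {y z : Module.End F V} (hy : y ^ r = 1) (hz : z ^ s = 1)
    (hyB : ∀ u v, B (y u) (y v) = B u v) (hzB : ∀ u v, B (z u) (z v) = B u v)
    (hy1 : y ≠ 1) (hz1 : z ≠ 1) (hc : Commute y z) {a b : ℕ} (ha0 : 0 < a) (hb0 : 0 < b) (hab : a ≤ b)
    (ha : (Odd (orderOf ((Fintype.card F : ℕ) : ZMod r)) ∧ a = orderOf ((Fintype.card F : ℕ) : ZMod r)) ∨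
      (Even (orderOf ((Fintype.card F : ℕ) : ZMod r)) ∧ 2 * a = orderOf ((Fintype.card F : ℕ) : ZMod r)))
    (hb : (Odd (orderOf ((Fintype.card F : ℕ) : ZMod s)) ∧ b = orderOf ((Fintype.card F : ℕ) : ZMod s)) ∨
      (Even (orderOf ((Fintype.card F : ℕ) : ZMod s)) ∧ 2 * b = orderOf ((Fintype.card F : ℕ) : ZMod s)))
    (hnot : ¬ ∃ t : ℕ, Odd t ∧
      orderOf ((Fintype.card F : ℕ) : ZMod s) = orderOf ((Fintype.card F : ℕ) : ZMod r) * t) :
    a + b ≤ n := by
  obtain ⟨-, hyW, hWnd, hfy⟩ := nondeg_map hB hyB hr hrp hy (fun v _ => Submodule.mem_top)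
  set W := (⊤ : Submodule F V).map (y - 1) with hW
  have hWd := two_eta_dvd hA hWnd hr hy hyW hfy ha
  have hWpos : 0 < finrank F W := by
    rw [Nat.pos_iff_ne_zero, Ne, Submodule.finrank_eq_zero, hW, Submodule.map_top,
      LinearMap.range_eq_bot, sub_eq_zero]
    exact hy1
  have hzW : ∀ v ∈ W, z v ∈ W := by
    rintro _ ⟨x, -, rfl⟩
    exact ⟨z x, trivial, (LinearMap.congr_fun (hc.symm.sub_right (Commute.one_right z)).eq x).symm⟩
  by_cases hzW1 : ∀ v ∈ W, z v = v
  · obtain ⟨-, hzW', hW'nd, hfz⟩ := nondeg_map hB hzB hs hsp hz (fun v _ => Submodule.mem_top)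
    set W' := (⊤ : Submodule F V).map (z - 1) with hW'
    have hW'd := two_eta_dvd hA hW'nd hs hz hzW' hfz hb
    have hW'pos : 0 < finrank F W' := by
      rw [Nat.pos_iff_ne_zero, Ne, Submodule.finrank_eq_zero, hW', Submodule.map_top,
        LinearMap.range_eq_bot, sub_eq_zero]
      exact hz1
    have hdis : Disjoint W W' := Submodule.disjoint_def.2 fun v hv hv' => hfz v hv' (hzW1 v hv)
    have h1 := Submodule.finrank_sup_add_finrank_inf_eq W W'
    rw [hdis.eq_bot, finrank_bot] at h1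
    have h2 := Submodule.finrank_le (W ⊔ W')
    have := Nat.le_of_dvd hWpos hWd
    have := Nat.le_of_dvd hW'pos hW'd
    omega
  · obtain ⟨hle, hzW', hW'nd, hfz⟩ := nondeg_map hWnd hzB hs hsp hz hzW
    set W' := W.map (z - 1) with hW'
    have hW'pos : 0 < finrank F W' := by
      rw [Nat.pos_iff_ne_zero, Ne, Submodule.finrank_eq_zero]
      intro h
      refine hzW1 fun v hv => sub_eq_zero.1 ?_
      have : (z - 1) v ∈ W' := ⟨v, hv, rfl⟩
      rwa [h, Submodule.mem_bot] at this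
    have hyW' : ∀ v ∈ W', y v ∈ W' := by
      rintro _ ⟨x, hx, rfl⟩
      exact ⟨y x, hyW x hx, (LinearMap.congr_fun (hc.sub_right (Commute.one_right y)).eq x).symm⟩
    have hfy' : ∀ v ∈ W', y v = v → v = 0 := fun v hv => hfy v (hle hv)
    obtain ⟨i, hi⟩ := two_eta_dvd hA hW'nd hs hz hzW' hfz hb
    have hd := two_eta_dvd hA hW'nd hr hy hyW' hfy' ha
    have hn := Submodule.finrank_le W'
    rcases Nat.lt_or_ge i 2 with hi2 | hi2
    · obtain rfl : i = 1 := by
        rcases Nat.eq_zero_or_pos i with rfl | h0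
        · omega
        · omega
      rw [mul_one] at hi
      exact (no_pair hA hW'nd hr hr2 hs hs2 hy hz hc hyB hzB hyW' hzW' hfy' hfz hb0 hi
        (eta_cases ha hb (Nat.dvd_of_mul_dvd_mul_left two_pos (hi ▸ hd)) hnot)).elim
    · have := Nat.mul_le_mul_left (2 * b) hi2
      omega

/-- An element of order `r` with the largest possible `η` centralises no non-trivial unipotent. -/
theorem rp_bound {B : BilinForm F V} (hA : B.IsAlt) (hB : NDeg B ⊤) {n r : ℕ}
    (hV : finrank F V = 2 * n) (hn : 0 < n) (hr : r.Prime) (hr2 : r ≠ 2) (hrp : r ≠ p)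
    {y N : Module.End F V} (hy : y ^ r = 1) (hyB : ∀ u v, B (y u) (y v) = B u v) (hy1 : y ≠ 1)
    (hN : IsNilpotent N) (hN0 : N ≠ 0) (hc : Commute y N) {a : ℕ}
    (ha : (Odd (orderOf ((Fintype.card F : ℕ) : ZMod r)) ∧ a = orderOf ((Fintype.card F : ℕ) : ZMod r)) ∨
      (Even (orderOf ((Fintype.card F : ℕ) : ZMod r)) ∧ 2 * a = orderOf ((Fintype.card F : ℕ) : ZMod r))) :
    a < n := by
  by_contra hlt
  obtain ⟨-, hyW, hWnd, hfy⟩ := nondeg_map hB hyB hr hrp hy (fun v _ => Submodule.mem_top)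
  set W := (⊤ : Submodule F V).map (y - 1) with hW
  have hWd := two_eta_dvd hA hWnd hr hy hyW hfy ha
  have hWpos : 0 < finrank F W := by
    rw [Nat.pos_iff_ne_zero, Ne, Submodule.finrank_eq_zero, hW, Submodule.map_top,
      LinearMap.range_eq_bot, sub_eq_zero]
    exact hy1
  have hWle := Submodule.finrank_le W
  have := Nat.le_of_dvd hWpos hWd
  have han : a = n := by omega
  subst han
  have hfix : ∀ v, y v = v → v = 0 := by
    have htop : W = ⊤ := Submodule.eq_top_of_finrank_eq (by omega)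
    exact fun v hv => hfy v (htop ▸ Submodule.mem_top) hv
  have hkerI : ∀ v ∈ LinearMap.ker N, y v ∈ LinearMap.ker N := fun v hv => by
    rw [LinearMap.mem_ker] at hv ⊢
    rw [← Module.End.mul_apply, ← hc.eq, Module.End.mul_apply, hv, map_zero]
  have hranI : ∀ v ∈ LinearMap.range N, y v ∈ LinearMap.range N := by
    rintro _ ⟨w, rfl⟩
    exact ⟨y w, (LinearMap.congr_fun hc.eq w).symm⟩
  have hsum := N.finrank_range_add_finrank_ker
  have hne : LinearMap.ker N ⊓ LinearMap.range N ≠ ⊥ := by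
    intro hbot
    obtain ⟨k, hk⟩ := hN
    have hall : ∀ j : ℕ, N ^ (j + 1) = 0 → N = 0 := by
      intro j
      induction j with
      | zero => intro h; simpa using h
      | succ j ih =>
        intro hj
        refine ih (LinearMap.ext fun v => ?_)
        rw [pow_succ', Module.End.mul_apply]
        have h1 : N ((N ^ j) v) ∈ LinearMap.ker N ⊓ LinearMap.range N :=
          ⟨LinearMap.mem_ker.2 (by
            have := LinearMap.congr_fun hj v
            rwa [pow_succ', pow_succ', Module.End.mul_apply, Module.End.mul_apply] at this), _, rfl⟩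
        rwa [hbot, Submodule.mem_bot] at h1
    exact hN0 (hall k (by rw [pow_succ, hk, zero_mul]))
  have hIpos : 0 < finrank F (LinearMap.ker N ⊓ LinearMap.range N : Submodule F V) :=
    Nat.pos_of_ne_zero fun h => hne (Submodule.finrank_eq_zero.1 h)
  have hIk : finrank F (LinearMap.ker N ⊓ LinearMap.range N : Submodule F V) ≤ finrank F (LinearMap.ker N) :=
    Submodule.finrank_mono inf_le_left
  have hIr : finrank F (LinearMap.ker N ⊓ LinearMap.range N : Submodule F V) ≤ finrank F (LinearMap.range N) :=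
    Submodule.finrank_mono inf_le_right
  have hdI := orderOf_dvd_finrank hr hy (W := LinearMap.ker N ⊓ LinearMap.range N)
    (fun v hv => ⟨hkerI v hv.1, hranI v hv.2⟩) fun v _ => hfix v
  have hdk := orderOf_dvd_finrank hr hy hkerI fun v _ => hfix v
  have hdr := orderOf_dvd_finrank hr hy hranI fun v _ => hfix v
  have hkI := Nat.le_of_dvd hIpos hdI
  rcases ha with ⟨hodd, hk⟩ | ⟨-, hk⟩
  swap
  · omega
  rw [← hk] at hdI hdk hdr hkI hodd
  have hker : finrank F (LinearMap.ker N) = a := by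
    obtain ⟨i, hi⟩ := hdk
    obtain ⟨j, hj⟩ := hdr
    rcases Nat.lt_or_ge i 2 with hi2 | hi2
    · rcases Nat.eq_zero_or_pos i with rfl | h0
      · omega
      · obtain rfl : i = 1 := by omega
        rw [hi, mul_one]
    · have := Nat.mul_le_mul_left a hi2
      omega
  have hran : finrank F (LinearMap.range N) = a := by omega
  have hI : finrank F (LinearMap.ker N ⊓ LinearMap.range N : Submodule F V) = a := by omega
  have heq : LinearMap.range N = LinearMap.ker N := by
    rw [← Submodule.eq_of_le_of_finrank_eq inf_le_left (hI.trans hker.symm),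
      Submodule.eq_of_le_of_finrank_eq (inf_le_right : LinearMap.ker N ⊓ LinearMap.range N ≤ _)
        (hI.trans hran.symm)]
  let R := LinearMap.range N
  obtain ⟨g, hg⟩ := N.rangeRestrict.exists_rightInverse_of_surjective N.range_rangeRestrict
  have hg' : ∀ b : R, N (g b) = b := fun b => congrArg Subtype.val (LinearMap.congr_fun hg b)
  let yR : Module.End F R := LinearMap.restrict y hranI
  have hno : ∀ β : BilinForm F R, (∀ u v, β (yR u) (yR v) = β u v) → β = 0 :=
    no_invariant_form hr hr2 (PrimeGraphPSL.pow_restrict_eq_one hy hranI)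
      (fun v hv => Subtype.ext (hfix v (congrArg Subtype.val hv))) (hran.symm ▸ hodd) (hk.symm.trans hran.symm)
  have hiso := hno (B.restrict R) fun u v => hyB u v
  have hiso' : ∀ u ∈ R, ∀ v ∈ R, B u v = 0 := fun u hu v hv =>
    LinearMap.congr_fun (LinearMap.congr_fun hiso ⟨u, hu⟩) ⟨v, hv⟩
  have hpair := hno (B.comp R.subtype g) fun u v => by
    show B (y u) (g (yR v)) = B u (g v)
    have h1 : g (yR v) - y (g v) ∈ R := by
      refine (SetLike.ext_iff.1 heq _).2 (LinearMap.mem_ker.2 ?_)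
      rw [map_sub, hg', ← Module.End.mul_apply, ← hc.eq, Module.End.mul_apply,
        hg', sub_eq_zero]
      rfl
    have h2 := hiso' (y u) (hranI u u.2) _ h1
    rw [map_sub, sub_eq_zero] at h2
    rw [h2, hyB]
  obtain ⟨u, hu, hu0⟩ := Submodule.exists_mem_ne_zero_of_ne_bot hne
  refine hu0 (hB u trivial fun v _ => ?_)
  have hv : v - g (N.rangeRestrict v) ∈ R := by
    refine (SetLike.ext_iff.1 heq _).2 (LinearMap.mem_ker.2 ?_)
    rw [map_sub, hg', sub_eq_zero]
    rfl
  have h3 := hiso' u hu.2 _ hv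
  rw [map_sub, sub_eq_zero] at h3
  rw [h3]
  exact LinearMap.congr_fun (LinearMap.congr_fun hpair ⟨u, hu.2⟩) (N.rangeRestrict v)

end Linear

section Models

variable {F : Type*} [Field F]

/-- An isometry of a non-degenerate alternating form gives an element of `Sp` of the same order. -/
theorem exists_sp_of_isometry {m : ℕ} {V : Type*} [AddCommGroup V] [Module F V]
    [FiniteDimensional F V] {B : BilinForm F V} (hA : B.IsAlt)
    (hB : ∀ x, (∀ y, B x y = 0) → x = 0) (hm : finrank F V = 2 * m) (g : V ≃ₗ[F] V)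
    (hg : ∀ u v, B (g u) (g v) = B u v) :
    ∃ A : Matrix.symplecticGroup (Fin m) F, orderOf A = orderOf g := by
  obtain ⟨ψ, hψ⟩ := SympStab.exists_isometry hA hB hm
  let c : (V ≃ₗ[F] V) →* ((Fin m ⊕ Fin m → F) ≃ₗ[F] (Fin m ⊕ Fin m → F)) :=
    { toFun := fun h => (ψ.trans h).trans ψ.symm
      map_one' := LinearEquiv.ext fun x => ψ.symm_apply_apply x
      map_mul' := fun a b => LinearEquiv.ext fun x => by simp }
  have hci : Function.Injective c := by
    intro a b h
    refine LinearEquiv.ext fun x => ?_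
    have := LinearEquiv.congr_fun h (ψ.symm x)
    simpa [c] using this
  obtain ⟨A, hA'⟩ := ClassicalSp.toEquiv_surj (g := c g) (fun u v => by
    show ClassicalSp.spBilin m F (ψ.symm (g (ψ u))) (ψ.symm (g (ψ v))) = ClassicalSp.spBilin m F u v
    rw [← hψ, LinearEquiv.apply_symm_apply, LinearEquiv.apply_symm_apply, hg, hψ])
  exact ⟨A, by rw [← orderOf_injective _ ClassicalSp.toEquiv_injective, hA', orderOf_injective c hci]⟩

/-- Orthogonal sum. -/
theorem exists_sp_lcm {a b m : ℕ} (h : a + b = m) (x : Matrix.symplecticGroup (Fin a) F)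
    (y : Matrix.symplecticGroup (Fin b) F) :
    ∃ A : Matrix.symplecticGroup (Fin m) F, orderOf A = Nat.lcm (orderOf x) (orderOf y) := by
  let Ba := ClassicalSp.spBilin a F
  let Bb := ClassicalSp.spBilin b F
  let B : BilinForm F ((Fin a ⊕ Fin a → F) × (Fin b ⊕ Fin b → F)) :=
    Ba.comp (LinearMap.fst F _ _) (LinearMap.fst F _ _) + Bb.comp (LinearMap.snd F _ _) (LinearMap.snd F _ _)
  have hA : B.IsAlt := fun u => by
    show Ba u.1 u.1 + Bb u.2 u.2 = 0
    rw [ClassicalSp.spBilin_isAlt u.1, ClassicalSp.spBilin_isAlt u.2, add_zero]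
  have hB : ∀ u, (∀ v, B u v = 0) → u = 0 := fun u hu => by
    refine Prod.ext (ClassicalSp.spBilin_nondeg.1 _ fun v => ?_) (ClassicalSp.spBilin_nondeg.1 _ fun v => ?_)
    · have := hu (v, 0); simpa [B, Ba, Bb] using this
    · have := hu (0, v); simpa [B, Ba, Bb] using this
  let c : ((Fin a ⊕ Fin a → F) ≃ₗ[F] (Fin a ⊕ Fin a → F)) × ((Fin b ⊕ Fin b → F) ≃ₗ[F] (Fin b ⊕ Fin b → F)) →*
      (((Fin a ⊕ Fin a → F) × (Fin b ⊕ Fin b → F)) ≃ₗ[F] ((Fin a ⊕ Fin a → F) × (Fin b ⊕ Fin b → F))) :=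
    { toFun := fun g => g.1.prodCongr g.2
      map_one' := LinearEquiv.ext fun _ => rfl
      map_mul' := fun _ _ => LinearEquiv.ext fun _ => rfl }
  have hci : Function.Injective c := fun g g' hgg => Prod.ext
    (LinearEquiv.ext fun u => congrArg Prod.fst (LinearEquiv.congr_fun hgg (u, 0)))
    (LinearEquiv.ext fun u => congrArg Prod.snd (LinearEquiv.congr_fun hgg (0, u)))
  obtain ⟨A, hA'⟩ := exists_sp_of_isometry (m := m) hA hB
    (by rw [finrank_prod, ClassicalSp.finrank_space, ClassicalSp.finrank_space]; omega)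
    (c (ClassicalSp.toEquiv x, ClassicalSp.toEquiv y)) (fun u v => by
      show Ba (ClassicalSp.toEquiv x u.1) (ClassicalSp.toEquiv x v.1) +
        Bb (ClassicalSp.toEquiv y u.2) (ClassicalSp.toEquiv y v.2) = Ba u.1 v.1 + Bb u.2 v.2
      rw [ClassicalSp.toEquiv_mem x, ClassicalSp.toEquiv_mem y])
  refine ⟨A, ?_⟩
  rw [hA', orderOf_injective c hci, Prod.orderOf_mk,
    orderOf_injective _ ClassicalSp.toEquiv_injective, orderOf_injective _ ClassicalSp.toEquiv_injective]

variable [Fintype F]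

theorem prime_dvd_card_sp {r m : ℕ} {a : ℕ} (ha0 : 0 < a) (hm : a ≤ m)
    (ha : orderOf ((Fintype.card F : ℕ) : ZMod r) ∣ 2 * a) :
    r ∣ Nat.card (Matrix.symplecticGroup (Fin m) F) := by
  rw [ClassicalSp.card_sp, Nat.card_eq_fintype_card]
  refine Dvd.dvd.mul_left ?_ _
  refine ((orderOf_zmod_dvd_iff Fintype.card_pos).1 ha).trans ?_
  have h := Finset.dvd_prod_of_mem (fun i => Fintype.card F ^ (2 * (i + 1)) - 1)
    (Finset.mem_range.2 (show a - 1 < m by omega))
  simpa [Nat.sub_add_cancel ha0] using h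

theorem char_dvd_card_sp (p : ℕ) [Fact p.Prime] [CharP F p] {m : ℕ} (hm : 1 ≤ m) :
    p ∣ Nat.card (Matrix.symplecticGroup (Fin m) F) := by
  obtain ⟨e, -, he⟩ := FiniteField.card F p
  rw [ClassicalSp.card_sp, Nat.card_eq_fintype_card, he]
  exact Dvd.dvd.mul_right (dvd_pow (dvd_pow_self p e.ne_zero) (pow_pos hm 2).ne') _

/-- A common element of order `r s` in the torus of order `q^l - 1`, `l` odd. -/
theorem exists_sp_split (p : ℕ) [Fact p.Prime] [CharP F p] {l N : ℕ} [NeZero l]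
    (h : N ∣ Fintype.card F ^ l - 1) :
    ∃ A : Matrix.symplecticGroup (Fin l) F, orderOf A = N := by
  obtain ⟨u, hu⟩ := PrimeGraphPSL.exists_unit_extension (F := F) p (k := l) h
  let K := FiniteField.Extension F p l
  let T := Algebra.trace F K
  let B : BilinForm F (K × K) := LinearMap.mk₂ F (fun x y => T (x.1 * y.2 - x.2 * y.1))
    (fun x x' y => by rw [← map_add]; congr 1; simp only [Prod.fst_add, Prod.snd_add]; ring)
    (fun c x y => by rw [← map_smul]; congr 1; simp [smul_sub])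
    (fun x y y' => by rw [← map_add]; congr 1; simp only [Prod.fst_add, Prod.snd_add]; ring)
    (fun c x y => by rw [← map_smul]; congr 1; simp [smul_sub])
  have hA : B.IsAlt := fun x => by
    show T (x.1 * x.2 - x.2 * x.1) = 0
    rw [mul_comm, sub_self, map_zero]
  have hB : ∀ x, (∀ y, B x y = 0) → x = 0 := fun x hx => by
    refine Prod.ext ((traceForm_nondegenerate F K).1 _ fun z => ?_) ((traceForm_nondegenerate F K).1 _ fun z => ?_)
    · have := hx (0, z); simpa [B, T] using this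
    · have := hx (z, 0); simpa [B, T] using this
  let c : Kˣ →* ((K × K) ≃ₗ[F] (K × K)) :=
    { toFun := fun w => LinearEquiv.ofLinearMap
        ((LinearMap.mulLeft F (w : K)).prodMap (LinearMap.mulLeft F ((w⁻¹ : Kˣ) : K)))
        ((LinearMap.mulLeft F ((w⁻¹ : Kˣ) : K)).prodMap (LinearMap.mulLeft F (w : K)))
        (LinearMap.ext fun x => Prod.ext (w.mul_inv_cancel_left _) (w.inv_mul_cancel_left _))
        (LinearMap.ext fun x => Prod.ext (w.inv_mul_cancel_left _) (w.mul_inv_cancel_left _))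
      map_one' := LinearEquiv.ext fun x => Prod.ext (one_mul _) (by
        show ((1⁻¹ : Kˣ) : K) * x.2 = x.2
        rw [inv_one, Units.val_one, one_mul])
      map_mul' := fun v w => LinearEquiv.ext fun x => Prod.ext
        (by show ((v * w : Kˣ) : K) * x.1 = (v : K) * ((w : K) * x.1); rw [Units.val_mul, mul_assoc])
        (by show (((v * w)⁻¹ : Kˣ) : K) * x.2 = ((v⁻¹ : Kˣ) : K) * (((w⁻¹ : Kˣ) : K) * x.2)
            rw [mul_inv, Units.val_mul, mul_assoc]) }
  have hci : Function.Injective c := fun v w hvw => Units.ext (by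
    have := congrArg Prod.fst (LinearEquiv.congr_fun hvw (1, 1))
    simpa [c] using this)
  obtain ⟨A, hA'⟩ := exists_sp_of_isometry (m := l) hA hB
    (by rw [finrank_prod, FiniteField.finrank_extension]; ring) (c u) (fun x y => by
      show T ((u : K) * x.1 * (((u⁻¹ : Kˣ) : K) * y.2) - ((u⁻¹ : Kˣ) : K) * x.2 * ((u : K) * y.1)) =
        T (x.1 * y.2 - x.2 * y.1)
      congr 1
      linear_combination (x.1 * y.2 - x.2 * y.1) * u.mul_inv)
  exact ⟨A, by rw [hA', orderOf_injective c hci, hu]⟩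

/-- A common element of order `r s` in the torus of order `q^m + 1`. -/
theorem exists_sp_nonsplit (p : ℕ) [Fact p.Prime] [CharP F p] {m N : ℕ} (hm : 0 < m)
    (h : N ∣ Fintype.card F ^ m + 1) :
    ∃ A : Matrix.symplecticGroup (Fin m) F, orderOf A = N := by
  haveI : NeZero (2 * m) := ⟨by omega⟩
  let K := FiniteField.Extension F p (2 * m)
  have hK : finrank F K = 2 * m := FiniteField.finrank_extension F p (2 * m)
  obtain ⟨u, hu⟩ := PrimeGraphPSL.exists_unit_extension (F := F) p (k := 2 * m) (m := N)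
    (h.trans (by rw [pow_mul', ← one_pow 2, Nat.sq_sub_sq]; simp))
  obtain ⟨τ, hτd⟩ : ∃ τ : K →ₐ[F] K, τ = FiniteField.frobeniusAlgHom F K ^ m := ⟨_, rfl⟩
  have hap : ∀ x : K, τ x = x ^ Fintype.card F ^ m := fun x => by
    rw [hτd, AlgHom.coe_pow, FiniteField.coe_frobeniusAlgHom, pow_iterate]
  have hτ : ∀ x, τ (τ x) = x := fun x => by
    rw [hτd, ← AlgHom.mul_apply, ← pow_add, ← two_mul,
      orderOf_dvd_iff_pow_eq_one.1 ((FiniteField.orderOf_frobeniusAlgHom F K).trans hK).dvd,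
      AlgHom.one_apply]
  obtain ⟨x₀, hx₀⟩ : ∃ x, τ x ≠ x := by
    by_contra! h
    have : orderOf (FiniteField.frobeniusAlgHom F K) ∣ m := orderOf_dvd_of_pow_eq_one
      (AlgHom.ext fun x => by rw [← hτd, h]; rfl)
    rw [FiniteField.orderOf_frobeniusAlgHom, hK] at this
    have := Nat.le_of_dvd hm this
    omega
  have hε : x₀ - τ x₀ ≠ 0 := sub_ne_zero.2 (Ne.symm hx₀)
  let T := Algebra.trace F K
  have htr : ∀ z, T (τ z) = T z := fun z =>
    Algebra.trace_eq_of_algEquiv (AlgEquiv.ofBijective τ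
      ⟨fun a b h => by rw [← hτ a, h, hτ], fun a => ⟨τ a, hτ a⟩⟩) z
  let B : BilinForm F K := LinearMap.mk₂ F (fun x y => T (x₀ * (x * τ y - y * τ x)))
    (fun x x' y => by rw [← map_add T]; congr 1; rw [map_add τ]; ring)
    (fun c x y => by
      rw [← map_smul T]; congr 1
      rw [map_smul τ, smul_mul_assoc, mul_smul_comm, ← smul_sub, mul_smul_comm])
    (fun x y y' => by rw [← map_add T]; congr 1; rw [map_add τ]; ring)
    (fun c x y => by
      rw [← map_smul T]; congr 1
      rw [map_smul τ, smul_mul_assoc, mul_smul_comm, ← smul_sub, mul_smul_comm])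
  have hBe : ∀ x y, B x y = T ((x₀ - τ x₀) * (x * τ y)) := fun x y => by
    show T (x₀ * (x * τ y - y * τ x)) = _
    have h1 : T (τ x₀ * (x * τ y)) = T (x₀ * (y * τ x)) := by
      rw [← htr (x₀ * (y * τ x)), map_mul τ, map_mul τ, hτ, mul_comm (τ y) x]
    rw [mul_sub, sub_mul, map_sub, map_sub, h1]
  have hA : B.IsAlt := fun x => by
    show T (x₀ * (x * τ x - x * τ x)) = 0
    rw [sub_self, mul_zero, map_zero]
  have hB : ∀ x, (∀ y, B x y = 0) → x = 0 := fun x hx => by
    have h0 : (x₀ - τ x₀) * x = 0 := (traceForm_nondegenerate F K).1 _ fun z => by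
      have := hx (τ z)
      rw [hBe, hτ] at this
      simpa [mul_assoc] using this
    exact (mul_eq_zero.1 h0).resolve_left hε
  let c : Kˣ →* (K ≃ₗ[F] K) :=
    { toFun := fun w => LinearEquiv.ofLinearMap (LinearMap.mulLeft F (w : K))
        (LinearMap.mulLeft F ((w⁻¹ : Kˣ) : K))
        (LinearMap.ext fun x => w.mul_inv_cancel_left _)
        (LinearMap.ext fun x => w.inv_mul_cancel_left _)
      map_one' := LinearEquiv.ext fun x => one_mul x
      map_mul' := fun v w => LinearEquiv.ext fun x => by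
        show ((v * w : Kˣ) : K) * x = (v : K) * ((w : K) * x)
        rw [Units.val_mul, mul_assoc] }
  have hci : Function.Injective c := fun v w hvw => Units.ext (by
    have := LinearEquiv.congr_fun hvw 1
    simpa [c] using this)
  have huτ : (u : K) * τ u = 1 := by
    rw [hap, ← pow_succ', ← Units.val_pow_eq_pow_val, orderOf_dvd_iff_pow_eq_one.1 (hu.symm ▸ h),
      Units.val_one]
  obtain ⟨A, hA'⟩ := exists_sp_of_isometry (m := m) hA hB hK (c u) (fun x y => by
    rw [hBe, hBe]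
    show T ((x₀ - τ x₀) * ((u : K) * x * τ ((u : K) * y))) = _
    rw [map_mul τ]
    congr 1
    linear_combination ((x₀ - τ x₀) * (x * τ y)) * huτ)
  exact ⟨A, by rw [hA', orderOf_injective c hci, hu]⟩

end Models

section Projective

variable {F : Type*} [Field F] [Fintype F] {n : ℕ} (p : ℕ) [Fact p.Prime] [CharP F p]

theorem orderOf_mk (hn : 1 ≤ n) (A : Matrix.symplecticGroup (Fin n) F)
    (h : Odd (orderOf A) ∨ p = 2) : orderOf (QuotientGroup.mk A : Cfsg.PSp n F) = orderOf A := by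
  refine Nat.dvd_antisymm (orderOf_map_dvd (QuotientGroup.mk' _) A) ?_
  obtain ⟨j, hj⟩ : ∃ j, orderOf (QuotientGroup.mk A : Cfsg.PSp n F) = j := ⟨_, rfl⟩
  have h1 := pow_orderOf_eq_one (QuotientGroup.mk A : Cfsg.PSp n F)
  rw [hj, ← QuotientGroup.mk_pow, SympSpectra.mk_eq_one_iff hn] at h1
  rw [hj]
  refine orderOf_dvd_of_pow_eq_one (Subtype.ext ?_)
  rcases h1 with h1 | h1
  · rw [h1]; rfl
  · rw [h1]
    have hneg : (-1 : F) = 1 := by
      rcases h with ho | hp
      · have h2 : (((A ^ j) ^ orderOf A : Matrix.symplecticGroup (Fin n) F) :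
            Matrix (Fin n ⊕ Fin n) (Fin n ⊕ Fin n) F) = 1 := by
          rw [← pow_mul, mul_comm, pow_mul, pow_orderOf_eq_one, one_pow]; rfl
        rw [SubmonoidClass.coe_pow, h1, ho.neg_one_pow] at h2
        simpa using congrFun (congrFun h2 (Sum.inl ⟨0, hn⟩)) (Sum.inl ⟨0, hn⟩)
      · subst hp; exact CharTwo.neg_eq 1
    show (-1 : Matrix (Fin n ⊕ Fin n) (Fin n ⊕ Fin n) F) = 1
    rw [← one_smul F (1 : Matrix (Fin n ⊕ Fin n) (Fin n ⊕ Fin n) F), ← neg_smul, hneg]

theorem exists_prod {a b o₁ o₂ : ℕ} (ha : 1 ≤ a) (h : a + b ≤ n) (ho : o₁.Coprime o₂)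
    (hodd : Odd (o₁ * o₂) ∨ p = 2) (hx : ∃ x : Matrix.symplecticGroup (Fin a) F, orderOf x = o₁)
    (hy : ∃ y : Matrix.symplecticGroup (Fin b) F, orderOf y = o₂) :
    ∃ g : Cfsg.PSp n F, orderOf g = o₁ * o₂ := by
  obtain ⟨x, hx⟩ := hx
  obtain ⟨y, hy⟩ := hy
  obtain ⟨A, hA⟩ := exists_sp_lcm (rfl : a + b = _) x y
  obtain ⟨A', hA'⟩ := exists_sp_lcm (b := n - (a + b)) (m := n) (by omega) A
    (1 : Matrix.symplecticGroup (Fin (n - (a + b))) F)
  rw [orderOf_one, Nat.lcm_one_right, hA, hx, hy, ho.lcm_eq_mul] at hA'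
  exact ⟨_, (orderOf_mk p (by omega) A' (hA'.symm ▸ hodd)).trans hA'⟩

theorem exists_cauchy {r a : ℕ} (hr : r.Prime) (ha0 : 0 < a)
    (ha : orderOf ((Fintype.card F : ℕ) : ZMod r) ∣ 2 * a) :
    ∃ x : Matrix.symplecticGroup (Fin a) F, orderOf x = r :=
  haveI : Fact r.Prime := ⟨hr⟩
  exists_prime_orderOf_dvd_card' r (prime_dvd_card_sp ha0 le_rfl ha)

theorem eta_le {r : ℕ} (hr : r.Prime) (hrp : r ≠ p) (hrG : r ∣ Nat.card (Cfsg.PSp n F)) {η : ℕ}
    (hη : (Odd (orderOf ((Fintype.card F : ℕ) : ZMod r)) ∧ η = orderOf ((Fintype.card F : ℕ) : ZMod r)) ∨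
      (Even (orderOf ((Fintype.card F : ℕ) : ZMod r)) ∧ 2 * η = orderOf ((Fintype.card F : ℕ) : ZMod r))) :
    0 < η ∧ η ≤ n ∧ orderOf ((Fintype.card F : ℕ) : ZMod r) ∣ 2 * η := by
  have h1 : r ∣ Nat.card (Matrix.symplecticGroup (Fin n) F) :=
    hrG.trans (Subgroup.card_quotient_dvd_card _)
  rw [ClassicalSp.card_sp, Nat.card_eq_fintype_card] at h1
  rcases hr.dvd_mul.1 h1 with h1 | h1
  · exact absurd (hr.dvd_of_dvd_pow h1) (PrimeGraphPSL.not_dvd_card hr p hrp)
  obtain ⟨i, hi, hi'⟩ := (hr.prime.dvd_finsetProd_iff _).1 h1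
  have hd := (orderOf_zmod_dvd_iff Fintype.card_pos).2 hi'
  have hi := Finset.mem_range.1 hi
  have hne : orderOf ((Fintype.card F : ℕ) : ZMod r) ≠ 0 := fun h0 => by
    rw [h0, zero_dvd_iff] at hd; omega
  rcases hη with ⟨ho, rfl⟩ | ⟨-, he⟩
  · have := Nat.le_of_dvd (by omega) ((Nat.coprime_two_right.2 ho).dvd_of_dvd_mul_left hd)
    exact ⟨by omega, by omega, dvd_mul_left _ 2⟩
  · rw [← he] at hd ⊢
    have := Nat.le_of_dvd (by omega) (Nat.dvd_of_mul_dvd_mul_left two_pos hd)
    exact ⟨by omega, by omega, dvd_rfl⟩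

include p in
theorem exists_torus {r s : ℕ} (hr : r.Prime) (hr2 : r ≠ 2) (hs : s.Prime) (hs2 : s ≠ 2) (hrs : r ≠ s)
    {a b t : ℕ} (ha0 : 0 < a) (hb0 : 0 < b) (hbn : b ≤ n) (ht : Odd t)
    (hlt : orderOf ((Fintype.card F : ℕ) : ZMod s) = orderOf ((Fintype.card F : ℕ) : ZMod r) * t)
    (ha : (Odd (orderOf ((Fintype.card F : ℕ) : ZMod r)) ∧ a = orderOf ((Fintype.card F : ℕ) : ZMod r)) ∨
      (Even (orderOf ((Fintype.card F : ℕ) : ZMod r)) ∧ 2 * a = orderOf ((Fintype.card F : ℕ) : ZMod r)))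
    (hb : (Odd (orderOf ((Fintype.card F : ℕ) : ZMod s)) ∧ b = orderOf ((Fintype.card F : ℕ) : ZMod s)) ∨
      (Even (orderOf ((Fintype.card F : ℕ) : ZMod s)) ∧ 2 * b = orderOf ((Fintype.card F : ℕ) : ZMod s))) :
    ∃ g : Cfsg.PSp n F, orderOf g = r * s := by
  have hcop : r.Coprime s := (Nat.coprime_primes hr hs).2 hrs
  suffices h : ∃ x : Matrix.symplecticGroup (Fin b) F, orderOf x = r * s by
    have := exists_prod (F := F) (n := n) p (a := b) (b := 0) (o₁ := r * s) (o₂ := 1) hb0 (by omega)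
      (Nat.coprime_one_right _)
      (Or.inl (by rw [mul_one]; exact (hr.odd_of_ne_two hr2).mul (hs.odd_of_ne_two hs2))) h ⟨1, orderOf_one⟩
    rwa [mul_one] at this
  rcases ha with ⟨hak, rfl⟩ | ⟨-, hae⟩
  · rcases hb with ⟨-, rfl⟩ | ⟨hbe, -⟩
    · haveI : NeZero (orderOf ((Fintype.card F : ℕ) : ZMod s)) := ⟨by omega⟩
      exact exists_sp_split p (hcop.mul_dvd_of_dvd_of_dvd
        ((orderOf_zmod_dvd_iff Fintype.card_pos).1 (hlt ▸ dvd_mul_right _ t))
        ((orderOf_zmod_dvd_iff Fintype.card_pos).1 dvd_rfl))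
    · rw [hlt] at hbe
      exact absurd hbe (Nat.not_even_iff_odd.2 (hak.mul ht))
  · rcases hb with ⟨hbo, -⟩ | ⟨-, hbe⟩
    · rw [hlt, ← hae, mul_assoc] at hbo
      exact absurd hbo (Nat.not_odd_iff_even.2 (even_two_mul _))
    · have hbt : b = a * t := by
        have : 2 * b = 2 * (a * t) := by rw [hbe, hlt, ← hae, mul_assoc]
        omega
      have neg_one : ∀ (u : ℕ) (c : ℕ), u.Prime → 0 < c → 2 * c = orderOf ((Fintype.card F : ℕ) : ZMod u) →
          ((Fintype.card F : ℕ) : ZMod u) ^ c = -1 := by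
        intro u c hu hc0 hc
        haveI : Fact u.Prime := ⟨hu⟩
        have h1 : (((Fintype.card F : ℕ) : ZMod u) ^ c) ^ 2 = 1 := by
          rw [← pow_mul, mul_comm, hc, pow_orderOf_eq_one]
        rcases sq_eq_one_iff.1 h1 with h1 | h1
        · have := Nat.le_of_dvd hc0 (orderOf_dvd_of_pow_eq_one h1)
          omega
        · exact h1
      refine exists_sp_nonsplit p hb0 (hcop.mul_dvd_of_dvd_of_dvd ?_ ?_)
      · rw [← ZMod.natCast_eq_zero_iff, Nat.cast_add, Nat.cast_pow, Nat.cast_one, hbt, pow_mul,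
          neg_one r a hr ha0 hae, ht.neg_one_pow, neg_add_cancel]
      · rw [← ZMod.natCast_eq_zero_iff, Nat.cast_add, Nat.cast_pow, Nat.cast_one,
          neg_one s b hs hb0 hbe, neg_add_cancel]

/-- A symplectic matrix as an endomorphism. -/
noncomputable def toEnd : Matrix.symplecticGroup (Fin n) F →* Module.End F (Fin n ⊕ Fin n → F) where
  toFun A := Matrix.toLinAlgEquiv' (A : Matrix (Fin n ⊕ Fin n) (Fin n ⊕ Fin n) F)
  map_one' := map_one _
  map_mul' _ _ := map_mul _ _ _

theorem toEnd_injective : Function.Injective (toEnd (n := n) (F := F)) := fun _ _ h =>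
  Subtype.ext (Matrix.toLinAlgEquiv'.injective h)

theorem toEnd_isometry (A : Matrix.symplecticGroup (Fin n) F) (u v : Fin n ⊕ Fin n → F) :
    ClassicalSp.spBilin n F (toEnd A u) (toEnd A v) = ClassicalSp.spBilin n F u v := by
  simpa [toEnd, ClassicalSp.spBilin_apply] using (ClassicalSp.mem_iff_preserves A.1).1 A.2 u v

theorem toEnd_orderOf {A : Matrix.symplecticGroup (Fin n) F} {r : ℕ} (hr : r ≠ 1) (h : orderOf A = r) :
    toEnd A ^ r = 1 ∧ toEnd A ≠ 1 := by
  refine ⟨by rw [← map_pow, orderOf_dvd_iff_pow_eq_one.1 h.dvd, map_one], fun h1 => hr ?_⟩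
  rw [← h, toEnd_injective (h1.trans (map_one toEnd).symm), orderOf_one]

theorem rs_necessary {r s : ℕ} (hr : r.Prime) (hr2 : r ≠ 2) (hs : s.Prime) (hs2 : s ≠ 2)
    (hrp : r ≠ p) (hsp : s ≠ p) {x : Cfsg.PSp n F} (hx : orderOf x = r * s) {a b : ℕ}
    (ha0 : 0 < a) (hb0 : 0 < b) (hab : a ≤ b)
    (ha : (Odd (orderOf ((Fintype.card F : ℕ) : ZMod r)) ∧ a = orderOf ((Fintype.card F : ℕ) : ZMod r)) ∨
      (Even (orderOf ((Fintype.card F : ℕ) : ZMod r)) ∧ 2 * a = orderOf ((Fintype.card F : ℕ) : ZMod r)))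
    (hb : (Odd (orderOf ((Fintype.card F : ℕ) : ZMod s)) ∧ b = orderOf ((Fintype.card F : ℕ) : ZMod s)) ∨
      (Even (orderOf ((Fintype.card F : ℕ) : ZMod s)) ∧ 2 * b = orderOf ((Fintype.card F : ℕ) : ZMod s)))
    (hnot : ¬ ∃ t : ℕ, Odd t ∧
      orderOf ((Fintype.card F : ℕ) : ZMod s) = orderOf ((Fintype.card F : ℕ) : ZMod r) * t) :
    a + b ≤ n := by
  obtain ⟨g, rfl⟩ := QuotientGroup.mk_surjective x
  have hd : r * s ∣ orderOf g := hx ▸ orderOf_map_dvd (QuotientGroup.mk' _) g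
  have hy := toEnd_orderOf hr.ne_one (PrimeGraphPSL.pow_div_orderOf (dvd_of_mul_right_dvd hd))
  have hz := toEnd_orderOf hs.ne_one (PrimeGraphPSL.pow_div_orderOf (dvd_of_mul_left_dvd hd))
  exact rs_bound (p := p) ClassicalSp.spBilin_isAlt
    (fun w _ h => ClassicalSp.spBilin_nondeg.1 w fun v => h v trivial)
    ClassicalSp.finrank_space hr hr2 hs hs2 hrp hsp hy.1 hz.1 (toEnd_isometry _) (toEnd_isometry _)
    hy.2 hz.2 (((Commute.refl g).pow_pow _ _).map toEnd) ha0 hb0 hab ha hb hnot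

set_option maxHeartbeats 2000000 in
theorem rp_necessary (hn : 1 ≤ n) {r : ℕ} (hr : r.Prime) (hr2 : r ≠ 2) (hrp : r ≠ p)
    {x : Cfsg.PSp n F} (hx : orderOf x = r * p) {a : ℕ}
    (ha : (Odd (orderOf ((Fintype.card F : ℕ) : ZMod r)) ∧ a = orderOf ((Fintype.card F : ℕ) : ZMod r)) ∨
      (Even (orderOf ((Fintype.card F : ℕ) : ZMod r)) ∧ 2 * a = orderOf ((Fintype.card F : ℕ) : ZMod r))) :
    a < n := by
  have hp : p.Prime := Fact.out
  obtain ⟨g, rfl⟩ := QuotientGroup.mk_surjective x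
  have hd : r * p ∣ orderOf g := hx ▸ orderOf_map_dvd (QuotientGroup.mk' _) g
  have hy := toEnd_orderOf hr.ne_one (PrimeGraphPSL.pow_div_orderOf (dvd_of_mul_right_dvd hd))
  have hu := toEnd_orderOf hp.ne_one (PrimeGraphPSL.pow_div_orderOf (dvd_of_mul_left_dvd hd))
  haveI : Nontrivial (Fin n ⊕ Fin n → F) := by
    haveI : Nonempty (Fin n) := ⟨⟨0, hn⟩⟩
    infer_instance
  haveI : CharP (Module.End F (Fin n ⊕ Fin n → F)) p :=
    charP_of_injective_algebraMap (algebraMap F (Module.End F (Fin n ⊕ Fin n → F))).injective p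
  refine rp_bound (p := p) ClassicalSp.spBilin_isAlt
    (fun w _ h => ClassicalSp.spBilin_nondeg.1 w fun v => h v trivial)
    ClassicalSp.finrank_space hn hr hr2 hrp hy.1 (toEnd_isometry _) hy.2
    (N := toEnd (g ^ (orderOf g / p)) - 1) ⟨p, ?_⟩ (sub_ne_zero.2 hu.2)
    ((((Commute.refl g).pow_pow _ _).map toEnd).sub_right (Commute.one_right _)) ha
  rw [sub_pow_char_of_commute p (Commute.one_right _), hu.1, one_pow, sub_self]

end Projective

end Cfsg.Agent.PrimeGraphSp
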