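/-
Sylow subgroups of classical groups for large primes are homocyclic.
-/
import Cfsg.Agent.Lib.Classical.PrimeGraphSp
import Cfsg.Agent.Lib.Classical.SL
import Mathlib

set_option autoImplicit false

namespace Cfsg.Agent.HomocyclicSylow

open Module
open LinearMap (BilinForm)

section Arith

/-- The exponent of `r` in the value at `q` of the relevant cyclotomic polynomial. -/
noncomputable def expo (r q : ℕ) : ℕ :=
  padicValNat r ((Polynomial.cyclotomic (orderOf (q : ZMod r)) ℤ).eval (q : ℤ)).natAbs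

variable {r q : ℕ} [Fact r.Prime]

theorem orderOf_pos' (hrq : ¬ r ∣ q) : 0 < orderOf (q : ZMod r) := by
  have hu : (q : ZMod r) ≠ 0 := fun h => hrq ((ZMod.natCast_eq_zero_iff _ _).1 h)
  refine Nat.pos_of_ne_zero fun h0 => ?_
  have := ZMod.pow_card_sub_one_eq_one hu
  rw [← orderOf_dvd_iff_pow_eq_one, h0, zero_dvd_iff] at this
  have := (Fact.out : r.Prime).two_le
  omega

theorem expo_eq (hq : 2 ≤ q) (hrq : ¬ r ∣ q) :
    padicValNat r (q ^ orderOf (q : ZMod r) - 1) = expo r q := by
  obtain ⟨d, hd⟩ : ∃ d, orderOf (q : ZMod r) = d := ⟨_, rfl⟩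
  have hd0 : 0 < d := hd ▸ orderOf_pos' hrq
  have hr : r.Prime := Fact.out
  obtain ⟨R, hR⟩ : ∃ R, ∏ i ∈ d.properDivisors, (Polynomial.cyclotomic i ℤ).eval (q : ℤ) = R := ⟨_, rfl⟩
  have hprod : ((q ^ d - 1 : ℕ) : ℤ) = (Polynomial.cyclotomic d ℤ).eval (q : ℤ) * R := by
    rw [Nat.cast_sub (Nat.one_le_pow _ _ (by omega)), Nat.cast_pow, Nat.cast_one]
    have h := congrArg (Polynomial.eval (q : ℤ)) (Polynomial.prod_cyclotomic_eq_X_pow_sub_one hd0 ℤ)
    rw [Polynomial.eval_prod, ← Nat.cons_self_properDivisors hd0.ne', Finset.prod_cons, hR,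
      Polynomial.eval_sub, Polynomial.eval_pow, Polynomial.eval_X, Polynomial.eval_one] at h
    exact h.symm
  have hne : q ^ d - 1 ≠ 0 := by
    have := Nat.le_self_pow hd0.ne' q
    omega
  have hR' : ¬ r ∣ R.natAbs := by
    intro h
    rw [← Int.natCast_dvd, ← hR] at h
    obtain ⟨i, hi, hi'⟩ := ((Nat.prime_iff_prime_int.1 hr).dvd_finsetProd_iff _).1 h
    rw [Nat.mem_properDivisors] at hi
    have h2 : (r : ℤ) ∣ (q : ℤ) ^ i - 1 := hi'.trans (by
      have := Polynomial.eval_dvd (x := (q : ℤ)) (Polynomial.cyclotomic.dvd_X_pow_sub_one i ℤ)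
      simpa using this)
    have h3 : (q : ZMod r) ^ i = 1 := by
      have := (ZMod.intCast_zmod_eq_zero_iff_dvd _ _).2 h2
      push_cast at this
      exact sub_eq_zero.1 this
    have h4 := orderOf_dvd_of_pow_eq_one h3
    rw [hd] at h4
    rcases Nat.eq_zero_or_pos i with rfl | hi0
    · have := hi.1; rw [zero_dvd_iff] at this; omega
    · have := Nat.le_of_dvd hi0 h4; omega
  unfold expo
  rw [hd]
  have habs : q ^ d - 1 = ((Polynomial.cyclotomic d ℤ).eval (q : ℤ)).natAbs * R.natAbs := by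
    have := congrArg Int.natAbs hprod
    rwa [Int.natAbs_mul, Int.natAbs_natCast] at this
  have hne1 : ((Polynomial.cyclotomic d ℤ).eval (q : ℤ)).natAbs ≠ 0 := fun h => hne (by rw [habs, h, zero_mul])
  have hne2 : R.natAbs ≠ 0 := fun h => hne (by rw [habs, h, mul_zero])
  rw [habs, padicValNat.mul hne1 hne2, padicValNat.eq_zero_of_not_dvd hR', add_zero]

theorem val_pow_sub_one (hq : 2 ≤ q) (hrq : ¬ r ∣ q) {j : ℕ} (hj : ¬ r ∣ j) :
    padicValNat r (q ^ j - 1) = if orderOf (q : ZMod r) ∣ j then expo r q else 0 := by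
  obtain ⟨d, hd⟩ : ∃ d, orderOf (q : ZMod r) = d := ⟨_, rfl⟩
  split_ifs with h
  · rw [hd] at h
    obtain ⟨c, rfl⟩ := h
    have hd0 : 0 < d := hd ▸ orderOf_pos' hrq
    have hne : q ^ d - 1 ≠ 0 := by
      have := Nat.le_self_pow hd0.ne' q
      omega
    obtain ⟨x, hx⟩ : ∃ x, q ^ d - 1 = x := ⟨_, rfl⟩
    have hqd : q ^ d = x + 1 := by omega
    obtain ⟨S, hS⟩ : ∃ S, ∑ i ∈ Finset.range c, (x + 1) ^ i = S := ⟨_, rfl⟩
    have hsum : q ^ (d * c) - 1 = x * S := by
      have h1 := geom_sum_mul_add x c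
      rw [hS] at h1
      rw [pow_mul, hqd, ← h1, Nat.add_sub_cancel, mul_comm]
    have hS' : ¬ r ∣ S := by
      intro h
      refine hj (dvd_mul_of_dvd_right ((ZMod.natCast_eq_zero_iff c r).1 ?_) d)
      rw [← ZMod.natCast_eq_zero_iff, ← hS, Nat.cast_sum] at h
      have h1 : ((x + 1 : ℕ) : ZMod r) = 1 := by rw [← hqd, Nat.cast_pow, ← hd, pow_orderOf_eq_one]
      simpa [Nat.cast_pow, h1] using h
    have hS0 : S ≠ 0 := fun h => hS' (h ▸ dvd_zero r)
    rw [hsum, padicValNat.mul (hx ▸ hne) hS0, padicValNat.eq_zero_of_not_dvd hS', add_zero, ← hx, ← hd,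
      expo_eq hq hrq]
  · refine padicValNat.eq_zero_of_not_dvd fun hdvd => h ?_
    exact (PrimeGraphPSL.orderOf_zmod_dvd_iff (by omega)).2 hdvd

theorem dvd_pow_expo (hq : 2 ≤ q) (hrq : ¬ r ∣ q) : r ^ expo r q ∣ q ^ orderOf (q : ZMod r) - 1 := by
  rw [← expo_eq hq hrq]; exact pow_padicValNat_dvd

theorem val_prod_range {f : ℕ → ℕ} (n : ℕ) (hf : ∀ i, i < n → f i ≠ 0) :
    padicValNat r (∏ i ∈ Finset.range n, f i) = ∑ i ∈ Finset.range n, padicValNat r (f i) := by
  induction n with
  | zero => simp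
  | succ n ih =>
    rw [Finset.prod_range_succ, Finset.sum_range_succ, padicValNat.mul ?_ (hf n (by omega)),
      ih fun i hi => hf i (by omega)]
    exact Finset.prod_ne_zero_iff.2 fun i hi => hf i (by have := Finset.mem_range.1 hi; omega)

end Arith

section General

variable {r : ℕ} [Fact r.Prime]

/-- A Sylow subgroup is isomorphic to any subgroup of the right order. -/
theorem sylow_equiv {G M : Type*} [Group G] [Finite G] [Group M] (P : Sylow r G) (Φ : M →* G)
    (hΦ : Function.Injective Φ) (hM : Nat.card M = r ^ padicValNat r (Nat.card G)) :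
    Nonempty ((P : Subgroup G) ≃* M) := by
  let Q : Sylow r G := Sylow.ofCard Φ.range (by
    rw [← Nat.card_congr (MonoidHom.ofInjective hΦ).toEquiv, hM, Nat.factorization_def _ (Fact.out : r.Prime)])
  exact ⟨(Sylow.equiv P Q).trans (MonoidHom.ofInjective hΦ).symm⟩

theorem exists_cyclic_hom {G : Type*} [Group G] {x : G} {m : ℕ} [NeZero m] (hx : orderOf x = m) :
    ∃ f : Multiplicative (ZMod m) →* G, Function.Injective f := by
  have hc : Nat.card (Multiplicative (ZMod m)) = Nat.card (Subgroup.zpowers x) := by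
    rw [Nat.card_zpowers, hx]
    exact Nat.card_zmod m
  let e := mulEquivOfCyclicCardEq hc
  exact ⟨(Subgroup.zpowers x).subtype.comp e.toMonoidHom, Subtype.val_injective.comp e.injective⟩

theorem card_homocyclic (a e : ℕ) :
    Nat.card (Fin a → Multiplicative (ZMod (r ^ e))) = r ^ (a * e) := by
  rw [Nat.card_fun, Nat.card_fin, show Nat.card (Multiplicative (ZMod (r ^ e))) = r ^ e from Nat.card_zmod _,
    ← pow_mul, mul_comm]

end General

section GLin

variable {F : Type*} [Field F] [Fintype F] {r : ℕ} [Fact r.Prime]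

theorem val_gl {q : ℕ} (hq : Fintype.card F = q) {n : ℕ} (hrn : n < r) (hrq : ¬ r ∣ q) :
    padicValNat r (Nat.card (GL (Fin n) F)) = n / orderOf (q : ZMod r) * expo r q := by
  have hq2 : 2 ≤ q := hq ▸ Fintype.one_lt_card
  rw [Matrix.card_GL_field, hq, Fin.prod_univ_eq_prod_range (fun i => q ^ n - q ^ i) n]
  have e : ∀ i, i < n → q ^ n - q ^ i = q ^ i * (q ^ (n - i) - 1) := fun i hi => by
    rw [Nat.mul_sub, mul_one, ← pow_add, Nat.add_sub_cancel' hi.le]
  have hne : ∀ i, i < n → q ^ (n - i) - 1 ≠ 0 := fun i hi => by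
    have := Nat.le_self_pow (show n - i ≠ 0 by omega) q
    omega
  rw [val_prod_range n fun i hi => by
    rw [e i hi]; exact mul_ne_zero (pow_ne_zero _ (by omega)) (hne i hi)]
  have h1 : ∀ i ∈ Finset.range n, padicValNat r (q ^ n - q ^ i) =
      (fun j => if orderOf (q : ZMod r) ∣ j + 1 then expo r q else 0) (n - 1 - i) := by
    intro i hi
    rw [Finset.mem_range] at hi
    rw [e i hi, padicValNat.mul (pow_ne_zero _ (by omega)) (hne i hi),
      padicValNat.eq_zero_of_not_dvd (fun h => hrq ((Fact.out : r.Prime).dvd_of_dvd_pow h)), zero_add,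
      val_pow_sub_one hq2 hrq (fun h => by have := Nat.le_of_dvd (by omega) h; omega)]
    simp only [show n - 1 - i + 1 = n - i by omega]
  rw [Finset.sum_congr rfl h1,
    Finset.sum_range_reflect (fun j => if orderOf (q : ZMod r) ∣ j + 1 then expo r q else 0) n,
    ← Finset.sum_filter, Finset.sum_const, Nat.card_multiples, smul_eq_mul]

theorem exists_hom_gl (p : ℕ) [Fact p.Prime] [CharP F p] {d a n e : ℕ} [NeZero d] (hn : a * d ≤ n)
    (he : r ^ e ∣ Fintype.card F ^ d - 1) :
    ∃ Φ : (Fin a → Multiplicative (ZMod (r ^ e))) →* GL (Fin n) F, Function.Injective Φ := by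
  haveI : NeZero (r ^ e) := ⟨pow_ne_zero _ (Fact.out : r.Prime).ne_zero⟩
  obtain ⟨u, hu⟩ := PrimeGraphPSL.exists_unit_extension (F := F) p (k := d) he
  obtain ⟨f, hf⟩ := exists_cyclic_hom hu
  let K := FiniteField.Extension F p d
  have hA : finrank F ((Fin a → K) × (Fin (n - a * d) → F)) = n := by
    rw [finrank_prod, finrank_pi_fintype, finrank_fin_fun]
    simp only [FiniteField.finrank_extension, Finset.sum_const, Finset.card_univ, Fintype.card_fin,
      smul_eq_mul, K]
    omega
  let b := Module.finBasisOfFinrankEq F ((Fin a → K) × (Fin (n - a * d) → F)) hA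
  let pi : (Fin a → Multiplicative (ZMod (r ^ e))) →* (Fin a → Kˣ) :=
    { toFun := fun g i => f (g i)
      map_one' := funext fun _ => map_one f
      map_mul' := fun g h => funext fun i => map_mul f (g i) (h i) }
  have hpi : Function.Injective pi := fun g h hgh => funext fun i => hf (congrFun hgh i)
  refine ⟨(Spectra.unitsGL b).comp ((MulEquiv.prodUnits.symm.toMonoidHom).comp
    ((MonoidHom.inl _ _).comp (MulEquiv.piUnits.symm.toMonoidHom.comp pi))), ?_⟩
  exact fun x y h => hpi (MulEquiv.piUnits.symm.injective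
    (congrArg Prod.fst (MulEquiv.prodUnits.symm.injective (Spectra.unitsGL_injective b h))))

theorem gl_sylow {q : ℕ} (hq : Fintype.card F = q) (n : ℕ) (hrn : n < r) (hrq : ¬ r ∣ q)
    (P : Sylow r (GL (Fin n) F)) :
    Nonempty ((P : Subgroup (GL (Fin n) F)) ≃*
      (Fin (n / orderOf (q : ZMod r)) → Multiplicative (ZMod (r ^ expo r q)))) := by
  obtain ⟨p, _⟩ := CharP.exists F
  haveI : Fact p.Prime := ⟨CharP.char_is_prime F p⟩
  haveI : NeZero (orderOf (q : ZMod r)) := ⟨(orderOf_pos' hrq).ne'⟩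
  obtain ⟨Φ, hΦ⟩ := exists_hom_gl (F := F) (r := r) p (d := orderOf (q : ZMod r)) (a := n / orderOf (q : ZMod r))
    (n := n) (e := expo r q) (Nat.div_mul_le_self _ _)
    (by rw [hq]; exact dvd_pow_expo (hq ▸ Fintype.one_lt_card) hrq)
  exact sylow_equiv P Φ hΦ (by rw [card_homocyclic, val_gl hq hrn hrq])

theorem card_filter_two (d n : ℕ) :
    ((Finset.Icc 2 n).filter (fun i => d ∣ i)).card = if d = 1 then n - 1 else n / d := by
  split_ifs with h
  · subst h
    simp
  · rw [← Nat.card_multiples n d]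
    refine Finset.card_bij (fun i _ => i - 1) ?_ ?_ ?_
    · intro i hi
      simp only [Finset.mem_filter, Finset.mem_Icc, Finset.mem_range] at hi ⊢
      exact ⟨by omega, by rw [Nat.sub_add_cancel (by omega)]; exact hi.2⟩
    · intro i hi j hj hij
      simp only [Finset.mem_filter, Finset.mem_Icc] at hi hj
      omega
    · intro j hj
      simp only [Finset.mem_filter, Finset.mem_range] at hj
      refine ⟨j + 1, ?_, rfl⟩
      simp only [Finset.mem_filter, Finset.mem_Icc]
      refine ⟨⟨?_, by omega⟩, hj.2⟩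
      by_contra hc
      exact h (Nat.dvd_one.1 (by rw [show (1 : ℕ) = j + 1 by omega]; exact hj.2))

theorem sl_sylow {q : ℕ} (hq : Fintype.card F = q) (n : ℕ) (hrn : n < r) (hrq : ¬ r ∣ q)
    (P : Sylow r (Matrix.SpecialLinearGroup (Fin n) F)) :
    Nonempty ((P : Subgroup (Matrix.SpecialLinearGroup (Fin n) F)) ≃*
      (Fin ((Finset.Icc 2 n).filter (fun i => orderOf (q : ZMod r) ∣ i)).card →
        Multiplicative (ZMod (r ^ expo r q)))) := by
  have hr : r.Prime := Fact.out
  have hq2 : 2 ≤ q := hq ▸ Fintype.one_lt_card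
  haveI : NeZero (r ^ expo r q) := ⟨pow_ne_zero _ hr.ne_zero⟩
  obtain ⟨a, ha⟩ : ∃ a, ((Finset.Icc 2 n).filter (fun i => orderOf (q : ZMod r) ∣ i)).card = a := ⟨_, rfl⟩
  rw [ha]
  rw [card_filter_two] at ha
  rcases n with _ | m
  · obtain rfl : a = 0 := by rw [← ha]; split_ifs <;> simp
    exact sylow_equiv P 1 (fun x y _ => Subsingleton.elim x y) (by simp)
  have hval : padicValNat r (q - 1) + padicValNat r (Nat.card (Matrix.SpecialLinearGroup (Fin (m + 1)) F)) =
      (m + 1) / orderOf (q : ZMod r) * expo r q := by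
    rw [← val_gl hq hrn hrq, ← ClassicalSL.card_sl_mul (ι := Fin (m + 1)) (F := F), Nat.card_eq_fintype_card (α := F),
      hq, padicValNat.mul (by omega) Nat.card_pos.ne']
  have hq1 := val_pow_sub_one (r := r) hq2 hrq (j := 1) (fun h => hr.not_dvd_one h)
  rw [pow_one] at hq1
  obtain ⟨d, hd⟩ : ∃ d, orderOf (q : ZMod r) = d := ⟨_, rfl⟩
  rw [hd] at ha hq1 hval
  by_cases h1 : d = 1
  · -- the diagonal torus
    subst h1
    rw [if_pos rfl] at ha
    rw [if_pos (dvd_refl 1)] at hq1
    obtain rfl : a = m := by omega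
    rw [hq1, Nat.div_one, Nat.succ_mul] at hval
    have hexp : r ^ expo r q ∣ Fintype.card F - 1 := by
      have := dvd_pow_expo hq2 hrq
      rw [hq]
      rwa [hd, pow_one] at this
    obtain ⟨u, hu⟩ := PrimeGraphPSL.exists_unit_field hexp
    obtain ⟨f, hf⟩ := exists_cyclic_hom hu
    let D : (Fin a → Multiplicative (ZMod (r ^ expo r q))) →* Matrix.SpecialLinearGroup (Fin (a + 1)) F :=
      { toFun := fun g => ⟨Matrix.diagonal
          (Fin.cons (((∏ i, f (g i))⁻¹ : Fˣ) : F) (fun i => ((f (g i) : Fˣ) : F))), by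
          rw [Matrix.det_diagonal, Fin.prod_univ_succ]
          simp only [Fin.cons_zero, Fin.cons_succ]
          rw [← Units.coe_prod, ← Units.val_mul, inv_mul_cancel, Units.val_one]⟩
        map_one' := by
          refine Subtype.ext ?_
          show Matrix.diagonal _ = (1 : Matrix (Fin (a + 1)) (Fin (a + 1)) F)
          rw [← Matrix.diagonal_one]
          congr 1
          funext i
          cases i using Fin.cases <;> simp
        map_mul' := fun g h => by
          refine Subtype.ext ?_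
          show Matrix.diagonal _ = Matrix.diagonal _ * Matrix.diagonal _
          rw [Matrix.diagonal_mul_diagonal]
          congr 1
          funext i
          cases i using Fin.cases with
          | zero => simp [Finset.prod_mul_distrib, mul_comm]
          | succ i => simp }
    have hD : Function.Injective D := fun g h hgh => funext fun i => hf (Units.ext (by
      have h1 : Matrix.diagonal (Fin.cons (((∏ i, f (g i))⁻¹ : Fˣ) : F) (fun i => ((f (g i) : Fˣ) : F))) =
          Matrix.diagonal (Fin.cons (((∏ i, f (h i))⁻¹ : Fˣ) : F) (fun i => ((f (h i) : Fˣ) : F))) :=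
        congrArg Subtype.val hgh
      have h2 := congrFun (Matrix.diagonal_injective h1) i.succ
      simpa using h2))
    exact sylow_equiv P D hD (by rw [card_homocyclic]; congr 1; omega)
  · rw [if_neg h1] at ha
    rw [if_neg fun h => h1 (Nat.dvd_one.1 h)] at hq1
    rw [hq1, zero_add] at hval
    obtain ⟨p, _⟩ := CharP.exists F
    haveI : Fact p.Prime := ⟨CharP.char_is_prime F p⟩
    haveI : NeZero d := ⟨(hd ▸ orderOf_pos' hrq).ne'⟩
    obtain ⟨Φ, hΦ⟩ := exists_hom_gl (F := F) (r := r) p (d := d) (a := a) (n := m + 1) (e := expo r q)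
      (ha ▸ Nat.div_mul_le_self _ _) (by rw [hq, ← hd]; exact dvd_pow_expo hq2 hrq)
    have hdet : ∀ g, (Φ g : Matrix (Fin (m + 1)) (Fin (m + 1)) F).det = 1 := by
      intro g
      have h2 : (Φ g).1.det ^ r ^ expo r q = 1 := by
        rw [← Matrix.det_pow, ← Units.val_pow_eq_pow_val, ← map_pow,
          show g ^ r ^ expo r q = 1 from funext fun i => by
            show g i ^ r ^ expo r q = 1
            exact orderOf_dvd_iff_pow_eq_one.1 ((orderOf_dvd_natCard (g i)).trans (Nat.card_zmod _).dvd),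
          map_one, Units.val_one, Matrix.det_one]
      have h0 : (Φ g).1.det ≠ 0 := fun h => by simp [h, zero_pow (pow_ne_zero _ hr.ne_zero)] at h2
      have hcop : Nat.gcd (r ^ expo r q) (Fintype.card F - 1) = 1 :=
        Nat.Coprime.pow_left _ (hr.coprime_iff_not_dvd.2 fun h => by
          refine h1 (Nat.dvd_one.1 (hd ▸ (PrimeGraphPSL.orderOf_zmod_dvd_iff (by omega)).2 ?_))
          rwa [pow_one, ← hq])
      have := pow_gcd_eq_one.2 ⟨h2, FiniteField.pow_card_sub_one_eq_one _ h0⟩
      rwa [hcop, pow_one] at this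
    let D : (Fin a → Multiplicative (ZMod (r ^ expo r q))) →* Matrix.SpecialLinearGroup (Fin (m + 1)) F :=
      { toFun := fun g => ⟨(Φ g).1, hdet g⟩
        map_one' := Subtype.ext (congrArg Units.val (map_one Φ))
        map_mul' := fun g h => Subtype.ext (congrArg Units.val (map_mul Φ g h)) }
    have hD : Function.Injective D := fun g h hgh => hΦ (Units.ext (congrArg Subtype.val hgh :))
    exact sylow_equiv P D hD (by rw [card_homocyclic, hval, ha])

end GLin

section Sp

variable {F : Type*} [Field F] [Fintype F] {r : ℕ} [Fact r.Prime]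

/-- An orthogonal sum of equal blocks. -/
theorem exists_hom_sp {M : Type*} [Group M] {η a n : ℕ} (hn : a * η ≤ n)
    (f : M →* Matrix.symplecticGroup (Fin η) F) (hf : Function.Injective f) :
    ∃ Φ : (Fin a → M) →* Matrix.symplecticGroup (Fin n) F, Function.Injective Φ := by
  let U := Fin η ⊕ Fin η → F
  let R := Fin (n - a * η) ⊕ Fin (n - a * η) → F
  let B0 := ClassicalSp.spBilin η F
  let B1 := ClassicalSp.spBilin (n - a * η) F
  let B : BilinForm F ((Fin a → U) × R) :=
    (∑ i : Fin a, B0.comp ((LinearMap.proj i).comp (LinearMap.fst F _ _))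
      ((LinearMap.proj i).comp (LinearMap.fst F _ _))) +
    B1.comp (LinearMap.snd F _ _) (LinearMap.snd F _ _)
  have hBe : ∀ u v, B u v = (∑ i, B0 (u.1 i) (v.1 i)) + B1 u.2 v.2 := fun u v => by
    simp [B, LinearMap.sum_apply]
  have hA : B.IsAlt := fun u => by
    rw [hBe]
    simp [B0, B1, ClassicalSp.spBilin_isAlt _]
  have hB : ∀ u, (∀ v, B u v = 0) → u = 0 := fun u hu => by
    refine Prod.ext (funext fun i => ClassicalSp.spBilin_nondeg.1 _ fun v => ?_)
      (ClassicalSp.spBilin_nondeg.1 _ fun v => ?_)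
    · have := hu (Pi.single i v, 0)
      rw [hBe, Finset.sum_eq_single i (fun j _ hj => by simp [hj]) (by simp)] at this
      simpa using this
    · have := hu (0, v)
      rw [hBe] at this
      simpa using this
  obtain ⟨ψ, hψ⟩ := SympStab.exists_isometry (m := n) hA hB (by
    rw [finrank_prod, finrank_pi_fintype]
    simp only [U, R, ClassicalSp.finrank_space, Finset.sum_const, Finset.card_univ, Fintype.card_fin,
      smul_eq_mul]
    rw [mul_left_comm]
    omega)
  let L : (Fin a → M) →* ((Fin n ⊕ Fin n → F) ≃ₗ[F] (Fin n ⊕ Fin n → F)) :=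
    { toFun := fun g => (ψ.trans ((LinearEquiv.piCongrRight fun i => ClassicalSp.toEquiv (f (g i))).prodCongr
        (LinearEquiv.refl F R))).trans ψ.symm
      map_one' := LinearEquiv.ext fun x => by
        show ψ.symm (((fun i => ClassicalSp.toEquiv (f 1) ((ψ x).1 i)) : Fin a → U), (ψ x).2) = x
        simp only [map_one]
        exact ψ.symm_apply_apply x
      map_mul' := fun g h => LinearEquiv.ext fun x => by
        show ψ.symm (((fun i => ClassicalSp.toEquiv (f (g i * h i)) ((ψ x).1 i)) : Fin a → U), (ψ x).2) =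
          ψ.symm (((fun i => ClassicalSp.toEquiv (f (g i))
            ((ψ (ψ.symm (((fun i => ClassicalSp.toEquiv (f (h i)) ((ψ x).1 i)) : Fin a → U), (ψ x).2))).1 i)) :
              Fin a → U),
            (ψ (ψ.symm (((fun i => ClassicalSp.toEquiv (f (h i)) ((ψ x).1 i)) : Fin a → U), (ψ x).2))).2)
        simp [Matrix.mulVec_mulVec] }
  have hLψ : ∀ g x, ψ (L g x) =
      (((fun i => ClassicalSp.toEquiv (f (g i)) ((ψ x).1 i)) : Fin a → U), (ψ x).2) := fun g x =>
    ψ.apply_symm_apply _
  have hLmem : ∀ g, L g ∈ AltForm.isoGroup (ClassicalSp.spBilin n F) := fun g u v => by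
    rw [← hψ, ← hψ, hLψ, hLψ, hBe, hBe]
    exact congrArg (· + _) (Finset.sum_congr rfl fun i _ => ClassicalSp.toEquiv_mem (f (g i)) _ _)
  refine ⟨(ClassicalSp.spEquiv (m := n) (F := F)).symm.toMonoidHom.comp (L.codRestrict _ hLmem), ?_⟩
  refine ClassicalSp.spEquiv.symm.injective.comp (fun g h hgh => ?_)
  have hgh' : L g = L h := congrArg Subtype.val hgh
  refine funext fun i => hf (ClassicalSp.toEquiv_injective (LinearEquiv.ext fun u => ?_))
  have := congrArg (fun w => (ψ w).1 i) (LinearEquiv.congr_fun hgh' (ψ.symm (Pi.single i u, 0)))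
  simpa [hLψ] using this

theorem val_sp {q : ℕ} (hq : Fintype.card F = q) {n : ℕ} (hr2 : r ≠ 2) (hrn : n < r) (hrq : ¬ r ∣ q) :
    padicValNat r (Nat.card (Matrix.symplecticGroup (Fin n) F)) =
      ((Finset.range n).filter (fun i => orderOf (q : ZMod r) ∣ 2 * (i + 1))).card * expo r q := by
  have hr : r.Prime := Fact.out
  have hq2 : 2 ≤ q := hq ▸ Fintype.one_lt_card
  have hne : ∀ i, i < n → q ^ (2 * (i + 1)) - 1 ≠ 0 := fun i _ => by
    have := Nat.le_self_pow (show 2 * (i + 1) ≠ 0 by omega) q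
    omega
  rw [ClassicalSp.card_sp, Nat.card_eq_fintype_card, hq, padicValNat.mul (pow_ne_zero _ (by omega))
    (Finset.prod_ne_zero_iff.2 fun i hi => hne i (Finset.mem_range.1 hi)),
    padicValNat.eq_zero_of_not_dvd (fun h => hrq (hr.dvd_of_dvd_pow h)), zero_add, val_prod_range n hne]
  have h1 : ∀ i ∈ Finset.range n, padicValNat r (q ^ (2 * (i + 1)) - 1) =
      if orderOf (q : ZMod r) ∣ 2 * (i + 1) then expo r q else 0 := fun i hi => by
    refine val_pow_sub_one hq2 hrq fun h => ?_
    have hi := Finset.mem_range.1 hi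
    rcases hr.dvd_mul.1 h with h | h
    · exact hr2 ((Nat.prime_dvd_prime_iff_eq hr Nat.prime_two).1 h)
    · have := Nat.le_of_dvd (by omega) h; omega
  rw [Finset.sum_congr rfl h1, ← Finset.sum_filter, Finset.sum_const, smul_eq_mul]

theorem card_filter_range (d n : ℕ) :
    ((Finset.Icc 1 n).filter (fun i => d ∣ 2 * i)).card =
      ((Finset.range n).filter (fun i => d ∣ 2 * (i + 1))).card := by
  refine Finset.card_bij (fun i _ => i - 1) ?_ ?_ ?_
  · intro i hi
    simp only [Finset.mem_filter, Finset.mem_Icc, Finset.mem_range] at hi ⊢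
    exact ⟨by omega, by rw [Nat.sub_add_cancel (by omega)]; exact hi.2⟩
  · intro i hi j hj hij
    simp only [Finset.mem_filter, Finset.mem_Icc] at hi hj
    omega
  · intro j hj
    simp only [Finset.mem_filter, Finset.mem_range] at hj
    exact ⟨j + 1, by simp only [Finset.mem_filter, Finset.mem_Icc]; exact ⟨by omega, hj.2⟩, rfl⟩

theorem sp_sylow {q : ℕ} (hq : Fintype.card F = q) (n : ℕ) (hr2 : r ≠ 2) (hrn : n < r) (hrq : ¬ r ∣ q)
    (P : Sylow r (Matrix.symplecticGroup (Fin n) F)) :
    Nonempty ((P : Subgroup (Matrix.symplecticGroup (Fin n) F)) ≃*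
      (Fin ((Finset.Icc 1 n).filter (fun i => orderOf (q : ZMod r) ∣ 2 * i)).card →
        Multiplicative (ZMod (r ^ expo r q)))) := by
  have hr : r.Prime := Fact.out
  have hq2 : 2 ≤ q := hq ▸ Fintype.one_lt_card
  haveI : NeZero (r ^ expo r q) := ⟨pow_ne_zero _ hr.ne_zero⟩
  obtain ⟨p, _⟩ := CharP.exists F
  haveI : Fact p.Prime := ⟨CharP.char_is_prime F p⟩
  obtain ⟨d, hd⟩ : ∃ d, orderOf (q : ZMod r) = d := ⟨_, rfl⟩
  have hd0 : 0 < d := hd ▸ orderOf_pos' hrq
  obtain ⟨η, hη0, hcount, x, hx⟩ : ∃ η, 0 < η ∧ (∀ i, d ∣ 2 * i ↔ η ∣ i) ∧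
      ∃ x : Matrix.symplecticGroup (Fin η) F, orderOf x = r ^ expo r q := by
    rcases Nat.even_or_odd d with ⟨η, hη⟩ | hodd
    · refine ⟨η, by omega, fun i => ?_, ?_⟩
      · rw [hη, ← two_mul]
        exact ⟨fun h => Nat.dvd_of_mul_dvd_mul_left two_pos h, fun h => mul_dvd_mul_left 2 h⟩
      · refine PrimeGraphSp.exists_sp_nonsplit p (by omega) ?_
        have hdvd : r ^ expo r q ∣ (q ^ η - 1) * (q ^ η + 1) := by
          have h := dvd_pow_expo (r := r) hq2 hrq
          rwa [hd, hη, pow_add, show q ^ η * q ^ η - 1 = (q ^ η - 1) * (q ^ η + 1) by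
            rw [mul_comm (q ^ η - 1), ← Nat.sq_sub_sq, sq, one_pow]] at h
        have hcop : (r ^ expo r q).Coprime (q ^ η - 1) := Nat.Coprime.pow_left _
          (hr.coprime_iff_not_dvd.2 fun h => by
            have := Nat.le_of_dvd (by omega) (hd ▸ (PrimeGraphPSL.orderOf_zmod_dvd_iff (by omega)).2 h)
            omega)
        rw [hq]
        exact hcop.dvd_of_dvd_mul_left hdvd
    · haveI : NeZero d := ⟨hd0.ne'⟩
      refine ⟨d, hd0, fun i => ⟨fun h => ?_, fun h => h.mul_left 2⟩,
        PrimeGraphSp.exists_sp_split p (by rw [hq, ← hd]; exact dvd_pow_expo hq2 hrq)⟩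
      exact (Nat.coprime_two_right.2 hodd).dvd_of_dvd_mul_left h
  obtain ⟨f, hf⟩ := exists_cyclic_hom hx
  have hcard : ((Finset.range n).filter (fun i => orderOf (q : ZMod r) ∣ 2 * (i + 1))).card = n / η := by
    rw [← Nat.card_multiples n η, hd]
    congr 1
    exact Finset.filter_congr fun i _ => hcount (i + 1)
  rw [card_filter_range, hcard]
  obtain ⟨Φ, hΦ⟩ := exists_hom_sp (a := n / η) (n := n) (Nat.div_mul_le_self _ _) f hf
  exact sylow_equiv P Φ hΦ (by rw [card_homocyclic, val_sp hq hr2 hrn hrq, hcard])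

end Sp

end Cfsg.Agent.HomocyclicSylow
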