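/-
Totally isotropic subspaces of alternating forms: counts and stabilisers.
-/
import Cfsg.Agent.Lib.Classical.AlternatingWitt
import Mathlib.LinearAlgebra.Matrix.GeneralLinearGroup.Card

set_option autoImplicit false

universe u v

namespace Cfsg.Agent.AltForm

open LinearMap (BilinForm)
open Module

variable {F : Type u} [Field F] {V : Type v} [AddCommGroup V] [Module F V] {B : BilinForm F V}

/-- Ordered bases of totally isotropic k-subspaces. -/
def IsoTuple (B : BilinForm F V) (k : ℕ) : Type _ :=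
  {s : Fin k → V // LinearIndependent F s ∧ ∀ i j, B (s i) (s j) = 0}

/-- Totally isotropic k-subspaces. -/
def IsoSub (B : BilinForm F V) (k : ℕ) : Type _ :=
  {W : Submodule F V // finrank F W = k ∧ ∀ u ∈ W, ∀ v ∈ W, B u v = 0}

/-- The order of Sp_2j. -/
def spOrder (q j : ℕ) : ℕ := q ^ (j ^ 2) * ∏ i ∈ Finset.range j, (q ^ (2 * (i + 1)) - 1)

variable [Finite F] [FiniteDimensional F V]

theorem card_iso_fibre (hA : B.IsAlt) {k : ℕ} {x y : V} (h : B x y = 1) :
    Nat.card {s : Fin k → V // LinearIndependent F (Fin.cons x s : Fin (k + 1) → V) ∧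
      (∀ i, B (s i) x = 0) ∧ ∀ i j, B (s i) (s j) = 0} =
    Nat.card (IsoTuple (B.restrict (pairPerp B x y)) k) * Nat.card F ^ k := by
  classical
  set W := pairPerp B x y with hW
  have hwx : ∀ w : W, B (w : V) x = 0 := fun w => (pairPerp_left hA w).1
  have hwy : ∀ w : W, B (w : V) y = 0 := fun w => (pairPerp_left hA w).2
  have hxw : ∀ w : W, B x (w : V) = 0 := fun w => (mem_pairPerp.1 w.2).1
  have hli : ∀ (t : Fin k → W) (c : Fin k → F),
      LinearIndependent F (Fin.cons x fun i => (t i : V) + c i • x : Fin (k + 1) → V) ↔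
        LinearIndependent F t := by
    intro t c
    rw [Fintype.linearIndependent_iff, Fintype.linearIndependent_iff]
    have hsum : ∀ g : Fin (k + 1) → F,
        ∑ i, g i • (Fin.cons x (fun i => (t i : V) + c i • x) : Fin (k + 1) → V) i =
          (g 0 + ∑ i, g i.succ * c i) • x + ((∑ i, g i.succ • t i : W) : V) := fun g => by
      simp [Fin.sum_univ_succ, smul_add, add_smul, Finset.sum_add_distrib, Finset.sum_smul, smul_smul]
      abel
    constructor
    · intro H g hg i
      have := H (Fin.cons (-∑ i, g i * c i) g) (by rw [hsum]; simp [hg]) i.succ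
      simpa using this
    · intro H g hg
      rw [hsum] at hg
      have h0 : g 0 + ∑ i, g i.succ * c i = 0 := by
        have := congrArg (fun v => B v y) hg
        simpa [h, hwy] using this
      rw [h0, zero_smul, zero_add] at hg
      have h1 := H (fun i => g i.succ) (Subtype.ext hg)
      intro i
      induction i using Fin.cases with
      | zero => simpa [h1] using h0
      | succ i => exact h1 i
  have hmem : ∀ s : V, B s x = 0 → s - B s y • x ∈ W := fun s hs => by
    have hxs : B x s = 0 := by rw [swap hA, hs, neg_zero]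
    refine mem_pairPerp.2 ⟨by simp [hA.self_eq_zero, hxs], ?_⟩
    simp [swap hA x y, h, swap hA s y]
  have hform : ∀ (a b : W) (c c' : F), B ((a : V) + c • x) ((b : V) + c' • x) = B (a : V) b :=
    fun a b c c' => by simp [hA.self_eq_zero, hwx, hxw]
  have hpow : Nat.card (Fin k → F) = Nat.card F ^ k := by rw [Nat.card_fun, Nat.card_fin]
  rw [← hpow, ← Nat.card_prod]
  refine Nat.card_congr
    { toFun := fun s => (⟨fun i => ⟨_, hmem (s.1 i) (s.2.2.1 i)⟩, ?_, fun i j => ?_⟩, fun i => B (s.1 i) y)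
      invFun := fun p => ⟨fun i => (p.1.1 i : V) + p.2 i • x, (hli _ _).2 p.1.2.1,
        fun i => by simp [hA.self_eq_zero, hwx], fun i j => (hform _ _ _ _).trans (p.1.2.2 i j)⟩
      left_inv := fun s => Subtype.ext (funext fun i => by simp)
      right_inv := fun p => ?_ }
  · refine (hli _ (fun i => B (s.1 i) y)).1 ?_
    simpa using s.2.1
  · show B (s.1 i - B (s.1 i) y • x) (s.1 j - B (s.1 j) y • x) = 0
    rw [← hform ⟨_, hmem _ (s.2.2.1 i)⟩ ⟨_, hmem _ (s.2.2.1 j)⟩ (B (s.1 i) y) (B (s.1 j) y)]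
    simpa using s.2.2.2 i j
  · have hc : ∀ i, B ((p.1.1 i : V) + p.2 i • x) y = p.2 i := fun i => by simp [h, hwy]
    refine Prod.ext (Subtype.ext (funext fun i => Subtype.ext ?_)) (funext hc)
    simp [hwy, h]

theorem card_isoTuple_succ (hA : B.IsAlt) (k : ℕ) (N : ℕ)
    (hfib : ∀ x y : V, B x y = 1 → Nat.card (IsoTuple (B.restrict (pairPerp B x y)) k) = N)
    (hB : B.Nondegenerate) :
    Nat.card (IsoTuple B (k + 1)) = Nat.card {x : V // x ≠ 0} * (N * Nat.card F ^ k) := by
  classical
  haveI : Finite V := Module.finite_of_finite F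
  haveI := Fintype.ofFinite {x : V // x ≠ 0}
  let e : IsoTuple B (k + 1) ≃ Σ x : {x : V // x ≠ 0},
      {s : Fin k → V // LinearIndependent F (Fin.cons x.1 s : Fin (k + 1) → V) ∧
        (∀ i, B (s i) x.1 = 0) ∧ ∀ i j, B (s i) (s j) = 0} :=
    { toFun := fun s => ⟨⟨s.1 0, s.2.1.ne_zero 0⟩, ⟨fun i => s.1 i.succ,
        (Fin.cons_self_tail s.1).symm ▸ s.2.1, fun i => s.2.2 _ _, fun i j => s.2.2 _ _⟩⟩
      invFun := fun p => ⟨Fin.cons p.1.1 p.2.1, p.2.2.1, fun i j => by
        induction i using Fin.cases <;> induction j using Fin.cases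
        · simp [hA.self_eq_zero]
        · rename_i j; simpa [swap hA (p.2.1 j)] using p.2.2.2.1 j
        · rename_i i; simpa using p.2.2.2.1 i
        · rename_i i j; simpa using p.2.2.2.2 i j⟩
      left_inv := fun s => Subtype.ext (Fin.cons_self_tail s.1)
      right_inv := fun p => by rcases p with ⟨⟨x, hx⟩, ⟨s, hs⟩⟩; rfl }
  have hN : ∀ x : {x : V // x ≠ 0}, Nat.card {s : Fin k → V //
      LinearIndependent F (Fin.cons x.1 s : Fin (k + 1) → V) ∧
        (∀ i, B (s i) x.1 = 0) ∧ ∀ i j, B (s i) (s j) = 0} = N * Nat.card F ^ k := fun x => by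
    obtain ⟨y, hy⟩ := exists_eq_one hB x.2
    rw [card_iso_fibre hA hy, hfib x.1 y hy]
  rw [Nat.card_congr e, Nat.card_sigma, Finset.sum_congr rfl fun x _ => hN x, Finset.sum_const,
    Finset.card_univ, ← Nat.card_eq_fintype_card, smul_eq_mul]

omit [Finite F] [FiniteDimensional F V] in
theorem card_isoTuple_zero : Nat.card (IsoTuple B 0) = 1 :=
  Nat.card_eq_one_iff_exists.2 ⟨⟨Fin.elim0, linearIndependent_empty_type, fun i => i.elim0⟩,
    fun _ => Subtype.ext (Subsingleton.elim _ _)⟩

omit [Finite F] [FiniteDimensional F V] in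
theorem card_ne_zero_vec [Finite F] [FiniteDimensional F V] {n : ℕ} (hn : finrank F V = n) :
    Nat.card {x : V // x ≠ 0} = Nat.card F ^ n - 1 := by
  classical
  haveI : Finite V := Module.finite_of_finite F
  haveI := Fintype.ofFinite V
  rw [Nat.card_eq_fintype_card, Fintype.card_subtype_compl, Fintype.card_subtype_eq,
    ← Nat.card_eq_fintype_card, Module.natCard_eq_pow_finrank (K := F) (V := V), hn]

theorem card_isoTuple_mul : ∀ (k : ℕ) {V : Type v} [AddCommGroup V] [Module F V] [FiniteDimensional F V]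
    {B : BilinForm F V}, B.IsAlt → B.Nondegenerate → ∀ {m : ℕ}, finrank F V = 2 * m → k ≤ m →
    Nat.card (IsoTuple B k) * (Nat.card F ^ (k * (k + 1) / 2 + 2 * k * (m - k)) *
      spOrder (Nat.card F) (m - k)) = spOrder (Nat.card F) m := by
  intro k
  induction k with
  | zero =>
    intro V _ _ _ B _ _ m _ _
    simp [card_isoTuple_zero]
  | succ k ih =>
    intro V _ _ _ B hA hB m hm hk
    obtain ⟨j, rfl⟩ : ∃ j, m = j + 1 := ⟨m - 1, by omega⟩
    set q := Nat.card F
    have hq : 1 ≤ q := Nat.card_pos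
    have hpos : 0 < q ^ (k * (k + 1) / 2 + 2 * k * (j - k)) * spOrder q (j - k) := by
      refine Nat.mul_pos (pow_pos hq _) (Nat.mul_pos (pow_pos hq _) (Finset.prod_pos fun i _ => ?_))
      have : 1 < q := Finite.one_lt_card
      have := Nat.one_lt_pow (show 2 * (i + 1) ≠ 0 by omega) this
      omega
    set N := spOrder q j / (q ^ (k * (k + 1) / 2 + 2 * k * (j - k)) * spOrder q (j - k)) with hN
    have hfib : ∀ x y : V, B x y = 1 → Nat.card (IsoTuple (B.restrict (pairPerp B x y)) k) = N := by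
      intro x y hxy
      have hf := finrank_pairPerp hA hxy
      have h := ih (restrict_isAlt hA (pairPerp B x y)) (restrict_nondeg hA hB hxy) (m := j) (by omega) (by omega)
      rw [hN, ← h, Nat.mul_div_cancel _ hpos]
    have hNmul : N * (q ^ (k * (k + 1) / 2 + 2 * k * (j - k)) * spOrder q (j - k)) = spOrder q j := by
      haveI : Nontrivial V := Module.nontrivial_of_finrank_pos (R := F) (by omega)
      obtain ⟨x, hx⟩ := exists_ne (0 : V)
      obtain ⟨y, hxy⟩ := exists_eq_one hB hx
      rw [← hfib x y hxy]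
      have hf := finrank_pairPerp hA hxy
      exact ih (restrict_isAlt hA (pairPerp B x y)) (restrict_nondeg hA hB hxy) (m := j) (by omega) (by omega)
    rw [card_isoTuple_succ hA k N hfib hB, card_ne_zero_vec hm]
    have he : (k + 1) * (k + 1 + 1) / 2 = k * (k + 1) / 2 + (k + 1) := by
      rw [show (k + 1) * (k + 1 + 1) = k * (k + 1) + 2 * (k + 1) by ring,
        Nat.add_mul_div_left _ _ (by norm_num : 0 < 2)]
    have hO : spOrder q (j + 1) = (q ^ (2 * (j + 1)) - 1) * q ^ (2 * j + 1) * spOrder q j := by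
      simp only [spOrder]
      rw [Finset.prod_range_succ, show (j + 1) ^ 2 = 2 * j + 1 + j ^ 2 by ring, pow_add]
      ring
    obtain ⟨l, rfl⟩ : ∃ l, j = k + l := ⟨j - k, by omega⟩
    rw [hO, ← hNmul, he, show k + l + 1 - (k + 1) = l by omega, show k + l - k = l by omega]
    ring

theorem card_isoSub_mul (hA : B.IsAlt) (k : ℕ) :
    Nat.card (IsoSub B k) * (∏ i : Fin k, (Nat.card F ^ k - Nat.card F ^ (i : ℕ))) =
      Nat.card (IsoTuple B k) := by
  classical
  haveI : Finite V := Module.finite_of_finite F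
  haveI : Finite (Submodule F V) :=
    Finite.of_injective (SetLike.coe : Submodule F V → Set V) SetLike.coe_injective
  haveI : Finite (IsoSub B k) := Subtype.finite
  haveI : Finite (IsoTuple B k) := Subtype.finite
  haveI := Fintype.ofFinite (IsoSub B k)
  haveI := Fintype.ofFinite F
  let T : IsoTuple B k → IsoSub B k := fun s => ⟨Submodule.span F (Set.range s.1),
    by rw [finrank_span_eq_card s.2.1, Fintype.card_fin], fun a ha b hb => by
      obtain ⟨c, rfl⟩ := (Submodule.mem_span_range_iff_exists_fun F).1 ha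
      obtain ⟨d, rfl⟩ := (Submodule.mem_span_range_iff_exists_fun F).1 hb
      simp [s.2.2]⟩
  have hfib : ∀ W : IsoSub B k,
      Nat.card {s // T s = W} = ∏ i : Fin k, (Nat.card F ^ k - Nat.card F ^ (i : ℕ)) := by
    intro W
    haveI := Fintype.ofFinite W.1
    have h := card_linearIndependent (K := F) (V := W.1) (k := k) W.2.1.ge
    simp only [W.2.1, ← Nat.card_eq_fintype_card] at h
    rw [← h]
    refine Nat.card_congr
      { toFun := fun s => ⟨fun i => ⟨s.1.1 i, by
            have := congrArg Subtype.val s.2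
            rw [← this]; exact Submodule.subset_span ⟨i, rfl⟩⟩,
          LinearIndependent.of_comp W.1.subtype s.1.2.1⟩
        invFun := fun r => ⟨⟨fun i => (r.1 i).1, r.2.map' W.1.subtype W.1.ker_subtype,
            fun i j => W.2.2 _ (r.1 i).2 _ (r.1 j).2⟩, Subtype.ext (Submodule.eq_of_le_of_finrank_eq
              (Submodule.span_le.2 (by rintro _ ⟨i, rfl⟩; exact (r.1 i).2))
              (by
                have e := finrank_span_eq_card (r.2.map' W.1.subtype W.1.ker_subtype)
                rw [Fintype.card_fin] at e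
                exact e.trans W.2.1.symm))⟩
        left_inv := fun s => rfl
        right_inv := fun r => rfl }
  rw [← Nat.card_congr (Equiv.sigmaFiberEquiv T), Nat.card_sigma, Finset.sum_congr rfl fun W _ => hfib W,
    Finset.sum_const, Finset.card_univ, ← Nat.card_eq_fintype_card, smul_eq_mul]

/-- The orbit of a totally isotropic subspace. -/
theorem card_stab_mul (hA : B.IsAlt) (hB : B.Nondegenerate) {k : ℕ} (W : IsoSub B k) :
    Nat.card (isoGroup B) = Nat.card (IsoSub B k) *
      Nat.card {g : isoGroup B // ∀ x, x ∈ W.1 ↔ g.1 x ∈ W.1} := by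
  classical
  haveI : Finite V := Module.finite_of_finite F
  haveI : Finite (V ≃ₗ[F] V) :=
    Finite.of_injective (fun g => (g : V → V)) DFunLike.coe_injective
  haveI : Finite (Submodule F V) :=
    Finite.of_injective (SetLike.coe : Submodule F V → Set V) SetLike.coe_injective
  haveI : Finite (IsoSub B k) := Subtype.finite
  haveI := Fintype.ofFinite (IsoSub B k)
  let T : isoGroup B → IsoSub B k := fun g => ⟨W.1.map g.1.toLinearMap,
    by rw [← (Submodule.equivMapOfInjective _ g.1.injective W.1).finrank_eq, W.2.1],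
    by
      rintro _ ⟨a, ha, rfl⟩ _ ⟨b, hb, rfl⟩
      exact (g.2 a b).trans (W.2.2 a ha b hb)⟩
  have hfib : ∀ W' : IsoSub B k, Nat.card {g // T g = W'} =
      Nat.card {g : isoGroup B // ∀ x, x ∈ W.1 ↔ g.1 x ∈ W.1} := by
    intro W'
    let φ : W.1 ≃ₗ[F] W'.1 := LinearEquiv.ofFinrankEq _ _ (W.2.1.trans W'.2.1.symm)
    obtain ⟨g₀, hg₀, hφ⟩ := witt hA hB W.1 (W'.1.subtype.comp φ.toLinearMap)
      (fun a b e => φ.injective (Subtype.ext e))
      (fun a b => by
        rw [W.2.2 _ a.2 _ b.2]
        exact W'.2.2 _ (φ a).2 _ (φ b).2)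
    have h0 : ∀ x, x ∈ W.1 ↔ g₀ x ∈ W'.1 := by
      intro x
      refine ⟨fun hx => by rw [hφ ⟨x, hx⟩]; exact (φ ⟨x, hx⟩).2, fun hx => ?_⟩
      have e := hφ (φ.symm ⟨_, hx⟩)
      simp only [LinearMap.comp_apply, LinearEquiv.coe_coe, LinearEquiv.apply_symm_apply,
        Submodule.coe_subtype] at e
      rw [← g₀.injective e]
      exact (φ.symm _).2
    let g₀' : isoGroup B := ⟨g₀, hg₀⟩
    have key : ∀ g : isoGroup B, T g = W' ↔ ∀ x, x ∈ W.1 ↔ (g₀'⁻¹ * g).1 x ∈ W.1 := by
      intro g
      have hx : ∀ x, g₀ ((g₀'⁻¹ * g).1 x) = g.1 x := fun x => g₀.apply_symm_apply _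
      constructor
      · intro h x
        rw [h0 ((g₀'⁻¹ * g).1 x), hx, ← h]
        exact ⟨fun hx => ⟨x, hx, rfl⟩, fun ⟨y, hy, e⟩ => g.1.injective e ▸ hy⟩
      · intro h
        refine Subtype.ext (Submodule.eq_of_le_of_finrank_eq ?_ ((T g).2.1.trans W'.2.1.symm))
        rintro _ ⟨x, hxW, rfl⟩
        show g.1 x ∈ W'.1
        rw [← hx, ← h0]
        exact (h x).1 hxW
    refine Nat.card_congr
      { toFun := fun g => ⟨g₀'⁻¹ * g.1, (key g.1).1 g.2⟩
        invFun := fun s => ⟨g₀' * s.1, (key _).2 (by simpa using s.2)⟩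
        left_inv := fun g => Subtype.ext (mul_inv_cancel_left g₀' g.1)
        right_inv := fun s => Subtype.ext (inv_mul_cancel_left g₀' s.1) }
  rw [← Nat.card_congr (Equiv.sigmaFiberEquiv T), Nat.card_sigma, Finset.sum_congr rfl fun W' _ => hfib W',
    Finset.sum_const, Finset.card_univ, ← Nat.card_eq_fintype_card, smul_eq_mul]

end Cfsg.Agent.AltForm
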