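import Cfsg.Agent.Lib.Classical.GLClassCount

/-!
Determinants of the multiplication maps on the primary blocks of an `F[X]`-module, and what they
give for the determinant and the centraliser of an invertible matrix.
-/

set_option autoImplicit false
set_option linter.style.haveILetI false

namespace Cfsg.Agent.BlockDet

open Polynomial Module Cfsg.Agent.GLCount

universe u

variable {F : Type u} [Field F]

/-- Multiplication by `u` on a block. -/
noncomputable def mulBlk (p : F[X]) (e : ℕ) (u : F[X]) : Module.End F (Blk p e) :=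
  LinearMap.restrictScalars F (LinearMap.lsmul F[X] (Blk p e) u)

theorem mulBlk_apply (p : F[X]) (e : ℕ) (u : F[X]) (x : Blk p e) : mulBlk p e u x = u • x := rfl

theorem mulBlk_det_zero (p : F[X]) (u : F[X]) : LinearMap.det (mulBlk p 0 u) = 1 := by
  haveI := subsingleton_blk p (rfl : 0 = 0)
  exact LinearMap.det_eq_one_of_subsingleton _

theorem mulBlk_det (p : F[X]) (hp : p.Monic) (u : F[X]) :
    ∀ e, LinearMap.det (mulBlk p e u) = LinearMap.det (mulBlk p 1 u) ^ e
  | 0 => by rw [mulBlk_det_zero, pow_zero]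
  | e + 1 => by
    haveI : Module.Finite F (Blk p (e + 1)) := (hp.pow (e + 1)).finite_quotient
    let Se : Submodule F[X] F[X] := Submodule.span F[X] {p ^ e}
    let Se1 : Submodule F[X] F[X] := Submodule.span F[X] {p ^ (e + 1)}
    let S1 : Submodule F[X] F[X] := Submodule.span F[X] {p ^ 1}
    have h1 : Se1 ≤ S1 := by
      refine Submodule.span_le.2 ?_
      rintro _ rfl
      exact Submodule.mem_span_singleton.2 ⟨p ^ e, by rw [smul_eq_mul, ← pow_add]⟩
    let ψ : Blk p (e + 1) →ₗ[F[X]] Blk p 1 := Submodule.factor h1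
    have h2 : Se ≤ Submodule.comap (LinearMap.lsmul F[X] F[X] p) Se1 := by
      refine Submodule.span_le.2 ?_
      rintro _ rfl
      exact Submodule.mem_span_singleton.2 ⟨1, by
        rw [LinearMap.lsmul_apply, smul_eq_mul, smul_eq_mul, one_mul, pow_succ']⟩
    let φ : Blk p e →ₗ[F[X]] Blk p (e + 1) := Submodule.mapQ Se Se1 (LinearMap.lsmul F[X] F[X] p) h2
    have hφi : Function.Injective φ := by
      rw [injective_iff_map_eq_zero]
      intro x hx
      obtain ⟨a, rfl⟩ := Submodule.mkQ_surjective Se x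
      have hx' : p * a ∈ Se1 := (Submodule.Quotient.mk_eq_zero _).1 hx
      obtain ⟨c, hc⟩ := Submodule.mem_span_singleton.1 hx'
      rw [smul_eq_mul, pow_succ, ← mul_assoc, mul_comm p a] at hc
      exact (Submodule.Quotient.mk_eq_zero _).2
        (Submodule.mem_span_singleton.2 ⟨c, mul_right_cancel₀ hp.ne_zero hc⟩)
    let W : Submodule F (Blk p (e + 1)) := LinearMap.range (φ.restrictScalars F)
    have hW : W ≤ W.comap (mulBlk p (e + 1) u) := by
      rintro _ ⟨x, rfl⟩
      exact ⟨u • x, φ.map_smul u x⟩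
    refine (LinearMap.det_eq_det_mul_det W _ hW).trans ?_
    conv_rhs => rw [pow_succ]
    congr 1
    · let E : Blk p e ≃ₗ[F] W := LinearEquiv.ofInjective (φ.restrictScalars F) hφi
      rw [← mulBlk_det p hp u e, ← LinearMap.det_conj (mulBlk p e u) E]
      congr 1
      refine LinearMap.ext fun w => ?_
      obtain ⟨x, rfl⟩ := E.surjective w
      apply Subtype.ext
      simp only [LinearMap.coe_comp, LinearEquiv.coe_coe, Function.comp_apply,
        LinearEquiv.symm_apply_apply]
      exact (φ.map_smul u x).symm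
    · have hker : W = LinearMap.ker (ψ.restrictScalars F) := by
        apply le_antisymm
        · rintro _ ⟨x, rfl⟩
          obtain ⟨a, rfl⟩ := Submodule.mkQ_surjective Se x
          refine (Submodule.Quotient.mk_eq_zero _).2 (Submodule.mem_span_singleton.2 ⟨a, ?_⟩)
          rw [LinearMap.lsmul_apply, smul_eq_mul, smul_eq_mul, pow_one, mul_comm, LinearMap.id_apply]
        · intro x hx
          obtain ⟨a, rfl⟩ := Submodule.mkQ_surjective Se1 x
          obtain ⟨c, hc⟩ := Submodule.mem_span_singleton.1 ((Submodule.Quotient.mk_eq_zero _).1 hx)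
          refine ⟨Submodule.Quotient.mk c, ?_⟩
          show (Submodule.Quotient.mk (p • c) : F[X] ⧸ Se1) = Submodule.Quotient.mk a
          rw [LinearMap.id_apply] at hc
          rw [← hc, smul_eq_mul, smul_eq_mul, pow_one, mul_comm]
      have hsur : Function.Surjective (ψ.restrictScalars F) := fun y => by
        obtain ⟨a, rfl⟩ := Submodule.mkQ_surjective S1 y
        exact ⟨Submodule.Quotient.mk a, rfl⟩
      let E : (Blk p (e + 1) ⧸ W) ≃ₗ[F] Blk p 1 :=
        (Submodule.quotEquivOfEq _ _ hker).trans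
          (LinearMap.quotKerEquivOfSurjective (ψ.restrictScalars F) hsur)
      rw [← LinearMap.det_conj (W.mapQ W (mulBlk p (e + 1) u) hW) E]
      congr 1
      refine LinearMap.ext fun y => ?_
      obtain ⟨x, rfl⟩ := E.surjective y
      simp only [LinearMap.coe_comp, LinearEquiv.coe_coe, Function.comp_apply,
        LinearEquiv.symm_apply_apply]
      obtain ⟨z, rfl⟩ := Submodule.mkQ_surjective W x
      exact (ψ.map_smul u z).trans rfl

theorem mulBlk_one_norm (p : F[X]) (u : F[X]) :
    LinearMap.det (mulBlk p 1 u) = Algebra.norm F (AdjoinRoot.mk p u) := by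
  let E : Blk p 1 ≃ₗ[F[X]] (F[X] ⧸ Submodule.span F[X] {p}) :=
    Submodule.quotEquivOfEq _ _ (by rw [pow_one])
  let E' : Blk p 1 ≃ₗ[F] AdjoinRoot p := E.restrictScalars F
  rw [Algebra.norm_apply, ← LinearMap.det_conj (mulBlk p 1 u) E']
  congr 1
  refine LinearMap.ext fun y => ?_
  obtain ⟨x, rfl⟩ := E'.surjective y
  simp only [LinearMap.coe_comp, LinearEquiv.coe_coe, Function.comp_apply,
    LinearEquiv.symm_apply_apply]
  obtain ⟨a, rfl⟩ := Submodule.mkQ_surjective _ x
  rfl

/-- `(-1) ^ deg p * p(0)`. -/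
noncomputable def sgc (p : F[X]) : F := (-1) ^ p.natDegree * p.coeff 0

theorem mulBlk_X (p : F[X]) (hp : p.Monic) (e : ℕ) :
    LinearMap.det (mulBlk p e X) = sgc p ^ e := by
  rw [mulBlk_det p hp, mulBlk_one_norm]
  congr 1
  have hgen : AdjoinRoot.mk p X = (AdjoinRoot.powerBasis hp.ne_zero).gen := by
    rw [AdjoinRoot.powerBasis_gen, AdjoinRoot.mk_X]
  rw [hgen, Algebra.PowerBasis.norm_gen_eq_coeff_zero_minpoly, AdjoinRoot.powerBasis_gen,
    AdjoinRoot.minpoly_root hp.ne_zero, hp.leadingCoeff, inv_one, map_one, mul_one,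
    AdjoinRoot.powerBasis_dim, sgc]

theorem exists_mulBlk [Fintype F] (p : F[X]) (hi : Irreducible p) (hp : p.Monic) (a : Fˣ) (e : ℕ) :
    ∃ u : F[X], LinearMap.det (mulBlk p e u) = (a : F) ^ e := by
  haveI := Fact.mk hi
  haveI : Module.Finite F (AdjoinRoot p) := hp.finite_adjoinRoot
  haveI : Finite (AdjoinRoot p) := Module.finite_of_finite F
  obtain ⟨x, hx⟩ := FiniteField.unitsMap_norm_surjective F (AdjoinRoot p) a
  obtain ⟨u, hu⟩ := AdjoinRoot.mk_surjective (x : AdjoinRoot p)
  refine ⟨u, ?_⟩
  rw [mulBlk_det p hp, mulBlk_one_norm, hu, ← hx, Units.coe_map]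

theorem det_pi_dep {ι : Type u} [Fintype ι] {M : ι → Type u} [∀ i, AddCommGroup (M i)]
    [∀ i, Module F (M i)] [∀ i, Module.Finite F (M i)] (f : ∀ i, Module.End F (M i)) :
    LinearMap.det (LinearMap.pi fun i => (f i).comp (LinearMap.proj i)) =
      ∏ i, LinearMap.det (f i) := by
  classical
  let P : (∀ i, Module.End F (M i)) → Module.End F (∀ i, M i) := fun g =>
    LinearMap.pi fun i => (g i).comp (LinearMap.proj i)
  have hmul : ∀ g h : ∀ i, Module.End F (M i), P (g * h) = P g * P h := fun g h => rfl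
  have hsingle : ∀ i (x : Module.End F (M i)),
      LinearMap.det (P (Pi.mulSingle i x)) = LinearMap.det x := by
    intro i x
    let W : Submodule F (∀ j, M j) := LinearMap.ker (LinearMap.proj i)
    have hW : W ≤ W.comap (P (Pi.mulSingle i x)) := by
      intro v hv
      show (Pi.mulSingle i x : ∀ j, Module.End F (M j)) i (v i) = 0
      rw [LinearMap.mem_ker.1 hv |> fun h => (show v i = 0 from h), map_zero]
    rw [LinearMap.det_eq_det_mul_det W _ hW]
    have h1 : (P (Pi.mulSingle i x)).restrict hW = LinearMap.id := by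
      refine LinearMap.ext fun v => Subtype.ext (funext fun j => ?_)
      show (Pi.mulSingle i x : ∀ j, Module.End F (M j)) j (v.1 j) = v.1 j
      by_cases hj : j = i
      · subst hj
        rw [show v.1 j = 0 from v.2, map_zero]
      · rw [Pi.mulSingle_eq_of_ne hj, Module.End.one_apply]
    rw [h1, LinearMap.det_id, one_mul]
    let E : ((∀ j, M j) ⧸ W) ≃ₗ[F] M i := LinearMap.quotKerEquivOfSurjective
      (LinearMap.proj i : (∀ j, M j) →ₗ[F] M i) (Function.surjective_eval i)
    rw [← LinearMap.det_conj (W.mapQ W (P (Pi.mulSingle i x)) hW) E]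
    congr 1
    refine LinearMap.ext fun y => ?_
    obtain ⟨z, rfl⟩ := E.surjective y
    simp only [LinearMap.coe_comp, LinearEquiv.coe_coe, Function.comp_apply,
      LinearEquiv.symm_apply_apply]
    obtain ⟨v, rfl⟩ := Submodule.mkQ_surjective W z
    show (Pi.mulSingle i x : ∀ j, Module.End F (M j)) i (v i) = x (v i)
    rw [Pi.mulSingle_eq_same]
  have key : ∀ s : Finset ι, LinearMap.det (P fun i => if i ∈ s then f i else 1) =
      ∏ i ∈ s, LinearMap.det (f i) := by
    intro s
    induction s using Finset.induction with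
    | empty =>
      simp only [Finset.notMem_empty, if_false, Finset.prod_empty]
      rw [show P (fun _ => 1) = LinearMap.id from rfl, LinearMap.det_id]
    | insert a s ha ih =>
      have e : (fun i => if i ∈ insert a s then f i else 1) =
          Pi.mulSingle a (f a) * fun i => if i ∈ s then f i else 1 := by
        funext i
        by_cases hi : i = a
        · subst hi
          simp [ha]
        · simp [hi, Pi.mulSingle_eq_of_ne hi]
      rw [e, hmul, map_mul, hsingle, ih, Finset.prod_insert ha]
  have h := key Finset.univ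
  simp only [Finset.mem_univ, if_true] at h
  exact h

variable {n : ℕ}

/-- The determinants of a matrix with the given blocks and of its commuting matrices. -/
theorem matrix_facts [Fintype F] (g : Matrix.GeneralLinearGroup (Fin n) F) {ι : Type u} [Fintype ι]
    {p : ι → F[X]} {e : ι → ℕ} (hp : ∀ i, Irreducible (p i) ∧ (p i).Monic)
    (Φ : AEval' (lin g.1) ≃ₗ[F[X]] ((i : ι) → Blk (p i) (e i))) :
    g.1.det = ∏ i, sgc (p i) ^ e i ∧
      ∀ (i : ι) (a : Fˣ), ∃ c : Matrix.GeneralLinearGroup (Fin n) F, c * g = g * c ∧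
        Matrix.GeneralLinearGroup.det c = a ^ e i := by
  classical
  haveI : ∀ i, Module.Finite F (Blk (p i) (e i)) := fun i => ((hp i).2.pow (e i)).finite_quotient
  let L : (Fin n → F) ≃ₗ[F] ((i : ι) → Blk (p i) (e i)) :=
    (AEval'.of (lin g.1)).trans (Φ.restrictScalars F)
  let M : (ι → F[X]) → Module.End F ((i : ι) → Blk (p i) (e i)) := fun u =>
    LinearMap.pi fun i => (mulBlk (p i) (e i) (u i)).comp (LinearMap.proj i)
  have hM : ∀ u, LinearMap.det (M u) = ∏ i, LinearMap.det (mulBlk (p i) (e i) (u i)) := fun u =>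
    det_pi_dep _
  let N : (ι → F[X]) → Module.End F (Fin n → F) := fun u =>
    ((L.symm : _ →ₗ[F] _).comp (M u)).comp (L : _ →ₗ[F] _)
  have hN : ∀ u, LinearMap.det (N u) = ∏ i, LinearMap.det (mulBlk (p i) (e i) (u i)) := by
    intro u
    rw [← hM, ← LinearMap.det_conj (M u) L.symm]
    simp only [N, LinearEquiv.symm_symm, LinearMap.comp_assoc]
  have hg : lin g.1 = N fun _ => X := by
    refine LinearMap.ext fun v => ?_
    apply L.injective
    simp only [N, LinearMap.coe_comp, LinearEquiv.coe_coe, Function.comp_apply,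
      LinearEquiv.apply_symm_apply]
    show Φ (AEval'.of (lin g.1) (lin g.1 v)) = M (fun _ => X) (Φ (AEval'.of (lin g.1) v))
    rw [← AEval'.X_smul_of, map_smul]
    rfl
  have hdet : ∀ m : Matrix (Fin n) (Fin n) F, m.det = LinearMap.det (lin m) := fun m =>
    (LinearMap.det_toLin' m).symm
  refine ⟨?_, fun i a => ?_⟩
  · rw [hdet, hg, hN]
    exact Finset.prod_congr rfl fun i _ => mulBlk_X _ (hp i).2 _
  obtain ⟨w, hw⟩ := exists_mulBlk (p i) (hp i).1 (hp i).2 a (e i)
  let u : ι → F[X] := Function.update (fun _ => 1) i w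
  have hd : LinearMap.det (N u) = (a : F) ^ e i := by
    rw [hN, Finset.prod_eq_single i]
    · simp only [u, Function.update_self]
      exact hw
    · intro j _ hj
      simp only [u, Function.update_of_ne hj]
      rw [show mulBlk (p j) (e j) 1 = LinearMap.id from LinearMap.ext fun x => by
        rw [mulBlk_apply, one_smul, LinearMap.id_apply],
        LinearMap.det_id]
    · simp
  obtain ⟨m, hm⟩ : ∃ m : Matrix (Fin n) (Fin n) F, lin m = N u :=
    Matrix.toLinAlgEquiv'.surjective _
  have hne : m.det ≠ 0 := by rw [hdet, hm, hd]; exact pow_ne_zero _ a.ne_zero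
  refine ⟨Matrix.GeneralLinearGroup.mkOfDetNeZero m hne,
    Units.ext (Matrix.toLinAlgEquiv'.injective ?_), Units.ext ?_⟩
  · rw [Units.val_mul, Units.val_mul, map_mul, map_mul]
    show lin m * lin g.1 = lin g.1 * lin m
    rw [hm, hg]
    refine LinearMap.ext fun v => ?_
    simp only [N, Module.End.mul_apply, LinearMap.coe_comp, LinearEquiv.coe_coe,
      Function.comp_apply, LinearEquiv.apply_symm_apply]
    refine congrArg L.symm (funext fun j => ?_)
    simp only [M, LinearMap.pi_apply, LinearMap.coe_comp, Function.comp_apply, LinearMap.proj_apply,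
      mulBlk_apply]
    rw [smul_comm]
  · show m.det = ((a ^ e i : Fˣ) : F)
    rw [hdet, hm, hd, Units.val_pow_eq_pow_val]

end Cfsg.Agent.BlockDet
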