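/-
Generic tools for character tables: linear characters of cyclic groups and finite fields,
completeness by the sum of squares, norm two, twisting by automorphisms.
-/
import Cfsg.Agent.Lib.Char.DegreeCenter
import Cfsg.Agent.Lib.Char.Induction
import Mathlib.NumberTheory.MulChar.Lemmas
import Mathlib.RingTheory.RootsOfUnity.AlgebraicallyClosed
import Mathlib.GroupTheory.SpecificGroups.Cyclic
import Mathlib.GroupTheory.FiniteAbelian.Duality
import Mathlib.FieldTheory.Finite.Basic

set_option autoImplicit false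

namespace Cfsg.Agent.CharTools

open scoped ComplexConjugate
open Cfsg.Agent.Char

/-! ### Homomorphisms to the units of the complex numbers -/

section hom

variable {G : Type*} [Group G]

open scoped Classical in
theorem sum_hom_mul_conj [Fintype G] (f f' : G →* ℂˣ) :
    ∑ g, (f g : ℂ) * conj (f' g : ℂ) = if f = f' then (Nat.card G : ℂ) else 0 := by
  have h := classInner_irr (isIrrCharacter_linear f) (isIrrCharacter_linear f')
  rw [Cfsg.classInner, inv_mul_eq_iff_eq_mul₀ (Nat.cast_ne_zero.2 Nat.card_pos.ne')] at h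
  rw [h]
  by_cases e : f = f'
  · subst e; simp
  · rw [if_neg e, if_neg, mul_zero]
    exact fun e' => e (MonoidHom.ext fun g => Units.ext (congrFun e' g))

theorem conj_hom [Finite G] (f : G →* ℂˣ) (g : G) : conj (f g : ℂ) = (f g⁻¹ : ℂ) :=
  (IsCharacter.inv (IsIrrCharacter.isCharacter (isIrrCharacter_linear f)) g).symm

theorem card_hom [Finite G] [IsCyclic G] : Nat.card (G →* ℂˣ) = Nat.card G := by
  letI : CommGroup G := IsCyclic.commGroup
  haveI : NeZero (Monoid.exponent G : ℂ) :=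
    ⟨Nat.cast_ne_zero.mpr Monoid.exponent_ne_zero_of_finite⟩
  exact CommGroup.card_monoidHom_of_hasEnoughRootsOfUnity G ℂ

theorem exists_hom_ne [Finite G] [IsCyclic G] {a : G} (ha : a ≠ 1) :
    ∃ f : G →* ℂˣ, f a ≠ 1 := by
  letI : CommGroup G := IsCyclic.commGroup
  haveI : NeZero (Monoid.exponent G : ℂ) :=
    ⟨Nat.cast_ne_zero.mpr Monoid.exponent_ne_zero_of_finite⟩
  exact CommGroup.exists_apply_ne_one_of_hasEnoughRootsOfUnity G ℂ ha

instance finite_hom_cyclic [Finite G] [IsCyclic G] : Finite (G →* ℂˣ) :=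
  Nat.finite_of_card_ne_zero (by rw [card_hom]; exact Nat.card_pos.ne')

/-- The characters of a cyclic group separate functions. -/
theorem hom_sep [Fintype G] [IsCyclic G] (h : G → ℂ)
    (hh : ∀ f : G →* ℂˣ, ∑ g, (f g : ℂ) * h g = 0) (x : G) : h x = 0 := by
  classical
  haveI : Fintype (G →* ℂˣ) := Fintype.ofFinite _
  have key : ∀ y : G, ∑ f : G →* ℂˣ, (f y : ℂ) = if y = 1 then (Nat.card G : ℂ) else 0 := by
    intro y
    split_ifs with hy
    · subst hy
      simp only [map_one, Units.val_one, Finset.sum_const, Finset.card_univ, nsmul_eq_mul, mul_one]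
      rw [← Nat.card_eq_fintype_card, card_hom]
    · obtain ⟨f₀, hf₀⟩ := exists_hom_ne hy
      have e : (f₀ y : ℂ) * ∑ f : G →* ℂˣ, (f y : ℂ) = ∑ f : G →* ℂˣ, (f y : ℂ) := by
        rw [Finset.mul_sum]
        exact Fintype.sum_equiv (Equiv.mulLeft f₀) _ _ fun f => by simp
      by_contra hne
      exact hf₀ (Units.ext (mul_right_cancel₀ hne (e.trans (one_mul _).symm)))
  have h2 : ∑ f : G →* ℂˣ, (f x⁻¹ : ℂ) * ∑ g, (f g : ℂ) * h g = 0 := by simp [hh]
  simp only [Finset.mul_sum, ← mul_assoc, ← Units.val_mul, ← map_mul] at h2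
  rw [Finset.sum_comm] at h2
  simp only [← Finset.sum_mul, key, inv_mul_eq_one, ite_mul, zero_mul, Finset.sum_ite_eq,
    Finset.mem_univ, if_true] at h2
  exact (mul_eq_zero.1 h2).resolve_left (Nat.cast_ne_zero.2 Nat.card_pos.ne')

/-- The sign character of a cyclic group of even order. -/
theorem exists_sign [Finite G] [IsCyclic G] (he : Even (Nat.card G)) :
    ∃ θ₀ : G →* ℂˣ, θ₀ ≠ 1 ∧ θ₀ ^ 2 = 1 ∧ (∀ θ : G →* ℂˣ, θ ^ 2 = 1 → θ = 1 ∨ θ = θ₀) ∧
      ∀ g : G, (g ^ (Nat.card G / 2) = 1 → (θ₀ g : ℂ) = 1) ∧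
        (g ^ (Nat.card G / 2) ≠ 1 → (θ₀ g : ℂ) = -1) := by
  obtain ⟨c, hc⟩ := IsCyclic.exists_generator (α := G)
  have hord : orderOf c = Nat.card G := orderOf_eq_card_of_forall_mem_zpowers hc
  have hdvd : orderOf (-1 : ℂˣ) ∣ orderOf c := by
    rw [hord]
    exact (orderOf_dvd_of_pow_eq_one (x := (-1 : ℂˣ)) (n := 2) (by simp)).trans he.two_dvd
  let θ₀ := monoidHomOfForallMemZpowers hc hdvd
  have hgen : θ₀ c = -1 := monoidHomOfForallMemZpowers_apply_gen hc hdvd
  have h1 : (-1 : ℂˣ) ≠ 1 := fun e => by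
    have := congrArg Units.val e
    norm_num at this
  refine ⟨θ₀, fun e => h1 (by rw [← hgen, e]; rfl), ?_, fun θ hθ => ?_, fun g => ?_⟩
  · refine (MonoidHom.eq_iff_eq_on_generator hc _ _).2 ?_
    simp [hgen]
  · have h : (θ c : ℂ) * θ c = 1 := by
      have := congrArg (fun f : G →* ℂˣ => (f c : ℂ)) hθ
      simpa [pow_two] using this
    rcases mul_self_eq_one_iff.1 h with e | e
    · exact Or.inl ((MonoidHom.eq_iff_eq_on_generator hc _ _).2 (Units.ext (by simpa using e)))
    · refine Or.inr ((MonoidHom.eq_iff_eq_on_generator hc _ _).2 (Units.ext ?_))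
      rw [hgen]; simpa using e
  · obtain ⟨k, hk⟩ := (mem_powers_iff_mem_zpowers.2 (hc g) : g ∈ Submonoid.powers c)
    simp only at hk
    have hval : (θ₀ g : ℂ) = (-1) ^ k := by simp [← hk, hgen]
    have hiff : g ^ (Nat.card G / 2) = 1 ↔ Even k := by
      obtain ⟨m, hm⟩ := he
      have hm0 : 0 < m := by have := Nat.card_pos (α := G); omega
      rw [← hk, ← pow_mul, ← orderOf_dvd_iff_pow_eq_one, hord, hm, show (m + m) / 2 = m by omega,
        ← two_mul, Nat.mul_dvd_mul_iff_right hm0, even_iff_two_dvd]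
    rw [hval]
    exact ⟨fun h => (hiff.1 h).neg_one_pow,
      fun h => (Nat.not_even_iff_odd.1 (fun e => h (hiff.2 e))).neg_one_pow⟩

theorem eq_one_of_sq_odd [Finite G] (ho : Odd (Nat.card G)) {θ : G →* ℂˣ} (h : θ ^ 2 = 1) :
    θ = 1 := by
  refine MonoidHom.ext fun g => orderOf_eq_one_iff.1 (Nat.eq_one_of_dvd_one ?_)
  have h2 : orderOf (θ g) ∣ 2 := orderOf_dvd_of_pow_eq_one (by
    simpa using congrArg (fun f : G →* ℂˣ => f g) h)
  have hn : orderOf (θ g) ∣ Nat.card G := orderOf_dvd_of_pow_eq_one (by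
    rw [← map_pow, pow_card_eq_one', map_one])
  exact (Nat.coprime_two_left.2 ho) ▸ Nat.dvd_gcd h2 hn

theorem inv_ne_self {H : Type*} [Group H] {x : H} (hx : x ^ 2 ≠ 1) : x⁻¹ ≠ x := fun e => hx (by
  rw [pow_two]; exact mul_eq_one_iff_eq_inv.2 e.symm)

open scoped Classical in
theorem card_sq_ne_one_even [Finite G] [IsCyclic G] [Fintype (G →* ℂˣ)] (he : Even (Nat.card G)) :
    (Finset.univ.filter fun θ : G →* ℂˣ => θ ^ 2 ≠ 1).card = Nat.card G - 2 := by
  obtain ⟨θ₀, h0, h02, huniq, -⟩ := exists_sign he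
  have hset : (Finset.univ.filter fun θ : G →* ℂˣ => θ ^ 2 ≠ 1) = Finset.univ \ {1, θ₀} := by
    ext θ
    simp only [Finset.mem_filter, Finset.mem_univ, true_and, Finset.mem_sdiff, Finset.mem_insert,
      Finset.mem_singleton, not_or]
    refine ⟨fun h => ⟨fun e => h (MonoidHom.ext fun x => by simp [e]), fun e => h (by rw [e, h02])⟩, fun h e => ?_⟩
    rcases huniq θ e with e' | e'
    exacts [h.1 e', h.2 e']
  rw [hset, Finset.card_sdiff_of_subset (Finset.subset_univ _), Finset.card_univ,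
    ← Nat.card_eq_fintype_card, card_hom, Finset.card_pair h0.symm]

open scoped Classical in
theorem card_sq_ne_one_odd [Finite G] [IsCyclic G] [Fintype (G →* ℂˣ)] (ho : Odd (Nat.card G)) :
    (Finset.univ.filter fun θ : G →* ℂˣ => θ ^ 2 ≠ 1).card = Nat.card G - 1 := by
  have hset : (Finset.univ.filter fun θ : G →* ℂˣ => θ ^ 2 ≠ 1) = Finset.univ.erase 1 := by
    ext θ
    simp only [Finset.mem_filter, Finset.mem_univ, true_and, Finset.mem_erase, and_true]
    exact ⟨fun h e => h (MonoidHom.ext fun x => by simp [e]), fun h e => h (eq_one_of_sq_odd ho e)⟩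
  rw [hset, Finset.card_erase_of_mem (Finset.mem_univ _), Finset.card_univ,
    ← Nat.card_eq_fintype_card, card_hom]

end hom

/-! ### Multiplicative characters of a finite field -/

section field

variable {F : Type*} [Field F] [Fintype F]

open scoped Classical in
theorem mulChar_sum [DecidableEq F] (α β : MulChar F ℂ) :
    ∑ a : Fˣ, α (a : F) * conj (β (a : F)) = if α = β then ((Fintype.card F : ℂ) - 1) else 0 := by
  have h := sum_hom_mul_conj (G := Fˣ) α.toUnitHom β.toUnitHom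
  simp only [MulChar.coe_toUnitHom] at h
  rw [h]
  by_cases e : α = β
  · subst e
    simp only [if_true]
    rw [Nat.card_units, Nat.card_eq_fintype_card, Nat.cast_sub Fintype.card_pos, Nat.cast_one]
  · rw [if_neg e, if_neg]
    intro e'
    exact e (MulChar.ext fun a => by rw [← MulChar.coe_toUnitHom, e', MulChar.coe_toUnitHom])

theorem mulChar_sep [DecidableEq F] (h : Fˣ → ℂ)
    (hh : ∀ α : MulChar F ℂ, ∑ a : Fˣ, α (a : F) * h a = 0) (x : Fˣ) : h x = 0 := by
  refine hom_sep h (fun f => ?_) x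
  rw [← hh (MulChar.ofUnitHom f)]
  simp [MulChar.ofUnitHom_coe]

theorem card_mulChar : Nat.card (MulChar F ℂ) = Fintype.card F - 1 := by
  rw [Nat.card_congr MulChar.equivToUnitHom, card_hom, Nat.card_units, Nat.card_eq_fintype_card]

theorem sq_hom_iff (α : MulChar F ℂ) : α.toUnitHom ^ 2 = 1 ↔ α ^ 2 = 1 := by
  constructor <;> intro h
  · refine MulChar.ext fun a => ?_
    have := congrArg (fun f : Fˣ →* ℂˣ => (f a : ℂ)) h
    simpa [MulChar.coe_toUnitHom, MulChar.pow_apply_coe, MulChar.one_apply_coe] using this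
  · refine MonoidHom.ext fun a => Units.ext ?_
    have := congrArg (fun f : MulChar F ℂ => f (a : F)) h
    simpa [MulChar.coe_toUnitHom, MulChar.pow_apply_coe, MulChar.one_apply_coe] using this

theorem norm_mulChar (α : MulChar F ℂ) {x : F} (hx : x ≠ 0) : ‖α x‖ = 1 := by
  refine Complex.norm_eq_one_of_pow_eq_one (n := Fintype.card F - 1) ?_
    (by have := Fintype.one_lt_card (α := F); omega)
  rw [← map_pow, FiniteField.pow_card_sub_one_eq_one x hx, map_one]

theorem conj_mulChar (α : MulChar F ℂ) (a : F) : conj (α a) = (α⁻¹ : MulChar F ℂ) a :=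
  MulChar.star_apply' α a

open scoped Classical in
theorem card_mulChar_sq_ne_one_odd [DecidableEq F] [Fintype (MulChar F ℂ)]
    (hodd : Odd (Fintype.card F)) :
    (Finset.univ.filter fun α : MulChar F ℂ => α ^ 2 ≠ 1).card = Fintype.card F - 3 := by
  haveI : Fintype (Fˣ →* ℂˣ) := Fintype.ofFinite _
  have hc : Nat.card Fˣ = Fintype.card F - 1 := by rw [Nat.card_units, Nat.card_eq_fintype_card]
  have h := card_sq_ne_one_even (G := Fˣ) (by
    rw [hc]; exact Nat.Odd.sub_odd hodd odd_one)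
  rw [hc] at h
  rw [show Fintype.card F - 3 = Fintype.card F - 1 - 2 by omega, ← h]
  refine Finset.card_equiv MulChar.equivToUnitHom fun α => ?_
  simp only [Finset.mem_filter, Finset.mem_univ, true_and, ← MulChar.toUnitHom_eq]
  rw [not_iff_not]
  exact (sq_hom_iff α).symm

open scoped Classical in
theorem card_mulChar_sq_ne_one_even [DecidableEq F] [Fintype (MulChar F ℂ)]
    (heven : Even (Fintype.card F)) :
    (Finset.univ.filter fun α : MulChar F ℂ => α ^ 2 ≠ 1).card = Fintype.card F - 2 := by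
  haveI : Fintype (Fˣ →* ℂˣ) := Fintype.ofFinite _
  have hc : Nat.card Fˣ = Fintype.card F - 1 := by rw [Nat.card_units, Nat.card_eq_fintype_card]
  have h := card_sq_ne_one_odd (G := Fˣ) (by
    rw [hc]; exact Nat.Even.sub_odd Fintype.card_pos heven odd_one)
  rw [hc] at h
  rw [show Fintype.card F - 2 = Fintype.card F - 1 - 1 by omega, ← h]
  refine Finset.card_equiv MulChar.equivToUnitHom fun α => ?_
  simp only [Finset.mem_filter, Finset.mem_univ, true_and, ← MulChar.toUnitHom_eq]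
  rw [not_iff_not]
  exact (sq_hom_iff α).symm

end field

/-! ### Counting and completeness -/

open scoped Classical in
theorem card_eq_two_mul_image {ι X : Type*} (s : Finset ι) (i : ι → ι) (f : ι → X)
    (hi : ∀ a ∈ s, i a ∈ s ∧ i a ≠ a)
    (hf : ∀ a ∈ s, ∀ b ∈ s, (f a = f b ↔ b = a ∨ b = i a)) :
    s.card = 2 * (s.image f).card := by
  rw [Finset.card_eq_sum_card_image f s, Finset.sum_congr rfl (g := fun _ => 2) ?_,
    Finset.sum_const, smul_eq_mul, mul_comm]
  intro x hx
  obtain ⟨a, ha, rfl⟩ := Finset.mem_image.1 hx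
  have : s.filter (fun b => f b = f a) = {a, i a} := by
    ext b
    simp only [Finset.mem_filter, Finset.mem_insert, Finset.mem_singleton]
    refine ⟨fun h => (hf a ha b h.1).1 h.2.symm, fun h => ?_⟩
    have hb : b ∈ s := by
      rcases h with rfl | rfl
      exacts [ha, (hi a ha).1]
    exact ⟨hb, ((hf a ha b hb).2 h).symm⟩
  rw [this, Finset.card_pair (hi a ha).2.symm]

section group

variable {G : Type*} [Group G] [Fintype G]

theorem mem_of_sum_sq (S : Finset (Cfsg.IrrCharacter G))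
    (h : ∑ χ ∈ S, (χ : G → ℂ) 1 ^ 2 = (Nat.card G : ℂ)) (χ : Cfsg.IrrCharacter G) : χ ∈ S := by
  classical
  by_contra hχ
  have hd := fun ψ : Cfsg.IrrCharacter G => IsIrrCharacter.exists_degree ψ.2
  choose d hd0 hd using hd
  have e1 : ((∑ ψ ∈ S, d ψ ^ 2 : ℕ) : ℂ) = ((∑ ψ, d ψ ^ 2 : ℕ) : ℂ) := by
    have h2 := h.trans sum_sq_degree.symm
    simp only [hd] at h2
    push_cast
    exact h2
  have e2 : ∑ ψ ∈ S, d ψ ^ 2 = ∑ ψ, d ψ ^ 2 := Nat.cast_injective e1
  exact absurd e2 (Finset.sum_lt_sum_of_subset (Finset.subset_univ S) (Finset.mem_univ χ) hχ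
    (pow_pos (hd0 χ) 2) fun _ _ _ => Nat.zero_le _).ne

theorem card_conjClasses_of_sum_sq (S : Finset (Cfsg.IrrCharacter G))
    (h : ∑ χ ∈ S, (χ : G → ℂ) 1 ^ 2 = (Nat.card G : ℂ)) :
    Nat.card (ConjClasses G) = S.card := by
  rw [← card_irrCharacter, Nat.card_eq_fintype_card, Finset.eq_univ_of_forall (mem_of_sum_sq S h),
    Finset.card_univ]

theorem isIrr_of_norm_one {a : G → ℂ} (h : Cfsg.IsGeneralizedCharacter G a)
    (h1 : Cfsg.classInner a a = 1) {k : ℕ} (hk : a 1 = k) (hk0 : k ≠ 0) :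
    Cfsg.IsIrrCharacter G a := by
  refine (IsGeneralizedCharacter.of_norm_one h h1).resolve_right fun hn => ?_
  obtain ⟨d, -, hd⟩ := IsIrrCharacter.exists_degree hn
  rw [Pi.neg_apply, hk, neg_eq_iff_add_eq_zero, ← Nat.cast_add, Nat.cast_eq_zero] at hd
  omega

theorem norm_two_gen {a : G → ℂ} (h : Cfsg.IsGeneralizedCharacter G a)
    (h2 : Cfsg.classInner a a = 2) :
    ∃ (μ ν : Cfsg.IrrCharacter G) (s t : ℤ), μ ≠ ν ∧ (s = 1 ∨ s = -1) ∧ (t = 1 ∨ t = -1) ∧
      a = (s : ℂ) • (μ : G → ℂ) + (t : ℂ) • (ν : G → ℂ) := by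
  classical
  obtain ⟨c, hc, -⟩ := IsGeneralizedCharacter.exists_coeff h
  rw [IsGeneralizedCharacter.norm_eq hc] at h2
  have h2' : ∑ ψ, c ψ * c ψ = 2 := by exact_mod_cast h2
  set s := Finset.univ.filter (fun ψ => c ψ ≠ 0) with hs
  have hsum : ∑ ψ ∈ s, c ψ * c ψ = 2 := by
    rw [← h2']
    refine Finset.sum_subset (Finset.subset_univ _) fun x _ hx => ?_
    simp only [hs, Finset.mem_filter, Finset.mem_univ, true_and, not_not] at hx
    simp [hx]
  have hbound : ∀ ψ ∈ s, c ψ = 1 ∨ c ψ = -1 := by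
    intro ψ hψ
    have hle : c ψ * c ψ ≤ 2 := hsum ▸
      Finset.single_le_sum (fun x _ => mul_self_nonneg (c x)) hψ
    have hne : c ψ ≠ 0 := (Finset.mem_filter.mp hψ).2
    have h3 : -2 < c ψ ∧ c ψ < 2 := ⟨by nlinarith, by nlinarith⟩
    omega
  have hcard : s.card = 2 := by
    have : ∑ ψ ∈ s, c ψ * c ψ = s.card := by
      rw [Finset.card_eq_sum_ones, Nat.cast_sum]
      exact Finset.sum_congr rfl fun ψ hψ => by rcases hbound ψ hψ with e | e <;> simp [e]
    have h3 : (s.card : ℤ) = 2 := this.symm.trans hsum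
    exact_mod_cast h3
  obtain ⟨μ, ν, hne, hμν⟩ := Finset.card_eq_two.mp hcard
  refine ⟨μ, ν, c μ, c ν, hne, hbound μ (hμν ▸ Finset.mem_insert_self _ _),
    hbound ν (hμν ▸ Finset.mem_insert_of_mem (Finset.mem_singleton_self _)), ?_⟩
  rw [hc, ← Finset.sum_pair (f := fun ψ => (c ψ : ℂ) • (ψ : G → ℂ)) hne, ← hμν]
  refine (Finset.sum_subset (Finset.subset_univ _) fun x _ hx => ?_).symm
  simp only [hs, Finset.mem_filter, Finset.mem_univ, true_and, not_not] at hx
  simp [hx]

theorem norm_two_char {a : G → ℂ} (h : Cfsg.IsCharacter G a) (h2 : Cfsg.classInner a a = 2) :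
    ∃ μ ν : Cfsg.IrrCharacter G, μ ≠ ν ∧ a = (μ : G → ℂ) + (ν : G → ℂ) := by
  obtain ⟨μ, ν, s, t, hne, hs, ht, ha⟩ :=
    norm_two_gen (IsGeneralizedCharacter.of_isCharacter h) h2
  have hne' : (μ : G → ℂ) ≠ (ν : G → ℂ) := fun e => hne (Subtype.ext e)
  have hsμ : (s : ℂ) = Cfsg.classInner a μ := by
    rw [ha, classInner_add_left, classInner_smul_left, classInner_smul_left,
      classInner_self_irr μ.2, classInner_irr_of_ne ν.2 μ.2 hne'.symm]
    simp
  have htν : (t : ℂ) = Cfsg.classInner a ν := by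
    rw [ha, classInner_add_left, classInner_smul_left, classInner_smul_left,
      classInner_self_irr ν.2, classInner_irr_of_ne μ.2 ν.2 hne']
    simp
  obtain ⟨n, hn⟩ := IsCharacter.exists_classInner_nat h (IsIrrCharacter.isCharacter μ.2)
  obtain ⟨m, hm⟩ := IsCharacter.exists_classInner_nat h (IsIrrCharacter.isCharacter ν.2)
  have hs' : s = (n : ℤ) := by exact_mod_cast hsμ.trans hn
  have ht' : t = (m : ℤ) := by exact_mod_cast htν.trans hm
  have hs1 : s = 1 := by omega
  have ht1 : t = 1 := by omega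
  exact ⟨μ, ν, hne, by rw [ha, hs1, ht1]; simp⟩

theorem classInner_comp (e : G ≃* G) (a b : G → ℂ) :
    Cfsg.classInner (fun g => a (e g)) (fun g => b (e g)) = Cfsg.classInner a b := by
  simp only [Cfsg.classInner]
  congr 1
  exact Fintype.sum_equiv e.toEquiv _ _ fun g => rfl

theorem irr_comp (e : G ≃* G) {a : G → ℂ} (h : Cfsg.IsIrrCharacter G a) :
    Cfsg.IsIrrCharacter G (fun g => a (e g)) :=
  IsIrrCharacter.comp h e.toMonoidHom e.surjective

theorem irr_central_mul {χ : G → ℂ} (h : Cfsg.IsIrrCharacter G χ) {z : G}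
    (hz : z ∈ Subgroup.center G) (g : G) : χ (z * g) = χ z / χ 1 * χ g := by
  obtain ⟨c, -, hc, -⟩ := IsIrrCharacter.exists_central_scalar h hz
  have h1 := hc 1
  rw [mul_one] at h1
  rw [hc g, h1, mul_div_assoc, div_self (IsIrrCharacter.one_ne_zero h), mul_one]

end group

end Cfsg.Agent.CharTools
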