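/-
The number of conjugacy classes of `GL_n` over a finite field lies between `q^n - q^(n-1)` and `q^n`.
-/
import Mathlib.Algebra.Module.PID
import Mathlib.Algebra.Polynomial.Module.AEval
import Mathlib.LinearAlgebra.Matrix.Charpoly.Minpoly
import Mathlib.LinearAlgebra.Matrix.GeneralLinearGroup.Defs
import Mathlib.RingTheory.AdjoinRoot
import Mathlib

set_option autoImplicit false

namespace Cfsg.Agent.GLCount

open Polynomial Module

/-- the number of monic polynomials of degree `a` with nonzero constant term -/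
def c (q a : ℕ) : ℕ := if a = 0 then 1 else (q - 1) * q ^ (a - 1)

/-- the coefficient of `t^n` in `∏_{i ≤ m} ∑_a c(a) t^(ia)` -/
def cnt (q : ℕ) : ℕ → ℕ → ℕ
  | 0, n => if n = 0 then 1 else 0
  | m + 1, n => ∑ a ∈ Finset.range (n / (m + 1) + 1), c q a * cnt q m (n - a * (m + 1))

theorem cnt_zero (q : ℕ) : ∀ m, cnt q m 0 = 1
  | 0 => rfl
  | m + 1 => by simp [cnt, c, cnt_zero q m]

theorem sum_eq {q : ℕ} (hq : 1 ≤ q) (m n : ℕ) : ∀ A, A * (m + 1) ≤ n →
    (∑ a ∈ Finset.range (A + 1), (c q a : ℤ) * (q : ℤ) ^ (n - a * (m + 1))) * ((q : ℤ) ^ m - 1) * q =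
      (q : ℤ) ^ (n + 1) * ((q : ℤ) ^ m - 1) + ((q : ℤ) - 1) * ((q : ℤ) ^ n - (q : ℤ) ^ (n - A * m))
  | 0, _ => by simp [c]; ring
  | A + 1, h => by
    have hle : A * (m + 1) ≤ n := le_trans (Nat.mul_le_mul_right _ (Nat.le_succ A)) h
    have ih := sum_eq hq m n A hle
    have h1 : (A + 1) * (m + 1) = A * m + A + m + 1 := by ring
    have h2 : (A + 1) * m = A * m + m := by ring
    obtain ⟨e, he⟩ : ∃ e, n = (A + 1) * (m + 1) + e := ⟨_, (Nat.add_sub_cancel' h).symm⟩
    rw [Finset.sum_range_succ, add_mul, add_mul, ih]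
    have e1 : n - (A + 1) * (m + 1) = e := by omega
    have e2 : n - A * m = e + A + m + 1 := by omega
    have e3 : n - (A + 1) * m = e + A + 1 := by omega
    rw [e1, e2, e3, c, if_neg (Nat.succ_ne_zero A), Nat.add_sub_cancel]
    push_cast [Nat.cast_sub hq]
    ring

theorem cnt_le {q : ℕ} (hq : 1 ≤ q) : ∀ m n, 1 ≤ n →
    (cnt q m n : ℤ) * (q : ℤ) ^ m ≤ (q : ℤ) ^ n * ((q : ℤ) ^ m - 1)
  | 0, n, hn => by simp [cnt, Nat.one_le_iff_ne_zero.1 hn]
  | m + 1, n, hn => by
    obtain ⟨b, hb⟩ : ∃ b, n / (m + 1) = b := ⟨_, rfl⟩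
    have hdiv := Nat.div_add_mod n (m + 1)
    have hmod := Nat.mod_lt n (show 0 < m + 1 by omega)
    rw [hb] at hdiv
    have hq' : (0 : ℤ) ≤ q := by positivity
    have hq1 : (1 : ℤ) ≤ q := by exact_mod_cast hq
    have main : ∀ A, A * (m + 1) < n →
        (∑ a ∈ Finset.range (A + 1), (c q a : ℤ) * (cnt q m (n - a * (m + 1)) : ℤ)) *
          (q : ℤ) ^ (m + 1) ≤
        (q : ℤ) ^ (n + 1) * ((q : ℤ) ^ m - 1) +
          ((q : ℤ) - 1) * ((q : ℤ) ^ n - (q : ℤ) ^ (n - A * m)) := by
      intro A hA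
      rw [← sum_eq hq m n A hA.le, pow_succ, ← mul_assoc]
      refine mul_le_mul_of_nonneg_right ?_ hq'
      rw [Finset.sum_mul, Finset.sum_mul]
      refine Finset.sum_le_sum fun a ha => ?_
      rw [Finset.mem_range] at ha
      have : a * (m + 1) ≤ A * (m + 1) := Nat.mul_le_mul_right _ (by omega)
      rw [mul_assoc, mul_assoc]
      exact mul_le_mul_of_nonneg_left (cnt_le hq m _ (by omega)) (by positivity)
    have hrhs : (q : ℤ) ^ n * ((q : ℤ) ^ (m + 1) - 1) =
        (q : ℤ) ^ (n + 1) * ((q : ℤ) ^ m - 1) + ((q : ℤ) - 1) * (q : ℤ) ^ n := by ring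
    rw [cnt, hb, hrhs]
    push_cast
    rcases Nat.eq_zero_or_pos (n % (m + 1)) with hr | hr
    · rw [hr, add_zero] at hdiv
      obtain ⟨A, rfl⟩ : ∃ A, b = A + 1 := ⟨b - 1, by
        rcases Nat.eq_zero_or_pos b with h | h
        · rw [h, mul_zero] at hdiv; omega
        · omega⟩
      have h1 : (m + 1) * (A + 1) = A * (m + 1) + (m + 1) := by ring
      have h2 : A * (m + 1) = A * m + A := by ring
      have hm := main A (by omega)
      rw [Finset.sum_range_succ, add_mul, show n - (A + 1) * (m + 1) = 0 by rw [mul_comm]; omega,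
        cnt_zero, c, if_neg (Nat.succ_ne_zero A), Nat.add_sub_cancel]
      rw [show n - A * m = A + (m + 1) by omega, pow_add (q : ℤ) A (m + 1)] at hm
      push_cast [Nat.cast_sub hq]
      linarith
    · have h1 : b * (m + 1) = (m + 1) * b := mul_comm _ _
      have hm := main b (by omega)
      have h3 : 0 ≤ ((q : ℤ) - 1) * (q : ℤ) ^ (n - b * m) := mul_nonneg (by linarith) (by positivity)
      linarith

theorem cnt_diag_le {q n : ℕ} (hq : 1 ≤ q) (hn : 1 ≤ n) : cnt q n n ≤ q ^ n := by
  have h := cnt_le hq n n hn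
  have hpos : (0 : ℤ) < (q : ℤ) ^ n := pow_pos (by exact_mod_cast hq) n
  have : (cnt q n n : ℤ) ≤ (q : ℤ) ^ n - 1 := by
    refine le_of_mul_le_mul_right ?_ hpos
    rw [mul_comm ((q : ℤ) ^ n - 1)]
    exact h
  have h2 : (cnt q n n : ℤ) ≤ ((q ^ n : ℕ) : ℤ) := by push_cast; linarith
  exact_mod_cast h2

section Polys

variable (F : Type*) [Field F]

/-- `X^a + ∑ c_i X^i` -/
noncomputable def mkP {a : ℕ} (f : Fin a → F) : F[X] := X ^ a + ∑ i : Fin a, C (f i) * X ^ (i : ℕ)

theorem mkP_coeff {a : ℕ} (f : Fin a → F) (i : Fin a) : (mkP F f).coeff (i : ℕ) = f i := by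
  simp [mkP, finsetSum_coeff, coeff_C_mul, coeff_X_pow, Fin.val_inj, i.2.ne]

theorem mkP_monic {a : ℕ} (f : Fin a → F) : (mkP F f).Monic :=
  monic_X_pow_add (degree_sum_fin_lt f)

theorem mkP_natDegree {a : ℕ} (f : Fin a → F) : (mkP F f).natDegree = a := by
  refine natDegree_eq_of_degree_eq_some ?_
  rw [mkP, degree_add_eq_left_of_degree_lt (by rw [degree_X_pow]; exact degree_sum_fin_lt f),
    degree_X_pow]

variable [Fintype F] [DecidableEq F]

/-- coefficient vectors of degree `a` with nonzero constant term -/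
def coefs (a : ℕ) : Finset (Fin (a + 1) → F) :=
  Fintype.piFinset (Fin.cons (Finset.univ.erase 0) fun _ => Finset.univ)

theorem coefs_card (a : ℕ) : (coefs F a).card = (Fintype.card F - 1) * Fintype.card F ^ a := by
  rw [coefs, Fintype.card_piFinset, Fin.prod_univ_succ]
  simp

theorem mem_coefs {a : ℕ} {f : Fin (a + 1) → F} : f ∈ coefs F a ↔ f 0 ≠ 0 := by
  rw [coefs, Fintype.mem_piFinset]
  refine ⟨fun h => by simpa using h 0, fun h i => ?_⟩
  refine Fin.cases (by simpa using h) (fun j => ?_) i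
  simp

open Classical in
/-- monic polynomials of degree `a` with nonzero constant term -/
noncomputable def polys : ℕ → Finset F[X]
  | 0 => {1}
  | a + 1 => (coefs F a).image (mkP F)

theorem polys_card (a : ℕ) : (polys F a).card ≤ c (Fintype.card F) a := by
  classical
  cases a with
  | zero => simp [polys, c]
  | succ a =>
    rw [polys, c, if_neg (Nat.succ_ne_zero a), Nat.add_sub_cancel]
    exact Finset.card_image_le.trans (coefs_card F a).le

theorem mem_polys {p : F[X]} (hp : p.Monic) (h0 : p.eval 0 ≠ 0) : p ∈ polys F p.natDegree := by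
  classical
  obtain ⟨d, hd⟩ : ∃ d, p.natDegree = d := ⟨_, rfl⟩
  rw [hd]
  cases d with
  | zero => simp [polys, hp.natDegree_eq_zero.1 hd]
  | succ a =>
    rw [polys, Finset.mem_image]
    refine ⟨fun i => p.coeff (i : ℕ), ?_, ?_⟩
    · rw [mem_coefs, Fin.val_zero, coeff_zero_eq_eval_zero]
      exact h0
    · conv_rhs => rw [hp.as_sum, hd]
      rw [mkP, Fin.sum_univ_eq_sum_range (fun i => C (p.coeff i) * X ^ i) (a + 1)]

open Classical in
/-- sequences of polynomials -/
noncomputable def seqs : ℕ → ℕ → Finset (List F[X])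
  | 0, n => if n = 0 then {[]} else ∅
  | m + 1, n => (Finset.range (n / (m + 1) + 1)).biUnion fun a =>
      (polys F a ×ˢ seqs m (n - a * (m + 1))).image fun x => x.1 :: x.2

theorem seqs_card : ∀ m n, (seqs F m n).card ≤ cnt (Fintype.card F) m n
  | 0, n => by by_cases h : n = 0 <;> simp [seqs, cnt, h]
  | m + 1, n => by
    classical
    rw [seqs, cnt]
    refine Finset.card_biUnion_le.trans (Finset.sum_le_sum fun a _ => ?_)
    refine Finset.card_image_le.trans ?_
    rw [Finset.card_product]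
    exact Nat.mul_le_mul (polys_card F a) (seqs_card m _)

/-- `[G (m-1), ..., G 0]` -/
def lst {α : Type*} (G : ℕ → α) : ℕ → List α
  | 0 => []
  | m + 1 => G m :: lst G m

theorem lst_mem {G : ℕ → F[X]} (hm : ∀ j, (G j).Monic) (h0 : ∀ j, (G j).eval 0 ≠ 0) :
    ∀ m n, ∑ j ∈ Finset.range m, (j + 1) * (G j).natDegree = n → lst G m ∈ seqs F m n
  | 0, n, h => by simp only [Finset.sum_range_zero] at h; simp [seqs, lst, ← h]
  | m + 1, n, h => by
    classical
    rw [Finset.sum_range_succ] at h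
    rw [seqs, Finset.mem_biUnion]
    refine ⟨(G m).natDegree, Finset.mem_range.2 (Nat.lt_succ_iff.2
      ((Nat.le_div_iff_mul_le (by omega)).2 (by rw [mul_comm]; omega))), ?_⟩
    rw [Finset.mem_image]
    refine ⟨(G m, lst G m), Finset.mem_product.2 ⟨mem_polys F (hm m) (h0 m),
      lst_mem hm h0 m _ ?_⟩, rfl⟩
    rw [mul_comm (G m).natDegree]
    omega

end Polys

theorem lst_inj {α : Type*} {G G' : ℕ → α} : ∀ m, lst G m = lst G' m → ∀ j < m, G j = G' j
  | 0, _, j, hj => absurd hj (by omega)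
  | m + 1, h, j, hj => by
    obtain ⟨h1, h2⟩ := List.cons.inj h
    rcases Nat.lt_succ_iff_lt_or_eq.1 hj with h3 | rfl
    · exact lst_inj m h2 j h3
    · exact h1

section Code

universe u

variable {F : Type u} [Field F] {n : ℕ}

/-- a block -/
abbrev Blk (p : F[X]) (e : ℕ) : Type u := F[X] ⧸ Submodule.span F[X] {p ^ e}

theorem finrank_blk (p : F[X]) (e : ℕ) : finrank F (Blk p e) = e * p.natDegree := by
  rw [← natDegree_pow]
  exact finrank_quotient_span_eq_natDegree

theorem subsingleton_blk (p : F[X]) {e : ℕ} (he : e = 0) : Subsingleton (Blk p e) := by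
  subst he
  rw [Submodule.Quotient.subsingleton_iff, pow_zero]
  exact Ideal.span_singleton_one

/-- the linear map of a matrix -/
noncomputable def lin (g : Matrix (Fin n) (Fin n) F) : (Fin n → F) →ₗ[F] (Fin n → F) :=
  Matrix.toLinAlgEquiv' g

/-- an invertible matrix has an elementary divisor decomposition -/
theorem exists_decomp (g : Matrix.GeneralLinearGroup (Fin n) F) :
    ∃ (ι : Type u) (_ : Fintype ι) (p : ι → F[X]) (e : ι → ℕ),
      (∀ i, Irreducible (p i) ∧ (p i).Monic) ∧ (∀ i, e i ≠ 0 → (p i).eval 0 ≠ 0) ∧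
      ∑ i, e i * (p i).natDegree = n ∧
      Nonempty (AEval' (lin g.1) ≃ₗ[F[X]] ((i : ι) → Blk (p i) (e i))) := by
  classical
  have htor : Module.IsTorsion F[X] (AEval' (lin g.1)) := by
    intro x
    refine ⟨⟨minpoly F (lin g.1), mem_nonZeroDivisors_of_ne_zero
      (minpoly.ne_zero (Algebra.IsIntegral.isIntegral _))⟩, ?_⟩
    obtain ⟨v, rfl⟩ := (AEval'.of (lin g.1)).surjective x
    show (minpoly F (lin g.1)) • AEval'.of (lin g.1) v = 0
    rw [← AEval.of_aeval_smul, minpoly.aeval, zero_smul, map_zero]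
  obtain ⟨ι, hι, p, hp, e, ⟨φ⟩⟩ := Module.equiv_directSum_of_isTorsion htor
  have hspan : ∀ i, Submodule.span F[X] {p i ^ e i} = Submodule.span F[X] {(normalize (p i)) ^ e i} :=
    fun i => Ideal.span_singleton_eq_span_singleton.2 ((associated_normalize (p i)).pow_pow)
  let Φ : AEval' (lin g.1) ≃ₗ[F[X]] ((i : ι) → Blk (normalize (p i)) (e i)) :=
    (φ.trans (DirectSum.linearEquivFunOnFintype F[X] ι fun i => F[X] ⧸ Submodule.span F[X] {p i ^ e i})).trans
      (LinearEquiv.piCongrRight fun i => Submodule.quotEquivOfEq _ _ (hspan i))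
  refine ⟨ι, hι, fun i => normalize (p i), e, fun i =>
    ⟨(associated_normalize _).irreducible (hp i), Polynomial.monic_normalize (hp i).ne_zero⟩, ?_, ?_, ⟨Φ⟩⟩
  · intro i he h0
    have hX : normalize (p i) = X := by
      refine (eq_of_monic_of_associated monic_X (Polynomial.monic_normalize (hp i).ne_zero) ?_).symm
      refine irreducible_X.associated_of_dvd ((associated_normalize _).irreducible (hp i)) ?_
      rw [X_dvd_iff, coeff_zero_eq_eval_zero, h0]
    obtain ⟨z, hz⟩ : ∃ z : (i : ι) → Blk (normalize (p i)) (e i),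
        Pi.single i (Submodule.Quotient.mk ((X : F[X]) ^ (e i - 1))) = z := ⟨_, rfl⟩
    have hXz : (X : F[X]) • z = 0 := by
      rw [← hz, ← Pi.single_smul]
      refine Pi.single_eq_zero_iff.2 ?_
      rw [← Submodule.Quotient.mk_smul, Submodule.Quotient.mk_eq_zero, hX, smul_eq_mul, ← pow_succ',
        show e i - 1 + 1 = e i by omega]
      exact Submodule.mem_span_singleton_self _
    have hz0 : z ≠ 0 := by
      rw [← hz]
      refine fun h => ?_
      rw [Pi.single_eq_zero_iff, Submodule.Quotient.mk_eq_zero, hX, Submodule.mem_span_singleton] at h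
      obtain ⟨a, ha⟩ := h
      have hd : (X : F[X]) ^ e i ∣ X ^ (e i - 1) := ⟨a, by rw [← ha, smul_eq_mul, mul_comm]⟩
      have := (pow_dvd_pow_iff X_ne_zero not_isUnit_X).1 hd
      omega
    obtain ⟨v, hv⟩ := (AEval'.of (lin g.1)).surjective (Φ.symm z)
    have h1 := congrArg Φ.symm hXz
    rw [map_smul, map_zero, ← hv, AEval'.X_smul_of, LinearEquiv.map_eq_zero_iff] at h1
    have hv0 : v = 0 := by
      have h2 : Matrix.toLinAlgEquiv' (g⁻¹).1 (Matrix.toLinAlgEquiv' g.1 v) = 0 := by
        rw [show Matrix.toLinAlgEquiv' g.1 v = 0 from h1, map_zero]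
      rwa [← Module.End.mul_apply, ← map_mul, Units.inv_mul, map_one, Module.End.one_apply] at h2
    rw [hv0, map_zero] at hv
    exact hz0 (Φ.symm.injective (by rw [← hv, map_zero]))
  · have hne : ∀ i, normalize (p i) ≠ 0 := fun i => by simp [(hp i).ne_zero]
    haveI : ∀ i, Module.Finite F (Blk (normalize (p i)) (e i)) := fun i =>
      ((Polynomial.monic_normalize (hp i).ne_zero).pow (e i)).finite_quotient
    have h := (((AEval'.of (lin g.1)).trans (Φ.restrictScalars F))).finrank_eq
    rw [Module.finrank_fin_fun, Module.finrank_pi_fintype] at h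
    rw [h]
    exact Finset.sum_congr rfl fun i _ => (finrank_blk _ _).symm

/-- the code of a decomposition -/
noncomputable def code {ι : Type u} [Fintype ι] (p : ι → F[X]) (e : ι → ℕ) (j : ℕ) : F[X] :=
  (((Finset.univ.filter fun i => e i = j + 1).val).map p).prod

theorem blk_congr {p p' : F[X]} {e e' : ℕ} (h : p = p') (h' : e = e') :
    Nonempty (Blk p e ≃ₗ[F[X]] Blk p' e') := by
  subst h h'
  exact ⟨LinearEquiv.refl _ _⟩

/-- forgetting the trivial blocks -/
noncomputable def dropZero {ι : Type u} (p : ι → F[X]) (e : ι → ℕ) :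
    ((i : ι) → Blk (p i) (e i)) ≃ₗ[F[X]] ((i : {i // e i ≠ 0}) → Blk (p i.1) (e i.1)) where
  toFun x i := x i.1
  map_add' _ _ := rfl
  map_smul' _ _ := rfl
  invFun y i := if h : e i ≠ 0 then y ⟨i, h⟩ else 0
  left_inv x := funext fun i => by
    by_cases h : e i ≠ 0
    · simp [h]
    · haveI := subsingleton_blk (p i) (not_not.1 h)
      exact Subsingleton.elim _ _
  right_inv y := funext fun i => by simp [i.2]

theorem blocks_equiv {ι κ : Type u} [Fintype ι] [Fintype κ] (p : ι → F[X]) (e : ι → ℕ) (p' : κ → F[X])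
    (e' : κ → ℕ) (hp : ∀ i, Irreducible (p i) ∧ (p i).Monic) (hp' : ∀ i, Irreducible (p' i) ∧ (p' i).Monic)
    (hn : ∀ i, e i ≤ n) (hn' : ∀ i, e' i ≤ n) (h : ∀ j < n, code p e j = code p' e' j) :
    Nonempty (((i : ι) → Blk (p i) (e i)) ≃ₗ[F[X]] ((i : κ) → Blk (p' i) (e' i))) := by
  classical
  have hm : ∀ j < n, ((Finset.univ.filter fun i => e i = j + 1).val).map p =
      ((Finset.univ.filter fun i => e' i = j + 1).val).map p' := by
    intro j hj
    have h1 := UniqueFactorizationMonoid.factors_unique (f := ((Finset.univ.filter fun i => e i = j + 1).val).map p)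
      (g := ((Finset.univ.filter fun i => e' i = j + 1).val).map p')
      (fun x hx => by obtain ⟨i, -, rfl⟩ := Multiset.mem_map.1 hx; exact (hp i).1)
      (fun x hx => by obtain ⟨i, -, rfl⟩ := Multiset.mem_map.1 hx; exact (hp' i).1)
      (by show Associated (code p e j) (code p' e' j); rw [h j hj])
    refine Multiset.rel_eq.1 (h1.mono fun a ha b hb hab => ?_)
    obtain ⟨i, -, rfl⟩ := Multiset.mem_map.1 ha
    obtain ⟨k, -, rfl⟩ := Multiset.mem_map.1 hb
    exact eq_of_monic_of_associated (hp i).2 (hp' k).2 hab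
  let κ₁ : {i // e i ≠ 0} → F[X] × ℕ := fun i => (p i.1, e i.1)
  let κ₂ : {i // e' i ≠ 0} → F[X] × ℕ := fun i => (p' i.1, e' i.1)
  have hfib : ∀ x : F[X] × ℕ, Fintype.card {i // κ₁ i = x} = Fintype.card {i // κ₂ i = x} := by
    rintro ⟨P, E⟩
    by_cases hE : E = 0 ∨ n < E
    · have z1 : IsEmpty {i // κ₁ i = (P, E)} := ⟨fun ⟨i, hi⟩ => by
        have h1 : e i.1 = E := congrArg Prod.snd hi
        have := i.2; have := hn i.1; omega⟩
      have z2 : IsEmpty {i // κ₂ i = (P, E)} := ⟨fun ⟨i, hi⟩ => by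
        have h1 : e' i.1 = E := congrArg Prod.snd hi
        have := i.2; have := hn' i.1; omega⟩
      rw [Fintype.card_eq_zero, Fintype.card_eq_zero]
    push Not at hE
    obtain ⟨j, rfl⟩ : ∃ j, E = j + 1 := ⟨E - 1, by omega⟩
    have key : ∀ {ι' : Type u} [Fintype ι'] (q : ι' → F[X]) (d : ι' → ℕ),
        Fintype.card {i : {i // d i ≠ 0} // (q i.1, d i.1) = (P, j + 1)} =
          (((Finset.univ.filter fun i => d i = j + 1).val).map q).count P := by
      intro ι' _ q d
      rw [Multiset.count_map, ← Finset.filter_val, ← Finset.card_def, Finset.filter_filter,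
        ← Fintype.card_subtype]
      refine Fintype.card_congr
        { toFun := fun i => ⟨i.1.1, (congrArg Prod.snd i.2 :), (congrArg Prod.fst i.2).symm⟩
          invFun := fun i => ⟨⟨i.1, by rw [i.2.1]; omega⟩, Prod.ext i.2.2.symm i.2.1⟩
          left_inv := fun _ => rfl
          right_inv := fun _ => rfl }
    exact (key p e).trans ((congrArg (Multiset.count P) (hm j (by omega))).trans (key p' e').symm)
  let σ := Equiv.ofFiberEquiv fun x => Fintype.equivOfCardEq (hfib x)
  have hσ : ∀ i, κ₂ (σ i) = κ₁ i := fun i => Equiv.ofFiberEquiv_map _ i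
  exact ⟨(dropZero p e).trans (((LinearEquiv.piCongrRight fun i =>
    (blk_congr (congrArg Prod.fst (hσ i)).symm (congrArg Prod.snd (hσ i)).symm).some).trans
      (LinearEquiv.piCongrLeft F[X] (fun j : {i // e' i ≠ 0} => Blk (p' j.1) (e' j.1)) σ)).trans
        (dropZero p' e').symm)⟩

theorem isConj_of_equiv {g g' : Matrix.GeneralLinearGroup (Fin n) F}
    (Φ : AEval' (lin g.1) ≃ₗ[F[X]] AEval' (lin g'.1)) : IsConj g g' := by
  let L : (Fin n → F) ≃ₗ[F] (Fin n → F) :=
    ((AEval'.of (lin g.1)).trans (Φ.restrictScalars F)).trans (AEval'.of (lin g'.1)).symm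
  have hL : ∀ v, L (lin g.1 v) = lin g'.1 (L v) := by
    intro v
    show (AEval'.of (lin g'.1)).symm (Φ (AEval'.of (lin g.1) (lin g.1 v))) =
      lin g'.1 ((AEval'.of (lin g'.1)).symm (Φ (AEval'.of (lin g.1) v)))
    rw [← AEval'.X_smul_of, map_smul, AEval'.of_symm_X_smul]
  rw [isConj_iff]
  obtain ⟨u, hu⟩ : ∃ u : Matrix.GeneralLinearGroup (Fin n) F,
      Matrix.toLinAlgEquiv' u.1 = (L : Module.End F (Fin n → F)) :=
    ⟨Units.map (Matrix.toLinAlgEquiv' (R := F) (n := Fin n)).symm.toRingHom.toMonoidHom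
      (LinearMap.GeneralLinearGroup.ofLinearEquiv L), Matrix.toLinAlgEquiv'.apply_symm_apply _⟩
  refine ⟨u, mul_inv_eq_iff_eq_mul.2 (Units.ext (Matrix.toLinAlgEquiv'.injective ?_))⟩
  rw [Units.val_mul, Units.val_mul, map_mul, map_mul, hu]
  exact LinearMap.ext hL

variable [Fintype F]

theorem card_classes_le (hn : 1 ≤ n) :
    Nat.card (ConjClasses (Matrix.GeneralLinearGroup (Fin n) F)) ≤ Fintype.card F ^ n := by
  classical
  choose ι hι p e hp h0 hsum hΦ using fun g : Matrix.GeneralLinearGroup (Fin n) F => exists_decomp g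
  let G : Matrix.GeneralLinearGroup (Fin n) F → List F[X] := fun g => lst (code (p g) (e g)) n
  have hle : ∀ g i, e g i ≤ n := fun g i => by
    have h1 := Finset.single_le_sum (f := fun i => e g i * (p g i).natDegree) (fun _ _ => Nat.zero_le _)
      (Finset.mem_univ i)
    rw [hsum g] at h1
    exact le_trans (Nat.le_mul_of_pos_right _ (hp g i).1.natDegree_pos) h1
  have hmem : ∀ g, G g ∈ seqs F n n := by
    intro g
    refine lst_mem F (fun j => monic_multiset_prod_of_monic _ _ fun i _ => (hp g i).2) (fun j => ?_) n n ?_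
    · show (code (p g) (e g) j).eval 0 ≠ 0
      unfold code
      rw [eval_multiset_prod, Multiset.map_map]
      refine Multiset.prod_ne_zero fun hz => ?_
      obtain ⟨i, hi, hz⟩ := Multiset.mem_map.1 hz
      rw [Finset.mem_val, Finset.mem_filter] at hi
      exact h0 g i (by omega) hz
    · have hd : ∀ j, (code (p g) (e g) j).natDegree =
          ∑ i ∈ Finset.univ.filter (fun i => e g i = j + 1), (p g i).natDegree := fun j => by
        rw [code, natDegree_multiset_prod_of_monic _ fun f hf => by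
          obtain ⟨i, -, rfl⟩ := Multiset.mem_map.1 hf; exact (hp g i).2, Multiset.map_map]
        rfl
      show ∑ j ∈ Finset.range n, (j + 1) * (code (p g) (e g) j).natDegree = n
      simp only [hd, Finset.mul_sum]
      conv_rhs => rw [← hsum g]
      rw [Finset.sum_congr rfl fun j _ => Finset.sum_filter _ _, Finset.sum_comm]
      refine Finset.sum_congr rfl fun i _ => ?_
      rcases Nat.eq_zero_or_pos (e g i) with hz | hz
      · simp [hz]
      · rw [Finset.sum_eq_single (e g i - 1) (fun j _ hj => if_neg (by omega))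
          (fun hj => absurd (Finset.mem_range.2 (by have := hle g i; omega)) hj), if_pos (by omega),
          show e g i - 1 + 1 = e g i by omega]
  have hinj : ∀ g g', G g = G g' → IsConj g g' := by
    intro g g' h
    obtain ⟨Φ⟩ := blocks_equiv (p g) (e g) (p g') (e g') (hp g) (hp g') (hle g) (hle g') (lst_inj n h)
    obtain ⟨Φ₁⟩ := hΦ g
    obtain ⟨Φ₂⟩ := hΦ g'
    exact isConj_of_equiv ((Φ₁.trans Φ).trans Φ₂.symm)
  let cl : ConjClasses (Matrix.GeneralLinearGroup (Fin n) F) → {x // x ∈ seqs F n n} :=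
    fun C => ⟨G C.out, hmem _⟩
  have hcl : Function.Injective cl := fun C C' h => by
    have h1 := ConjClasses.mk_eq_mk_iff_isConj.2 (hinj _ _ (congrArg Subtype.val h))
    rwa [show ConjClasses.mk C.out = C from Quotient.out_eq C,
      show ConjClasses.mk C'.out = C' from Quotient.out_eq C'] at h1
  refine (Nat.card_le_card_of_injective cl hcl).trans ?_
  rw [Nat.card_eq_fintype_card, Fintype.card_coe]
  exact (seqs_card F n n).trans (cnt_diag_le Fintype.card_pos hn)

theorem card_classes_ge (hn : 1 ≤ n) :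
    Fintype.card F ^ n - Fintype.card F ^ (n - 1) ≤
      Nat.card (ConjClasses (Matrix.GeneralLinearGroup (Fin n) F)) := by
  classical
  obtain ⟨a, rfl⟩ : ∃ a, n = a + 1 := ⟨n - 1, by omega⟩
  have hM : ∀ f : {f // f ∈ coefs F a}, ∃ g : Matrix.GeneralLinearGroup (Fin (a + 1)) F,
      g.1.charpoly = mkP F f.1 := by
    intro f
    have hm := mkP_monic F f.1
    have hne := hm.ne_zero
    let B := AdjoinRoot.powerBasis hne
    have hdim : B.dim = a + 1 := by rw [AdjoinRoot.powerBasis_dim, mkP_natDegree]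
    let M := Matrix.reindex (finCongr hdim) (finCongr hdim) (Algebra.leftMulMatrix B.basis B.gen)
    have hch : M.charpoly = mkP F f.1 := by
      rw [Matrix.charpoly_reindex, charpoly_leftMulMatrix, AdjoinRoot.powerBasis_gen,
        AdjoinRoot.minpoly_root hne, hm.leadingCoeff, inv_one, map_one, mul_one]
    have hdet : M.det ≠ 0 := by
      rw [Matrix.det_eq_sign_charpoly_coeff, hch]
      refine mul_ne_zero (pow_ne_zero _ (neg_ne_zero.2 one_ne_zero)) ?_
      rw [show (0 : ℕ) = ((0 : Fin (a + 1)) : ℕ) from rfl, mkP_coeff]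
      exact (mem_coefs F).1 f.2
    exact ⟨Matrix.GeneralLinearGroup.mkOfDetNeZero M hdet, hch⟩
  choose g hg using hM
  have hinj : Function.Injective fun f => ConjClasses.mk (g f) := by
    intro f f' h
    obtain ⟨u, hu⟩ := isConj_iff.1 (ConjClasses.mk_eq_mk_iff_isConj.1 h)
    have h1 : (g f').1.charpoly = (g f).1.charpoly := by
      rw [← hu, Units.val_mul, Units.val_mul, Matrix.coe_units_inv]
      exact Matrix.charpoly_units_conj u _
    rw [hg, hg] at h1
    refine Subtype.ext (funext fun i => ?_)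
    rw [← mkP_coeff F f.1 i, ← h1, mkP_coeff]
  refine le_trans ?_ (Nat.card_le_card_of_injective _ hinj)
  rw [Nat.card_eq_fintype_card, Fintype.card_coe, coefs_card, Nat.sub_mul, one_mul, ← pow_succ',
    Nat.add_sub_cancel]

end Code

end Cfsg.Agent.GLCount
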