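/-
Maximality of the dihedral torus normalisers.
-/
import Cfsg.Agent.Lib.Classical.DicksonProper
import Mathlib.GroupTheory.SpecificGroups.Dihedral
import Mathlib.GroupTheory.SpecificGroups.Alternating

set_option autoImplicit false
set_option linter.style.haveILetI false

namespace Cfsg.Agent.Dickson

open Matrix PStable

theorem a4_inverting : ∀ a g : alternatingGroup (Fin 4), g * g = 1 → g * a * g⁻¹ = a⁻¹ → g ≠ 1 →
    a ^ 2 = 1 := by decide +kernel

theorem s4_orders : ∀ a : Equiv.Perm (Fin 4), a = 1 ∨ a ^ 2 = 1 ∨ a ^ 3 = 1 ∨ a ^ 4 = 1 := by decide +kernel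

theorem a5_orders : ∀ a : alternatingGroup (Fin 5), a = 1 ∨ a ^ 2 = 1 ∨ a ^ 3 = 1 ∨ a ^ 5 = 1 := by decide +kernel

theorem le_of_A4 {D : Type*} [Group D] {k : ℕ} (e : D ≃* DihedralGroup k) (f : D →* alternatingGroup (Fin 4))
    (hf : Function.Injective f) : k ≤ 2 := by
  have hinj : Function.Injective (f.comp e.symm.toMonoidHom) := hf.comp e.symm.injective
  have h := a4_inverting (f.comp e.symm.toMonoidHom (DihedralGroup.r 1)) (f.comp e.symm.toMonoidHom (DihedralGroup.sr 0))
    (by rw [← map_mul, DihedralGroup.sr_mul_sr, sub_self, DihedralGroup.one_def.symm, map_one])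
    (by rw [← map_inv, ← map_mul, ← map_mul, ← map_inv]; congr 1; simp)
    (fun h => by
      rw [← map_one (f.comp e.symm.toMonoidHom)] at h
      exact absurd (hinj h) (fun h' => by rw [DihedralGroup.one_def] at h'; cases h'))
  rw [← map_pow, ← map_one (f.comp e.symm.toMonoidHom)] at h
  have h2 := Nat.le_of_dvd (by norm_num) (orderOf_dvd_of_pow_eq_one (hinj h))
  rwa [DihedralGroup.orderOf_r_one] at h2

theorem le_of_orders {D G : Type*} [Group D] [Group G] {k c : ℕ} (e : D ≃* DihedralGroup k) (f : D →* G)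
    (hf : Function.Injective f) (hG : ∀ g : G, ∃ i, 0 < i ∧ i ≤ c ∧ g ^ i = 1) : k ≤ c := by
  have hinj : Function.Injective (f.comp e.symm.toMonoidHom) := hf.comp e.symm.injective
  obtain ⟨i, hi, hic, hp⟩ := hG (f.comp e.symm.toMonoidHom (DihedralGroup.r 1))
  rw [← map_pow, ← map_one (f.comp e.symm.toMonoidHom)] at hp
  have h2 := Nat.le_of_dvd hi (orderOf_dvd_of_pow_eq_one (hinj hp))
  rw [DihedralGroup.orderOf_r_one] at h2
  omega

variable {F : Type*} [Field F] [Finite F]

local notation "P" => Matrix.ProjectiveSpecialLinearGroup (Fin 2) F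

/-- A subgroup strictly between `D` and the whole group is one of a short list. -/
theorem dihedral_overgroup (p : ℕ) [Fact p.Prime] [CharP F p] {k : ℕ} (hk : 2 ≤ k) {D G : Subgroup P}
    (e : D ≃* DihedralGroup k) (hDG : D < G) (hG : G ≠ ⊤) :
    (∃ k', (Nat.card (Subgroup.center (SpecialLinearGroup (Fin 2) F)) * k' ≤ Nat.card F + 1) ∧
        2 * k ∣ 2 * k' ∧ k < k') ∨
      (∃ S : Sylow p P, G ≤ Subgroup.normalizer ((S : Subgroup P) : Set P)) ∨
      (k ≤ 2 ∧ Nat.card G = 12) ∨ (k ≤ 4 ∧ Nat.card G = 24) ∨ (k ≤ 5 ∧ Nat.card G = 60) ∨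
      (∃ r m : ℕ, 2 ≤ r ∧ 2 ≤ m ∧ r ^ m = Nat.card F ∧ k ≤ r + 1 ∧ Nat.card G ≤ r * (r ^ 2 - 1)) := by
  classical
  have hF1 : 1 < Nat.card F := Finite.one_lt_card
  have hcD : Nat.card D = 2 * k := by rw [Nat.card_congr e.toEquiv, DihedralGroup.nat_card]
  have hlt : 2 * k < Nat.card G := hcD ▸ Set.ncard_lt_ncard (SetLike.coe_ssubset_coe.2 hDG) (Set.toFinite _)
  have hdvd : 2 * k ∣ Nat.card G := hcD ▸ Subgroup.card_dvd_of_le hDG.le
  let f : D →* G := Subgroup.inclusion hDG.le
  have hf : Function.Injective f := Subgroup.inclusion_injective _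
  rcases classify_proper p hG with ⟨k', hk', hc⟩ | h | ⟨⟨e'⟩⟩ | ⟨⟨e'⟩⟩ | ⟨⟨e'⟩⟩ | ⟨K, _, _, m, hm2, hm, hc⟩
  · left
    have hle : Nat.card (Subgroup.center (SpecialLinearGroup (Fin 2) F)) * k' ≤ Nat.card F + 1 := by
      rcases hk' with h | h
      · exact Nat.le_of_dvd (by omega) h
      · have := Nat.le_of_dvd (by omega) h; omega
    rcases hc with ⟨hcyc, hcard⟩ | ⟨⟨e'⟩⟩
    · exfalso
      haveI := hcyc
      let φ : DihedralGroup k →* G := f.comp e.symm.toMonoidHom
      have hφ : Function.Injective φ := hf.comp e.symm.injective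
      haveI hcycD : IsCyclic (DihedralGroup k) := isCyclic_of_injective φ hφ
      obtain ⟨c, hc⟩ := IsCyclic.exists_generator (α := DihedralGroup k)
      have hcomm : ∀ a b : DihedralGroup k, a * b = b * a := fun a b => by
        obtain ⟨i, rfl⟩ := Subgroup.mem_zpowers_iff.1 (hc a)
        obtain ⟨j, rfl⟩ := Subgroup.mem_zpowers_iff.1 (hc b)
        rw [← zpow_add, ← zpow_add, add_comm]
      have h := hcomm (DihedralGroup.r 1) (DihedralGroup.sr 0)
      rw [DihedralGroup.r_mul_sr, DihedralGroup.sr_mul_r] at h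
      have h1 : (0 : ZMod k) - 1 = 0 + 1 := DihedralGroup.sr.inj h
      have h2 : ((2 : ℕ) : ZMod k) = 0 := by
        have : (1 : ZMod k) + 1 = 0 := by linear_combination -h1
        rw [Nat.cast_ofNat]; linear_combination this
      have hk2 : k = 2 := by
        have := Nat.le_of_dvd (by norm_num) ((ZMod.natCast_eq_zero_iff _ _).1 h2)
        omega
      subst hk2
      -- the Klein four group is not cyclic
      have h4 : orderOf c = 4 := by
        rw [orderOf_eq_card_of_forall_mem_zpowers hc, DihedralGroup.nat_card]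
      have hsq : ∀ a : DihedralGroup 2, a ^ 2 = 1 := by decide +kernel
      have h42 := orderOf_dvd_of_pow_eq_one (hsq c)
      rw [h4] at h42
      norm_num at h42
    · rw [Nat.card_congr e'.toEquiv, DihedralGroup.nat_card] at hdvd hlt
      exact ⟨k', hle, hdvd, by omega⟩
  · exact Or.inr (Or.inl h)
  · refine Or.inr (Or.inr (Or.inl ⟨le_of_A4 e (e'.toMonoidHom.comp f) (e'.injective.comp hf), ?_⟩))
    rw [Nat.card_congr e'.toEquiv, nat_card_alternatingGroup, Nat.card_fin]; rfl
  · refine Or.inr (Or.inr (Or.inr (Or.inl ⟨le_of_orders e (e'.toMonoidHom.comp f) (e'.injective.comp hf) fun g => ?_, ?_⟩)))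
    · rcases s4_orders g with h | h | h | h
      exacts [⟨1, by norm_num, by norm_num, by rw [h, one_pow]⟩, ⟨2, by norm_num, by norm_num, h⟩,
        ⟨3, by norm_num, by norm_num, h⟩, ⟨4, by norm_num, by norm_num, h⟩]
    · rw [Nat.card_congr e'.toEquiv, Nat.card_perm, Nat.card_fin]; rfl
  · refine Or.inr (Or.inr (Or.inr (Or.inr (Or.inl
      ⟨le_of_orders e (e'.toMonoidHom.comp f) (e'.injective.comp hf) fun g => ?_, ?_⟩))))
    · rcases a5_orders g with h | h | h | h
      exacts [⟨1, by norm_num, by norm_num, by rw [h, one_pow]⟩, ⟨2, by norm_num, by norm_num, h⟩,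
        ⟨3, by norm_num, by norm_num, h⟩, ⟨5, by norm_num, le_rfl, h⟩]
    · rw [Nat.card_congr e'.toEquiv, nat_card_alternatingGroup, Nat.card_fin]; rfl
  · refine Or.inr (Or.inr (Or.inr (Or.inr (Or.inr
      ⟨Nat.card K, m, Finite.one_lt_card, hm2, by rwa [Nat.card_eq_fintype_card], ?_, ?_⟩))))
    · rcases hc with ⟨⟨e'⟩⟩ | ⟨⟨e'⟩⟩
      · exact le_of_orders e (e'.toMonoidHom.comp f) (e'.injective.comp hf) fun g =>
          ⟨orderOf g, orderOf_pos g, orderOf_psl_le g, pow_orderOf_eq_one g⟩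
      · haveI : Finite (Matrix.ProjGenLinGroup (Fin 2) K) := Finite.of_equiv _ e'.toEquiv
        exact le_of_orders e (e'.toMonoidHom.comp f) (e'.injective.comp hf) fun g =>
          ⟨orderOf g, orderOf_pos g, orderOf_pgl_le g, pow_orderOf_eq_one g⟩
    · rcases hc with ⟨⟨e'⟩⟩ | ⟨⟨e'⟩⟩
      · rw [Nat.card_congr e'.toEquiv]; exact card_psl_le
      · rw [Nat.card_congr e'.toEquiv, card_pgl2]

theorem isCoatom_of_overgroups {D : Subgroup P} (hne : D ≠ ⊤) (h : ∀ G, D < G → G = ⊤) : IsCoatom D :=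
  ⟨hne, h⟩

end Cfsg.Agent.Dickson
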