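/-
Four-groups and icosahedral groups lie in small subfield groups.
-/
import Cfsg.Agent.Lib.Classical.DicksonProper
import Cfsg.Agent.Lib.Classical.PSL2Subfield
import Cfsg.Agent.Lib.Classical.DicksonMaximal

set_option autoImplicit false

namespace Cfsg.Agent.Dickson

open Matrix SL2Inv PSL2Inv PStable

variable {F : Type*} [Field F] [Finite F]

local notation "SL2" => Matrix.SpecialLinearGroup (Fin 2) F
local notation "M2" => Matrix (Fin 2) (Fin 2) F
local notation "P" => Matrix.ProjectiveSpecialLinearGroup (Fin 2) F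

/-- A scalar matrix. -/
def IsScMat (M : M2) : Prop := ∃ c : F, M = c • (1 : M2)

/-- Two anticommuting elements of trace zero are simultaneously conjugate to a standard pair. -/
theorem exists_standard (h2 : (2 : F) ≠ 0) {A B j : SL2} (hj : Anti j)
    (hA : (A : M2).trace = 0) (hB : (B : M2).trace = 0) (hAB : A * B = negOne * (B * A)) :
    ∃ g : GL (Fin 2) F, (g : M2) * (A : M2) = ((w : SL2) : M2) * (g : M2) ∧
      (g : M2) * (B : M2) = (j : M2) * (g : M2) := by
  obtain ⟨h, hh⟩ := exists_conj h2 A hA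
  set B' := h⁻¹ * B * h with hB'
  have hAnti : Anti B' := by
    refine ⟨by rw [hB', ← hB]; simpa using SL2Inv.trace_conj h⁻¹ B, ?_⟩
    have hw : (w : SL2) = h⁻¹ * A * h := by rw [hh]; group
    rw [hw, hB', show h⁻¹ * B * h * (h⁻¹ * A * h) = h⁻¹ * (B * A) * h by group,
      show h⁻¹ * A * h * (h⁻¹ * B * h) = h⁻¹ * (A * B) * h by group, hAB, ← mul_assoc h⁻¹ negOne,
      ← negOne_comm h⁻¹, mul_assoc negOne h⁻¹, mul_assoc negOne, ← mul_assoc negOne negOne, negOne_mul_self,
      one_mul]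
  have hw2 : ((w : SL2) : M2) * ((w : SL2) : M2) = -1 :=
    (Matrix.SpecialLinearGroup.coe_mul w w).symm.trans (congrArg Subtype.val w_mul_self)
  have hj2 : (j : M2) * (j : M2) = -1 :=
    (Matrix.SpecialLinearGroup.coe_mul j j).symm.trans (congrArg Subtype.val ((mul_self_eq_negOne_iff j).2 hj.1))
  have hb2 : (B' : M2) * (B' : M2) = -1 :=
    (Matrix.SpecialLinearGroup.coe_mul B' B').symm.trans
      (congrArg Subtype.val ((mul_self_eq_negOne_iff B').2 hAnti.1))
  have hjw : (j : M2) * ((w : SL2) : M2) = -(((w : SL2) : M2) * (j : M2)) := by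
    have := congrArg Subtype.val hj.2
    simpa [coe_negOne] using this
  have hbw : (B' : M2) * ((w : SL2) : M2) = -(((w : SL2) : M2) * (B' : M2)) := by
    have := congrArg Subtype.val hAnti.2
    simpa [coe_negOne] using this
  set U := (w : SL2).1
  set J := (j : M2)
  set C := (B' : M2)
  have hcomm : J * C * U = U * (J * C) := by
    rw [mul_assoc, hbw, Matrix.mul_neg, ← mul_assoc, hjw, Matrix.neg_mul, neg_neg, mul_assoc]
  suffices h' : ∃ G : M2, G.det ≠ 0 ∧ G * U = U * G ∧ G * C = J * G by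
    obtain ⟨G, hG, hGU, hGC⟩ := h'
    refine ⟨GeneralLinearGroup.mkOfDetNeZero G hG * Matrix.SpecialLinearGroup.toGL h⁻¹, ?_, ?_⟩
    · show G * (h⁻¹ : SL2).1 * (A : M2) = U * (G * (h⁻¹ : SL2).1)
      rw [← mul_assoc, ← hGU, mul_assoc, mul_assoc]
      refine congrArg (G * ·) ?_
      rw [← Matrix.SpecialLinearGroup.coe_mul, ← Matrix.SpecialLinearGroup.coe_mul, hh]
      congr 1; simp [mul_assoc]; rfl
    · show G * (h⁻¹ : SL2).1 * (B : M2) = J * (G * (h⁻¹ : SL2).1)
      rw [← mul_assoc, ← hGC, mul_assoc, mul_assoc]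
      refine congrArg (G * ·) ?_
      rw [← Matrix.SpecialLinearGroup.coe_mul, ← Matrix.SpecialLinearGroup.coe_mul, hB']
      congr 1; simp [mul_assoc]; rfl
  have hd : ∀ σ : F, σ * σ = 1 → (1 + σ • (J * C)).det = 2 + σ * (J * C).trace := by
    intro σ hσ
    have hdet : (J * C).det = 1 := by rw [Matrix.det_mul, j.2, B'.2, one_mul]
    rw [Matrix.det_fin_two] at hdet ⊢
    rw [Matrix.trace_fin_two]
    simp
    linear_combination (σ * σ) * hdet + hσ
  by_cases h0 : (1 + (-1 : F) • (J * C)).det ≠ 0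
  · refine ⟨_, h0, ?_, ?_⟩
    · rw [add_mul, mul_add, one_mul, mul_one, smul_mul_assoc, mul_smul_comm, hcomm]
    · simp only [neg_smul, one_smul, add_mul, mul_add, one_mul, mul_one, neg_mul, mul_neg]
      rw [mul_assoc, hb2, ← mul_assoc J J, hj2]
      simp [add_comm]
  push Not at h0
  have h1 : (1 + (1 : F) • (J * C)).det ≠ 0 := fun h1 => by
    rw [hd _ (by norm_num)] at h1 h0
    exact h2 (mul_self_eq_zero.1 (show (2 : F) * 2 = 0 by linear_combination h0 + h1))
  refine ⟨U * (1 + (1 : F) • (J * C)), ?_, ?_, ?_⟩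
  · rw [Matrix.det_mul]; exact mul_ne_zero (by rw [show U.det = 1 from (w : SL2).2]; exact one_ne_zero) h1
  · rw [mul_assoc, one_smul, add_mul, one_mul, hcomm]
    simp only [mul_add, mul_one]
  · rw [one_smul, mul_assoc, add_mul, one_mul, mul_assoc J C C, hb2, ← mul_assoc J U, hjw, Matrix.neg_mul,
      mul_assoc U J, ← Matrix.mul_neg]
    refine congrArg (U * ·) ?_
    simp only [mul_add, mul_one, mul_neg, ← mul_assoc J J, hj2]
    simp [add_comm]

/-- The lifts of two generators of a four-group anticommute. -/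
theorem anticomm_of_commute (h2 : (2 : F) ≠ 0) {A B : SL2} (hA : (A : M2).trace = 0) (hB : (B : M2).trace = 0)
    (hne : pr A ≠ pr B) (hc : pr A * pr B = pr B * pr A) : A * B = negOne * (B * A) := by
  rw [← map_mul, ← map_mul, pr_eq_iff] at hc
  rcases hc with h | h
  · exfalso
    have hsA : ¬ IsSc A := fun hs => pr_ne_one h2 hA (pr_eq_one.2 hs)
    obtain ⟨α, β, e⟩ := exists_repr hsA h.symm
    have hα : α = 0 := by
      have := congrArg Matrix.trace e
      rw [Matrix.trace_add, Matrix.trace_smul, Matrix.trace_smul, hA, hB, Matrix.trace_one, smul_zero,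
        add_zero, Fintype.card_fin, smul_eq_mul] at this
      push_cast at this
      exact (mul_eq_zero.1 this.symm).resolve_right h2
    rw [hα, zero_smul, zero_add] at e
    exact hne (PSL2Field.pr_eq_of_smul e).symm
  · rw [h, ← mul_assoc, negOne_mul_self, one_mul]

/-- A matrix with multiples in the subfield gives an element of the subfield group. -/
theorem mem_range_of_smul {K : Type*} [Field K] (f : K →+* F) {x : GL (Fin 2) F}
    {M : Matrix (Fin 2) (Fin 2) K} {s : F} (hs : s ≠ 0) (hM : M.map f = s • (x : M2)) :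
    ProjGenLinGroup.mk x ∈ (ProjGenLinGroup.map f).range := by
  have hdet : M.det ≠ 0 := fun h0 => by
    have h1 := congrArg Matrix.det hM
    rw [show (M.map f).det = f M.det from (f.map_det M).symm, h0, map_zero, Matrix.det_smul] at h1
    exact mul_ne_zero (pow_ne_zero _ hs) (GeneralLinearGroup.det_ne_zero x) h1.symm
  refine ⟨ProjGenLinGroup.mk (GeneralLinearGroup.mkOfDetNeZero M hdet), ?_⟩
  rw [ProjGenLinGroup.map_mk]
  refine ((ProjGenLinGroup.mk_eq_mk_iff).2 ⟨Units.mk0 s hs, Units.ext ?_⟩).symm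
  rw [Units.val_mul, GeneralLinearGroup.coe_scalar]
  show (x : M2) * Matrix.scalar (Fin 2) s = M.map f
  rw [hM, ← Matrix.scalar_commute s (fun r => Commute.all s r), Matrix.scalar_apply,
    ← Matrix.smul_eq_diagonal_mul]

section
variable {K : Type*} [Field K] [Finite K] (f : K →+* F)

local notation "SLK" => Matrix.SpecialLinearGroup (Fin 2) K
local notation "mp" => Matrix.SpecialLinearGroup.map (n := Fin 2) f

omit [Finite F] [Finite K] in
theorem map_w : mp (w : SLK) = (w : SL2) := Subtype.ext (by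
  show ((w : SLK).1).map f = _
  ext a b; fin_cases a <;> fin_cases b <;> simp [w])

omit [Finite F] [Finite K] in
theorem map_negOne : mp (negOne : SLK) = (negOne : SL2) := Subtype.ext (by
  show ((negOne : SLK).1).map f = _
  rw [coe_negOne, coe_negOne]
  ext a b; fin_cases a <;> fin_cases b <;> simp)

omit [Finite F] [Finite K] in
theorem map_trace (x : SLK) : ((mp x : SL2) : M2).trace = f (x : Matrix (Fin 2) (Fin 2) K).trace := by
  show ((x : Matrix (Fin 2) (Fin 2) K).map f).trace = _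
  simp [Matrix.trace_fin_two]

omit [Finite F] [Finite K] in
theorem map_anti {j : SLK} (hj : Anti j) : Anti (mp j : SL2) :=
  ⟨by rw [map_trace, hj.1, map_zero], by rw [← map_w f, ← map_mul, ← map_mul, ← map_negOne f, ← map_mul, hj.2]⟩

/-- An element commuting with `w` and an anticommuting element is scalar. -/
theorem scalar_of_commutes {E : Type*} [Field E] (h2 : (2 : E) ≠ 0) {j : Matrix.SpecialLinearGroup (Fin 2) E}
    (hj : Anti j) (M : Matrix (Fin 2) (Fin 2) E) (hw : M * (w : Matrix.SpecialLinearGroup (Fin 2) E).1 =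
      (w : Matrix.SpecialLinearGroup (Fin 2) E).1 * M) (hJ : M * j.1 = j.1 * M) :
    M = M 0 0 • (1 : Matrix (Fin 2) (Fin 2) E) := by
  obtain ⟨h11, h01⟩ := hj.entries
  have hd := det_one j
  have a00 := congrFun (congrFun hw 0) 0
  have a01 := congrFun (congrFun hw 0) 1
  have b00 := congrFun (congrFun hJ 0) 0
  have b01 := congrFun (congrFun hJ 0) 1
  simp [w, Matrix.mul_apply, Fin.sum_univ_two] at a00 a01
  simp [Matrix.mul_apply, Fin.sum_univ_two, h11, h01] at b00 b01
  rw [h11, h01] at hd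
  have e1 : M 1 0 * (j.1 1 0) * 2 = 0 := by linear_combination -b00 + (j.1 1 0) * a00
  have e2 : M 1 0 * (j.1 0 0) * 2 = 0 := by
    linear_combination b01 + (j.1 0 0 * 2) * a00 - (j.1 1 0) * a01
  have h10 : M 1 0 = 0 := by
    by_contra h
    have x1 := (mul_eq_zero.1 e1).resolve_right h2
    have x2 := (mul_eq_zero.1 e2).resolve_right h2
    rw [(mul_eq_zero.1 x1).resolve_left h, (mul_eq_zero.1 x2).resolve_left h] at hd
    simp at hd
  apply ext2 <;> simp [h10]
  · linear_combination a00 - h10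
  · linear_combination -a01

/-- In a standard frame the normalizer of a four-group is rational. -/
theorem normalizer_subfield_of_frame (h2 : (2 : F) ≠ 0) {V : Subgroup P} (hV : IsKleinFour V)
    {j : SLK} (hj : Anti j) {A B : SL2} (hA : (A : M2).trace = 0) (hB : (B : M2).trace = 0)
    (ha : pr A ∈ V) (hb : pr B ∈ V) (ha1 : pr A ≠ 1) (hb1 : pr B ≠ 1) (hba : pr B ≠ pr A)
    {g : GL (Fin 2) F} (hgA : (g : M2) * (A : M2) = ((w : SL2) : M2) * (g : M2))
    (hgB : (g : M2) * (B : M2) = (mp j : SL2).1 * (g : M2)) :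
    ∀ x ∈ Subgroup.normalizer (V : Set P), ProjGenLinGroup.mk g * Matrix.ProjectiveSpecialLinearGroup.toPGL x *
      (ProjGenLinGroup.mk g)⁻¹ ∈ (ProjGenLinGroup.map f).range := by
  have h2K : (2 : K) ≠ 0 := fun h => h2 (by rw [← map_ofNat f 2, h, map_zero])
  intro x hx
  have hmem : ∀ v ∈ V, ∃ E : SLK, ∃ Y : SL2, pr Y = v ∧ (g : M2) * (Y : M2) = (mp E : SL2).1 * (g : M2) := by
    intro v hv
    rw [FourGroup.eq_four hV ha hb ha1 hb1 (fun h => hba h.symm), FourGroup.mem_four] at hv
    rcases hv with rfl | rfl | rfl | rfl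
    · exact ⟨1, 1, map_one _, by simp⟩
    · exact ⟨w, A, rfl, by rw [map_w]; exact hgA⟩
    · exact ⟨j, B, rfl, hgB⟩
    · exact ⟨w * j, A * B, map_mul _ _ _, by
        rw [map_mul, map_w, Matrix.SpecialLinearGroup.coe_mul, Matrix.SpecialLinearGroup.coe_mul, ← mul_assoc,
          hgA, mul_assoc, hgB, ← mul_assoc]⟩
  obtain ⟨X, rfl⟩ := pr_surjective x
  let G : SL2 →* SL2 := conjGL g⁻¹
  have hG : ∀ Y : SL2, (G Y).1 = (g : M2) * (Y : M2) * ((g⁻¹ : GL (Fin 2) F) : M2) := fun Y => by
    simp [G, conjGL_val]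
  have hfun : ∀ (Y : SL2) (R : M2), (g : M2) * (Y : M2) = R * (g : M2) → (G Y).1 = R := fun Y R h => by
    rw [hG, h, mul_assoc, ← Units.val_mul, mul_inv_cancel, Units.val_one, mul_one]
  set X' := G X with hX'
  have hneg : G negOne = negOne := hfun negOne _ (by rw [coe_negOne]; simp) |> fun h => Subtype.ext h
  have himg : ∀ Y : SL2, pr Y ∈ V → ∃ E : SLK,
      X' * G Y * X'⁻¹ = mp E := by
    intro Y hY
    obtain ⟨E, Z, hZ, hE⟩ := hmem _ ((Subgroup.mem_normalizer_iff.1 hx (pr Y)).1 hY)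
    rw [← map_inv, ← map_mul, ← map_mul, pr_eq_iff] at hZ
    have hE' : G Z = mp E := Subtype.ext (hfun Z _ hE)
    rw [hX', ← map_inv, ← map_mul, ← map_mul]
    rcases hZ with h | h
    · exact ⟨E, by rw [h, hE']⟩
    · exact ⟨negOne * E, by rw [h, map_mul, map_mul, hneg, hE', map_negOne]⟩
  obtain ⟨E1, hE1⟩ := himg A ha
  obtain ⟨E2, hE2⟩ := himg B hb
  have hinj : Function.Injective (mp) := fun x y h => Subtype.ext (Matrix.map_injective f.injective (congrArg Subtype.val h :))
  have hGA : G A = w := Subtype.ext (hfun A _ hgA)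
  have hGB : G B = mp j := Subtype.ext (hfun B _ hgB)
  rw [hGA] at hE1
  rw [hGB] at hE2
  have ht : ∀ (E : SLK) (Y : SL2), Y.1.trace = 0 → X' * Y * X'⁻¹ = mp E → E.1.trace = 0 := fun E Y hY h => by
    refine f.injective ?_
    rw [map_zero, ← map_trace, ← h, SL2Inv.trace_conj, hY]
  have hE : E1 * E2 = negOne * (E2 * E1) := hinj (by
    rw [map_mul, map_mul, map_mul, map_negOne, ← hE1, ← hE2,
      show X' * w * X'⁻¹ * (X' * mp j * X'⁻¹) = X' * (w * mp j) * X'⁻¹ by group,
      show X' * mp j * X'⁻¹ * (X' * w * X'⁻¹) = X' * (mp j * w) * X'⁻¹ by group, (map_anti f hj).2,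
      ← mul_assoc X' negOne, ← negOne_comm X', mul_assoc negOne X', mul_assoc negOne, ← mul_assoc negOne negOne,
      negOne_mul_self, one_mul])
  obtain ⟨γ, hγ1, hγ2⟩ := exists_standard h2K hj (ht E1 w trace_w hE1) (ht E2 _ (map_anti f hj).1 hE2) hE
  set Γ : M2 := (γ : Matrix (Fin 2) (Fin 2) K).map f
  have hcom : ∀ (E e : SLK), (γ : Matrix (Fin 2) (Fin 2) K) * E.1 = e.1 * (γ : Matrix (Fin 2) (Fin 2) K) →
      X' * mp e * X'⁻¹ = mp E → Γ * X'.1 * (mp e : SL2).1 = (mp e : SL2).1 * (Γ * X'.1) := by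
    intro E e h h'
    have hh : X'.1 * (mp e : SL2).1 = (mp E : SL2).1 * X'.1 := by
      rw [← Matrix.SpecialLinearGroup.coe_mul, ← Matrix.SpecialLinearGroup.coe_mul, mul_inv_eq_iff_eq_mul.1 h']
    rw [mul_assoc, hh, ← mul_assoc, ← mul_assoc]
    congr 1
    show Γ * E.1.map f = e.1.map f * Γ
    rw [← Matrix.map_mul, ← Matrix.map_mul, h]
  have hs := scalar_of_commutes h2 (map_anti f hj) (Γ * X'.1)
    (by have := hcom E1 w hγ1 (by rwa [map_w]); rwa [map_w] at this) (hcom E2 j hγ2 hE2)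
  set s := (Γ * X'.1) 0 0 with hs'
  have hγinv : ((γ⁻¹ : GL (Fin 2) K) : Matrix (Fin 2) (Fin 2) K).map f * Γ = 1 := by
    rw [← Matrix.map_mul, ← Units.val_mul, inv_mul_cancel, Units.val_one, Matrix.map_one f (map_zero f) (map_one f)]
  have hX1 : X'.1 = s • ((γ⁻¹ : GL (Fin 2) K) : Matrix (Fin 2) (Fin 2) K).map f := by
    rw [← one_mul X'.1, ← hγinv, mul_assoc, hs, Matrix.mul_smul, mul_one]
  have hs0 : s ≠ 0 := fun h => by
    have := X'.2
    rw [hX1, h, zero_smul] at this
    simp at this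
  have hr := mem_range_of_smul f (x := Matrix.SpecialLinearGroup.toGL X') (inv_ne_zero hs0)
    (M := ((γ⁻¹ : GL (Fin 2) K) : Matrix (Fin 2) (Fin 2) K)) (by
      show _ = s⁻¹ • X'.1
      rw [hX1, inv_smul_smul₀ hs0])
  rw [show Matrix.SpecialLinearGroup.toGL X' = g * Matrix.SpecialLinearGroup.toGL X * g⁻¹ from Units.ext (hG X),
    map_mul, map_mul, map_inv] at hr
  exact hr

/-- The normalizer of a four-group is a subgroup of a subfield group. -/
theorem normalizer_klein_subfield (h2 : (2 : F) ≠ 0) {V : Subgroup P} (hV : IsKleinFour V) :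
    SubfieldLike f (Subgroup.normalizer (V : Set P)) := by
  have h2K : (2 : K) ≠ 0 := fun h => h2 (by rw [← map_ofNat f 2, h, map_zero])
  obtain ⟨j, hj⟩ := exists_anti (F := K) h2K
  obtain ⟨a, ha, ha1, -⟩ := FourGroup.exists_two hV (a := (1 : P))
  obtain ⟨b, hb, hb1, hba⟩ := FourGroup.exists_two hV (a := a)
  obtain ⟨A, hA, rfl⟩ := exists_lift h2 (FourGroup.mul_self_of_mem hV ha) ha1
  obtain ⟨B, hB, rfl⟩ := exists_lift h2 (FourGroup.mul_self_of_mem hV hb) hb1
  have hcomm : pr A * pr B = pr B * pr A := by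
    have h := FourGroup.mul_self_of_mem hV (mul_mem ha hb)
    have e1 := inv_eq_of_mul_eq_one_left (FourGroup.mul_self_of_mem hV ha)
    have e2 := inv_eq_of_mul_eq_one_left (FourGroup.mul_self_of_mem hV hb)
    have e3 := inv_eq_of_mul_eq_one_left h
    rw [_root_.mul_inv_rev, e1, e2] at e3
    exact e3.symm
  have hAB := anticomm_of_commute h2 hA hB (fun h => hba h.symm) hcomm
  obtain ⟨g, hgA, hgB⟩ := exists_standard h2 (map_anti f hj) hA hB hAB
  exact ⟨ProjGenLinGroup.mk g, normalizer_subfield_of_frame f h2 hV hj hA hB ha hb ha1 hb1 hba hgA hgB⟩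

/-- An icosahedral group is a subgroup of any subfield group containing the roots of `x² - x - 1`. -/
theorem a5_subfield (h2 : (2 : F) ≠ 0) (hroot : ∀ s : F, s ^ 2 - s - 1 = 0 → s ∈ f.fieldRange) {H : Subgroup P}
    (e : H ≃* alternatingGroup (Fin 5)) : SubfieldLike f H := by
  have h2K : (2 : K) ≠ 0 := fun h => h2 (by rw [← map_ofNat f 2, h, map_zero])
  obtain ⟨j, hj⟩ := exists_anti (F := K) h2K
  obtain ⟨u, v, hu, hv, huv, hu1, hv1, hne⟩ : ∃ u v : alternatingGroup (Fin 5), u * u = 1 ∧ v * v = 1 ∧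
      u * v = v * u ∧ u ≠ 1 ∧ v ≠ 1 ∧ u ≠ v :=
    ⟨⟨Equiv.swap 0 1 * Equiv.swap 2 3, by simp [Equiv.Perm.mem_alternatingGroup]⟩,
      ⟨Equiv.swap 0 2 * Equiv.swap 1 3, by simp [Equiv.Perm.mem_alternatingGroup]⟩, by decide +kernel⟩
  have hone : ∀ z : H, (z : P) = 1 → z = 1 := fun z h => Subtype.ext h
  set a := e.symm u with hadef
  set b := e.symm v with hbdef
  have hau : a * a = 1 := by rw [hadef, ← map_mul, hu, map_one]
  have hbv : b * b = 1 := by rw [hbdef, ← map_mul, hv, map_one]
  have ha1 : (a : P) ≠ 1 := fun h => hu1 (e.symm.map_eq_one_iff.1 (hone a h))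
  have hb1 : (b : P) ≠ 1 := fun h => hv1 (e.symm.map_eq_one_iff.1 (hone b h))
  obtain ⟨A, hA, hAa⟩ := exists_lift h2 (congrArg Subtype.val hau :) ha1
  obtain ⟨B, hB, hBb⟩ := exists_lift h2 (congrArg Subtype.val hbv :) hb1
  have hAB := anticomm_of_commute h2 hA hB
    (by rw [hAa, hBb]; exact fun h => hne (e.symm.injective (Subtype.ext h)))
    (by rw [hAa, hBb, ← Subgroup.coe_mul, ← Subgroup.coe_mul, hadef, hbdef, ← map_mul, ← map_mul, huv])
  obtain ⟨g, hgA, hgB⟩ := exists_standard h2 (map_anti f hj) hA hB hAB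
  refine ⟨ProjGenLinGroup.mk g, fun x hx => ?_⟩
  let Φ : H →* Matrix.ProjGenLinGroup (Fin 2) F :=
    (MulAut.conj (ProjGenLinGroup.mk g)).toMonoidHom.comp
      (Matrix.ProjectiveSpecialLinearGroup.toPGL.comp H.subtype)
  show Φ ⟨x, hx⟩ ∈ (ProjGenLinGroup.map f).range
  have hinv : ∀ t : H, t * t = 1 → Φ t ∈ (ProjGenLinGroup.map f).range := by
    intro t ht
    by_cases ht1 : (t : P) = 1
    · rw [hone t ht1, map_one]; exact one_mem _
    obtain ⟨T, hT, hTt⟩ := exists_lift h2 (congrArg Subtype.val ht :) ht1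
    have htr : ∀ (Z : SL2), (∃ z : H, (z : P) = pr Z) → (T * Z).1.trace ∈ f.fieldRange := by
      rintro Z ⟨z, hz⟩
      set U := T * Z
      have hord : pr U = 1 ∨ pr U ^ 2 = 1 ∨ pr U ^ 3 = 1 ∨ pr U ^ 5 = 1 := by
        have hU : pr U = ((t * z : H) : P) := by rw [map_mul, hTt, ← hz, Subgroup.coe_mul]
        rw [hU, ← SubmonoidClass.coe_pow, ← SubmonoidClass.coe_pow, ← SubmonoidClass.coe_pow]
        rcases a5_orders (e (t * z)) with h | h | h | h
        · exact Or.inl (by rw [e.map_eq_one_iff.1 h]; rfl)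
        · rw [← map_pow, e.map_eq_one_iff] at h; exact Or.inr (Or.inl (by rw [h]; rfl))
        · rw [← map_pow, e.map_eq_one_iff] at h; exact Or.inr (Or.inr (Or.inl (by rw [h]; rfl)))
        · rw [← map_pow, e.map_eq_one_iff] at h; exact Or.inr (Or.inr (Or.inr (by rw [h]; rfl)))
      set s := U.1.trace with hsdef
      have hch : U.1 * U.1 = s • U.1 - 1 := sq_val U
      by_cases hsU : IsSc U
      · rcases hsU.eq_or_eq with h | h <;> rw [hsdef, h] <;>
          simp
      have hcoef : ∀ α β : F, IsScMat (α • U.1 + β • (1 : M2)) → α = 0 := by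
        rintro α β ⟨c, hc⟩
        by_contra hα
        refine hsU ⟨α⁻¹ * (c - β), ?_⟩
        rw [← smul_smul, sub_smul, ← hc, add_sub_cancel_right, inv_smul_smul₀ hα]
      have hscal : ∀ n : ℕ, pr U ^ n = 1 → IsScMat (U.1 ^ n) := fun n h => by
        rw [← map_pow] at h
        obtain ⟨c, hc⟩ := pr_eq_one.1 h
        exact ⟨c, by rw [← Matrix.SpecialLinearGroup.coe_pow]; exact hc⟩
      have h3e : U.1 ^ 3 = (s * s - 1) • U.1 + (-s) • (1 : M2) := by
        rw [pow_succ, pow_two, hch, sub_mul, one_mul, smul_mul_assoc, hch]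
        module
      have h5e : U.1 ^ 5 = (s * s * s * s - 3 * (s * s) + 1) • U.1 + (-(s * s * s) + 2 * s) • (1 : M2) := by
        rw [pow_succ, pow_succ, h3e]
        simp only [add_mul, smul_mul_assoc, one_mul, hch, smul_sub, smul_add, sub_mul, smul_smul]
        module
      rcases hord with h | h | h | h
      · exact absurd (pr_eq_one.1 h) hsU
      · have := hscal 2 h
        rw [pow_two, hch, sub_eq_add_neg, ← neg_one_smul F (1 : M2)] at this
        rw [hcoef _ _ this]; exact zero_mem _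
      · have := hscal 3 h
        rw [h3e] at this
        rcases mul_self_eq_one_iff.1 (sub_eq_zero.1 (hcoef _ _ this)) with h | h <;> rw [h]
        exacts [one_mem _, neg_mem (one_mem _)]
      · have := hscal 5 h
        rw [h5e] at this
        have h4 := hcoef _ _ this
        rcases mul_eq_zero.1 (show (s ^ 2 - s - 1) * (s ^ 2 + s - 1) = 0 by linear_combination h4) with h | h
        · exact hroot s h
        · have := neg_mem (hroot (-s) (by linear_combination h))
          rwa [neg_neg] at this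
    set T' := conjGL g⁻¹ T with hT'
    have hTv : T'.1 = (g : M2) * (T : M2) * ((g⁻¹ : GL (Fin 2) F) : M2) := by simp [T', conjGL_val]
    have htr' : ∀ (Y : SL2) (R : M2), (g : M2) * (Y : M2) = R * (g : M2) →
        (T'.1 * R).trace = (T * Y).1.trace := fun Y R h => by
      have hR : R = (g : M2) * (Y : M2) * ((g⁻¹ : GL (Fin 2) F) : M2) := by
        rw [h, mul_assoc, ← Units.val_mul, mul_inv_cancel, Units.val_one, mul_one]
      rw [hR, hTv, Matrix.SpecialLinearGroup.coe_mul]
      rw [show (g : M2) * (T : M2) * ((g⁻¹ : GL (Fin 2) F) : M2) * ((g : M2) * (Y : M2) * ((g⁻¹ : GL (Fin 2) F) : M2)) =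
        (g : M2) * ((T : M2) * (((g⁻¹ : GL (Fin 2) F) : M2) * (g : M2)) * (Y : M2)) * ((g⁻¹ : GL (Fin 2) F) : M2) by
          simp only [mul_assoc]]
      rw [← Units.val_mul, inv_mul_cancel, Units.val_one, mul_one, Matrix.trace_mul_comm, ← mul_assoc,
        ← Units.val_mul, inv_mul_cancel, Units.val_one, one_mul]
    have r1 := htr A ⟨a, hAa.symm⟩
    have r2 := htr B ⟨b, hBb.symm⟩
    have r3 := htr (A * B) ⟨a * b, by rw [map_mul, hAa, hBb, Subgroup.coe_mul]⟩
    rw [← htr' A _ hgA] at r1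
    rw [← htr' B _ hgB] at r2
    rw [← htr' (A * B) (((w : SL2) : M2) * (mp j : SL2).1) (by
      rw [Matrix.SpecialLinearGroup.coe_mul, ← mul_assoc, hgA, mul_assoc, hgB, ← mul_assoc])] at r3
    have ht0 : T'.1.trace = 0 := by
      rw [hTv, Matrix.trace_mul_comm, ← mul_assoc, ← Units.val_mul, inv_mul_cancel, Units.val_one, one_mul, hT]
    have k11 : f (j.1 1 1) = -f (j.1 0 0) := (map_anti f hj).entries.1
    have k01 : f (j.1 0 1) = f (j.1 1 0) := (map_anti f hj).entries.2
    have hX : f (j.1 0 0) ∈ f.fieldRange := ⟨_, rfl⟩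
    have hY : f (j.1 1 0) ∈ f.fieldRange := ⟨_, rfl⟩
    have hd : f (j.1 0 0) * f (j.1 1 1) - f (j.1 0 1) * f (j.1 1 0) = 1 := det_one (mp j : SL2)
    rw [k11, k01] at hd
    simp only [Matrix.trace_fin_two, Matrix.mul_apply, Fin.sum_univ_two] at r1 r2 r3 ht0
    simp [w, k11, k01] at r1 r2 r3
    set X := f (j.1 0 0)
    set Y := f (j.1 1 0)
    set a' := T'.1 0 0
    set b' := T'.1 0 1
    set c' := T'.1 1 0
    set d' := T'.1 1 1
    have hd' : d' = -a' := by linear_combination ht0
    rw [hd'] at r2 r3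
    have h2r : (2 : F)⁻¹ ∈ f.fieldRange := inv_mem ⟨2, map_ofNat f 2⟩
    have hu : b' + c' ∈ f.fieldRange := by
      have := neg_mem (add_mem (mul_mem r2 hY) (mul_mem r3 hX))
      convert this using 1
      linear_combination -(b' + c') * hd
    have haa : a' ∈ f.fieldRange := by
      have := mul_mem h2r (neg_mem (sub_mem (mul_mem r2 hX) (mul_mem r3 hY)))
      convert this using 1
      field_simp
      linear_combination -(2 * a') * hd
    have hbb : b' ∈ f.fieldRange := by
      have := mul_mem h2r (add_mem hu r1)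
      convert this using 1
      field_simp
      ring
    have hcc : c' ∈ f.fieldRange := by
      have := mul_mem h2r (sub_mem hu r1)
      convert this using 1
      field_simp
      ring
    obtain ⟨a0, ha0⟩ := haa
    obtain ⟨b0, hb0⟩ := hbb
    obtain ⟨c0, hc0⟩ := hcc
    have hr := mem_range_of_smul f (x := Matrix.SpecialLinearGroup.toGL T') one_ne_zero
      (M := !![a0, b0; c0, -a0]) (by
        show _ = (1 : F) • T'.1
        rw [one_smul]
        apply ext2 <;> simp [ha0, hb0, hc0] <;> first | rfl | exact hd'.symm)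
    rw [show Matrix.SpecialLinearGroup.toGL T' = g * Matrix.SpecialLinearGroup.toGL T * g⁻¹ from Units.ext hTv,
      map_mul, map_mul, map_inv] at hr
    show ProjGenLinGroup.mk g * Matrix.ProjectiveSpecialLinearGroup.toPGL (t : P) * (ProjGenLinGroup.mk g)⁻¹ ∈ _
    rw [← hTt]
    exact hr
  have htop : Subgroup.closure {t : H | t * t = 1} = ⊤ := by
    have := alternatingGroup.isSimpleGroup (α := Fin 5) (by simp)
    have : IsSimpleGroup H := e.isSimpleGroup
    have hn : (Subgroup.closure {t : H | t * t = 1}).Normal :=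
      Subgroup.Normal.mk fun z hz c => by
        refine Subgroup.closure_induction (p := fun z _ => c * z * c⁻¹ ∈ Subgroup.closure {t : H | t * t = 1}) ?_
          (by simp) (fun x y _ _ hx hy => by simpa [mul_assoc] using mul_mem hx hy)
          (fun x _ hx => by simpa [mul_assoc] using inv_mem hx) hz
        intro z hz
        refine Subgroup.subset_closure (show c * z * c⁻¹ * (c * z * c⁻¹) = 1 from ?_)
        rw [show c * z * c⁻¹ * (c * z * c⁻¹) = c * (z * z) * c⁻¹ by group, show z * z = 1 from hz]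
        group
    refine (hn.eq_bot_or_eq_top).resolve_left fun h => ha1 ?_
    have : a ∈ Subgroup.closure {t : H | t * t = 1} := Subgroup.subset_closure hau
    rw [h, Subgroup.mem_bot] at this
    rw [this]; rfl
  have : Subgroup.closure {t : H | t * t = 1} ≤ (ProjGenLinGroup.map f).range.comap Φ :=
    (Subgroup.closure_le _).2 hinv
  exact this (htop ▸ Subgroup.mem_top _)

end

end Cfsg.Agent.Dickson
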