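/-
The subfield subgroups of PSL_2(q) up to conjugation in PGL_2(q).
-/
import Cfsg.Agent.Lib.Classical.DicksonKlein

set_option autoImplicit false

namespace Cfsg.Agent.Dickson

open Matrix PStable

variable {F : Type*} [Field F] [Finite F] {K : Type*} [Field K] [Finite K]

local notation "SL2" => Matrix.SpecialLinearGroup (Fin 2) F
local notation "P" => Matrix.ProjectiveSpecialLinearGroup (Fin 2) F
local notation "M2" => Matrix (Fin 2) (Fin 2) F

/-- The part of a conjugate of `PGL_2(K)` inside `PSL_2(F)`. -/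
def fieldGroup (f : K →+* F) (g : Matrix.ProjGenLinGroup (Fin 2) F) : Subgroup P :=
  (ProjGenLinGroup.map f).range.comap
    ((MulAut.conj g).toMonoidHom.comp Matrix.ProjectiveSpecialLinearGroup.toPGL)

omit [Finite F] [Finite K] in
theorem subfieldLike_iff {f : K →+* F} {G : Subgroup P} :
    SubfieldLike f G ↔ ∃ g, G ≤ fieldGroup f g := Iff.rfl

omit [Finite F] [Finite K] in
theorem pglMap_injective (f : K →+* F) : Function.Injective (ProjGenLinGroup.map f :
    Matrix.ProjGenLinGroup (Fin 2) K →* Matrix.ProjGenLinGroup (Fin 2) F) := by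
  rw [injective_iff_map_eq_one]
  intro x hx
  induction x using ProjGenLinGroup.induction_on with | mk g =>
  rw [ProjGenLinGroup.map_mk, ProjGenLinGroup.mk_eq_one, GeneralLinearGroup.center_eq_range_scalar] at hx
  obtain ⟨s, hs⟩ := hx
  have hent : ∀ i j, f (g.1 i j) = if i = j then (s : F) else 0 := fun i j => by
    have := congrArg (fun M : GL (Fin 2) F => M.1 i j) hs
    simp [GeneralLinearGroup.coe_scalar, Matrix.diagonal_apply] at this
    exact this.symm
  have h01 : g.1 0 1 = 0 := f.injective (by rw [hent, map_zero]; simp)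
  have h10' : g.1 1 0 = 0 := f.injective (by rw [hent, map_zero]; simp)
  have h11 : g.1 1 1 = g.1 0 0 := f.injective (by rw [hent, hent]; simp)
  have h0 : g.1 0 0 ≠ 0 := fun h0 => GeneralLinearGroup.det_ne_zero g (by
    rw [Matrix.det_fin_two, h01, h0]; ring)
  rw [ProjGenLinGroup.mk_eq_one, GeneralLinearGroup.center_eq_range_scalar]
  refine ⟨Units.mk0 _ h0, Units.ext ?_⟩
  rw [GeneralLinearGroup.coe_scalar]
  ext i j
  fin_cases i <;> fin_cases j <;> simp [h01, h10', h11]

omit [Finite F] in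
theorem exists_preimage (g : Matrix.ProjGenLinGroup (Fin 2) F) (X : SL2) :
    ∃ y : P, g * Matrix.ProjectiveSpecialLinearGroup.toPGL y * g⁻¹ = Matrix.SpecialLinearGroup.toPGL X := by
  induction g using ProjGenLinGroup.induction_on with | mk γ =>
  refine ⟨PSL2Inv.pr (conjGL γ X), ?_⟩
  show ProjGenLinGroup.mk γ * ProjGenLinGroup.mk (Matrix.SpecialLinearGroup.toGL (conjGL γ X)) * _ = _
  rw [show Matrix.SpecialLinearGroup.toGL (conjGL γ X) = γ⁻¹ * Matrix.SpecialLinearGroup.toGL X * γ from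
    Units.ext rfl, map_mul, map_mul, map_inv]
  show _ = ProjGenLinGroup.mk (Matrix.SpecialLinearGroup.toGL X)
  group

theorem card_fieldGroup_le (f : K →+* F) (g : Matrix.ProjGenLinGroup (Fin 2) F) :
    Nat.card (fieldGroup f g) ≤ Nat.card K * (Nat.card K ^ 2 - 1) := by
  rw [← card_pgl2 (K := K)]
  have : Finite (Matrix.ProjGenLinGroup (Fin 2) K) := Finite.of_surjective _ ProjGenLinGroup.mk_surjective
  have : Finite (Matrix.ProjGenLinGroup (Fin 2) F) := Finite.of_surjective _ ProjGenLinGroup.mk_surjective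
  have hle := Subgroup.card_le_of_le (Subgroup.map_comap_le
    ((MulAut.conj g).toMonoidHom.comp Matrix.ProjectiveSpecialLinearGroup.toPGL) (ProjGenLinGroup.map f).range)
  rw [Subgroup.card_map_of_injective
    ((MulAut.conj g).injective.comp Matrix.ProjectiveSpecialLinearGroup.toPGL_injective)] at hle
  exact hle.trans (Nat.card_le_card_of_surjective _ (ProjGenLinGroup.map f).rangeRestrict_surjective)

theorem card_psl_le_fieldGroup (f : K →+* F) (g : Matrix.ProjGenLinGroup (Fin 2) F) :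
    Nat.card (Matrix.ProjectiveSpecialLinearGroup (Fin 2) K) ≤ Nat.card (fieldGroup f g) := by
  have h : ∀ x : Matrix.ProjectiveSpecialLinearGroup (Fin 2) K, ∃ y : P,
      g * Matrix.ProjectiveSpecialLinearGroup.toPGL y * g⁻¹ =
        ProjGenLinGroup.map f (Matrix.ProjectiveSpecialLinearGroup.toPGL x) := by
    intro x
    obtain ⟨X, rfl⟩ := PSL2Inv.pr_surjective x
    obtain ⟨y, hy⟩ := exists_preimage g (Matrix.SpecialLinearGroup.map f X)
    refine ⟨y, hy.trans ?_⟩
    show ProjGenLinGroup.mk _ = ProjGenLinGroup.map f (ProjGenLinGroup.mk _)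
    rw [ProjGenLinGroup.map_mk]
    congr 1
    exact Units.ext rfl
  choose y hy using h
  refine Nat.card_le_card_of_injective (fun x => (⟨y x, ⟨_, (hy x).symm⟩⟩ : fieldGroup f g)) fun a b hab => ?_
  have hab' : y a = y b := congrArg Subtype.val hab
  exact ((pglMap_injective f).comp Matrix.ProjectiveSpecialLinearGroup.toPGL_injective)
    ((hy a).symm.trans (hab' ▸ hy b))

theorem fieldGroup_ne_top (f : K →+* F) (g : Matrix.ProjGenLinGroup (Fin 2) F) {m : ℕ}
    (hm : Nat.card K ^ m = Nat.card F) (h2 : 2 ≤ m) : fieldGroup f g ≠ ⊤ := by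
  intro h
  have h1 := card_fieldGroup_le f g
  rw [h, Subgroup.card_top] at h1
  have hz := zz_mul_card (F := F)
  have hk : 1 < Nat.card K := Finite.one_lt_card
  have hq : Nat.card K ^ 2 ≤ Nat.card F := hm ▸ Nat.pow_le_pow_right (by omega) h2
  have hz2 : Nat.card (Subgroup.center SL2) ≤ 2 := by
    rw [card_center]; exact Nat.gcd_le_left _ (by norm_num)
  set k := Nat.card K
  set q := Nat.card F
  have h3 : q * (q ^ 2 - 1) ≤ 2 * (k * (k ^ 2 - 1)) := hz ▸ Nat.mul_le_mul hz2 h1
  have h4 : 2 * k * (k ^ 2 - 1) < q * (q ^ 2 - 1) :=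
    Nat.mul_lt_mul_of_le_of_lt (by nlinarith)
      (Nat.sub_lt_sub_right (Nat.one_le_pow _ _ (by omega)) (Nat.pow_lt_pow_left (by nlinarith) two_ne_zero))
      (by nlinarith)
  rw [mul_assoc] at h4
  omega

theorem eq_fieldGroup {f : K →+* F} {g : Matrix.ProjGenLinGroup (Fin 2) F} {M : Subgroup P} (hM : IsCoatom M)
    (hle : M ≤ fieldGroup f g) {m : ℕ} (hm : Nat.card K ^ m = Nat.card F) (h2 : 2 ≤ m) :
    M = fieldGroup f g := by
  rcases hM.le_iff.1 hle with h | h
  · exact absurd h (fieldGroup_ne_top f g hm h2)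
  · exact h.symm

/-- The solutions of `x ^ |K| = x` lie in the image of `K`. -/
theorem mem_fieldRange_of_pow (f : K →+* F) {x : F} (h : x ^ Nat.card K = x) : x ∈ f.fieldRange := by
  classical
  haveI := Fintype.ofFinite K
  haveI := Fintype.ofFinite F
  by_contra hx
  have hK : 1 < Fintype.card K := Fintype.one_lt_card
  set q := Fintype.card K
  have hne : (Polynomial.X ^ q - Polynomial.X : Polynomial F) ≠ 0 := FiniteField.X_pow_card_sub_X_ne_zero F hK
  have hsub : insert x (Finset.univ.image f) ⊆ (Polynomial.X ^ q - Polynomial.X : Polynomial F).roots.toFinset := by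
    intro y hy
    rw [Multiset.mem_toFinset, Polynomial.mem_roots hne]
    rcases Finset.mem_insert.1 hy with rfl | hy
    · rw [Nat.card_eq_fintype_card] at h
      simp [q, h, sub_eq_zero]
    · obtain ⟨z, -, rfl⟩ := Finset.mem_image.1 hy
      simp [q, ← map_pow, FiniteField.pow_card, sub_eq_zero]
  have h1 := (Finset.card_le_card hsub).trans ((Multiset.toFinset_card_le _).trans (Polynomial.card_roots' _))
  rw [FiniteField.X_pow_card_sub_X_natDegree_eq F hK, Finset.card_insert_of_notMem (fun hm => hx (by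
    obtain ⟨z, -, rfl⟩ := Finset.mem_image.1 hm; exact ⟨z, rfl⟩)),
    Finset.card_image_of_injective _ f.injective, Finset.card_univ] at h1
  omega

omit [Finite K] in
theorem subfieldLike_mono {K' : Type*} [Field K'] (f : K →+* F) (f' : K' →+* F)
    (h : ∀ x : K, f x ∈ f'.fieldRange) {G : Subgroup P} (hG : SubfieldLike f G) : SubfieldLike f' G := by
  obtain ⟨g, hg⟩ := hG
  refine ⟨g, fun x hx => ?_⟩
  obtain ⟨y, hy⟩ := hg x hx
  rw [← hy]
  clear hy
  induction y using ProjGenLinGroup.induction_on with | mk γ =>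
  choose t ht using h
  rw [ProjGenLinGroup.map_mk]
  exact mem_range_of_smul f' one_ne_zero (M := (γ : Matrix (Fin 2) (Fin 2) K).map t) (by
    rw [one_smul]
    ext i j
    exact ht _)

/-- For even degree the whole projective linear group of the subfield lies in the special part. -/
theorem range_le_of_even (p : ℕ) [Fact p.Prime] [CharP F p] (hp2 : p ≠ 2) (f : K →+* F)
    (g : Matrix.ProjGenLinGroup (Fin 2) F) {m : ℕ} (hm : Nat.card K ^ m = Nat.card F) (hmeven : Even m) :
    (ProjGenLinGroup.map f).range ≤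
      ((MulAut.conj g).toMonoidHom.comp (Matrix.ProjectiveSpecialLinearGroup.toPGL (n := Fin 2) (R := F))).range := by
  classical
  haveI := Fintype.ofFinite K
  haveI := Fintype.ofFinite F
  haveI : CharP K p := (RingHom.charP_iff f f.injective p).2 inferInstance
  obtain ⟨a, hp, ha⟩ := FiniteField.card K p
  rw [← Nat.card_eq_fintype_card] at ha
  rintro _ ⟨x, rfl⟩
  induction x using ProjGenLinGroup.induction_on with | mk γ =>
  rw [ProjGenLinGroup.map_mk]
  have hd : f (γ : Matrix (Fin 2) (Fin 2) K).det ≠ 0 :=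
    (map_ne_zero f).2 (GeneralLinearGroup.det_ne_zero γ)
  have hsq : IsSquare (f (γ : Matrix (Fin 2) (Fin 2) K).det) := by
    have hchar : ringChar F ≠ 2 := by rw [ringChar.eq F p]; exact hp2
    rw [FiniteField.isSquare_iff hchar hd, ← Nat.card_eq_fintype_card, ← hm, ← map_pow]
    obtain ⟨i, hi⟩ := hmeven
    obtain ⟨c, hc⟩ : ∃ c, Nat.card K = 2 * c + 1 := ⟨Nat.card K / 2, by
      have : Nat.card K % 2 = 1 := by rw [ha]; exact Nat.odd_iff.1 ((hp.odd_of_ne_two hp2).pow)
      omega⟩
    have hdvd : Nat.card K - 1 ∣ Nat.card K ^ m / 2 := by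
      have h1 : (2 * c) * (2 * (c + 1)) ∣ (Nat.card K ^ 2) ^ i - 1 := by
        refine Dvd.dvd.trans ?_ (Nat.sub_one_dvd_pow_sub_one _ i)
        rw [hc, show (2 * c + 1) ^ 2 = (2 * c) * (2 * (c + 1)) + 1 by ring, Nat.add_sub_cancel]
      rw [← pow_mul, show 2 * i = m by omega] at h1
      obtain ⟨t, ht⟩ := h1
      refine ⟨(c + 1) * t, ?_⟩
      rw [hc, show 2 * c + 1 - 1 = 2 * c by omega]
      rw [hc] at ht
      have h3 : 2 * c * (2 * (c + 1)) * t = 2 * (2 * c * ((c + 1) * t)) := by ring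
      rw [h3] at ht
      have := Nat.one_le_pow m (2 * c + 1) (by omega)
      omega
    obtain ⟨t, ht⟩ := hdvd
    rw [ht, pow_mul, Nat.card_eq_fintype_card, FiniteField.pow_card_sub_one_eq_one _ (GeneralLinearGroup.det_ne_zero γ),
      one_pow, map_one]
  obtain ⟨s, hs⟩ := hsq
  have hs0 : s ≠ 0 := fun h => hd (by rw [hs, h, zero_mul])
  let X : SL2 := ⟨s⁻¹ • (γ : Matrix (Fin 2) (Fin 2) K).map f, by
    rw [Matrix.det_smul, Fintype.card_fin, show ((γ : Matrix (Fin 2) (Fin 2) K).map f).det = f _ from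
      (f.map_det _).symm, hs]
    field_simp⟩
  obtain ⟨y, hy⟩ := exists_preimage g X
  refine ⟨y, hy.trans ?_⟩
  refine (ProjGenLinGroup.mk_eq_mk_iff).2 ⟨Units.mk0 s hs0, Units.ext ?_⟩
  rw [Units.val_mul, GeneralLinearGroup.coe_scalar]
  show X.1 * Matrix.scalar (Fin 2) s = (γ : Matrix (Fin 2) (Fin 2) K).map f
  rw [← Matrix.scalar_commute s (fun r => Commute.all s r), Matrix.scalar_apply,
    ← Matrix.smul_eq_diagonal_mul]
  exact smul_inv_smul₀ hs0 _

/-- The shape of a maximal subgroup inside a subfield group. -/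
theorem subfield_coatom (p : ℕ) [Fact p.Prime] [CharP F p] {f : K →+* F} {M : Subgroup P} (hM : IsCoatom M)
    (hf : SubfieldLike f M) {m : ℕ} (hm : Nat.card K ^ m = Nat.card F) (h2 : 2 ≤ m)
    (hiso : Nonempty (M ≃* Matrix.ProjectiveSpecialLinearGroup (Fin 2) K) ∨
      Nonempty (M ≃* Matrix.ProjGenLinGroup (Fin 2) K)) :
    m.Prime ∧ ((p = 2 ∨ m ≠ 2) → Nonempty (M ≃* Matrix.ProjectiveSpecialLinearGroup (Fin 2) K)) ∧
      (p ≠ 2 → m = 2 → Nonempty (M ≃* Matrix.ProjGenLinGroup (Fin 2) K)) := by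
  classical
  haveI := Fintype.ofFinite K
  haveI := Fintype.ofFinite F
  have hk1 : 1 < Nat.card K := Finite.one_lt_card
  haveI hKp : CharP K p := (RingHom.charP_iff f f.injective p).2 inferInstance
  obtain ⟨a, hp, ha⟩ := FiniteField.card K p
  rw [← Nat.card_eq_fintype_card] at ha
  have hup : Nat.card M ≤ Nat.card K * (Nat.card K ^ 2 - 1) := by
    rcases hiso with ⟨⟨e⟩⟩ | ⟨⟨e⟩⟩
    · rw [Nat.card_congr e.toEquiv]; exact card_psl_le
    · rw [Nat.card_congr e.toEquiv, card_pgl2]
  have hprime : m.Prime := by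
    by_contra hnp
    have hr := (Nat.minFac_prime (show m ≠ 1 by omega))
    obtain ⟨b, hb⟩ := Nat.minFac_dvd m
    have hb2 : 2 ≤ b := by
      by_contra hb2
      rcases Nat.le_one_iff_eq_zero_or_eq_one.1 (Nat.lt_succ_iff.1 (Nat.not_le.1 hb2)) with h | h
      · rw [h, mul_zero] at hb; omega
      · rw [h, mul_one] at hb; exact hnp (hb ▸ hr)
    let L := GaloisField p ((a : ℕ) * b)
    haveI := Fintype.ofFinite L
    have hL : Nat.card L = Nat.card K ^ b := by
      rw [GaloisField.card p _ (Nat.mul_ne_zero a.ne_zero (by omega)), ha, pow_mul]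
    have hLF : Nat.card L ^ m.minFac = Nat.card F := by rw [hL, ← pow_mul, ← hm, mul_comm b, ← hb]
    obtain ⟨f'⟩ := PSL2Field.exists_ringHom hLF
    have hmono : SubfieldLike f' M := subfieldLike_mono f f' (fun x => mem_fieldRange_of_pow f' (by
      rw [hL, ← map_pow]
      congr 1
      rw [Nat.card_eq_fintype_card]
      exact FiniteField.pow_card_pow b x)) hf
    obtain ⟨g, hg⟩ := hmono
    have hlo := card_psl_le_fieldGroup f' g
    rw [← eq_fieldGroup hM hg hLF hr.two_le] at hlo
    have hzL := gcd_mul_card_psl (K := L)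
    have hz2 : Nat.gcd 2 (Nat.card L - 1) ≤ 2 := Nat.gcd_le_left _ (by norm_num)
    have h3 : Nat.card L * (Nat.card L ^ 2 - 1) ≤ 2 * (Nat.card K * (Nat.card K ^ 2 - 1)) :=
      hzL ▸ Nat.mul_le_mul hz2 (hlo.trans hup)
    have hsq : Nat.card K ^ 2 ≤ Nat.card L := hL ▸ Nat.pow_le_pow_right (by omega) hb2
    set k := Nat.card K
    set l := Nat.card L
    have h4 : 2 * k * (k ^ 2 - 1) < l * (l ^ 2 - 1) :=
      Nat.mul_lt_mul_of_le_of_lt (by nlinarith)
        (Nat.sub_lt_sub_right (Nat.one_le_pow _ _ (by omega)) (Nat.pow_lt_pow_left (by nlinarith) two_ne_zero))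
        (by nlinarith)
    rw [mul_assoc] at h4
    omega
  haveI : Finite (Matrix.ProjGenLinGroup (Fin 2) K) := Finite.of_surjective _ ProjGenLinGroup.mk_surjective
  obtain ⟨g, hg⟩ := hf
  refine ⟨hprime, fun hcase => ?_, fun hp2 hm2 => ?_⟩
  · rcases hiso with h | ⟨⟨e⟩⟩
    · exact h
    by_cases hp2 : p = 2
    · have hz := gcd_mul_card_psl (K := K)
      have hodd : Nat.gcd 2 (Nat.card K - 1) = 1 := by
        rw [ha, hp2]
        refine (Nat.coprime_two_left (n := 2 ^ (a : ℕ) - 1)).2 ?_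
        rw [Nat.odd_iff]
        have : 2 ∣ 2 ^ (a : ℕ) := dvd_pow_self 2 a.ne_zero
        have := Nat.one_le_pow (a : ℕ) 2 (by norm_num)
        omega
      rw [hodd, one_mul, ← card_pgl2] at hz
      exact ⟨e.trans (MulEquiv.ofBijective Matrix.ProjectiveSpecialLinearGroup.toPGL
        ((Nat.bijective_iff_injective_and_card _).2
          ⟨Matrix.ProjectiveSpecialLinearGroup.toPGL_injective, hz⟩)).symm⟩
    exfalso
    have hdvd := M.card_subgroup_dvd_card
    rw [Nat.card_congr e.toEquiv, card_pgl2] at hdvd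
    have hzF := zz_mul_card (F := F)
    have hkodd : Nat.card K % 2 = 1 := by
      rw [ha]
      exact Nat.odd_iff.1 ((hp.odd_of_ne_two hp2).pow)
    have hzF2 : Nat.card (Subgroup.center SL2) = 2 := by
      rw [card_center, ← hm]
      refine Nat.gcd_eq_left ?_
      have : Nat.card K ^ m % 2 = 1 := Nat.odd_iff.1 ((Nat.odd_iff.2 hkodd).pow)
      omega
    rw [hzF2, ← hm] at hzF
    have h5 : 2 * (Nat.card K * (Nat.card K ^ 2 - 1)) ∣ Nat.card K ^ m * ((Nat.card K ^ m) ^ 2 - 1) :=
      hzF ▸ Nat.mul_dvd_mul_left 2 hdvd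
    obtain ⟨t, ht⟩ := hprime.odd_of_ne_two (hcase.resolve_left hp2)
    set k := Nat.card K
    -- write everything in terms of the cofactor, which is odd
    obtain ⟨S, hS, hSodd⟩ : ∃ S, (k ^ 2) ^ (2 * t + 1) - 1 = S * (k ^ 2 - 1) ∧ S % 2 = 1 := by
      refine ⟨∑ i ∈ Finset.range (2 * t + 1), (k ^ 2) ^ i, (geom_sum_mul_of_one_le (Nat.one_le_pow _ _ (by omega)) _).symm, ?_⟩
      rw [Finset.sum_nat_mod, Finset.sum_congr rfl fun i _ => show (k ^ 2) ^ i % 2 = 1 by
        rw [← pow_mul, Nat.pow_mod, hkodd, one_pow]; norm_num]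
      simp
    rw [← pow_mul, mul_comm m 2, pow_mul, ht, hS, pow_succ' k (2 * t)] at h5
    rw [show k * k ^ (2 * t) * (S * (k ^ 2 - 1)) = (k * (k ^ 2 - 1)) * (k ^ (2 * t) * S) by ring,
      mul_comm 2] at h5
    have hpos : 0 < k * (k ^ 2 - 1) := Nat.mul_pos (by omega)
      (Nat.sub_pos_of_lt (Nat.one_lt_pow (by norm_num) hk1))
    have h6 := Nat.dvd_of_mul_dvd_mul_left hpos h5
    have : (k ^ (2 * t) * S) % 2 = 1 := by rw [Nat.mul_mod, Nat.pow_mod, hkodd, hSodd, one_pow]; norm_num
    omega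
  · have heq := eq_fieldGroup hM hg hm h2
    set ψ := (MulAut.conj g).toMonoidHom.comp (Matrix.ProjectiveSpecialLinearGroup.toPGL (n := Fin 2) (R := F))
    have hψ : Function.Injective ψ :=
      (MulAut.conj g).injective.comp Matrix.ProjectiveSpecialLinearGroup.toPGL_injective
    have hrange : (ProjGenLinGroup.map f).range ≤ ψ.range :=
      range_le_of_even p hp2 f g hm (hm2 ▸ even_two)
    exact ⟨((MulEquiv.subgroupCongr heq).trans ((fieldGroup f g).equivMapOfInjective ψ hψ)).trans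
      ((MulEquiv.subgroupCongr (Subgroup.map_comap_eq_self hrange)).trans
        (MonoidHom.ofInjective (pglMap_injective f)).symm)⟩

end Cfsg.Agent.Dickson
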