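/-
The possible maximal subgroups of PSL_2(q).
-/
import Cfsg.Agent.Lib.Classical.DicksonTori
import Cfsg.Agent.Lib.Classical.DicksonFieldGroups
import Cfsg.Agent.Lib.Classical.DicksonOver
import Cfsg.Agent.Lib.Classical.DicksonSolvable
import Mathlib.GroupTheory.SpecificGroups.Alternating.KleinFour
import Mathlib.NumberTheory.LegendreSymbol.QuadraticReciprocity

set_option autoImplicit false

namespace Cfsg.Agent.Dickson

open Matrix SL2Inv PSL2Inv PStable

theorem dihedral_not_cyclic {k : ℕ} (hk : 2 ≤ k) : ¬ IsCyclic (DihedralGroup k) := by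
  intro h
  obtain ⟨c, hc⟩ := IsCyclic.exists_generator (α := DihedralGroup k)
  have hcomm : ∀ a b : DihedralGroup k, a * b = b * a := fun a b => by
    obtain ⟨i, rfl⟩ := Subgroup.mem_zpowers_iff.1 (hc a)
    obtain ⟨j, rfl⟩ := Subgroup.mem_zpowers_iff.1 (hc b)
    rw [← zpow_add, ← zpow_add, add_comm]
  have h := hcomm (DihedralGroup.r 1) (DihedralGroup.sr 0)
  rw [DihedralGroup.r_mul_sr, DihedralGroup.sr_mul_r] at h
  have h1 : (0 : ZMod k) - 1 = 0 + 1 := DihedralGroup.sr.inj h
  have h2 : ((2 : ℕ) : ZMod k) = 0 := by rw [Nat.cast_ofNat]; linear_combination -h1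
  have hk2 : k = 2 := by
    have := Nat.le_of_dvd (by norm_num) ((ZMod.natCast_eq_zero_iff _ _).1 h2)
    omega
  subst hk2
  have h4 : orderOf c = 4 := by rw [orderOf_eq_card_of_forall_mem_zpowers hc, DihedralGroup.nat_card]
  have hsq : ∀ a : DihedralGroup 2, a ^ 2 = 1 := by decide +kernel
  have h42 := orderOf_dvd_of_pow_eq_one (hsq c)
  rw [h4] at h42
  norm_num at h42

theorem conj_r_mem {k : ℕ} (d : DihedralGroup k) :
    d * DihedralGroup.r 1 * d⁻¹ ∈ Subgroup.zpowers (DihedralGroup.r (1 : ZMod k)) := by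
  obtain ⟨i, hi⟩ : ∃ i : ZMod k, d * DihedralGroup.r 1 * d⁻¹ = DihedralGroup.r i := by
    rcases d with a | a <;>
      simp only [DihedralGroup.r_mul_r, DihedralGroup.sr_mul_r, DihedralGroup.sr_mul_sr,
        DihedralGroup.inv_r, DihedralGroup.inv_sr] <;> exact ⟨_, rfl⟩
  obtain ⟨n, rfl⟩ := ZMod.intCast_surjective i
  exact ⟨n, by simp [hi]⟩

/-- The natural permutation action of a dihedral group. -/
def dihedralPerm (n : ℕ) : DihedralGroup n →* Equiv.Perm (ZMod n) where
  toFun
    | .r i => Equiv.addRight i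
    | .sr i => Equiv.subLeft (-i)
  map_one' := by
    show Equiv.addRight (0 : ZMod n) = 1
    ext x; simp
  map_mul' a b := by
    rcases a with a | a <;> rcases b with b | b <;>
      simp only [DihedralGroup.r_mul_r, DihedralGroup.r_mul_sr, DihedralGroup.sr_mul_r, DihedralGroup.sr_mul_sr] <;>
      ext x <;> simp [Equiv.Perm.mul_apply] <;> ring

theorem exists_dihedral_five :
    ∃ f : DihedralGroup 5 →* alternatingGroup (Fin 5), Function.Injective f :=
  let g : DihedralGroup 5 →* Equiv.Perm (Fin 5) := dihedralPerm 5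
  have hmem : ∀ d : DihedralGroup 5, g d ∈ alternatingGroup (Fin 5) := by
    intro d
    rw [Equiv.Perm.mem_alternatingGroup]
    revert d
    decide +kernel
  ⟨g.codRestrict _ hmem, (MonoidHom.injective_codRestrict _ _ hmem).2 (by decide +kernel)⟩

theorem exists_dihedral_three :
    ∃ f : DihedralGroup 3 →* Equiv.Perm (Fin 4), Function.Injective f :=
  ⟨(Equiv.Perm.extendDomainHom (finSuccAboveEquiv (Fin.last 3))).comp (dihedralPerm 3),
    (Equiv.Perm.extendDomainHom_injective _).comp (by decide +kernel : Function.Injective (dihedralPerm 3))⟩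

theorem exists_a4_a5 :
    ∃ f : alternatingGroup (Fin 4) →* alternatingGroup (Fin 5), Function.Injective f :=
  let g : alternatingGroup (Fin 4) →* Equiv.Perm (Fin 5) :=
    (Equiv.Perm.extendDomainHom (finSuccAboveEquiv (Fin.last 4))).comp (alternatingGroup (Fin 4)).subtype
  have hmem : ∀ a, g a ∈ alternatingGroup (Fin 5) := fun a => by
    rw [Equiv.Perm.mem_alternatingGroup]
    exact (Equiv.Perm.sign_extendDomain _ _).trans a.2
  ⟨g.codRestrict _ hmem, (MonoidHom.injective_codRestrict _ _ hmem).2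
    ((Equiv.Perm.extendDomainHom_injective _).comp Subtype.val_injective)⟩

variable {F : Type*} [Field F] [Finite F]

local notation "SL2" => Matrix.SpecialLinearGroup (Fin 2) F
local notation "P" => Matrix.ProjectiveSpecialLinearGroup (Fin 2) F
local notation "zz" => Nat.card (Subgroup.center SL2)

theorem ne_top_of_card_lt {G : Subgroup P} (h : zz * Nat.card G < Nat.card F * (Nat.card F ^ 2 - 1)) :
    G ≠ ⊤ := fun e => by
  rw [e, Subgroup.card_top, zz_mul_card] at h
  exact lt_irrefl _ h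

theorem zz_le_two : zz ≤ 2 := by
  rw [card_center]; exact Nat.gcd_le_left _ (by norm_num)

/-- A maximal subgroup normalizing a semisimple cyclic group is a torus normalizer. -/
theorem coatom_torus (p : ℕ) [Fact p.Prime] [CharP F p] (h4 : 4 ≤ Nat.card F) {M : Subgroup P} (hM : IsCoatom M)
    {g : P} (hgp : g ^ p ≠ 1) (hnorm : ∀ m ∈ M, m * g * m⁻¹ ∈ Subgroup.zpowers g) :
    ∃ h, (zz * h = Nat.card F + 1 ∨ zz * h = Nat.card F - 1) ∧ 2 ≤ h ∧ Nonempty (M ≃* DihedralGroup h) := by
  obtain ⟨D, h, hh, ⟨e⟩, hcard, hmem⟩ := torus_dihedral p hgp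
  have hz := zz_le_two (F := F)
  have hne : D ≠ ⊤ := ne_top_of_card_lt (by
    rw [hcard]
    have h2 : 4 ^ 2 - 1 ≤ Nat.card F ^ 2 - 1 := Nat.sub_le_sub_right (Nat.pow_le_pow_left h4 2) 1
    calc zz * (2 * h) = 2 * (zz * h) := by ring
      _ ≤ 2 * (Nat.card F + 1) := by rcases hh with hh | hh <;> omega
      _ < Nat.card F * 15 := by omega
      _ ≤ _ := Nat.mul_le_mul_left _ (by simpa using h2))
  have hMD : M = D := by
    rcases hM.le_iff.1 (fun m hm => hmem m (hnorm m hm) : M ≤ D) with h' | h'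
    · exact absurd h' hne
    · exact h'.symm
  refine ⟨h, hh, ?_, ⟨(MulEquiv.subgroupCongr hMD).trans e⟩⟩
  by_contra h2
  rcases Nat.le_one_iff_eq_zero_or_eq_one.1 (Nat.lt_succ_iff.1 (Nat.not_le.1 h2)) with h0 | h0 <;>
    rw [h0] at hh <;> omega

/-- The possible maximal subgroups. -/
theorem maximal_cases (p : ℕ) [Fact p.Prime] [CharP F p] (h4 : 4 ≤ Nat.card F) {M : Subgroup P} (hM : IsCoatom M) :
    zz * Nat.card M = Nat.card F * (Nat.card F - 1) ∨
    (∃ h, (zz * h = Nat.card F + 1 ∨ zz * h = Nat.card F - 1) ∧ 2 ≤ h ∧ Nonempty (M ≃* DihedralGroup h)) ∨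
    (p ≠ 2 ∧ p ≠ 3 ∧ Nonempty (M ≃* alternatingGroup (Fin 4))) ∨
    (p ≠ 2 ∧ p ≠ 3 ∧ Nonempty (M ≃* Equiv.Perm (Fin 4))) ∨
    (p ≠ 2 ∧ p ≠ 5 ∧ Nonempty (M ≃* alternatingGroup (Fin 5))) ∨
    (∃ (K : Type) (_ : Field K) (_ : Fintype K) (m : ℕ), m.Prime ∧ Fintype.card K ^ m = Nat.card F ∧
      Fintype.card K ≠ 2 ∧
      ((p = 2 ∨ m ≠ 2) → Nonempty (M ≃* Matrix.ProjectiveSpecialLinearGroup (Fin 2) K)) ∧
      (p ≠ 2 → m = 2 → Nonempty (M ≃* Matrix.ProjGenLinGroup (Fin 2) K))) := by
  have hp : p.Prime := Fact.out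
  have hborel : ∀ S : Sylow p P, M ≤ Subgroup.normalizer ((S : Subgroup P) : Set P) →
      zz * Nat.card M = Nat.card F * (Nat.card F - 1) := by
    intro S hS
    rcases hM.le_iff.1 hS with h | h
    · have := index_normalizer_sylow p S
      rw [h, Subgroup.index_top] at this
      omega
    · rw [← h, card_normalizer_sylow p S]
  have hcyclic : IsCyclic M → zz * Nat.card M = Nat.card F * (Nat.card F - 1) ∨
      (∃ h, (zz * h = Nat.card F + 1 ∨ zz * h = Nat.card F - 1) ∧ 2 ≤ h ∧ Nonempty (M ≃* DihedralGroup h)) := by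
    intro hc
    obtain ⟨g, hg⟩ := hc.exists_generator
    by_cases hgp : g ^ p = 1
    · left
      have hpg : IsPGroup p M := fun x => by
        obtain ⟨i, rfl⟩ := Subgroup.mem_zpowers_iff.1 (hg x)
        refine ⟨1, ?_⟩
        rw [pow_one, ← zpow_natCast, ← zpow_mul, mul_comm, zpow_mul, zpow_natCast, hgp, one_zpow]
      obtain ⟨S, hS⟩ := hpg.exists_le_sylow
      exact hborel S (hS.trans Subgroup.le_normalizer)
    · right
      refine coatom_torus p h4 hM (g := (g : P)) (fun h => hgp (Subtype.ext h)) fun m hm => ?_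
      obtain ⟨i, hi⟩ := Subgroup.mem_zpowers_iff.1 (hg (⟨m, hm⟩ * g * ⟨m, hm⟩⁻¹))
      exact ⟨i, congrArg Subtype.val hi⟩
  rcases classify_proper' p hM.1 with ⟨k, hk, ⟨hc, -⟩ | ⟨⟨e⟩⟩⟩ | ⟨S, hS⟩ | h | h | h | ⟨K, i1, i2, m, hm2, hm, ⟨f, hf⟩, hiso⟩
  · exact (hcyclic hc).imp_right Or.inl
  · rcases Nat.lt_or_ge k 2 with hk2 | hk2
    · refine (hcyclic ?_).imp_right Or.inl
      have hk1 : k = 1 := by
        rcases (show k = 0 ∨ k = 1 by omega) with h | h
        · subst h
          rw [mul_zero, zero_dvd_iff, zero_dvd_iff] at hk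
          omega
        · exact h
      subst hk1
      haveI : Fact (Nat.Prime 2) := ⟨Nat.prime_two⟩
      exact isCyclic_of_prime_card (p := 2) (by rw [Nat.card_congr e.toEquiv, DihedralGroup.nat_card])
    refine Or.inr (Or.inl ?_)
    have hord : orderOf ((e.symm (DihedralGroup.r 1) : M) : P) = k := by
      rw [Subgroup.orderOf_coe, e.symm.orderOf_eq, DihedralGroup.orderOf_r_one]
    refine coatom_torus p h4 hM (g := ((e.symm (DihedralGroup.r 1) : M) : P)) (fun h => ?_) fun x hx => ?_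
    · have hd := orderOf_dvd_of_pow_eq_one h
      rw [hord] at hd
      rcases (Nat.dvd_prime hp).1 hd with h' | h'
      · omega
      haveI := Fintype.ofFinite F
      obtain ⟨n, -, hn⟩ := FiniteField.card F p
      rw [← Nat.card_eq_fintype_card] at hn
      have hpq : p ∣ Nat.card F := by rw [hn]; exact dvd_pow_self p n.ne_zero
      have hpd : p ∣ Nat.card F + 1 ∨ p ∣ Nat.card F - 1 :=
        hk.imp (fun hd => h' ▸ (dvd_mul_left k _).trans hd) (fun hd => h' ▸ (dvd_mul_left k _).trans hd)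
      rcases hpd with hd | hd
      · exact hp.not_dvd_one ((Nat.dvd_add_right hpq).1 hd)
      · exact hp.not_dvd_one (by
          have h5 := Nat.dvd_sub hpq hd
          rwa [Nat.sub_sub_self (by omega)] at h5)
    · obtain ⟨i, hi⟩ := conj_r_mem (e ⟨x, hx⟩)
      refine ⟨i, ?_⟩
      have := congrArg e.symm hi
      simp only [map_zpow, map_mul, map_inv, e.symm_apply_apply] at this
      simpa using congrArg Subtype.val this
  · exact Or.inl (hborel S hS)
  · exact Or.inr (Or.inr (Or.inl h))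
  · exact Or.inr (Or.inr (Or.inr (Or.inl h)))
  · exact Or.inr (Or.inr (Or.inr (Or.inr (Or.inl h))))
  have hmc : Nat.card K ^ m = Nat.card F := by rw [Nat.card_eq_fintype_card, hm]
  obtain ⟨hprime, hA, hB⟩ := subfield_coatom p hM hf hmc hm2 hiso
  by_cases hK2 : Fintype.card K = 2
  swap
  · exact Or.inr (Or.inr (Or.inr (Or.inr (Or.inr ⟨K, i1, i2, m, hprime, hm, hK2, hA, hB⟩))))
  have hp2 : p = 2 := by
    haveI : CharP K p := (RingHom.charP_iff f f.injective p).2 inferInstance
    obtain ⟨a, -, ha⟩ := FiniteField.card K p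
    rw [hK2] at ha
    exact (Nat.prime_dvd_prime_iff_eq hp Nat.prime_two).1 (ha ▸ dvd_pow_self p a.ne_zero)
  obtain ⟨e⟩ := hA (Or.inl hp2)
  have h6 : Nat.card M = 6 := by
    rw [Nat.card_congr e.toEquiv]
    have h := gcd_mul_card_psl (K := K)
    rw [Nat.card_eq_fintype_card (α := K), hK2] at h
    simpa using h
  haveI : Fact (Nat.Prime 3) := ⟨Nat.prime_three⟩
  obtain ⟨g, hg⟩ := exists_prime_orderOf_dvd_card' (G := M) 3 (by rw [h6]; norm_num)
  refine Or.inr (Or.inl (coatom_torus p h4 hM (g := (g : P)) (fun h => ?_) fun x hx => ?_))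
  · have hd := orderOf_dvd_of_pow_eq_one (Subtype.ext h : g ^ p = 1)
    rw [hg, hp2] at hd
    norm_num at hd
  · have hidx : (Subgroup.zpowers g).index = 2 := by
      have h := (Subgroup.zpowers g).card_mul_index
      rw [Nat.card_zpowers, hg, h6] at h
      omega
    have := Subgroup.normal_of_index_eq_two hidx
    obtain ⟨i, hi⟩ := Subgroup.mem_zpowers_iff.1
      (this.conj_mem g (Subgroup.mem_zpowers g) (⟨x, hx⟩ : M))
    exact ⟨i, congrArg Subtype.val hi⟩

/-- A group with a normal subgroup of full `l`-power order normalizes a Sylow subgroup. -/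
theorem sylow_of_hom {G : Type*} [Group G] [Finite G] (l : ℕ) [Fact l.Prime] {M₀ : Type*} [Group M₀]
    (φ : M₀ →* G) (hφ : Function.Injective φ) (N : Subgroup M₀) [N.Normal]
    (hN : Nat.card N = l ^ (Nat.card G).factorization l) :
    ∃ S : Sylow l G, φ.range ≤ Subgroup.normalizer ((S : Subgroup G) : Set G) := by
  refine ⟨Sylow.ofCard (N.map φ) (by rw [Subgroup.card_map_of_injective hφ, hN]), ?_⟩
  rw [Sylow.coe_ofCard]
  rintro _ ⟨y, rfl⟩
  refine Subgroup.mem_normalizer_iff.2 fun u => ⟨?_, ?_⟩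
  · rintro ⟨n, hn, rfl⟩
    exact ⟨y * n * y⁻¹, ‹N.Normal›.conj_mem n hn y, by simp⟩
  · rintro ⟨n, hn, e⟩
    refine ⟨y⁻¹ * n * y, by simpa using ‹N.Normal›.conj_mem n hn y⁻¹, ?_⟩
    rw [map_mul, map_mul, map_inv, e]
    group

/-- A maximal subgroup containing a normal Sylow subgroup is not swallowed by a conjugate overgroup. -/
theorem not_coatom_of_sylow (l : ℕ) [Fact l.Prime] (h4 : 4 ≤ Nat.card F) (hl : l ∣ Nat.card P)
    {M : Subgroup P} (hM : IsCoatom M) {G₀ A₀ M₀ : Type*} [Group G₀] [Group A₀] [Group M₀] [Finite G₀] [Finite A₀]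
    (hG : ∃ G : Subgroup P, Nonempty (G ≃* G₀)) (hlt : Nat.card G₀ < Nat.card P) (hMG : Nat.card M < Nat.card G₀)
    (eM : M ≃* M₀) (N : Subgroup M₀) [N.Normal] (hN : Nat.card N = l ^ (Nat.card P).factorization l)
    (α : A₀ →* G₀) (hα : Function.Injective α) (N' : Subgroup A₀) [N'.Normal]
    (hN' : Nat.card N' = l ^ (Nat.card P).factorization l) (hA : Nat.card A₀ = Nat.card M) : False := by
  obtain ⟨G, ⟨eG⟩⟩ := hG
  have hcG : Nat.card G = Nat.card G₀ := Nat.card_congr eG.toEquiv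
  let φ : M₀ →* P := M.subtype.comp eM.symm.toMonoidHom
  have hφ : φ.range = M := by
    rw [MonoidHom.range_comp, MonoidHom.range_eq_top.2 eM.symm.surjective, ← MonoidHom.range_eq_map,
      Subgroup.range_subtype]
  obtain ⟨S, hS⟩ := sylow_of_hom l φ (Subtype.val_injective.comp eM.symm.injective) N hN
  rw [hφ] at hS
  let ψ : A₀ →* P := G.subtype.comp (eG.symm.toMonoidHom.comp α)
  obtain ⟨S', hS'⟩ := sylow_of_hom l ψ (Subtype.val_injective.comp (eG.symm.injective.comp hα)) N' hN'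
  have hMS : M = Subgroup.normalizer ((S : Subgroup P) : Set P) := by
    rcases hM.le_iff.1 hS with h | h
    · exfalso
      haveI := Matrix.ProjectiveSpecialLinearGroup.rank_two_simple (F := F) h4
      have hn : (S : Subgroup P).Normal := Subgroup.normalizer_eq_top_iff.1 h
      rcases hn.eq_bot_or_eq_top with h0 | h0
      · have h1 := S.card_eq_multiplicity
        rw [h0, Subgroup.card_bot] at h1
        have h2 := (Nat.Prime.factorization_pos_of_dvd Fact.out Nat.card_pos.ne' hl)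
        exact absurd h1 (Nat.one_lt_pow h2.ne' (Fact.out : l.Prime).one_lt).ne
      · have hs : Group.IsSolvable P := by
          have hp : IsPGroup l P := S.2.of_equiv ((MulEquiv.subgroupCongr h0).trans Subgroup.topEquiv)
          have := hp.isNilpotent
          infer_instance
        exact not_isSolvable_psl h4 hs
    · exact h.symm
  obtain ⟨g, hg⟩ := MulAction.exists_smul_eq P S' S
  let G' := G.map (MulAut.conj g).toMonoidHom
  have hcG' : Nat.card G' = Nat.card G₀ := by
    rw [Subgroup.card_map_of_injective (MulAut.conj g).injective, hcG]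
  have hA' : ψ.range.map (MulAut.conj g).toMonoidHom ≤ M := by
    rw [hMS, ← hg, Sylow.coe_subgroup_smul]
    rintro _ ⟨x, hx, rfl⟩
    refine Subgroup.mem_normalizer_iff.2 fun u => ?_
    have h := Subgroup.mem_normalizer_iff.1 (hS' hx) (g⁻¹ * u * g)
    simp only [Subgroup.mem_pointwise_smul_iff_inv_smul_mem, MulAut.smul_def, MulEquiv.coe_toMonoidHom,
      MulAut.conj_inv_apply, MulAut.conj_apply, inv_inv]
    rw [h, show x * (g⁻¹ * u * g) * x⁻¹ = g⁻¹ * (g * x * g⁻¹ * u * (g * x * g⁻¹)⁻¹) * g by group]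
  have hMeq : ψ.range.map (MulAut.conj g).toMonoidHom = M := by
    refine Subgroup.eq_of_le_of_card_ge hA' (le_of_eq ?_)
    rw [Subgroup.card_map_of_injective (MulAut.conj g).injective,
      ← Nat.card_congr (MonoidHom.ofInjective (f := ψ)
        (Subtype.val_injective.comp (eG.symm.injective.comp hα))).toEquiv, hA]
  have hle : M ≤ G' := by
    rw [← hMeq]
    refine Subgroup.map_mono ?_
    rintro _ ⟨x, rfl⟩
    exact (eG.symm (α x)).2
  rcases hM.le_iff.1 hle with h | h
  · rw [h, Subgroup.card_top] at hcG'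
    omega
  · rw [h] at hcG'
    omega

/-- If `q ≡ ±1 (mod 8)` the normalizer of a four-group has an element of order 4. -/
theorem klein_normalizer_order_four (h2 : (2 : F) ≠ 0) (h8 : Nat.card F % 8 = 1 ∨ Nat.card F % 8 = 7)
    {V : Subgroup P} (hV : IsKleinFour V) :
    ∃ x ∈ Subgroup.normalizer (V : Set P), orderOf x = 4 := by
  obtain ⟨j, hj⟩ := exists_anti (F := F) h2
  obtain ⟨a, ha, ha1, -⟩ := FourGroup.exists_two hV (a := (1 : P))
  obtain ⟨b, hb, hb1, hba⟩ := FourGroup.exists_two hV (a := a)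
  obtain ⟨A, hA, rfl⟩ := exists_lift h2 (FourGroup.mul_self_of_mem hV ha) ha1
  obtain ⟨B, hB, rfl⟩ := exists_lift h2 (FourGroup.mul_self_of_mem hV hb) hb1
  have hcomm : pr A * pr B = pr B * pr A := by
    have e1 := inv_eq_of_mul_eq_one_left (FourGroup.mul_self_of_mem hV ha)
    have e2 := inv_eq_of_mul_eq_one_left (FourGroup.mul_self_of_mem hV hb)
    have e3 := inv_eq_of_mul_eq_one_left (FourGroup.mul_self_of_mem hV (mul_mem ha hb))
    rw [_root_.mul_inv_rev, e1, e2] at e3
    exact e3.symm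
  obtain ⟨g, hgA, hgB⟩ := exists_standard h2 hj hA hB (anticomm_of_commute h2 hA hB (fun h => hba h.symm) hcomm)
  obtain ⟨d, hd, hdd⟩ := PSL2Sub.exists_sqrt_w h2 ((four_dvd_card_C h2).2.2 h8)
  have hG : ∀ (Y R : SL2), (g : Matrix (Fin 2) (Fin 2) F) * Y.1 = R.1 * (g : Matrix (Fin 2) (Fin 2) F) →
      conjGL g R = Y := fun Y R h => Subtype.ext (by
    rw [conjGL_val, mul_assoc, ← h, ← mul_assoc, ← Units.val_mul, inv_mul_cancel, Units.val_one, one_mul])
  have hgw := hG A w hgA
  have hgj := hG B j hgB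
  have hdj : d * j * d⁻¹ = w * j := by
    have h := hj.conj_C (inv_mem hd)
    rw [inv_inv, mul_inv_eq_iff_eq_mul] at h
    rw [← h, mul_assoc j, ← _root_.mul_inv_rev, hdd, inv_eq_of_trace w trace_w, ← mul_assoc, ← negOne_comm j,
      mul_assoc, hj.2, ← mul_assoc, negOne_mul_self, one_mul]
  have e1 : pr (conjGL g d) * pr A * (pr (conjGL g d))⁻¹ = pr A := by
    rw [← map_inv, ← map_mul, ← map_mul, ← hgw, ← map_inv, ← map_mul, ← map_mul, mem_C.1 hd, mul_inv_cancel_right]
  have e2 : pr (conjGL g d) * pr B * (pr (conjGL g d))⁻¹ = pr A * pr B := by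
    rw [← map_inv, ← map_mul, ← map_mul, ← map_mul pr A, ← hgw, ← hgj, ← map_inv, ← map_mul, ← map_mul, hdj, map_mul]
  refine ⟨pr (conjGL g d), FourGroup.mem_normalizer_of_map (FourGroup.map_conj_of_generators hV ha hb ha1 hb1
    (fun h => hba h.symm) (by rw [e1]; exact ha) (by rw [e2]; exact mul_mem ha hb)), ?_⟩
  haveI : Fact (Nat.Prime 2) := ⟨Nat.prime_two⟩
  refine orderOf_eq_prime_pow (p := 2) (n := 1) ?_ ?_
  · rw [pow_one, pow_two, ← map_mul, ← map_mul, hdd, hgw]; exact ha1
  · rw [show (2 : ℕ) ^ (1 + 1) = 2 * 2 from rfl, pow_mul, pow_two (pr _), ← map_mul, ← map_mul, hdd, hgw, pow_two]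
    exact FourGroup.mul_self_of_mem hV ha

end Cfsg.Agent.Dickson
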