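/-
Arithmetic conditions on the small maximal subgroups of PSL_2(q).
-/
import Cfsg.Agent.Lib.Classical.DicksonMaxTypes
import Cfsg.Agent.S0802
import Cfsg.Agent.S0803
import Cfsg.Agent.S0804

set_option autoImplicit false

namespace Cfsg.Agent.Dickson

open Matrix SL2Inv PSL2Inv PStable

theorem factorization_eq_of {l e t n : ℕ} (hl : l.Prime) (hn : n = l ^ e * t) (ht : ¬ l ∣ t) :
    n.factorization l = e := by
  have ht0 : t ≠ 0 := fun h => ht (h ▸ dvd_zero l)
  rw [hn, Nat.factorization_mul (pow_ne_zero _ hl.ne_zero) ht0, Finsupp.add_apply, hl.factorization_pow,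
    Nat.factorization_eq_zero_of_not_dvd ht, Finsupp.single_eq_same, add_zero]

theorem rot_card (n : ℕ) : Nat.card (Subgroup.zpowers (DihedralGroup.r (1 : ZMod n))) = n := by
  rw [Nat.card_zpowers, DihedralGroup.orderOf_r_one]

theorem rot_normal (n : ℕ) : (Subgroup.zpowers (DihedralGroup.r (1 : ZMod n))).Normal := by
  refine ⟨fun x hx g => ?_⟩
  obtain ⟨i, rfl⟩ := Subgroup.mem_zpowers_iff.1 hx
  rw [← conj_zpow]
  exact zpow_mem (conj_r_mem g) i

theorem klein_card : Nat.card (alternatingGroup.kleinFour (Fin 4)) = 4 :=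
  alternatingGroup.kleinFour_card_of_card_eq_four (by simp)

variable {F : Type*} [Field F] [Finite F]

local notation "P" => Matrix.ProjectiveSpecialLinearGroup (Fin 2) F

theorem two_mul_card_of_odd (hodd : Nat.card F % 2 = 1) :
    2 * Nat.card P = Nat.card F * (Nat.card F ^ 2 - 1) := by
  have h := gcd_mul_card_psl (K := F)
  have := Finite.one_lt_card (α := F)
  rwa [Nat.gcd_eq_left (show 2 ∣ Nat.card F - 1 by omega)] at h

/-- Small dihedral torus normalizers are not maximal. -/
theorem dihedral_small (h4 : 4 ≤ Nat.card F) {M : Subgroup P} (hM : IsCoatom M) {h : ℕ} (e : M ≃* DihedralGroup h)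
    (hcase : (Nat.card F = 5 ∧ h = 2) ∨ (Nat.card F = 7 ∧ (h = 3 ∨ h = 4)) ∨ (Nat.card F = 9 ∧ (h = 4 ∨ h = 5)) ∨
      (Nat.card F = 11 ∧ h = 5)) : False := by
  classical
  haveI := Fintype.ofFinite F
  have hq : Fintype.card F = Nat.card F := Fintype.card_eq_nat_card
  have hcM : Nat.card M = 2 * h := by rw [Nat.card_congr e.toEquiv, DihedralGroup.nat_card]
  have h2P := two_mul_card_of_odd (F := F) (by omega)
  have hcard : Nat.card P = Nat.card F * (Nat.card F ^ 2 - 1) / 2 := by omega
  rcases hcase with ⟨hF, rfl⟩ | ⟨hF, hh⟩ | ⟨hF, hh⟩ | ⟨hF, rfl⟩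
  · rw [hF] at hcard
    obtain ⟨p, hp⟩ := CharP.exists F
    obtain ⟨n, hpp, hn⟩ := FiniteField.card F p
    haveI := Fact.mk hpp
    haveI : Fact (Nat.Prime 2) := ⟨Nat.prime_two⟩
    have hf : (Nat.card P).factorization 2 = 2 := factorization_eq_of Nat.prime_two (t := 15) (by rw [hcard]; rfl) (by norm_num)
    refine not_coatom_of_sylow (G₀ := alternatingGroup (Fin 4)) (A₀ := alternatingGroup.kleinFour (Fin 4))
      2 h4 (by rw [hcard]; norm_num) hM ((S0802.result p n hn).2 ?_) (by rw [card_a4, hcard]; norm_num)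
      (by rw [hcM, card_a4]; norm_num) e ⊤ (by rw [hf, Subgroup.card_top, DihedralGroup.nat_card]; rfl)
      (alternatingGroup.kleinFour (Fin 4)).subtype Subtype.val_injective ⊤
      (by rw [hf, Subgroup.card_top, klein_card]; rfl) (by rw [klein_card, hcM])
    rintro ⟨rfl, -⟩
    rw [hq, hF] at hn
    have : 2 ∣ 5 := hn ▸ dvd_pow_self 2 n.ne_zero
    norm_num at this
  rotate_left
  rotate_left
  all_goals rw [hF] at hcard
  · have h5 : (5 : ℕ).Prime := Nat.prime_five
    haveI := Fact.mk h5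
    have hf : (Nat.card P).factorization 5 = 1 := factorization_eq_of h5 (t := 132) (by rw [hcard]; rfl) (by norm_num)
    obtain ⟨α, hα⟩ := exists_dihedral_five
    haveI := rot_normal 5
    exact not_coatom_of_sylow 5 h4 (by rw [hcard]; norm_num) hM ((S0804.result (F := F) hq).2 (by rw [hF]; norm_num))
      (by rw [card_a5, hcard]; norm_num) (by rw [hcM, card_a5]; norm_num) e _ (by rw [hf, rot_card]; rfl) α hα
      (Subgroup.zpowers (DihedralGroup.r (1 : ZMod 5))) (by rw [hf, rot_card]; rfl) (by rw [DihedralGroup.nat_card, hcM])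
  · have hS4 := (S0803.result (F := F) hq).2 (by rw [hF]; norm_num)
    rcases hh with rfl | rfl
    · have h3 : (3 : ℕ).Prime := Nat.prime_three
      haveI := Fact.mk h3
      have hf : (Nat.card P).factorization 3 = 1 := factorization_eq_of h3 (t := 56) (by rw [hcard]; rfl) (by norm_num)
      obtain ⟨α, hα⟩ := exists_dihedral_three
      haveI := rot_normal 3
      exact not_coatom_of_sylow 3 h4 (by rw [hcard]; norm_num) hM hS4
        (by rw [card_s4, hcard]; norm_num) (by rw [hcM, card_s4]; norm_num) e _ (by rw [hf, rot_card]; rfl) α hα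
        (Subgroup.zpowers (DihedralGroup.r (1 : ZMod 3))) (by rw [hf, rot_card]; rfl) (by rw [DihedralGroup.nat_card, hcM])
    · haveI : Fact (Nat.Prime 2) := ⟨Nat.prime_two⟩
      have hf : (Nat.card P).factorization 2 = 3 := factorization_eq_of Nat.prime_two (t := 21) (by rw [hcard]; rfl) (by norm_num)
      have hinj : Function.Injective (dihedralPerm 4) := by decide +kernel
      exact not_coatom_of_sylow (G₀ := Equiv.Perm (Fin 4)) (A₀ := DihedralGroup 4) 2 h4 (by rw [hcard]; norm_num) hM hS4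
        (by rw [card_s4, hcard]; norm_num) (by rw [hcM, card_s4]; norm_num) e ⊤
        (by rw [hf, Subgroup.card_top, DihedralGroup.nat_card]; rfl) (dihedralPerm 4) hinj ⊤
        (by rw [hf, Subgroup.card_top, DihedralGroup.nat_card]; rfl) (by rw [DihedralGroup.nat_card, hcM])
  · rcases hh with rfl | rfl
    · haveI : Fact (Nat.Prime 2) := ⟨Nat.prime_two⟩
      have hS4 := (S0803.result (F := F) hq).2 (by rw [hF]; norm_num)
      have hf : (Nat.card P).factorization 2 = 3 := factorization_eq_of Nat.prime_two (t := 45) (by rw [hcard]; rfl) (by norm_num)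
      have hinj : Function.Injective (dihedralPerm 4) := by decide +kernel
      exact not_coatom_of_sylow (G₀ := Equiv.Perm (Fin 4)) (A₀ := DihedralGroup 4) 2 h4 (by rw [hcard]; norm_num) hM hS4
        (by rw [card_s4, hcard]; norm_num) (by rw [hcM, card_s4]; norm_num) e ⊤
        (by rw [hf, Subgroup.card_top, DihedralGroup.nat_card]; rfl) (dihedralPerm 4) hinj ⊤
        (by rw [hf, Subgroup.card_top, DihedralGroup.nat_card]; rfl) (by rw [DihedralGroup.nat_card, hcM])
    · have h5 : (5 : ℕ).Prime := Nat.prime_five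
      haveI := Fact.mk h5
      have hf : (Nat.card P).factorization 5 = 1 := factorization_eq_of h5 (t := 72) (by rw [hcard]; rfl) (by norm_num)
      obtain ⟨α, hα⟩ := exists_dihedral_five
      haveI := rot_normal 5
      exact not_coatom_of_sylow 5 h4 (by rw [hcard]; norm_num) hM ((S0804.result (F := F) hq).2 (by rw [hF]; norm_num))
        (by rw [card_a5, hcard]; norm_num) (by rw [hcM, card_a5]; norm_num) e _ (by rw [hf, rot_card]; rfl) α hα
        (Subgroup.zpowers (DihedralGroup.r (1 : ZMod 5))) (by rw [hf, rot_card]; rfl) (by rw [DihedralGroup.nat_card, hcM])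

/-- A maximal subgroup normalizing a four-group is that normalizer. -/
theorem coatom_klein (h4 : 4 ≤ Nat.card F) {M : Subgroup P} (hM : IsCoatom M) {M₀ : Type*} [Group M₀]
    (e : M ≃* M₀) (V₀ : Subgroup M₀) [V₀.Normal] (hV₀ : IsKleinFour V₀) :
    ∃ V : Subgroup P, IsKleinFour V ∧ M = Subgroup.normalizer (V : Set P) := by
  set φ : M₀ →* P := M.subtype.comp e.symm.toMonoidHom with hφ
  have hinj : Function.Injective φ := Subtype.val_injective.comp e.symm.injective
  have hc : Nat.card (V₀.map φ) = 4 := by rw [Subgroup.card_map_of_injective hinj]; exact hV₀.card_four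
  refine ⟨V₀.map φ, ⟨hc, ?_⟩, ?_⟩
  · rw [← Monoid.exponent_eq_of_mulEquiv (V₀.equivMapOfInjective φ hinj)]
    exact hV₀.exponent_two
  have hle : M ≤ Subgroup.normalizer ((V₀.map φ : Subgroup P) : Set P) := by
    have h1 := Subgroup.le_normalizer_map (H := V₀) φ
    rw [Subgroup.normalizer_eq_top, ← MonoidHom.range_eq_map, hφ, MonoidHom.range_comp,
      MonoidHom.range_eq_top.2 e.symm.surjective, ← MonoidHom.range_eq_map, Subgroup.range_subtype] at h1
    exact h1
  rcases hM.le_iff.1 hle with h | h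
  · exfalso
    haveI := Matrix.ProjectiveSpecialLinearGroup.rank_two_simple (F := F) h4
    rcases (Subgroup.normalizer_eq_top_iff.1 h).eq_bot_or_eq_top with h0 | h0
    · rw [h0, Subgroup.card_bot] at hc; norm_num at hc
    · rw [h0, Subgroup.card_top] at hc
      refine not_isSolvable_psl h4 ?_
      haveI : Fact (Nat.Prime 2) := ⟨Nat.prime_two⟩
      have := (IsPGroup.of_card (G := P) (p := 2) (n := 2) (by rw [hc]; norm_num)).isNilpotent
      infer_instance
  · exact h.symm

/-- A small maximal four-group normalizer forces a prime field. -/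
theorem prime_of_klein (p n : ℕ) [Fact p.Prime] [CharP F p] (hp3 : p ≠ 3) (hp2 : p ≠ 2)
    (hn : Nat.card F = p ^ n) {M V : Subgroup P} (hM : IsCoatom M) (hV : IsKleinFour V)
    (hMV : M = Subgroup.normalizer (V : Set P)) (hc : Nat.card M ≤ 24) : n = 1 := by
  by_contra hn1
  have hp : p.Prime := Fact.out
  have h2 : (2 : F) ≠ 0 := fun h => hp2 ((Nat.prime_dvd_prime_iff_eq hp Nat.prime_two).1
    ((CharP.cast_eq_zero_iff F p 2).1 (by exact_mod_cast h)))
  have hn0 : n ≠ 0 := fun h => by rw [h, pow_zero] at hn; exact absurd hn Finite.one_lt_card.ne'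
  have h5 : 5 ≤ p := by
    have := hp.two_le
    have : p ≠ 4 := fun h => absurd hp (by rw [h]; norm_num)
    omega
  obtain ⟨g, hg⟩ := normalizer_klein_subfield (ZMod.castHom (dvd_refl p) F) h2 hV
  rw [← hMV] at hg
  have hm : Nat.card (ZMod p) ^ n = Nat.card F := by rw [Nat.card_zmod, hn]
  have heq := eq_fieldGroup hM hg hm (by omega)
  have h1 := card_psl_le_fieldGroup (ZMod.castHom (dvd_refl p) F) g
  rw [← heq] at h1
  have h3 := gcd_mul_card_psl (K := ZMod p)
  have hz : Nat.gcd 2 (Nat.card (ZMod p) - 1) ≤ 2 := Nat.gcd_le_left _ (by norm_num)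
  have h6 := Nat.mul_le_mul hz (h1.trans hc)
  rw [h3, Nat.card_zmod] at h6
  have : 5 * (5 ^ 2 - 1) ≤ p * (p ^ 2 - 1) :=
    Nat.mul_le_mul h5 (Nat.sub_le_sub_right (Nat.pow_le_pow_left h5 2) 1)
  omega

/-- The conditions on a maximal alternating group of degree 4. -/
theorem a4_conditions (p : ℕ) [Fact p.Prime] [CharP F p] (hp2 : p ≠ 2) (hp3 : p ≠ 3) (h4 : 4 ≤ Nat.card F)
    {M : Subgroup P} (hM : IsCoatom M) (e : M ≃* alternatingGroup (Fin 4)) :
    Nat.card F = p ∧ (p % 8 = 3 ∨ p % 8 = 5) ∧ ¬ (p % 10 = 1 ∨ p % 10 = 9) := by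
  classical
  haveI := Fintype.ofFinite F
  have hp : p.Prime := Fact.out
  obtain ⟨n, -, hn⟩ := FiniteField.card F p
  rw [Fintype.card_eq_nat_card] at hn
  haveI := alternatingGroup.normal_kleinFour (α := Fin 4) (by simp)
  obtain ⟨V, hV, hMV⟩ := coatom_klein h4 hM e (alternatingGroup.kleinFour (Fin 4))
    (alternatingGroup.kleinFour_isKleinFour (by simp))
  have hcM : Nat.card M = 12 := by rw [Nat.card_congr e.toEquiv, card_a4]
  have hn1 := prime_of_klein p n hp3 hp2 hn hM hV hMV (by omega)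
  rw [hn1, pow_one] at hn
  have h2 : (2 : F) ≠ 0 := fun h => hp2 ((Nat.prime_dvd_prime_iff_eq hp Nat.prime_two).1
    ((CharP.cast_eq_zero_iff F p 2).1 (by exact_mod_cast h)))
  have hpodd := hp.eq_two_or_odd.resolve_left hp2
  have h8 : p % 8 = 3 ∨ p % 8 = 5 := by
    by_contra h
    obtain ⟨x, hx, hord⟩ := klein_normalizer_order_four h2 (by omega) hV
    rw [← hMV] at hx
    have ho : orderOf (e ⟨x, hx⟩) = 4 := by rw [e.orderOf_eq, ← Subgroup.orderOf_coe]; exact hord
    rcases a4_data.1 (e ⟨x, hx⟩) with h' | h' | h'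
    · rw [h', orderOf_one] at ho; norm_num at ho
    all_goals
      have := orderOf_dvd_of_pow_eq_one h'
      rw [ho] at this
      norm_num at this
  refine ⟨hn, h8, fun h10 => ?_⟩
  have h11 : 11 ≤ p := by
    rcases h10 with h | h
    · rcases Nat.lt_or_ge p 11 with h' | h'
      · interval_cases p <;> simp_all
      · exact h'
    · rcases Nat.lt_or_ge p 11 with h' | h'
      · interval_cases p <;> simp_all
      · exact h'
  haveI : Fact (Nat.Prime 2) := ⟨Nat.prime_two⟩
  have h2P := two_mul_card_of_odd (F := F) (by omega)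
  rw [hn] at h2P
  obtain ⟨t, ht, htodd⟩ : ∃ t, p * (p ^ 2 - 1) = 8 * t ∧ t % 2 = 1 := by
    rcases h8 with h | h
    · refine ⟨p * (8 * (p / 8) ^ 2 + 6 * (p / 8) + 1), ?_, ?_⟩
      · have hp' : p = 8 * (p / 8) + 3 := by omega
        generalize p / 8 = j at hp'
        subst hp'
        rw [show (8 * j + 3) ^ 2 = 8 * (8 * j ^ 2 + 6 * j + 1) + 1 by ring, Nat.add_sub_cancel]
        ring
      · rw [Nat.mul_mod, show (8 * (p / 8) ^ 2 + 6 * (p / 8) + 1) % 2 = 1 by omega, hpodd]
    · refine ⟨p * (8 * (p / 8) ^ 2 + 10 * (p / 8) + 3), ?_, ?_⟩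
      · have hp' : p = 8 * (p / 8) + 5 := by omega
        generalize p / 8 = j at hp'
        subst hp'
        rw [show (8 * j + 5) ^ 2 = 8 * (8 * j ^ 2 + 10 * j + 3) + 1 by ring, Nat.add_sub_cancel]
        ring
      · rw [Nat.mul_mod, show (8 * (p / 8) ^ 2 + 10 * (p / 8) + 3) % 2 = 1 by omega, hpodd]
  have hf : (Nat.card P).factorization 2 = 2 :=
    factorization_eq_of Nat.prime_two (t := t) (by rw [show (2 : ℕ) ^ 2 = 4 from rfl]; omega) (by omega)
  have h5 : 5 ∣ p * (p ^ 2 - 1) := by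
    refine dvd_mul_of_dvd_right (Nat.dvd_of_mod_eq_zero (Nat.sub_mod_eq_zero_of_mod_eq ?_)) _
    rw [Nat.pow_mod]
    rcases (show p % 5 = 1 ∨ p % 5 = 4 by omega) with h | h <;> rw [h]
  have hbig : 11 * (11 ^ 2 - 1) ≤ p * (p ^ 2 - 1) :=
    Nat.mul_le_mul h11 (Nat.sub_le_sub_right (Nat.pow_le_pow_left h11 2) 1)
  obtain ⟨α, hα⟩ := exists_a4_a5
  exact not_coatom_of_sylow 2 h4 (by omega) hM
    ((S0804.result (F := F) (Fintype.card_eq_nat_card.trans hn)).2 h5)
    (by rw [card_a5]; omega) (by rw [hcM, card_a5]; norm_num) e (alternatingGroup.kleinFour (Fin 4))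
    (by rw [klein_card, hf]; rfl) α hα (alternatingGroup.kleinFour (Fin 4)) (by rw [klein_card, hf]; rfl)
    (by rw [card_a4, hcM])

/-- The conditions on a maximal symmetric group of degree 4. -/
theorem s4_conditions (p : ℕ) [Fact p.Prime] [CharP F p] (hp2 : p ≠ 2) (hp3 : p ≠ 3) (h4 : 4 ≤ Nat.card F)
    {M : Subgroup P} (hM : IsCoatom M) (e : M ≃* Equiv.Perm (Fin 4)) :
    Nat.card F = p ∧ (p % 8 = 1 ∨ p % 8 = 7) := by
  classical
  haveI := Fintype.ofFinite F
  obtain ⟨n, -, hn⟩ := FiniteField.card F p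
  rw [Fintype.card_eq_nat_card] at hn
  haveI := alternatingGroup.characteristic_kleinFour (α := Fin 4) (by simp)
  have hV0 : IsKleinFour ((alternatingGroup.kleinFour (Fin 4)).map (alternatingGroup (Fin 4)).subtype) := by
    refine ⟨by rw [Subgroup.card_map_of_injective Subtype.val_injective, klein_card], ?_⟩
    rw [← Monoid.exponent_eq_of_mulEquiv ((alternatingGroup.kleinFour (Fin 4)).equivMapOfInjective (alternatingGroup (Fin 4)).subtype Subtype.val_injective)]
    exact (alternatingGroup.kleinFour_isKleinFour (α := Fin 4) (by simp)).exponent_two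
  haveI : ((alternatingGroup.kleinFour (Fin 4)).map (alternatingGroup (Fin 4)).subtype).Normal := inferInstance
  obtain ⟨V, hV, hMV⟩ := coatom_klein h4 hM e ((alternatingGroup.kleinFour (Fin 4)).map (alternatingGroup (Fin 4)).subtype) hV0
  have hcM : Nat.card M = 24 := by rw [Nat.card_congr e.toEquiv, card_s4]
  have hn1 := prime_of_klein p n hp3 hp2 hn hM hV hMV (by omega)
  rw [hn1, pow_one] at hn
  exact ⟨hn, PSL2Sub.mod_eight_of_sq ((S0803.result (F := F) (Fintype.card_eq_nat_card.trans hn)).1 ⟨M, ⟨e⟩⟩)⟩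

/-- Roots of `x² - x - 1` are fixed by the square of Frobenius. -/
theorem pow_p_sq_of_root (p : ℕ) [Fact p.Prime] [CharP F p] {s : F} (h : s ^ 2 - s - 1 = 0) : s ^ (p ^ 2) = s := by
  have h1 := congrArg (frobenius F p) h
  simp only [map_sub, map_pow, map_one, map_zero, frobenius_def] at h1
  rw [pow_two, pow_mul]
  rcases mul_eq_zero.1 (show (s ^ p - s) * (s ^ p + s - 1) = 0 by linear_combination h1 - h) with h' | h'
  · rw [sub_eq_zero.1 h', sub_eq_zero.1 h']
  · rw [show s ^ p = 1 - s by linear_combination h', sub_pow_char, one_pow]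
    linear_combination -h'

/-- The conditions on a maximal icosahedral group. -/
theorem a5_conditions (p : ℕ) [Fact p.Prime] [CharP F p] (hp2 : p ≠ 2) (hp5 : p ≠ 5)
    {M : Subgroup P} (hM : IsCoatom M) (e : M ≃* alternatingGroup (Fin 5)) :
    (Nat.card F % 10 = 1 ∨ Nat.card F % 10 = 9) ∧
      (Nat.card F = p ∨ (Nat.card F = p ^ 2 ∧ (p % 10 = 3 ∨ p % 10 = 7))) := by
  classical
  haveI := Fintype.ofFinite F
  have hp : p.Prime := Fact.out
  have hpodd := hp.eq_two_or_odd.resolve_left hp2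
  obtain ⟨n, -, hn⟩ := FiniteField.card F p
  rw [Fintype.card_eq_nat_card] at hn
  have h5 := (S0804.result (F := F) Fintype.card_eq_nat_card).1 ⟨M, ⟨e⟩⟩
  have hp5' : p % 5 ≠ 0 := fun h => hp5 ((Nat.prime_dvd_prime_iff_eq Nat.prime_five hp).1 (Nat.dvd_of_mod_eq_zero h)).symm
  have hq10 : Nat.card F % 10 = 1 ∨ Nat.card F % 10 = 9 := by
    have hodd : Nat.card F % 2 = 1 := by rw [hn, Nat.pow_mod, hpodd, one_pow]; norm_num
    have hne : ¬ 5 ∣ Nat.card F := fun h => by
      rw [hn] at h
      exact hp5' (Nat.mod_eq_zero_of_dvd (Nat.prime_five.dvd_of_dvd_pow h))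
    have hd := (Nat.Prime.dvd_mul Nat.prime_five).1 h5 |>.resolve_left hne
    have h1 : (Nat.card F % 5) ^ 2 % 5 = 1 := by
      rw [← Nat.pow_mod]
      have := Nat.one_le_pow 2 (Nat.card F) Nat.card_pos
      omega
    have hlt : Nat.card F % 5 < 5 := Nat.mod_lt _ (by norm_num)
    interval_cases hh : Nat.card F % 5 <;> norm_num at h1 <;> omega
  refine ⟨hq10, ?_⟩
  by_contra hcon
  have h2 : (2 : F) ≠ 0 := fun h => hp2 ((Nat.prime_dvd_prime_iff_eq hp Nat.prime_two).1
    ((CharP.cast_eq_zero_iff F p 2).1 (by exact_mod_cast h)))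
  have hcM : Nat.card M = 60 := by rw [Nat.card_congr e.toEquiv, card_a5]
  -- a proper subfield containing the roots of x² - x - 1
  have key : ∀ (K : Type) [Field K] [Finite K] (f : K →+* F) (m : ℕ), Nat.card K ^ m = Nat.card F → 2 ≤ m →
      (∀ s : F, s ^ 2 - s - 1 = 0 → s ∈ f.fieldRange) → 7 ≤ Nat.card K → False := by
    intro K _ _ f m hm hm2 hroot hK
    obtain ⟨g, hg⟩ := a5_subfield f h2 hroot e
    have heq := eq_fieldGroup hM hg hm hm2
    have h1 := card_psl_le_fieldGroup f g
    rw [← heq, hcM] at h1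
    have h3 := gcd_mul_card_psl (K := K)
    have h6 := Nat.mul_le_mul (Nat.gcd_le_left (Nat.card K - 1) (show 0 < 2 by norm_num)) h1
    rw [h3] at h6
    have : 7 * (7 ^ 2 - 1) ≤ Nat.card K * (Nat.card K ^ 2 - 1) :=
      Nat.mul_le_mul hK (Nat.sub_le_sub_right (Nat.pow_le_pow_left hK 2) 1)
    omega
  have hn1 : (n : ℕ) ≠ 1 := fun h => hcon (Or.inl (by rw [hn, h, pow_one]))
  have hn0 := n.pos
  obtain ⟨i, hi | hi⟩ : ∃ i, (n : ℕ) = 2 * i ∨ (n : ℕ) = 2 * i + 1 := ⟨(n : ℕ) / 2, by omega⟩
  · rcases eq_or_ne i 1 with rfl | hi1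
    · -- the square of a prime congruent to ±1 modulo 5
      have hq : Nat.card F = p ^ 2 := by rw [hn, hi]
      have hp10 : p % 10 = 1 ∨ p % 10 = 9 := by
        have h37 : ¬ (p % 10 = 3 ∨ p % 10 = 7) := fun h => hcon (Or.inr ⟨hq, h⟩)
        omega
      have hp7 : 7 ≤ p := by
        have := hp.two_le
        omega
      haveI : Fact (Nat.Prime 5) := ⟨Nat.prime_five⟩
      have hsq : IsSquare ((5 : ℕ) : ZMod p) := by
        refine (ZMod.exists_sq_eq_prime_iff_of_mod_four_eq_one (p := 5) (q := p) (by norm_num) hp2).1 ?_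
        rw [← ZMod.natCast_mod]
        rcases (show p % 5 = 1 ∨ p % 5 = 4 by omega) with h | h <;> rw [h]
        · exact ⟨1, by norm_num⟩
        · exact ⟨2, by norm_num⟩
      obtain ⟨x, hx⟩ := hsq
      refine key (ZMod p) (ZMod.castHom (dvd_refl p) F) 2 (by rw [Nat.card_zmod, hq]) le_rfl (fun s hs => ?_)
        (by rw [Nat.card_zmod]; exact hp7)
      have hx' : ((ZMod.castHom (dvd_refl p) F) x) ^ 2 = 5 := by
        rw [pow_two, ← map_mul, ← hx, map_natCast]; norm_num
      set f := ZMod.castHom (dvd_refl p) F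
      have h2f : (2 : F)⁻¹ ∈ f.fieldRange := inv_mem ⟨2, map_ofNat f 2⟩
      rcases mul_eq_zero.1 (show (2 * s - 1 - f x) * (2 * s - 1 + f x) = 0 by linear_combination 4 * hs - hx') with h | h
      · have hmem := mul_mem h2f (add_mem (one_mem f.fieldRange) ⟨x, rfl⟩)
        have hs' : s = 2⁻¹ * (1 + f x) := by field_simp; linear_combination h
        rwa [hs']
      · have hmem := mul_mem h2f (sub_mem (one_mem f.fieldRange) ⟨x, rfl⟩)
        have hs' : s = 2⁻¹ * (1 - f x) := by field_simp; linear_combination h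
        rwa [hs']
    · let K := GaloisField p 2
      have hK : Nat.card K = p ^ 2 := GaloisField.card p 2 (by norm_num)
      have hKF : Nat.card K ^ i = Nat.card F := by rw [hK, ← pow_mul, hn, hi]
      obtain ⟨f⟩ := PSL2Field.exists_ringHom hKF
      refine key K f i hKF (by omega) (fun s hs => mem_fieldRange_of_pow f (by rw [hK]; exact pow_p_sq_of_root p hs)) ?_
      rw [hK]
      exact le_trans (by norm_num : 7 ≤ 3 ^ 2) (Nat.pow_le_pow_left (by have := hp.two_le; omega) 2)
  · refine key (ZMod p) (ZMod.castHom (dvd_refl p) F) n (by rw [Nat.card_zmod, hn]) (by omega) (fun s hs => ?_) ?_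
    · refine mem_fieldRange_of_pow _ ?_
      rw [Nat.card_zmod]
      have h1 : ∀ j : ℕ, s ^ (p ^ (2 * j)) = s := fun j => by
        induction j with
        | zero => simp
        | succ j ih => rw [Nat.mul_succ, pow_add, pow_mul, ih, pow_p_sq_of_root p hs]
      have h3 : s ^ (p ^ (2 * i + 1)) = s := by rw [← hi, ← hn, Nat.card_eq_fintype_card]; exact FiniteField.pow_card s
      rwa [pow_succ, pow_mul, h1] at h3
    · rw [Nat.card_zmod]
      have := hp.two_le
      by_contra h7
      have hp3 : p = 3 := by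
        have : p ≠ 4 := fun h => absurd hp (by rw [h]; norm_num)
        have : p ≠ 6 := fun h => absurd hp (by rw [h]; norm_num)
        omega
      subst hp3
      rw [hn, hi, pow_succ, pow_mul, Nat.mul_mod, Nat.pow_mod] at hq10
      rcases Nat.even_or_odd' i with ⟨u, rfl | rfl⟩ <;> simp [pow_succ, pow_mul, Nat.mul_mod, Nat.pow_mod] at hq10

end Cfsg.Agent.Dickson
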