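/-
Maximal subgroups of PGL_2(q), q odd, that do not contain the special part: generalities.
-/
import Cfsg.Agent.Lib.Classical.DicksonMaxArith
import Cfsg.Agent.Lib.Classical.DicksonSmall
import Cfsg.Agent.Lib.Classical.DicksonSolvable
import Cfsg.Agent.Lib.Classical.PSL2Subgroups
import Mathlib.GroupTheory.Index

set_option autoImplicit false
set_option linter.style.haveILetI false

namespace Cfsg.Agent.Dickson

open Matrix SL2Inv PSL2Inv PStable

/-- A non-cyclic subgroup of a dihedral group is dihedral. -/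
theorem dihedral_of_embedding {H : Type*} [Group H] [Finite H] {n m : ℕ} [NeZero n]
    (φ : H →* DihedralGroup n) (hφ : Function.Injective φ) (hnc : ¬ IsCyclic H) (hc : Nat.card H = 2 * m) :
    Nonempty (H ≃* DihedralGroup m) := by
  classical
  have hm0 : m ≠ 0 := fun h => by rw [h, mul_zero] at hc; exact Nat.card_pos.ne' hc
  haveI : NeZero m := ⟨hm0⟩
  let R : Subgroup H := (rot n).comap φ
  haveI : IsCyclic (rot n) := by rw [rot]; infer_instance
  haveI : IsCyclic R := isCyclic_of_injective ((φ.comp R.subtype).codRestrict (rot n) fun x => x.2)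
    fun x y h => Subtype.ext (hφ (congrArg Subtype.val h :))
  have hne : R ≠ ⊤ := fun h => hnc (isCyclic_of_surjective (Subgroup.topEquiv.toMonoidHom.comp
    (MulEquiv.subgroupCongr h).toMonoidHom) ((Subgroup.topEquiv).surjective.comp (MulEquiv.surjective _)))
  have hidx : R.index = 2 := by
    have h2 : R.index ≤ 2 := by
      rw [Subgroup.index_comap]
      refine le_trans (Subgroup.relIndex_le_of_le_right le_top ?_) ?_
      · rw [Subgroup.relIndex_top_right]; exact Subgroup.index_ne_zero_of_finite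
      · rw [Subgroup.relIndex_top_right]; exact index_rot_le n
    have h1 : R.index ≠ 1 := fun h => hne (Subgroup.index_eq_one.1 h)
    have h0 : R.index ≠ 0 := Subgroup.index_ne_zero_of_finite
    omega
  have hRm : Nat.card R = m := by
    have := R.card_mul_index
    rw [hidx, hc] at this
    omega
  obtain ⟨c, hcgen⟩ := IsCyclic.exists_generator (α := R)
  obtain ⟨x, hx⟩ : ∃ x, x ∉ R := by
    by_contra h
    push Not at h
    exact hne ((Subgroup.eq_top_iff' R).2 h)
  obtain ⟨a, ha⟩ : ∃ a, φ x = DihedralGroup.sr a := by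
    cases hd : φ x with
    | r i =>
      exact absurd (show φ x ∈ rot n by
        rw [hd]
        obtain ⟨z, rfl⟩ := ZMod.intCast_surjective i
        exact ⟨z, DihedralGroup.r_one_zpow z⟩) hx
    | sr a => exact ⟨a, rfl⟩
  obtain ⟨i, hi⟩ : ∃ i, φ (c : H) = DihedralGroup.r i := by
    obtain ⟨z, hz⟩ := c.2
    exact ⟨(z : ZMod n), hz.symm.trans (DihedralGroup.r_one_zpow z)⟩
  have hord : orderOf (DihedralGroup.r i) = m := by
    rw [← hi, orderOf_injective φ hφ, Subgroup.orderOf_coe, orderOf_eq_card_of_forall_mem_zpowers hcgen, hRm]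
  have hpow : ∀ k : ℕ, DihedralGroup.r i ^ k = DihedralGroup.r ((k : ZMod n) * i) := by
    intro k
    induction k with
    | zero => simp
    | succ k ih => rw [pow_succ, ih, DihedralGroup.r_mul_r, Nat.cast_succ, add_mul, one_mul]
  have hmi : (m : ZMod n) * i = 0 := by
    have h := pow_orderOf_eq_one (DihedralGroup.r i)
    rw [hord, hpow, DihedralGroup.one_def] at h
    exact DihedralGroup.r.inj h
  let f : ZMod m →+ ZMod n := ZMod.lift m ⟨zmultiplesHom (ZMod n) i, by
    show ((m : ℤ) • i) = 0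
    rw [zsmul_eq_mul, Int.cast_natCast, hmi]⟩
  have hf : ∀ j : ZMod m, DihedralGroup.r (f j) = DihedralGroup.r i ^ j.val := by
    intro j
    rw [hpow]
    congr 1
    conv_lhs => rw [← ZMod.natCast_zmod_val j, show ((j.val : ℕ) : ZMod m) = ((j.val : ℤ) : ZMod m) by push_cast; rfl]
    rw [ZMod.lift_coe]
    show ((j.val : ℤ) • i) = _
    rw [zsmul_eq_mul, Int.cast_natCast]
  have hinj : Function.Injective f := by
    rw [injective_iff_map_eq_zero]
    intro j hj
    have h := hf j
    rw [hj, ← DihedralGroup.one_def] at h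
    have hd := orderOf_dvd_of_pow_eq_one h.symm
    rw [hord] at hd
    rw [← ZMod.val_eq_zero]
    exact Nat.eq_zero_of_dvd_of_lt hd (ZMod.val_lt j)
  let ψ : DihedralGroup m →* DihedralGroup n :=
    { toFun := fun
        | .r j => .r (f j)
        | .sr j => .sr (a + f j)
      map_one' := by
        show DihedralGroup.r (f 0) = 1
        rw [map_zero]; rfl
      map_mul' := by
        rintro (u | u) (v | v) <;> simp [map_add, map_sub] <;> abel }
  have hψ : Function.Injective ψ := by
    rintro (u | u) (v | v) huv <;> simp [ψ] at huv <;> simp [hinj huv]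
  have hle : ψ.range ≤ φ.range := by
    rintro _ ⟨u | u, rfl⟩
    · show DihedralGroup.r (f u) ∈ φ.range
      rw [hf]
      exact pow_mem (show DihedralGroup.r i ∈ φ.range from ⟨c, hi⟩) _
    · show DihedralGroup.sr (a + f u) ∈ φ.range
      rw [← DihedralGroup.sr_mul_r, hf]
      exact mul_mem (show DihedralGroup.sr a ∈ φ.range from ⟨x, ha⟩) (pow_mem (show DihedralGroup.r i ∈ φ.range from ⟨c, hi⟩) _)
  have heq : ψ.range = φ.range := Subgroup.eq_of_le_of_card_ge hle (by
    rw [← Nat.card_congr (MonoidHom.ofInjective hψ).toEquiv, ← Nat.card_congr (MonoidHom.ofInjective hφ).toEquiv,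
      hc, DihedralGroup.nat_card])
  exact ⟨(MonoidHom.ofInjective hφ).trans ((MulEquiv.subgroupCongr heq.symm).trans
    (MonoidHom.ofInjective hψ).symm)⟩

variable {F : Type*} [Field F] [Finite F]

local notation "SL2" => Matrix.SpecialLinearGroup (Fin 2) F
local notation "P" => Matrix.ProjectiveSpecialLinearGroup (Fin 2) F
local notation "PGL2" => Matrix.ProjGenLinGroup (Fin 2) F
local notation "ι" => (Matrix.ProjectiveSpecialLinearGroup.toPGL (n := Fin 2) (R := F))

instance finite_pgl2 : Finite (Matrix.ProjGenLinGroup (Fin 2) F) :=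
  Finite.of_surjective _ ProjGenLinGroup.mk_surjective

omit [Finite F] in
theorem range_eq :
    ((Matrix.ProjGenLinGroup.mk (n := Fin 2) (R := F)).comp Matrix.SpecialLinearGroup.toGL).range =
      (ι).range := by
  ext x
  constructor
  · rintro ⟨X, rfl⟩
    exact ⟨pr X, rfl⟩
  · rintro ⟨y, rfl⟩
    obtain ⟨X, rfl⟩ := pr_surjective y
    exact ⟨X, rfl⟩

omit [Finite F] in
theorem ι_injective : Function.Injective (ι) := Matrix.ProjectiveSpecialLinearGroup.toPGL_injective

theorem card_pgl_two (hodd : Nat.card F % 2 = 1) :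
    Nat.card PGL2 = 2 * Nat.card P := by rw [card_pgl2, two_mul_card_of_odd hodd]

theorem index_range (hodd : Nat.card F % 2 = 1) : (ι).range.index = 2 := by
  have h := (ι).range.card_mul_index
  rw [← Nat.card_congr (MonoidHom.ofInjective (ι_injective (F := F))).toEquiv, card_pgl_two hodd, mul_comm 2] at h
  exact Nat.eq_of_mul_eq_mul_left Nat.card_pos h

theorem conj_mem_range (hodd : Nat.card F % 2 = 1) (m : PGL2) (x : P) : ∃ y : P, ι y = m * ι x * m⁻¹ := by
  haveI := Subgroup.normal_of_index_eq_two (index_range hodd)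
  exact Subgroup.Normal.conj_mem (H := (ι).range) inferInstance _ ⟨x, rfl⟩ m

theorem two_ne (hodd : Nat.card F % 2 = 1) : (2 : F) ≠ 0 := by
  haveI := Fintype.ofFinite F
  intro h
  have h2 := FiniteField.even_card_of_char_two (F := F) ((ringChar.eq_iff).2
    ((CharP.charP_iff_prime_eq_zero Nat.prime_two).2 (by exact_mod_cast h)))
  rw [← Nat.card_eq_fintype_card] at h2
  omega

theorem zz_eq_two (hodd : Nat.card F % 2 = 1) : Nat.card (Subgroup.center SL2) = 2 := by
  rw [card_center]
  exact Nat.gcd_eq_left (by omega)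

/-- The special part of a maximal subgroup has index two in it. -/
theorem card_coatom (hodd : Nat.card F % 2 = 1) {M : Subgroup PGL2} (hM : IsCoatom M)
    (hML : ¬ (ι).range ≤ M) : Nat.card M = 2 * Nat.card (M.comap ι) := by
  haveI := Subgroup.normal_of_index_eq_two (index_range hodd)
  have htop : M ⊔ (ι).range = ⊤ := hM.2 _ (lt_of_le_of_ne le_sup_left fun h => hML (h ▸ le_sup_right))
  have hrel : (ι).range.relIndex M = 2 := by
    rw [← Subgroup.relIndex_sup_right M (ι).range, htop, Subgroup.relIndex_top_right, index_range hodd]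
  have h := ((ι).range.subgroupOf M).card_mul_index
  rw [show ((ι).range.subgroupOf M).index = (ι).range.relIndex M from rfl, hrel] at h
  rw [← h, mul_comm]
  congr 1
  rw [Nat.card_congr ((M.comap ι).equivMapOfInjective ι ι_injective).toEquiv, Subgroup.map_comap_eq,
    ← Subgroup.inf_subgroupOf_right (ι).range M]
  exact Nat.card_congr (Subgroup.subgroupOfEquivOfLe inf_le_right).toEquiv

theorem comap_ne_top {M : Subgroup PGL2} (hML : ¬ (ι).range ≤ M) : M.comap ι ≠ ⊤ := fun h => hML (by
  rintro _ ⟨x, rfl⟩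
  exact (h ▸ Subgroup.mem_top x : x ∈ M.comap ι))

theorem le_normalizer_comap (hodd : Nat.card F % 2 = 1) (M : Subgroup PGL2) :
    M ≤ Subgroup.normalizer (((M.comap ι).map ι : Subgroup PGL2) : Set PGL2) := by
  intro m hm
  refine Subgroup.mem_normalizer_fintype fun y hy => ?_
  obtain ⟨x, hx, rfl⟩ := hy
  obtain ⟨z, hz⟩ := conj_mem_range hodd m x
  refine ⟨z, ?_, hz⟩
  show ι z ∈ M
  rw [hz]
  exact mul_mem (mul_mem hm hx) (inv_mem hm)

omit [Finite F] in
theorem comap_normalizer (X : Subgroup P) :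
    (Subgroup.normalizer ((X.map ι : Subgroup PGL2) : Set PGL2)).comap ι = Subgroup.normalizer (X : Set P) := by
  ext x
  rw [Subgroup.mem_comap, Subgroup.mem_normalizer_iff, Subgroup.mem_normalizer_iff]
  constructor
  · intro h v
    have := h (ι v)
    rwa [← map_inv, ← map_mul, ← map_mul, Subgroup.mem_map_iff_mem ι_injective,
      Subgroup.mem_map_iff_mem ι_injective] at this
  · intro h v
    constructor
    · rintro ⟨u, hu, rfl⟩
      exact ⟨x * u * x⁻¹, (h u).1 hu, by simp⟩
    · rintro ⟨u, hu, he⟩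
      refine ⟨x⁻¹ * u * x, (h _).2 (by simpa [mul_assoc] using hu), ?_⟩
      simp [he, mul_assoc]

/-- A maximal subgroup normalizing a proper subgroup of the simple part is its normalizer. -/
theorem eq_normalizer (h4 : 4 ≤ Nat.card F) {M : Subgroup PGL2} (hM : IsCoatom M) {X : Subgroup P}
    (hb : X ≠ ⊥) (ht : X ≠ ⊤) (hle : M ≤ Subgroup.normalizer ((X.map ι : Subgroup PGL2) : Set PGL2)) :
    M = Subgroup.normalizer ((X.map ι : Subgroup PGL2) : Set PGL2) := by
  rcases hM.le_iff.1 hle with h | h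
  · exfalso
    haveI := Matrix.ProjectiveSpecialLinearGroup.rank_two_simple (F := F) h4
    have hN : X.Normal := by
      rw [← Subgroup.normalizer_eq_top_iff, ← comap_normalizer, h, Subgroup.comap_top]
    exact hN.eq_bot_or_eq_top.elim hb ht
  · exact h.symm

theorem classify_coprime_of (p : ℕ) [Fact p.Prime] [CharP F p] (G : Subgroup P) (hd : ¬ p ∣ Nat.card G) :
    CoprimeConclusion p G := by
  have hH : Saturated (G.comap (PSL2Inv.pr (F := F))) := fun x hx => by
    rw [Subgroup.mem_comap, pr_eq_one.2 hx]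
    exact G.one_mem
  have e : (G.comap (PSL2Inv.pr (F := F))).map PSL2Inv.pr = G :=
    Subgroup.map_comap_eq_self_of_surjective PSL2Inv.pr_surjective G
  rw [← e] at hd ⊢
  exact classify_coprime' p hH hd

theorem eight_dvd_card (hodd : Nat.card F % 2 = 1) : 8 ∣ Nat.card PGL2 := by
  rw [card_pgl2]
  obtain ⟨c, hc⟩ : ∃ c, Nat.card F = 2 * c + 1 := ⟨Nat.card F / 2, by omega⟩
  refine Dvd.dvd.mul_left ?_ _
  rw [hc, show (2 * c + 1) ^ 2 - 1 = 4 * (c * (c + 1)) by
    rw [show (2 * c + 1) ^ 2 = 4 * (c * (c + 1)) + 1 by ring, Nat.add_sub_cancel]]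
  obtain ⟨d, hd⟩ := Nat.even_mul_succ_self c
  exact ⟨d, by rw [hd]; ring⟩

theorem three_le_comap (p : ℕ) [Fact p.Prime] [CharP F p] (hodd : Nat.card F % 2 = 1)
    {M : Subgroup PGL2} (hM : IsCoatom M) (hML : ¬ (ι).range ≤ M) : 3 ≤ Nat.card (M.comap ι) := by
  by_contra hlt
  haveI : Fact (Nat.Prime 2) := ⟨Nat.prime_two⟩
  have hc := card_coatom hodd hM hML
  have hpos : 0 < Nat.card (M.comap ι) := Nat.card_pos
  have hp2 : IsPGroup 2 M := by
    rcases show Nat.card (M.comap ι) = 1 ∨ Nat.card (M.comap ι) = 2 by omega with h | h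
    · exact IsPGroup.of_card (n := 1) (by omega)
    · exact IsPGroup.of_card (n := 2) (by omega)
  obtain ⟨T, hT⟩ := hp2.exists_le_sylow
  have h8 : 2 ^ 3 ∣ Nat.card T := T.pow_dvd_card_of_pow_dvd_card (by
    rw [show (2 : ℕ) ^ 3 = 8 by norm_num]; exact eight_dvd_card hodd)
  rcases hM.le_iff.1 hT with h | h
  · have hcard := T.card_eq_multiplicity
    rw [h, Subgroup.card_top] at hcard
    haveI := Fintype.ofFinite F
    obtain ⟨a, hp, ha⟩ := FiniteField.card F p
    rw [← Nat.card_eq_fintype_card] at ha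
    have hd : p ∣ 2 ^ (Nat.card PGL2).factorization 2 := by
      rw [← hcard, card_pgl2]
      exact (ha ▸ dvd_pow_self p a.ne_zero : p ∣ Nat.card F).mul_right _
    have := (Nat.prime_dvd_prime_iff_eq hp Nat.prime_two).1 (hp.dvd_of_dvd_pow hd)
    have : 2 ∣ Nat.card F := ha ▸ this ▸ dvd_pow_self p a.ne_zero
    omega
  · have : Nat.card T = Nat.card M := by rw [← h]
    have := Nat.le_of_dvd (by omega) h8
    omega

/-- A lift of an element of p-power order with the same order. -/
theorem exists_lift_pow {N : ℕ} (hN : N % 2 = 1) {s : P} (hs : s ^ N = 1) :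
    ∃ X : SL2, pr X = s ∧ X ^ N = 1 := by
  obtain ⟨X, rfl⟩ := pr_surjective s
  rw [← map_pow, pr_eq_one_iff] at hs
  rcases hs with h | h
  · exact ⟨X, rfl, h⟩
  · refine ⟨negOne * X, by rw [map_mul, pr_negOne, one_mul], ?_⟩
    rw [(show Commute negOne X from negOne_comm X).mul_pow, h]
    obtain ⟨t, ht⟩ : ∃ t, N = 2 * t + 1 := ⟨N / 2, by omega⟩
    rw [ht, pow_succ, pow_mul, pow_two, negOne_mul_self, one_pow, one_mul, negOne_mul_self]

/-- Two Sylow subgroups in the defining characteristic sharing a nontrivial element are equal. -/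
theorem sylow_eq_of_mem (p : ℕ) [Fact p.Prime] [CharP F p] (hodd : Nat.card F % 2 = 1)
    {S S' : Sylow p P} {t : P} (ht : t ∈ (S : Subgroup P)) (ht' : t ∈ (S' : Subgroup P)) (ht1 : t ≠ 1) :
    S = S' := by
  have h2 := two_ne (F := F) hodd
  have hp2 : p ≠ 2 := by
    rintro rfl
    exact h2 (by exact_mod_cast CharP.cast_eq_zero F 2)
  have hpodd : ∀ i, p ^ i % 2 = 1 := fun i => Nat.odd_iff.1 ((Fact.out : p.Prime).odd_of_ne_two hp2).pow
  have hlift : ∀ {R : Sylow p P} {s : P}, s ∈ (R : Subgroup P) → ∃ X : SL2, ∃ N, N % 2 = 1 ∧ pr X = s ∧ X ^ N = 1 := by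
    intro R s hs
    obtain ⟨i, hi⟩ := R.2 ⟨s, hs⟩
    obtain ⟨X, hX, hXN⟩ := exists_lift_pow (hpodd i) (congrArg Subtype.val hi :)
    exact ⟨X, _, hpodd i, hX, hXN⟩
  obtain ⟨T, N, hN, rfl, hTN⟩ := hlift ht
  have hTs : ¬ IsSc T := fun h => ht1 (pr_eq_one.2 h)
  have hcomm : ∀ {R : Sylow p P}, pr T ∈ (R : Subgroup P) → ∀ s ∈ (R : Subgroup P), s ≠ 1 →
      ∃ X : SL2, pr X = s ∧ ¬ IsSc X ∧ X * T = T * X := by
    intro R hR s hs hs1
    obtain ⟨X, -, -, rfl, -⟩ := hlift hs
    refine ⟨X, rfl, fun h => hs1 (pr_eq_one.2 h), ?_⟩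
    have h := (sylow_facts p R).1 _ hR _ hs
    rw [← map_mul, ← map_mul, pr_eq_iff] at h
    rcases h with h | h
    · exact h
    exfalso
    have hc : X * T * X⁻¹ = negOne * T := by rw [h, ← mul_assoc negOne T X, mul_inv_cancel_right]
    have h3 := congrArg (· ^ N) hc
    simp only [conj_pow, hTN, mul_one, mul_inv_cancel, (show Commute negOne T from negOne_comm T).mul_pow] at h3
    obtain ⟨k, hk⟩ : ∃ k, N = 2 * k + 1 := ⟨N / 2, by omega⟩
    rw [hk, pow_succ, pow_mul, pow_two, negOne_mul_self, one_pow, one_mul] at h3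
    have h4 := congrFun (congrFun (congrArg Subtype.val h3) 0) 0
    simp [coe_negOne] at h4
    exact h2 (by linear_combination h4)
  have hcc : ∀ s ∈ (S : Subgroup P), ∀ u ∈ (S' : Subgroup P), s * u = u * s := by
    intro s hs u hu
    by_cases hs1 : s = 1
    · simp [hs1]
    by_cases hu1 : u = 1
    · simp [hu1]
    obtain ⟨X, rfl, hXs, hXT⟩ := hcomm ht s hs hs1
    obtain ⟨Y, rfl, hYs, hYT⟩ := hcomm ht' u hu hu1
    have hX : X ∈ cent (⊤ : Subgroup SL2) T := mem_cent.2 ⟨trivial, hXT⟩
    have hY : Y ∈ cent (⊤ : Subgroup SL2) T := mem_cent.2 ⟨trivial, hYT⟩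
    rw [← cent_eq_of_mem hTs hXs hX] at hY
    rw [← map_mul, ← map_mul, (mem_cent.1 hY).2]
  refine Sylow.ext (S.is_maximal' S'.2 ?_).symm
  have hnorm : (S : Subgroup P) ≤ Subgroup.normalizer ((S' : Subgroup P) : Set P) := fun s hs =>
    Subgroup.mem_normalizer_fintype fun u hu => by rw [hcc s hs u hu, mul_inv_cancel_right]; exact hu
  intro s hs
  exact ((S.2.inf_normalizer_sylow S').le ⟨hs, hnorm hs⟩).2

end Cfsg.Agent.Dickson
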