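/-
The types of maximal subgroups of PGL_2(q), q odd, not containing the special part.
-/
import Cfsg.Agent.Lib.Classical.DicksonPGLBase
import Cfsg.Agent.Lib.Classical.DicksonFieldGroups
import Cfsg.Agent.Lib.Classical.PSL2Subfield
import Mathlib.NumberTheory.LegendreSymbol.QuadraticChar.GaussSum

set_option autoImplicit false
set_option linter.style.haveILetI false

namespace Cfsg.Agent.Dickson

open Matrix SL2Inv PSL2Inv PStable

universe u

variable {F : Type u} [Field F] [Finite F]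

local notation "SL2" => Matrix.SpecialLinearGroup (Fin 2) F
local notation "M2" => Matrix (Fin 2) (Fin 2) F
local notation "P" => Matrix.ProjectiveSpecialLinearGroup (Fin 2) F
local notation "PGL2" => Matrix.ProjGenLinGroup (Fin 2) F
local notation "ι" => (Matrix.ProjectiveSpecialLinearGroup.toPGL (n := Fin 2) (R := F))

/-- The projective linear group sits in the special one of the quadratic extension. -/
theorem exists_double (p : ℕ) [Fact p.Prime] [CharP F p] (hodd : Nat.card F % 2 = 1) :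
    ∃ (F2 : Type) (_ : Field F2) (_ : Finite F2) (_ : CharP F2 p), Nat.card F2 = Nat.card F ^ 2 ∧
      ∃ η : PGL2 →* Matrix.ProjectiveSpecialLinearGroup (Fin 2) F2, Function.Injective η := by
  classical
  haveI := Fintype.ofFinite F
  obtain ⟨a, -, ha⟩ := FiniteField.card F p
  rw [← Nat.card_eq_fintype_card] at ha
  let F2 := GaloisField p ((a : ℕ) * 2)
  haveI := Fintype.ofFinite F2
  have hc : Nat.card F2 = Nat.card F ^ 2 := by
    rw [GaloisField.card p _ (Nat.mul_ne_zero a.ne_zero two_ne_zero), ha, pow_mul]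
  obtain ⟨f⟩ := PSL2Field.exists_ringHom hc.symm
  refine ⟨F2, inferInstance, inferInstance, inferInstance, hc, PSL2Field.exists_pgl_hom f fun x => ?_⟩
  by_cases hx : x = 0
  · exact ⟨0, by rw [hx, map_zero, mul_zero]⟩
  have hchar : ringChar F2 ≠ 2 := by
    rw [ringChar.eq F2 p]
    rintro rfl
    have : 2 ∣ Nat.card F := ha ▸ dvd_pow_self 2 a.ne_zero
    omega
  rw [FiniteField.isSquare_iff hchar ((map_ne_zero f).2 hx), ← Nat.card_eq_fintype_card, hc, ← map_pow]
  obtain ⟨c, hq⟩ : ∃ c, Nat.card F = 2 * c + 1 := ⟨Nat.card F / 2, by omega⟩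
  have hdiv : Nat.card F ^ 2 / 2 = (Nat.card F - 1) * (c + 1) := by
    rw [hq, show (2 * c + 1) ^ 2 = 2 * (2 * c * (c + 1)) + 1 by ring, Nat.add_sub_cancel]
    omega
  rw [hdiv, pow_mul, Nat.card_eq_fintype_card, FiniteField.pow_card_sub_one_eq_one x hx, one_pow, map_one]

theorem map_range_mono {K K' : Type*} [Field K] [Field K'] (f : K →+* F) (f' : K' →+* F)
    (h : ∀ x : K, f x ∈ f'.fieldRange) :
    (ProjGenLinGroup.map (n := Fin 2) f).range ≤ (ProjGenLinGroup.map (n := Fin 2) f').range := by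
  rintro _ ⟨y, rfl⟩
  induction y using ProjGenLinGroup.induction_on with | mk γ =>
  choose t ht using h
  rw [ProjGenLinGroup.map_mk]
  exact mem_range_of_smul f' one_ne_zero (M := (γ : Matrix (Fin 2) (Fin 2) K).map t) (by
    rw [one_smul]
    ext i j
    exact ht _)

/-- Torus case. -/
theorem pgl_torus (p : ℕ) [Fact p.Prime] [CharP F p] (hodd : Nat.card F % 2 = 1) (h5 : 5 ≤ Nat.card F)
    {M : Subgroup PGL2} (hM : IsCoatom M) (hML : ¬ (ι).range ≤ M) {k : ℕ}
    (hk : 2 * k ∣ Nat.card F + 1 ∨ 2 * k ∣ Nat.card F - 1)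
    (hcase : (IsCyclic (M.comap ι) ∧ Nat.card (M.comap ι) = k) ∨ Nonempty (M.comap ι ≃* DihedralGroup k)) :
    ∃ h, (2 * h = Nat.card F + 1 ∨ 2 * h = Nat.card F - 1) ∧ 3 ≤ h ∧
      Nonempty (M ≃* DihedralGroup (2 * h)) ∧ Nonempty (M.comap ι ≃* DihedralGroup h) := by
  classical
  have hp := (Fact.out : p.Prime)
  have h2 := two_ne (F := F) hodd
  have hMc := card_coatom hodd hM hML
  have h3 := three_le_comap p hodd hM hML
  have hne := comap_ne_top hML
  have hbot : M.comap ι ≠ ⊥ := fun h => by rw [h, Subgroup.card_bot] at h3; omega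
  have hN := eq_normalizer (by omega) hM hbot hne (le_normalizer_comap hodd M)
  have hself : M.comap ι = Subgroup.normalizer ((M.comap ι : Subgroup P) : Set P) := by
    conv_lhs => rw [hN]
    exact comap_normalizer _
  have hF1 := Finite.one_lt_card (α := F)
  have hk2 : 2 ≤ k := by
    rcases hcase with ⟨-, h⟩ | ⟨⟨e⟩⟩
    · omega
    · rw [Nat.card_congr e.toEquiv, DihedralGroup.nat_card] at h3
      omega
  -- the Klein four case does not occur
  have hk3 : 3 ≤ k := by
    by_contra hlt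
    obtain rfl : k = 2 := by omega
    rcases hcase with ⟨-, h⟩ | ⟨⟨e⟩⟩
    · omega
    have hV : IsKleinFour (M.comap ι) := by
      refine ⟨by rw [Nat.card_congr e.toEquiv, DihedralGroup.nat_card], ?_⟩
      rw [Monoid.exponent_eq_of_mulEquiv e]
      exact IsKleinFour.exponent_two
    obtain ⟨j, hj⟩ := exists_anti (F := F) h2
    obtain ⟨x, c, hc, hx⟩ := exists_conj_W h2 hj hV
    obtain ⟨t, ht, -, -, -, hmap⟩ := PSL2Sub.exists_cycle_pr h2 (hj.mul_C hc)
    have hmem : x⁻¹ * t * x ∈ M.comap ι := by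
      rw [hself]
      have htN := FourGroup.mem_normalizer_of_map hmap
      rw [← hx] at htN
      refine Subgroup.mem_normalizer_fintype fun v hv => ?_
      obtain ⟨v', hv', hvv⟩ := (Subgroup.mem_normalizer_iff.1 htN _).1 (Subgroup.mem_map_of_mem _ hv)
      simp only [MulEquiv.coe_toMonoidHom, MulAut.conj_apply] at hvv
      have e' : x⁻¹ * t * x * v * (x⁻¹ * t * x)⁻¹ = x⁻¹ * (t * (x * v * x⁻¹) * t⁻¹) * x := by group
      rw [e', ← hvv, show x⁻¹ * (x * v' * x⁻¹) * x = v' by group]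
      exact hv'
    have hd := Subgroup.orderOf_dvd_natCard _ hmem
    have ho : orderOf (x⁻¹ * t * x) = 3 := by
      have h := MulEquiv.orderOf_eq (MulAut.conj x⁻¹) t
      rw [MulAut.conj_apply, inv_inv] at h
      rw [h, ht]
    rw [Nat.card_congr e.toEquiv, DihedralGroup.nat_card, ho] at hd
    norm_num at hd
  -- a characteristic cyclic subgroup
  obtain ⟨g, hg, hgord, hchar⟩ : ∃ g ∈ M.comap ι, orderOf g = k ∧
      ∀ y ∈ M.comap ι, orderOf y = k → y ∈ Subgroup.zpowers g := by
    rcases hcase with ⟨hc, hck⟩ | ⟨⟨e⟩⟩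
    · haveI := hc
      obtain ⟨g, hgen⟩ := IsCyclic.exists_generator (α := M.comap ι)
      refine ⟨g, g.2, by rw [Subgroup.orderOf_coe, orderOf_eq_card_of_forall_mem_zpowers hgen, hck],
        fun y hy _ => ?_⟩
      obtain ⟨i, hi⟩ := hgen ⟨y, hy⟩
      exact ⟨i, congrArg Subtype.val hi⟩
    · refine ⟨e.symm (DihedralGroup.r 1), (e.symm _).2,
        by rw [Subgroup.orderOf_coe, MulEquiv.orderOf_eq, DihedralGroup.orderOf_r_one], fun y hy ho => ?_⟩
      cases hd : e ⟨y, hy⟩ with
      | r i =>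
        obtain ⟨z, rfl⟩ := ZMod.intCast_surjective i
        refine ⟨z, ?_⟩
        rw [← DihedralGroup.r_one_zpow, ← MulEquiv.eq_symm_apply] at hd
        rw [map_zpow] at hd
        exact (congrArg Subtype.val hd :).symm
      | sr i =>
        exfalso
        have h := DihedralGroup.orderOf_sr i
        rw [← hd, MulEquiv.orderOf_eq, Subgroup.orderOf_mk] at h
        omega
  have hpk : ¬ p ∣ k := by
    intro h
    have hq : p ∣ Nat.card F := by
      haveI := Fintype.ofFinite F
      obtain ⟨n, -, hn⟩ := FiniteField.card F p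
      rw [Nat.card_eq_fintype_card, hn]
      exact dvd_pow_self p n.ne_zero
    rcases hk with h' | h'
    · exact hp.not_dvd_one ((Nat.dvd_add_right hq).1 ((h.mul_left 2).trans h'))
    · have h' := Nat.dvd_sub hq ((h.mul_left 2).trans h')
      rw [Nat.sub_sub_self (by omega)] at h'
      exact hp.not_dvd_one h'
  have hgp : g ^ p ≠ 1 := fun h => by
    have hd := orderOf_dvd_of_pow_eq_one h
    rw [hgord] at hd
    rcases (Nat.dvd_prime hp).1 hd with h | h
    · omega
    · exact hpk (h ▸ dvd_rfl)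
  obtain ⟨D, h, hh, ⟨eD⟩, hcard, hmem, hinv⟩ := torus_dihedral' p hgp
  rw [zz_eq_two hodd] at hh
  have hconj : ∀ m ∈ M, ∀ z : P, ι z = m * ι g * m⁻¹ → z ∈ Subgroup.zpowers g := by
    intro m hm z hz
    refine hchar z (show ι z ∈ M by rw [hz]; exact mul_mem (mul_mem hm hg) (inv_mem hm)) ?_
    rw [← orderOf_injective ι ι_injective, hz, ← MulAut.conj_apply, MulEquiv.orderOf_eq,
      orderOf_injective ι ι_injective, hgord]
  have hgne : Subgroup.zpowers g ≠ ⊥ := fun h => by
    rw [Subgroup.zpowers_eq_bot] at h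
    rw [h, orderOf_one] at hgord
    omega
  have hgtop : Subgroup.zpowers g ≠ ⊤ := fun h => hne (eq_top_iff.2 (h ▸ Subgroup.zpowers_le.2 hg))
  have hle : M ≤ Subgroup.normalizer (((Subgroup.zpowers g).map ι : Subgroup PGL2) : Set PGL2) := by
    intro m hm
    refine Subgroup.mem_normalizer_fintype fun y hy => ?_
    obtain ⟨x, hx, rfl⟩ := hy
    obtain ⟨i, rfl⟩ := hx
    obtain ⟨z, hz⟩ := conj_mem_range hodd m g
    refine ⟨z ^ i, zpow_mem (hconj m hm z hz) i, ?_⟩
    rw [map_zpow, hz, conj_zpow, map_zpow]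
  have hN2 := eq_normalizer (by omega) hM hgne hgtop hle
  have hD : M.comap ι = D := by
    conv_lhs => rw [hN2, comap_normalizer]
    refine le_antisymm (fun m hm => hmem m ((Subgroup.mem_normalizer_iff.1 hm g).1 (Subgroup.mem_zpowers g)))
      fun m hm => Subgroup.mem_normalizer_fintype fun y hy => ?_
    obtain ⟨i, rfl⟩ := hy
    rw [← conj_zpow]
    rcases hinv m hm with h | h <;> rw [h]
    · exact zpow_mem (Subgroup.mem_zpowers g) i
    · exact zpow_mem (inv_mem (Subgroup.mem_zpowers g)) i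
  have hh3 : 3 ≤ h := by
    have hdk : k ∣ 2 * h := by
      rw [← hcard, ← hgord]
      exact Subgroup.orderOf_dvd_natCard _ (hD ▸ hg)
    by_contra hlt
    have hh2 : h = 2 := by omega
    subst hh2
    have hk4 : k = 4 := by
      rcases (Nat.dvd_prime_pow Nat.prime_two (m := 2)).1 hdk with ⟨i, hi, rfl⟩
      interval_cases i <;> omega
    subst hk4
    have : Nat.card F = 5 := by omega
    rw [this] at hk
    norm_num at hk
  refine ⟨h, hh, hh3, ?_, ⟨(MulEquiv.subgroupCongr hD).trans eD⟩⟩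
  -- the whole group is dihedral, seen in the quadratic extension
  obtain ⟨F2, _, _, _, hF2, η, hη⟩ := exists_double (F := F) p hodd
  have hηp : (η (ι g)) ^ p ≠ 1 := by
    rw [← map_pow, ← map_pow]
    exact fun h => hgp (ι_injective (hη (by rw [h, map_one, map_one])))
  obtain ⟨D2, h2', -, ⟨e2⟩, hcard2, hmem2, -⟩ := torus_dihedral' p hηp
  haveI : NeZero h2' := ⟨fun h0 => by rw [h0, mul_zero] at hcard2; exact Nat.card_pos.ne' hcard2⟩
  have hMD : ∀ m : M, η m ∈ D2 := by
    intro m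
    refine hmem2 _ ?_
    obtain ⟨z, hz⟩ := conj_mem_range hodd (m : PGL2) g
    obtain ⟨i, hi⟩ := hconj m m.2 z hz
    have hi : g ^ i = z := hi
    refine ⟨i, ?_⟩
    show η (ι g) ^ i = _
    rw [← map_inv, ← map_mul, ← map_mul, ← map_zpow, ← map_zpow, hi, hz]
  let φ : M →* DihedralGroup h2' := e2.toMonoidHom.comp ((η.comp M.subtype).codRestrict D2 hMD)
  have hφ : Function.Injective φ := e2.injective.comp fun a b hab =>
    Subtype.ext (hη (congrArg Subtype.val hab :))
  refine dihedral_of_embedding φ hφ (fun hc => ?_) (by rw [hMc, hD, hcard])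
  haveI := hc
  haveI : IsCyclic (M.comap ι) := isCyclic_of_injective (((ι).comp (M.comap ι).subtype).codRestrict M fun x => x.2)
    fun a b hab => Subtype.ext (ι_injective (congrArg Subtype.val hab :))
  haveI : IsCyclic D := isCyclic_of_injective (MulEquiv.subgroupCongr hD).symm.toMonoidHom (MulEquiv.injective _)
  exact dihedral_not_cyclic (k := h) (by omega) (isCyclic_of_injective eD.symm.toMonoidHom eD.symm.injective)

/-- Borel case. -/
theorem pgl_borel (p : ℕ) [Fact p.Prime] [CharP F p] (hodd : Nat.card F % 2 = 1) (h5 : 5 ≤ Nat.card F)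
    {M : Subgroup PGL2} (hM : IsCoatom M) (hML : ¬ (ι).range ≤ M) (hp : p ∣ Nat.card (M.comap ι))
    {S : Sylow p P} (hS : M.comap ι ≤ Subgroup.normalizer ((S : Subgroup P) : Set P)) :
    M.comap ι = Subgroup.normalizer ((S : Subgroup P) : Set P) ∧
      Nat.card M = Nat.card F * (Nat.card F - 1) := by
  classical
  obtain ⟨⟨t, ht⟩, hto⟩ := exists_prime_orderOf_dvd_card' p hp
  rw [Subgroup.orderOf_mk] at hto
  have ht1 : t ≠ 1 := fun h => by rw [h, orderOf_one] at hto; exact (Fact.out : p.Prime).ne_one hto.symm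
  have hmemS : ∀ s ∈ M.comap ι, orderOf s = p → s ∈ (S : Subgroup P) := by
    intro s hs ho
    have hpg : IsPGroup p (Subgroup.zpowers s) := IsPGroup.of_card (n := 1) (by rw [Nat.card_zpowers, ho, pow_one])
    exact ((hpg.inf_normalizer_sylow S).le ⟨Subgroup.mem_zpowers s, hS hs⟩).2
  have htS := hmemS t ht hto
  have hle : M ≤ Subgroup.normalizer (((S : Subgroup P).map ι : Subgroup PGL2) : Set PGL2) := by
    intro m hm
    choose c hc using fun x => conj_mem_range hodd m x
    let φ : P →* P := MonoidHom.mk' c fun x y => ι_injective (by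
      rw [map_mul, hc, hc, hc, map_mul]; group)
    have hφ : Function.Injective φ := fun x y h => ι_injective (by
      have h' := congrArg ι (show c x = c y from h)
      rw [hc, hc] at h'
      exact mul_left_cancel (mul_right_cancel h'))
    let S' : Sylow p P := Sylow.ofCard ((S : Subgroup P).map φ) (by
      rw [Subgroup.card_map_of_injective hφ, S.card_eq_multiplicity])
    have hS' : (S' : Subgroup P) = (S : Subgroup P).map φ := Sylow.coe_ofCard _ _
    have hct : c t ∈ (S : Subgroup P) := by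
      refine hmemS _ (show ι (c t) ∈ M by rw [hc]; exact mul_mem (mul_mem hm ht) (inv_mem hm)) ?_
      rw [show c t = φ t from rfl, orderOf_injective φ hφ, hto]
    have hne : c t ≠ 1 := fun h => ht1 (hφ (h.trans (map_one φ).symm))
    have heq := sylow_eq_of_mem p hodd (S := S') (S' := S) (hS' ▸ Subgroup.mem_map_of_mem φ htS) hct hne
    refine Subgroup.mem_normalizer_fintype fun y hy => ?_
    obtain ⟨x, hx, rfl⟩ := hy
    refine ⟨c x, ?_, hc x⟩
    rw [← heq, hS']
    exact Subgroup.mem_map_of_mem φ hx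
  have hb : (S : Subgroup P) ≠ ⊥ := fun h => ht1 (by rw [h] at htS; exact htS)
  have htop : (S : Subgroup P) ≠ ⊤ := by
    intro h
    refine not_comm_psl (F := F) (by omega) ⟨⟨fun x y => ?_⟩⟩
    exact (sylow_facts p S).1 x (h ▸ trivial) y (h ▸ trivial)
  have hN := eq_normalizer (by omega) hM hb htop hle
  have h1 : M.comap ι = Subgroup.normalizer ((S : Subgroup P) : Set P) := by
    rw [hN, comap_normalizer]
  refine ⟨h1, ?_⟩
  rw [card_coatom hodd hM hML, h1]
  have h := card_normalizer_sylow p S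
  rwa [zz_eq_two hodd] at h

/-- An invariant four-group of a subgroup isomorphic to `A_4`. -/
theorem exists_klein (hodd : Nat.card F % 2 = 1) {M : Subgroup PGL2}
    (e : M.comap ι ≃* alternatingGroup (Fin 4)) :
    ∃ V : Subgroup P, V ≤ M.comap ι ∧ IsKleinFour V ∧
      M ≤ Subgroup.normalizer ((V.map ι : Subgroup PGL2) : Set PGL2) := by
  classical
  have hd : ∀ a b : alternatingGroup (Fin 4), a * a = 1 → b * b = 1 → (a * b) * (a * b) = 1 := by decide +kernel
  let V : Subgroup P :=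
    { carrier := {x | x ∈ M.comap ι ∧ x * x = 1}
      one_mem' := ⟨one_mem _, mul_one 1⟩
      mul_mem' := fun {a b} ha hb => ⟨mul_mem ha.1 hb.1, by
        have h := hd (e ⟨a, ha.1⟩) (e ⟨b, hb.1⟩) (by rw [← map_mul, ← map_one e]; congr 1; exact Subtype.ext ha.2)
          (by rw [← map_mul, ← map_one e]; congr 1; exact Subtype.ext hb.2)
        rw [← map_mul, ← map_mul, ← map_one e] at h
        exact congrArg Subtype.val (e.injective h)⟩
      inv_mem' := fun {a} ha => ⟨inv_mem ha.1, by rw [← _root_.mul_inv_rev, ha.2, inv_one]⟩ }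
  refine ⟨V, fun x hx => hx.1, ⟨?_, ?_⟩, fun m hm => Subgroup.mem_normalizer_fintype fun y hy => ?_⟩
  · let E : V ≃ {a : alternatingGroup (Fin 4) // a * a = 1} :=
      { toFun := fun x => ⟨e ⟨x, x.2.1⟩, by rw [← map_mul, ← map_one e]; congr 1; exact Subtype.ext x.2.2⟩
        invFun := fun a => ⟨(e.symm a : P), (e.symm (a : alternatingGroup (Fin 4))).2, by
          rw [← Subgroup.coe_mul, ← map_mul, a.2, map_one, Subgroup.coe_one]⟩
        left_inv := fun x => Subtype.ext (by simp)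
        right_inv := fun a => Subtype.ext (by simp) }
    rw [Nat.card_congr E, Nat.card_eq_fintype_card]
    decide +kernel
  · refine (Nat.prime_two.eq_one_or_self_of_dvd _ (Monoid.exponent_dvd_of_forall_pow_eq_one fun x => ?_)).resolve_left ?_
    · exact Subtype.ext (by rw [Subgroup.coe_pow, Subgroup.coe_one, pow_two]; exact x.2.2)
    · intro h1
      obtain ⟨a, ha, ha1⟩ : ∃ a : alternatingGroup (Fin 4), a * a = 1 ∧ a ≠ 1 := by decide +kernel
      have hv : (e.symm a : P) ∈ V := ⟨(e.symm a).2, by rw [← Subgroup.coe_mul, ← map_mul, ha, map_one, Subgroup.coe_one]⟩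
      have h : (⟨_, hv⟩ : V) = 1 := by
        have := Monoid.pow_exponent_eq_one (⟨_, hv⟩ : V)
        rwa [h1, pow_one] at this
      exact ha1 (e.symm.injective (by
        rw [map_one]
        exact Subtype.ext (congrArg Subtype.val h :)))
  · obtain ⟨x, hx, rfl⟩ := hy
    obtain ⟨z, hz⟩ := conj_mem_range hodd m x
    refine ⟨z, ⟨show ι z ∈ M by rw [hz]; exact mul_mem (mul_mem hm hx.1) (inv_mem hm), ι_injective ?_⟩, hz⟩
    have h := congrArg ι hx.2
    rw [map_mul, map_one] at h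
    rw [map_mul, hz, map_one, show m * ι x * m⁻¹ * (m * ι x * m⁻¹) = m * (ι x * ι x) * m⁻¹ by group, h]
    group

/-- The image of a maximal subgroup in the quadratic extension is one of Dickson's groups. -/
theorem double_cases (p : ℕ) [Fact p.Prime] [CharP F p] (hodd : Nat.card F % 2 = 1)
    {M : Subgroup PGL2} (hM : IsCoatom M) {F2 : Type} [Field F2] [Finite F2] [CharP F2 p]
    (hF2 : Nat.card F2 = Nat.card F ^ 2) {η : PGL2 →* Matrix.ProjectiveSpecialLinearGroup (Fin 2) F2}
    (hη : Function.Injective η) {G₀ : Type*} [Group G₀] (e : M.comap ι ≃* G₀)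
    (hcore : ∀ H : Subgroup (Matrix.ProjectiveSpecialLinearGroup (Fin 2) F2), (H ≃* G₀) → Core p H) :
    Nonempty (M ≃* alternatingGroup (Fin 4)) ∨ Nonempty (M ≃* Equiv.Perm (Fin 4)) ∨
    Nonempty (M ≃* alternatingGroup (Fin 5)) ∨
    (∃ (K : Type) (_ : Field K) (_ : Fintype K) (b : ℕ), Fintype.card K = p ^ b ∧
      (2 * Nat.card M = p ^ b * ((p ^ b) ^ 2 - 1) ∨ Nat.card M = p ^ b * ((p ^ b) ^ 2 - 1))) := by
  classical
  let H := ((M.comap ι).map ι).map η
  have eH : H ≃* G₀ := ((((M.comap ι).equivMapOfInjective ι ι_injective).trans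
    (((M.comap ι).map ι).equivMapOfInjective η hη)).symm).trans e
  have hle : H ≤ M.map η := Subgroup.map_mono (Subgroup.map_comap_le _ _)
  have eM : M ≃* M.map η := M.equivMapOfInjective η hη
  have hne : M.map η ≠ ⊤ := by
    intro htop
    have h1 : Nat.card (M.map η) ≤ Nat.card PGL2 := by
      rw [← Nat.card_congr eM.toEquiv]; exact Subgroup.card_le_card_group _
    rw [htop, Subgroup.card_top, card_pgl2] at h1
    have h2 := zz_mul_card (F := F2)
    have hz := zz_le_two (F := F2)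
    rw [hF2] at h2
    have h3 := (Nat.mul_le_mul hz h1).trans' h2.symm.le
    have hq := Finite.one_lt_card (α := F)
    set q := Nat.card F
    have h4 : 2 * q < q ^ 2 := by rw [pow_two]; exact Nat.mul_lt_mul_of_pos_right (by omega) (by omega)
    have h6 : 2 ≤ q ^ 2 - 1 := by have := Nat.pow_le_pow_left (show 2 ≤ q by omega) 2; omega
    have h5 : q ^ 2 - 1 ≤ (q ^ 2) ^ 2 - 1 := Nat.sub_le_sub_right (Nat.le_self_pow two_ne_zero _) 1
    have h7 : 2 * (q * (q ^ 2 - 1)) < q ^ 2 * ((q ^ 2) ^ 2 - 1) :=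
      calc 2 * (q * (q ^ 2 - 1)) = 2 * q * (q ^ 2 - 1) := by ring
        _ < q ^ 2 * (q ^ 2 - 1) := Nat.mul_lt_mul_of_pos_right h4 (by omega)
        _ ≤ _ := Nat.mul_le_mul_left _ h5
    omega
  rcases overgroup_cases p (hcore H eH) hle hne with ⟨⟨f⟩⟩ | ⟨⟨f⟩⟩ | ⟨⟨f⟩⟩ | ⟨K, i1, i2, m, hm, hK, hh⟩
  · exact Or.inl ⟨eM.trans f⟩
  · exact Or.inr (Or.inl ⟨eM.trans f⟩)
  · exact Or.inr (Or.inr (Or.inl ⟨eM.trans f⟩))
  haveI : CharP K p := by
    obtain ⟨f⟩ := PSL2Field.exists_ringHom (K := K) (F := F2) (m := m) (by rwa [Nat.card_eq_fintype_card])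
    exact (RingHom.charP_iff f f.injective p).2 inferInstance
  obtain ⟨b, -, hb⟩ := FiniteField.card K p
  refine Or.inr (Or.inr (Or.inr ⟨K, i1, i2, b, hb, ?_⟩))
  rw [← hb, ← Nat.card_eq_fintype_card, Nat.card_congr eM.toEquiv]
  rcases hh with ⟨⟨f⟩⟩ | ⟨⟨f⟩⟩
  · left
    have h := gcd_mul_card_psl (K := K)
    rw [← Nat.card_congr f.toEquiv] at h
    rw [← h]
    congr 1
    refine (Nat.gcd_eq_left ?_).symm
    rw [Nat.card_eq_fintype_card, hb]
    have hp2 : p ≠ 2 := by
      rintro rfl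
      exact two_ne (F := F) hodd (by exact_mod_cast CharP.cast_eq_zero F 2)
    have := Nat.odd_iff.1 (((Fact.out : p.Prime).odd_of_ne_two hp2).pow (n := (b : ℕ)))
    omega
  · right
    rw [Nat.card_congr f.toEquiv, card_pgl2]

/-- The `A_4` case forces a prime field. -/
theorem pgl_a4 (p : ℕ) [Fact p.Prime] [CharP F p] (hodd : Nat.card F % 2 = 1) (h5 : 5 ≤ Nat.card F)
    {M : Subgroup PGL2} (hM : IsCoatom M) (hML : ¬ (ι).range ≤ M) (hp3 : p ≠ 3)
    (e : M.comap ι ≃* alternatingGroup (Fin 4)) :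
    Nat.card F = p ∧ (p % 8 = 3 ∨ p % 8 = 5) ∧ Nonempty (M ≃* Equiv.Perm (Fin 4)) := by
  classical
  haveI := Fintype.ofFinite F
  have hp := (Fact.out : p.Prime)
  have h2 := two_ne (F := F) hodd
  have hp2 : p ≠ 2 := by
    rintro rfl
    exact h2 (by exact_mod_cast CharP.cast_eq_zero F 2)
  have hMc := card_coatom hodd hM hML
  rw [Nat.card_congr e.toEquiv, card_a4] at hMc
  obtain ⟨n, -, hn⟩ := FiniteField.card F p
  rw [← Nat.card_eq_fintype_card] at hn
  obtain ⟨V, hV0, hV, hle⟩ := exists_klein hodd e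
  have hVb : V ≠ ⊥ := fun h => by have := hV.card_four; rw [h, Subgroup.card_bot] at this; omega
  have hVt : V ≠ ⊤ := fun h => comap_ne_top hML (eq_top_iff.2 (h ▸ hV0))
  have hN := eq_normalizer (by omega) hM hVb hVt hle
  have hNV : M.comap ι = Subgroup.normalizer (V : Set P) := by rw [hN, comap_normalizer]
  have h8 : Nat.card F % 8 = 3 ∨ Nat.card F % 8 = 5 := by
    by_contra hcon
    obtain ⟨x, hx, hord⟩ := klein_normalizer_order_four h2 (by omega) hV
    rw [← hNV] at hx
    have ho : orderOf (e ⟨x, hx⟩) = 4 := by rw [MulEquiv.orderOf_eq, Subgroup.orderOf_mk, hord]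
    have h4 : ∀ a : alternatingGroup (Fin 4), a ^ 6 = 1 := by decide +kernel
    have hd := orderOf_dvd_of_pow_eq_one (h4 (e ⟨x, hx⟩))
    rw [ho] at hd
    norm_num at hd
  have hq : Nat.card F = p := by
    let f : ZMod p →+* F := ZMod.castHom (dvd_refl p) F
    have h2K : (2 : ZMod p) ≠ 0 := fun h => h2 (by rw [← map_ofNat f 2, h, map_zero])
    obtain ⟨j, hj⟩ := exists_anti (F := ZMod p) h2K
    obtain ⟨a, ha, ha1, -⟩ := FourGroup.exists_two hV (a := (1 : P))
    obtain ⟨b, hb, hb1, hba⟩ := FourGroup.exists_two hV (a := a)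
    obtain ⟨A, hA, rfl⟩ := PSL2Inv.exists_lift h2 (FourGroup.mul_self_of_mem hV ha) ha1
    obtain ⟨B, hB, rfl⟩ := PSL2Inv.exists_lift h2 (FourGroup.mul_self_of_mem hV hb) hb1
    obtain ⟨g, hgA, hgB⟩ := exists_standard h2 (map_anti f hj) hA hB
      (anticomm_of_commute h2 hA hB (fun h => hba h.symm) (FourGroup.comm_of_mem hV ha hb))
    have hfr := normalizer_subfield_of_frame f h2 hV hj hA hB ha hb ha1 hb1 hba hgA hgB
    set J : SL2 := Matrix.SpecialLinearGroup.map f j with hJ
    let E : GL (Fin 2) F := GeneralLinearGroup.mkOfDetNeZero !![1, -1; 1, 1] (by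
      rw [Matrix.det_fin_two_of]; norm_num; exact h2)
    let T : SL2 →* GL (Fin 2) F := Matrix.SpecialLinearGroup.toGL
    have gA : g * T A = T w * g := Units.ext hgA
    have gB : g * T B = T J * g := Units.ext hgB
    have hEv : (E : M2) = 1 + (w : SL2).1 := by
      show !![(1 : F), -1; 1, 1] = _
      ext a b; fin_cases a <;> fin_cases b <;> simp [w]
    have hw2 : (w : SL2).1 * (w : SL2).1 = -1 :=
      (Matrix.SpecialLinearGroup.coe_mul w w).symm.trans (congrArg Subtype.val w_mul_self)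
    have hJw : J.1 * (w : SL2).1 = -((w : SL2).1 * J.1) := by
      have := congrArg Subtype.val (map_anti f hj).2
      simpa [coe_negOne, hJ] using this
    have hEw : E * T w = T w * E := by
      apply Units.ext
      show (E : M2) * (w : SL2).1 = (w : SL2).1 * (E : M2)
      rw [hEv, add_mul, mul_add, one_mul, mul_one]
    have hEJ : E * T J = T w * T J * E := by
      apply Units.ext
      show (E : M2) * J.1 = (w : SL2).1 * J.1 * (E : M2)
      rw [hEv, add_mul, mul_add, one_mul, mul_one, mul_assoc _ J.1 (w : SL2).1, hJw, mul_neg, ← mul_assoc, hw2]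
      simp [add_comm]
    let e' : GL (Fin 2) F := g⁻¹ * E * g
    have heA : e' * T A * e'⁻¹ = T A := by
      rw [mul_inv_eq_iff_eq_mul, show T A = g⁻¹ * T w * g by rw [mul_assoc, ← gA, inv_mul_cancel_left]]
      show g⁻¹ * E * g * (g⁻¹ * T w * g) = g⁻¹ * T w * g * (g⁻¹ * E * g)
      calc g⁻¹ * E * g * (g⁻¹ * T w * g) = g⁻¹ * (E * T w) * g := by group
        _ = g⁻¹ * (T w * E) * g := by rw [hEw]
        _ = _ := by group
    have heB : e' * T B * e'⁻¹ = T (A * B) := by
      rw [mul_inv_eq_iff_eq_mul, map_mul, show T A = g⁻¹ * T w * g by rw [mul_assoc, ← gA, inv_mul_cancel_left],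
        show T B = g⁻¹ * T J * g by rw [mul_assoc, ← gB, inv_mul_cancel_left]]
      show g⁻¹ * E * g * (g⁻¹ * T J * g) = g⁻¹ * T w * g * (g⁻¹ * T J * g) * (g⁻¹ * E * g)
      calc g⁻¹ * E * g * (g⁻¹ * T J * g) = g⁻¹ * (E * T J) * g := by group
        _ = g⁻¹ * (T w * T J * E) * g := by rw [hEJ]
        _ = _ := by group
    have heM : ProjGenLinGroup.mk e' ∈ M := by
      rw [hN]
      refine Subgroup.mem_normalizer_fintype fun y hy => ?_
      obtain ⟨v, hv, rfl⟩ := hy
      rw [FourGroup.eq_four hV ha hb ha1 hb1 (fun h => hba h.symm)] at hv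
      have hA' : ProjGenLinGroup.mk e' * ι (pr A) * (ProjGenLinGroup.mk e')⁻¹ = ι (pr A) := by
        show ProjGenLinGroup.mk e' * ProjGenLinGroup.mk (T A) * _ = ProjGenLinGroup.mk (T A)
        rw [← map_inv, ← map_mul, ← map_mul, heA]
      have hB' : ProjGenLinGroup.mk e' * ι (pr B) * (ProjGenLinGroup.mk e')⁻¹ = ι (pr A * pr B) := by
        show ProjGenLinGroup.mk e' * ProjGenLinGroup.mk (T B) * _ = _
        rw [← map_inv, ← map_mul, ← map_mul, heB, ← map_mul pr A B]
        rfl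
      rcases FourGroup.mem_four.1 hv with rfl | rfl | rfl | rfl
      · rw [map_one ι, mul_one, mul_inv_cancel]; exact one_mem _
      · rw [hA']; exact Subgroup.mem_map_of_mem _ ha
      · rw [hB']; exact Subgroup.mem_map_of_mem _ (mul_mem ha hb)
      · rw [map_mul ι, show ∀ x a b : PGL2, x * (a * b) * x⁻¹ = (x * a * x⁻¹) * (x * b * x⁻¹) from
          fun x a b => by group, hA', hB', ← map_mul]
        exact Subgroup.mem_map_of_mem _ (mul_mem ha (mul_mem ha hb))
    have hnotin : ProjGenLinGroup.mk e' ∉ (ι).range := by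
      rintro ⟨y, hy⟩
      obtain ⟨X, rfl⟩ := pr_surjective y
      rw [show ι (pr X) = ProjGenLinGroup.mk (T X) from rfl, ProjGenLinGroup.mk_eq_mk_iff] at hy
      obtain ⟨u, hu⟩ := hy
      have h := congrArg (fun z : GL (Fin 2) F => (z : M2).det) hu
      simp only [Units.val_mul, Matrix.det_mul, GeneralLinearGroup.coe_scalar] at h
      rw [show ((T X : GL (Fin 2) F) : M2).det = 1 from X.2, one_mul, Matrix.scalar_apply, Matrix.det_diagonal,
        Fin.prod_univ_two] at h
      have he : ((e' : GL (Fin 2) F) : M2).det = 2 := by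
        show (((g⁻¹ * E * g : GL (Fin 2) F)) : M2).det = 2
        rw [Units.val_mul, Units.val_mul, Matrix.det_units_conj']
        show (!![(1 : F), -1; 1, 1]).det = 2
        rw [Matrix.det_fin_two_of]; norm_num
      have hsq : IsSquare (2 : F) := ⟨u, he.symm.trans h.symm⟩
      rw [FiniteField.isSquare_two_iff, ← Nat.card_eq_fintype_card] at hsq
      omega
    let R : Subgroup PGL2 := (ProjGenLinGroup.map (n := Fin 2) f).range.map
      (MulAut.conj (ProjGenLinGroup.mk g)⁻¹).toMonoidHom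
    have hR : ∀ y : PGL2, ProjGenLinGroup.mk g * y * (ProjGenLinGroup.mk g)⁻¹ ∈
        (ProjGenLinGroup.map (n := Fin 2) f).range → y ∈ R := fun y hy => ⟨_, hy, by simp [mul_assoc]⟩
    have hMR : M ≤ R := by
      have hcap : ∀ y ∈ M, y ∈ (ι).range → y ∈ R := by
        rintro _ hy ⟨x, rfl⟩
        exact hR _ (hfr x (by rw [← hNV]; exact hy))
      have heR : ProjGenLinGroup.mk e' ∈ R := by
        refine hR _ ?_
        rw [← map_inv, ← map_mul, ← map_mul, show g * e' * g⁻¹ = E by simp [e', mul_assoc]]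
        refine mem_range_of_smul f one_ne_zero (M := (!![1, -1; 1, 1] : Matrix (Fin 2) (Fin 2) (ZMod p))) ?_
        rw [one_smul]
        show _ = !![(1 : F), -1; 1, 1]
        ext a b; fin_cases a <;> fin_cases b <;> simp
      intro y hy
      by_cases h : y ∈ (ι).range
      · exact hcap y hy h
      · have h' : (ProjGenLinGroup.mk e')⁻¹ * y ∈ (ι).range := by
          rw [Subgroup.mul_mem_iff_of_index_two (index_range hodd), inv_mem_iff]
          exact iff_of_false hnotin h
        have := mul_mem heR (hcap _ (mul_mem (inv_mem heM) hy) h')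
        rwa [mul_inv_cancel_left] at this
    have hRc : Nat.card R = p * (p ^ 2 - 1) := by
      rw [Subgroup.card_map_of_injective (MulEquiv.injective _),
        ← Nat.card_congr (MonoidHom.ofInjective (pglMap_injective f)).toEquiv, card_pgl2, Nat.card_zmod]
    rcases hM.le_iff.1 hMR with h | h
    · rw [h, Subgroup.card_top, card_pgl2] at hRc
      by_contra hne
      have hle : p ≤ Nat.card F := hn ▸ Nat.le_self_pow n.ne_zero p
      have hlt : p < Nat.card F := lt_of_le_of_ne hle (fun h => hne h.symm)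
      have h1 : p ^ 2 - 1 ≤ Nat.card F ^ 2 - 1 := Nat.sub_le_sub_right (Nat.pow_le_pow_left hle 2) 1
      have h0 : 0 < Nat.card F ^ 2 - 1 := by
        have := Nat.pow_le_pow_left (show 2 ≤ Nat.card F by omega) 2
        omega
      have : p * (p ^ 2 - 1) < Nat.card F * (Nat.card F ^ 2 - 1) :=
        lt_of_le_of_lt (Nat.mul_le_mul_left p h1) (Nat.mul_lt_mul_of_pos_right hlt h0)
      omega
    · rw [h, hMc] at hRc
      exfalso
      have hp5 : 5 ≤ p := by
        have := hp.two_le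
        have : p ≠ 4 := fun h => absurd hp (by rw [h]; norm_num)
        omega
      have : 5 * (5 ^ 2 - 1) ≤ p * (p ^ 2 - 1) :=
        Nat.mul_le_mul hp5 (Nat.sub_le_sub_right (Nat.pow_le_pow_left hp5 2) 1)
      omega
  refine ⟨hq, hq ▸ h8, ?_⟩
  obtain ⟨F2, _, _, _, hF2, η, hη⟩ := exists_double (F := F) p hodd
  rcases double_cases p hodd hM hF2 hη e (fun H eH => core_A4 p hp2 eH) with ⟨⟨f⟩⟩ | h | ⟨⟨f⟩⟩ | ⟨K, _, _, b, hb, h⟩
  · rw [Nat.card_congr f.toEquiv, card_a4] at hMc; omega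
  · exact h
  · rw [Nat.card_congr f.toEquiv, card_a5] at hMc; omega
  · exfalso
    rw [hMc] at h
    have hp5 : 5 ≤ p := by
      have := hp.two_le
      have : p ≠ 4 := fun h => absurd hp (by rw [h]; norm_num)
      omega
    have hb0 : b ≠ 0 := fun h0 => by
      rw [h0, pow_zero] at hb
      have := Fintype.one_lt_card (α := K)
      omega
    have h5b : 5 ≤ p ^ b := hp5.trans (Nat.le_self_pow hb0 p)
    have : 5 * (5 ^ 2 - 1) ≤ p ^ b * ((p ^ b) ^ 2 - 1) :=
      Nat.mul_le_mul h5b (Nat.sub_le_sub_right (Nat.pow_le_pow_left h5b 2) 1)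
    omega

/-- The list of maximal subgroups. -/
theorem pgl_maximal (p : ℕ) [Fact p.Prime] [CharP F p] (hodd : Nat.card F % 2 = 1) (h5 : 5 ≤ Nat.card F)
    {M : Subgroup PGL2} (hM : IsCoatom M) (hML : ¬ (ι).range ≤ M) :
    (∃ S : Sylow p P, M.comap ι = Subgroup.normalizer ((S : Subgroup P) : Set P) ∧
      Nat.card M = Nat.card F * (Nat.card F - 1)) ∨
    (∃ h, (2 * h = Nat.card F + 1 ∨ 2 * h = Nat.card F - 1) ∧ 3 ≤ h ∧
      Nonempty (M ≃* DihedralGroup (2 * h)) ∧ Nonempty (M.comap ι ≃* DihedralGroup h)) ∨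
    (Nat.card F = p ∧ (p % 8 = 3 ∨ p % 8 = 5) ∧ Nonempty (M ≃* Equiv.Perm (Fin 4)) ∧
      Nonempty (M.comap ι ≃* alternatingGroup (Fin 4))) ∨
    (∃ (K : Type) (_ : Field K) (_ : Fintype K) (m : ℕ), m.Prime ∧ Odd m ∧
      Fintype.card K ^ m = Nat.card F ∧ Nonempty (M ≃* Matrix.ProjGenLinGroup (Fin 2) K) ∧
      Nonempty (M.comap ι ≃* Matrix.ProjectiveSpecialLinearGroup (Fin 2) K)) := by
  classical
  haveI := Fintype.ofFinite F
  have hp := (Fact.out : p.Prime)
  have hp2 : p ≠ 2 := by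
    rintro rfl
    exact two_ne (F := F) hodd (by exact_mod_cast CharP.cast_eq_zero F 2)
  have hne := comap_ne_top hML
  have hMc := card_coatom hodd hM hML
  obtain ⟨F2, _, _, _, hF2, η, hη⟩ := exists_double (F := F) p hodd
  have hbig : ∀ {b : ℕ}, 5 ≤ p ^ b → 120 ≤ p ^ b * ((p ^ b) ^ 2 - 1) := fun h5b =>
    le_trans (by norm_num) (Nat.mul_le_mul h5b (Nat.sub_le_sub_right (Nat.pow_le_pow_left h5b 2) 1))
  have hnoS4 : p ≠ 3 → Nonempty (M.comap ι ≃* Equiv.Perm (Fin 4)) → False := by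
    rintro hp3 ⟨e⟩
    rw [Nat.card_congr e.toEquiv, card_s4] at hMc
    rcases double_cases p hodd hM hF2 hη e (fun H eH => core_S4 p hp2 eH) with ⟨⟨f⟩⟩ | ⟨⟨f⟩⟩ | ⟨⟨f⟩⟩ | ⟨K, _, _, b, hb, h⟩
    · rw [Nat.card_congr f.toEquiv, card_a4] at hMc; omega
    · rw [Nat.card_congr f.toEquiv, card_s4] at hMc; omega
    · rw [Nat.card_congr f.toEquiv, card_a5] at hMc; omega
    · rcases Nat.lt_or_ge (p ^ b) 5 with hlt | hge
      · have hpb : p ^ b = 1 ∨ p ^ b = 2 ∨ p ^ b = 3 ∨ p ^ b = 4 := by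
          have := Nat.one_le_pow b p hp.pos; omega
        rcases hpb with h' | h' | h' | h' <;> rw [h'] at h <;>
          simp only [Nat.reducePow, Nat.reduceSub, Nat.reduceMul] at h <;> omega
      · have := hbig hge; omega
  have hnoA5 : p ≠ 5 → Nonempty (M.comap ι ≃* alternatingGroup (Fin 5)) → False := by
    rintro hp5 ⟨e⟩
    rw [Nat.card_congr e.toEquiv, card_a5] at hMc
    rcases double_cases p hodd hM hF2 hη e (fun H eH => core_A5 p hp2 eH) with ⟨⟨f⟩⟩ | ⟨⟨f⟩⟩ | ⟨⟨f⟩⟩ | ⟨K, _, _, b, hb, h⟩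
    · rw [Nat.card_congr f.toEquiv, card_a4] at hMc; omega
    · rw [Nat.card_congr f.toEquiv, card_s4] at hMc; omega
    · rw [Nat.card_congr f.toEquiv, card_a5] at hMc; omega
    · rcases Nat.lt_or_ge (p ^ b) 7 with hlt | hge
      · have hne5 : p ^ b ≠ 5 := fun h' => hp5 ((Nat.prime_dvd_prime_iff_eq hp Nat.prime_five).1 (by
          rw [← h']
          refine dvd_pow_self p fun h0 => ?_
          rw [h0, pow_zero] at h'; omega))
        have hpb : p ^ b = 1 ∨ p ^ b = 2 ∨ p ^ b = 3 ∨ p ^ b = 4 ∨ p ^ b = 6 := by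
          have := Nat.one_le_pow b p hp.pos; omega
        rcases hpb with h' | h' | h' | h' | h' <;> rw [h'] at h <;>
          simp only [Nat.reducePow, Nat.reduceSub, Nat.reduceMul] at h <;> omega
      · have : 7 * (7 ^ 2 - 1) ≤ p ^ b * ((p ^ b) ^ 2 - 1) :=
          Nat.mul_le_mul hge (Nat.sub_le_sub_right (Nat.pow_le_pow_left hge 2) 1)
        omega
  have hA4 : p ≠ 3 → Nonempty (M.comap ι ≃* alternatingGroup (Fin 4)) →
      Nat.card F = p ∧ (p % 8 = 3 ∨ p % 8 = 5) ∧ Nonempty (M ≃* Equiv.Perm (Fin 4)) ∧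
        Nonempty (M.comap ι ≃* alternatingGroup (Fin 4)) := by
    rintro hp3 ⟨e⟩
    obtain ⟨h1, h2, h3⟩ := pgl_a4 p hodd h5 hM hML hp3 e
    exact ⟨h1, h2, h3, ⟨e⟩⟩
  by_cases hd : p ∣ Nat.card (M.comap ι)
  swap
  · rcases classify_coprime_of p _ hd with ⟨k, hk, hc⟩ | ⟨-, h3, h⟩ | ⟨-, h3, h⟩ | ⟨-, h5', h⟩
    · rw [zz_eq_two hodd] at hk
      exact Or.inr (Or.inl (pgl_torus p hodd h5 hM hML hk hc))
    · exact Or.inr (Or.inr (Or.inl (hA4 h3 h)))
    · exact absurd h (hnoS4 h3)
    · exact absurd h (hnoA5 h5')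
  rcases classify_proper' p hne with ⟨k, hk, hc⟩ | ⟨S, hS⟩ | ⟨-, h3, h⟩ | ⟨-, h3, h⟩ | ⟨-, h5', h⟩ |
    ⟨K, i1, i2, m, hm2, hKm, ⟨f, hf⟩, hiso⟩
  · rw [zz_eq_two hodd] at hk
    exfalso
    have hq : p ∣ Nat.card F := by
      obtain ⟨n, -, hn⟩ := FiniteField.card F p
      rw [Nat.card_eq_fintype_card, hn]
      exact dvd_pow_self p n.ne_zero
    have hpk : p ∣ 2 * k := by
      rcases hc with ⟨-, h⟩ | ⟨⟨e⟩⟩
      · rw [h] at hd; exact dvd_mul_of_dvd_right hd 2
      · rwa [Nat.card_congr e.toEquiv, DihedralGroup.nat_card] at hd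
    rcases hk with h' | h'
    · exact hp.not_dvd_one ((Nat.dvd_add_right hq).1 (hpk.trans h'))
    · have h' := Nat.dvd_sub hq (hpk.trans h')
      rw [Nat.sub_sub_self (by omega)] at h'
      exact hp.not_dvd_one h'
  · exact Or.inl ⟨S, pgl_borel p hodd h5 hM hML hd hS⟩
  · exact Or.inr (Or.inr (Or.inl (hA4 h3 h)))
  · exact absurd h (hnoS4 h3)
  · exact absurd h (hnoA5 h5')
  -- subfield groups
  haveI : CharP K p := (RingHom.charP_iff f f.injective p).2 inferInstance
  obtain ⟨a, -, ha⟩ := FiniteField.card K p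
  have hk3 : 3 ≤ Nat.card K := by
    rw [Nat.card_eq_fintype_card, ha]
    have := hp.two_le
    exact le_trans (by omega) (Nat.le_self_pow a.ne_zero p)
  have hkodd : Nat.card K % 2 = 1 := by
    rw [Nat.card_eq_fintype_card, ha]
    exact Nat.odd_iff.1 ((hp.odd_of_ne_two hp2).pow)
  have hzK : Nat.gcd 2 (Nat.card K - 1) = 2 := Nat.gcd_eq_left (by omega)
  rcases hiso with ⟨⟨e⟩⟩ | ⟨⟨e⟩⟩
  swap
  · exfalso
    rw [Nat.card_congr e.toEquiv, card_pgl2, Nat.card_eq_fintype_card (α := K), ha] at hMc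
    have hk3' : 3 ≤ p ^ (a : ℕ) := by rwa [Nat.card_eq_fintype_card, ha] at hk3
    have h24 : 24 ≤ p ^ (a : ℕ) * ((p ^ (a : ℕ)) ^ 2 - 1) :=
      le_trans (by norm_num) (Nat.mul_le_mul hk3' (Nat.sub_le_sub_right (Nat.pow_le_pow_left hk3' 2) 1))
    rcases double_cases p hodd hM hF2 hη e (fun H eH => core_field p hk3 eH Matrix.SpecialLinearGroup.toPGL
        Matrix.SpecialLinearGroup.toPGL_ker fun g => orderOf_pgl_le g) with ⟨⟨g⟩⟩ | ⟨⟨g⟩⟩ | ⟨⟨g⟩⟩ | ⟨L, _, _, b, hb, h⟩
    · rw [Nat.card_congr g.toEquiv, card_a4] at hMc; omega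
    · rw [Nat.card_congr g.toEquiv, card_s4] at hMc; omega
    · rw [Nat.card_congr g.toEquiv, card_a5] at hMc
      rcases Nat.lt_or_ge (p ^ (a : ℕ)) 5 with hlt | hge
      · have : p ^ (a : ℕ) = 3 ∨ p ^ (a : ℕ) = 4 := by omega
        rcases this with h' | h' <;> rw [h'] at hMc <;>
          simp only [Nat.reducePow, Nat.reduceSub, Nat.reduceMul] at hMc <;> omega
      · have := hbig hge; omega
    · rw [hMc] at h
      have hpp : ∀ c : ℕ, c ≠ 0 → ¬ p ∣ (p ^ c) ^ 2 - 1 := fun c hc hd' => by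
        have h3 := Nat.dvd_sub (dvd_pow (dvd_pow_self p hc) two_ne_zero) hd'
        rw [Nat.sub_sub_self (Nat.one_le_pow _ _ (pow_pos hp.pos c))] at h3
        exact hp.not_dvd_one h3
      have hb0 : b ≠ 0 := fun h0 => by
        rw [h0, pow_zero] at hb
        have := Fintype.one_lt_card (α := L)
        omega
      have h2' : ¬ p ∣ 2 := fun hd' => hp2 ((Nat.prime_dvd_prime_iff_eq hp Nat.prime_two).1 hd')
      have hba : ∀ c, ¬ p ∣ c → c * (p ^ (a : ℕ) * ((p ^ (a : ℕ)) ^ 2 - 1)) = p ^ b * ((p ^ b) ^ 2 - 1) →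
          b = a ∧ c = 1 := by
        intro c hc hEq
        have e1 := factorization_eq_of (n := p ^ b * ((p ^ b) ^ 2 - 1)) hp rfl (hpp b hb0)
        have e2 := factorization_eq_of (e := a) (n := p ^ b * ((p ^ b) ^ 2 - 1)) (t := c * ((p ^ (a : ℕ)) ^ 2 - 1)) hp
          (by rw [← hEq]; ring) (fun hd' => (hp.dvd_mul.1 hd').elim hc (hpp a a.ne_zero))
        obtain rfl : b = (a : ℕ) := e1.symm.trans e2
        refine ⟨rfl, ?_⟩
        exact Nat.eq_of_mul_eq_mul_right (show 0 < p ^ (a : ℕ) * ((p ^ (a : ℕ)) ^ 2 - 1) by omega)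
          (hEq.trans (one_mul _).symm)
      rcases h with h | h
      · have := (hba 4 (fun hd' => h2' (hp.dvd_of_dvd_pow (show p ∣ 2 ^ 2 from hd'))) (by rw [← h]; ring)).2
        omega
      · have := (hba 2 h2' h).2
        omega
  obtain ⟨g, hg⟩ := hf
  let R : Subgroup PGL2 := (ProjGenLinGroup.map (n := Fin 2) f).range.map (MulAut.conj g⁻¹).toMonoidHom
  have hR : ∀ y : PGL2, g * y * g⁻¹ ∈ (ProjGenLinGroup.map (n := Fin 2) f).range → y ∈ R := fun y hy =>
    ⟨_, hy, by simp [mul_assoc]⟩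
  have hRc : Nat.card R = Nat.card K * (Nat.card K ^ 2 - 1) := by
    rw [Subgroup.card_map_of_injective (MulEquiv.injective _),
      ← Nat.card_congr (MonoidHom.ofInjective (pglMap_injective f)).toEquiv, card_pgl2]
  have hcM : Nat.card M = Nat.card R := by
    have h := gcd_mul_card_psl (K := K)
    rw [hzK, ← Nat.card_congr e.toEquiv, ← hMc] at h
    rw [h, hRc]
  have hIR : (M.comap ι).map ι ≤ R := by
    rintro _ ⟨x, hx, rfl⟩
    exact hR _ (hg x hx)
  have hRN : R ≤ Subgroup.normalizer (((M.comap ι).map ι : Subgroup PGL2) : Set PGL2) := by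
    have hidx : (((M.comap ι).map ι).subgroupOf R).index = 2 := by
      have h := (((M.comap ι).map ι).subgroupOf R).card_mul_index
      rw [Nat.card_congr (Subgroup.subgroupOfEquivOfLe hIR).toEquiv, Subgroup.card_map_of_injective ι_injective,
        ← hcM, hMc, mul_comm 2] at h
      exact Nat.eq_of_mul_eq_mul_left Nat.card_pos h
    exact (Subgroup.normal_subgroupOf_iff_le_normalizer hIR).1 (Subgroup.normal_of_index_eq_two hidx)
  have hbot : M.comap ι ≠ ⊥ := fun h => by
    have := three_le_comap p hodd hM hML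
    rw [h, Subgroup.card_bot] at this
    omega
  have hN := eq_normalizer (by omega) hM hbot hne (le_normalizer_comap hodd M)
  rw [← hN] at hRN
  have hMR : R = M := Subgroup.eq_of_le_of_card_ge hRN hcM.le
  have hKm' : Nat.card K ^ m = Nat.card F := by rw [Nat.card_eq_fintype_card]; exact hKm
  have hmodd : Odd m := by
    rw [← Nat.not_even_iff_odd]
    intro hev
    have hr := range_le_of_even p hp2 f g hKm' hev
    have hML' : M ≤ (ι).range := by
      rw [← hMR]
      rintro _ ⟨z, hz, rfl⟩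
      obtain ⟨x, hx⟩ := hr hz
      refine ⟨x, ?_⟩
      rw [← hx]
      simp [mul_assoc]
    rcases hM.le_iff.1 hML' with h | h
    · have := index_range (F := F) hodd
      rw [h, Subgroup.index_top] at this
      omega
    · exact hML h.le
  have hprime : m.Prime := by
    by_contra hnp
    have hr := (Nat.minFac_prime (show m ≠ 1 by omega))
    obtain ⟨c, hc⟩ := Nat.minFac_dvd m
    have hc2 : 2 ≤ c := by
      by_contra hc2
      rcases Nat.le_one_iff_eq_zero_or_eq_one.1 (Nat.lt_succ_iff.1 (Nat.not_le.1 hc2)) with h | h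
      · rw [h, mul_zero] at hc; omega
      · rw [h, mul_one] at hc; exact hnp (hc ▸ hr)
    let L := GaloisField p ((a : ℕ) * c)
    haveI := Fintype.ofFinite L
    have hL : Nat.card L = Nat.card K ^ c := by
      rw [GaloisField.card p _ (Nat.mul_ne_zero a.ne_zero (by omega)), Nat.card_eq_fintype_card (α := K), ha, pow_mul]
    have hLF : Nat.card L ^ m.minFac = Nat.card F := by rw [hL, ← pow_mul, ← hKm', mul_comm c, ← hc]
    obtain ⟨f'⟩ := PSL2Field.exists_ringHom hLF
    have hsub := map_range_mono f f' (fun x => mem_fieldRange_of_pow f' (by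
      rw [hL, ← map_pow]
      congr 1
      rw [Nat.card_eq_fintype_card]
      exact FiniteField.pow_card_pow c x))
    let R' : Subgroup PGL2 := (ProjGenLinGroup.map (n := Fin 2) f').range.map (MulAut.conj g⁻¹).toMonoidHom
    have hRR : M ≤ R' := hMR ▸ Subgroup.map_mono hsub
    have hR'c : Nat.card R' = Nat.card L * (Nat.card L ^ 2 - 1) := by
      rw [Subgroup.card_map_of_injective (MulEquiv.injective _),
        ← Nat.card_congr (MonoidHom.ofInjective (pglMap_injective f')).toEquiv, card_pgl2]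
    have hmono : ∀ {x y : ℕ}, 1 < x → x < y → x * (x ^ 2 - 1) < y * (y ^ 2 - 1) := fun {x y} hx hxy =>
      Nat.mul_lt_mul_of_lt_of_le hxy (Nat.sub_le_sub_right (Nat.pow_le_pow_left hxy.le 2) 1)
        (by have := Nat.pow_le_pow_left (show 2 ≤ y by omega) 2; omega)
    have hk1 : 1 < Nat.card K := by omega
    rcases hM.le_iff.1 hRR with h | h
    · rw [h, Subgroup.card_top, card_pgl2, ← hLF] at hR'c
      have hl : 1 < Nat.card L := Finite.one_lt_card
      have := hmono hl (show Nat.card L < Nat.card L ^ m.minFac from lt_self_pow₀ hl hr.one_lt)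
      omega
    · rw [h, hcM, hRc] at hR'c
      have := hmono hk1 (show Nat.card K < Nat.card L by rw [hL]; exact lt_self_pow₀ hk1 hc2)
      omega
  exact Or.inr (Or.inr (Or.inr ⟨K, i1, i2, m, hprime, hmodd, hKm,
    ⟨(MulEquiv.subgroupCongr hMR.symm).trans (((ProjGenLinGroup.map (n := Fin 2) f).range.equivMapOfInjective
      _ (MulEquiv.injective (MulAut.conj g⁻¹))).symm.trans (MonoidHom.ofInjective (pglMap_injective f)).symm)⟩,
    ⟨e⟩⟩))

end Cfsg.Agent.Dickson
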