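/-
The exceptional pair of transvections over the field of nine elements.
-/
import Cfsg.Agent.Lib.Classical.DicksonSolvable

set_option autoImplicit false

namespace Cfsg.Agent.Dickson.TwoTrans

open Matrix

/-- Addition in `Z/3 + Z/3 λ`, coded by `a + 3 b`. -/
def add9 (x y : ℕ) : ℕ := (x + y) % 3 + 3 * ((x / 3 + y / 3) % 3)

/-- Multiplication by `λ`. -/
def mulL (x : ℕ) : ℕ := (3 - x / 3) % 3 + 3 * (x % 3)

def code (a b c d : ℕ) : ℕ := a + 9 * b + 81 * c + 729 * d

def stepU (m : ℕ) : ℕ :=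
  code (add9 (m % 9) (m / 9 % 9)) (m / 9 % 9) (add9 (m / 81 % 9) (m / 729)) (m / 729)

def stepV (m : ℕ) : ℕ :=
  code (m % 9) (add9 (mulL (m % 9)) (m / 9 % 9)) (m / 81 % 9) (add9 (mulL (m / 81 % 9)) (m / 729))

def table : List ℕ := [387, 392, 394, 477, 481, 485, 603, 607, 611, 693, 698, 700, 730, 757, 784, 811, 841, 871, 892, 925, 949, 1460, 1487, 1514, 1541, 1574, 1598, 1622, 1652, 1682, 2193, 2202, 2211, 2436, 2446, 2456, 2679, 2690, 2698, 3013, 3025, 3073, 3103, 3118, 3133, 3183, 3203, 3220, 3338, 3352, 3393, 3417, 3436, 3482, 3509, 3519, 3541, 3743, 3776, 3782, 3833, 3836, 3875, 3903, 3940, 3950, 3994, 4001, 4032, 4155, 4166, 4201, 4309, 4338, 4352, 4377, 4386, 4395, 4620, 4631, 4639, 4863, 4873, 4883, 5197, 5236, 5239, 5287, 5293, 5335, 5358, 5396, 5404, 5450, 5461, 5490, 5610, 5620, 5657, 5765, 5796, 5812, 5927, 5942, 5993, 6017, 6038, 6050, 6096, 6115, 6134, 6250, 6272, 6309, 6330, 6350, 6394, 6421, 6435, 6461]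

theorem table_closed : ∀ m ∈ table, stepU m ∈ table ∧ stepV m ∈ table ∧ m < 6561 := by decide +kernel

theorem table_one : code 1 0 0 1 ∈ table := by decide +kernel

theorem table_card : table.length = 120 := by decide +kernel

theorem add9_lt (x y : ℕ) : add9 x y < 9 := by unfold add9; omega

theorem mulL_lt (x : ℕ) : mulL x < 9 := by unfold mulL; omega

variable {F : Type*} [Field F] (lam : F)

/-- The field element of a code. -/
def ev (x : ℕ) : F := ((x % 3 : ℕ) : F) + ((x / 3 : ℕ) : F) * lam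

/-- The matrix of a code. -/
def evM (m : ℕ) : Matrix (Fin 2) (Fin 2) F :=
  !![ev lam (m % 9), ev lam (m / 9 % 9); ev lam (m / 81 % 9), ev lam (m / 729)]

variable {lam}

theorem ev_add [CharP F 3] {x y : ℕ} (hx : x < 9) (hy : y < 9) :
    ev lam (add9 x y) = ev lam x + ev lam y := by
  have h1 : add9 x y % 3 = (x + y) % 3 := by unfold add9; omega
  have h2 : add9 x y / 3 = (x / 3 + y / 3) % 3 := by unfold add9; omega
  unfold ev
  rw [h1, h2, ← CharP.cast_eq_mod F 3 (x + y), ← CharP.cast_eq_mod F 3 (x / 3 + y / 3), ← CharP.cast_eq_mod F 3 x,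
    ← CharP.cast_eq_mod F 3 y]
  push_cast
  ring

theorem ev_mulL [CharP F 3] (hlam : lam ^ 2 = -1) {x : ℕ} (hx : x < 9) : ev lam (mulL x) = ev lam x * lam := by
  have h3 : (3 : F) = 0 := by exact_mod_cast CharP.cast_eq_zero F 3
  have h1 : mulL x % 3 = (3 - x / 3) % 3 := by unfold mulL; omega
  have h2 : mulL x / 3 = x % 3 := by unfold mulL; omega
  unfold ev
  rw [h1, h2, ← CharP.cast_eq_mod F 3 (3 - x / 3), Nat.cast_sub (by omega)]
  push_cast
  linear_combination h3 - ((x / 3 : ℕ) : F) * hlam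

theorem evM_code {a b c d : ℕ} (ha : a < 9) (hb : b < 9) (hc : c < 9) (hd : d < 9) :
    evM lam (code a b c d) = !![ev lam a, ev lam b; ev lam c, ev lam d] := by
  have e1 : code a b c d % 9 = a := by unfold code; omega
  have e2 : code a b c d / 9 % 9 = b := by unfold code; omega
  have e3 : code a b c d / 81 % 9 = c := by unfold code; omega
  have e4 : code a b c d / 729 = d := by unfold code; omega
  rw [evM, e1, e2, e3, e4]

theorem evM_stepU [CharP F 3] {m : ℕ} (hm : m < 6561) :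
    evM lam (stepU m) = evM lam m * !![1, 0; 1, 1] := by
  rw [stepU, evM_code (add9_lt _ _) (Nat.mod_lt _ (by norm_num)) (add9_lt _ _) (by omega),
    ev_add (Nat.mod_lt _ (by norm_num)) (Nat.mod_lt _ (by norm_num)), ev_add (Nat.mod_lt _ (by norm_num)) (by omega)]
  simp [evM, Matrix.mul_fin_two]

theorem evM_stepV [CharP F 3] (hlam : lam ^ 2 = -1) {m : ℕ} (hm : m < 6561) :
    evM lam (stepV m) = evM lam m * !![1, lam; 0, 1] := by
  rw [stepV, evM_code (Nat.mod_lt _ (by norm_num)) (add9_lt _ _) (Nat.mod_lt _ (by norm_num)) (add9_lt _ _),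
    ev_add (mulL_lt _) (Nat.mod_lt _ (by norm_num)), ev_add (mulL_lt _) (by omega),
    ev_mulL hlam (Nat.mod_lt _ (by norm_num)), ev_mulL hlam (Nat.mod_lt _ (by norm_num))]
  simp [evM, Matrix.mul_fin_two]

/-- The exceptional group has at most 120 elements. -/
theorem card_le [Finite F] [CharP F 3] (hlam : lam ^ 2 = -1) :
    Nat.card ↥(Subgroup.closure {g : Matrix.SpecialLinearGroup (Fin 2) F |
      (g : Matrix (Fin 2) (Fin 2) F) = !![1, 0; 1, 1] ∨ (g : Matrix (Fin 2) (Fin 2) F) = !![1, lam; 0, 1]}) ≤ 120 := by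
  classical
  set S : Set (Matrix.SpecialLinearGroup (Fin 2) F) := {g | ∃ m ∈ table, g.1 = evM lam m} with hS
  let u : Matrix.SpecialLinearGroup (Fin 2) F := ⟨!![1, 0; 1, 1], by simp⟩
  let v : Matrix.SpecialLinearGroup (Fin 2) F := ⟨!![1, lam; 0, 1], by simp⟩
  have hu : ∀ x ∈ S, x * u ∈ S := by
    rintro x ⟨m, hm, hx⟩
    exact ⟨_, (table_closed m hm).1, by rw [Matrix.SpecialLinearGroup.coe_mul, hx, evM_stepU (table_closed m hm).2.2]⟩
  have hv : ∀ x ∈ S, x * v ∈ S := by
    rintro x ⟨m, hm, hx⟩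
    exact ⟨_, (table_closed m hm).2.1, by rw [Matrix.SpecialLinearGroup.coe_mul, hx, evM_stepV hlam (table_closed m hm).2.2]⟩
  have h3 : ∀ g : Matrix.SpecialLinearGroup (Fin 2) F,
      ((g : Matrix (Fin 2) (Fin 2) F) = !![1, 0; 1, 1] ∨ (g : Matrix (Fin 2) (Fin 2) F) = !![1, lam; 0, 1]) →
      g⁻¹ = g * g := by
    intro g hg
    refine inv_eq_of_mul_eq_one_right (Subtype.ext ?_)
    have h30 : (3 : F) = 0 := by exact_mod_cast CharP.cast_eq_zero F 3
    simp only [Matrix.SpecialLinearGroup.coe_mul, Matrix.SpecialLinearGroup.coe_one]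
    rcases hg with h | h <;> rw [h] <;> simp [Matrix.mul_fin_two, Matrix.one_fin_two] <;>
      ring_nf <;> simp [h30]
  have hsub : (Subgroup.closure {g : Matrix.SpecialLinearGroup (Fin 2) F |
      (g : Matrix (Fin 2) (Fin 2) F) = !![1, 0; 1, 1] ∨ (g : Matrix (Fin 2) (Fin 2) F) = !![1, lam; 0, 1]} :
        Set (Matrix.SpecialLinearGroup (Fin 2) F)) ⊆ S := by
    intro x hx
    refine Subgroup.closure_induction_right (p := fun x _ => x ∈ S) ?_ ?_ ?_ hx
    · refine ⟨_, table_one, ?_⟩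
      rw [evM_code (by norm_num) (by norm_num) (by norm_num) (by norm_num)]
      simp [ev, Matrix.one_fin_two]
    · intro y _ z hz hy
      rcases hz with h | h
      · rw [show z = u from Subtype.ext h]; exact hu y hy
      · rw [show z = v from Subtype.ext h]; exact hv y hy
    · intro y _ z hz hy
      rw [h3 z hz, ← mul_assoc]
      rcases hz with h | h
      · rw [show z = u from Subtype.ext h]; exact hu _ (hu y hy)
      · rw [show z = v from Subtype.ext h]; exact hv _ (hv y hy)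
  have h2 : S.ncard ≤ 120 := by
    have hsubim : Subtype.val '' S ⊆ ↑(table.toFinset.image (evM lam)) := by
      rintro _ ⟨x, ⟨m, hm, hx⟩, rfl⟩
      simp only [Finset.coe_image, Set.mem_image, List.coe_toFinset, Set.mem_setOf_eq]
      exact ⟨m, hm, hx.symm⟩
    have := Set.ncard_le_ncard hsubim (Finset.finite_toSet _)
    have h1 : (Subtype.val '' S).ncard = S.ncard := Set.ncard_image_of_injective S Subtype.val_injective
    rw [Set.ncard_coe_finset] at this
    exact (h1.symm.le.trans this).trans (Finset.card_image_le.trans ((List.toFinset_card_le _).trans table_card.le))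
  exact (Set.ncard_le_ncard hsub (Set.toFinite _)).trans h2

end Cfsg.Agent.Dickson.TwoTrans
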