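/-
Subgroups of SL_2(q) generated by two transvections.
-/
import Cfsg.Agent.Lib.Classical.DicksonTwoTrans
import Cfsg.Agent.Lib.Classical.DicksonFieldGroups

set_option autoImplicit false
set_option linter.style.haveILetI false

namespace Cfsg.Agent.Dickson

open Matrix SL2Inv PSL2Inv PStable

variable {F : Type*} [Field F]

local notation "SL2" => Matrix.SpecialLinearGroup (Fin 2) F
local notation "M2" => Matrix (Fin 2) (Fin 2) F
local notation "P" => Matrix.ProjectiveSpecialLinearGroup (Fin 2) F

theorem low_pow (a : F) : ∀ n : ℕ, (low a : SL2) ^ n = low (n * a)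
  | 0 => by
      rw [pow_zero, Nat.cast_zero, zero_mul]
      exact Subtype.ext (by rw [low_val]; simp [Matrix.one_fin_two])
  | n + 1 => by rw [pow_succ, low_pow a n, low_mul, Nat.cast_succ, add_mul, one_mul]

/-- The relations on the trace forced by the order in the projective group. -/
theorem trace_of_orders {U : SL2} (hU : ¬ IsSc U) :
    (pr U ^ 2 = 1 → (U : M2).trace = 0) ∧ (pr U ^ 3 = 1 → (U : M2).trace ^ 2 = 1) ∧
      (pr U ^ 5 = 1 → (U : M2).trace ^ 4 - 3 * (U : M2).trace ^ 2 + 1 = 0) := by
  set s := (U : M2).trace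
  have hch : U.1 * U.1 = s • U.1 - 1 := sq_val U
  have hcoef : ∀ α β : F, IsScMat (α • U.1 + β • (1 : M2)) → α = 0 := by
    rintro α β ⟨c, hc⟩
    by_contra hα
    refine hU ⟨α⁻¹ * (c - β), ?_⟩
    rw [← smul_smul, sub_smul, ← hc, add_sub_cancel_right, inv_smul_smul₀ hα]
  have hscal : ∀ n : ℕ, pr U ^ n = 1 → IsScMat (U.1 ^ n) := fun n h => by
    rw [← map_pow] at h
    obtain ⟨c, hc⟩ := pr_eq_one.1 h
    exact ⟨c, by rw [← Matrix.SpecialLinearGroup.coe_pow]; exact hc⟩
  have h3e : U.1 ^ 3 = (s * s - 1) • U.1 + (-s) • (1 : M2) := by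
    rw [pow_succ, pow_two, hch, sub_mul, one_mul, smul_mul_assoc, hch]
    module
  have h5e : U.1 ^ 5 = (s * s * s * s - 3 * (s * s) + 1) • U.1 + (-(s * s * s) + 2 * s) • (1 : M2) := by
    rw [pow_succ, pow_succ, h3e]
    simp only [add_mul, smul_mul_assoc, one_mul, hch, smul_sub, smul_add, sub_mul, smul_smul]
    module
  refine ⟨fun h => ?_, fun h => ?_, fun h => ?_⟩
  · have := hscal 2 h
    rw [pow_two, hch, sub_eq_add_neg, ← neg_one_smul F (1 : M2)] at this
    exact hcoef _ _ this
  · have := hscal 3 h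
    rw [h3e] at this
    linear_combination hcoef _ _ this
  · have := hscal 5 h
    rw [h5e] at this
    linear_combination hcoef _ _ this

variable [Finite F]

/-- A subgroup of the projective group containing two opposite transvections. -/
theorem pair_cases (p : ℕ) [Fact p.Prime] [CharP F p] (hp : p ≠ 2) {lam : F} (hlam : lam ≠ 0)
    (hgen : Subfield.closure ({lam} : Set F) = ⊤) {G : Subgroup P} (hu : pr (low 1) ∈ G) (hv : pr (upp lam) ∈ G) :
    G = ⊤ ∨ (p = 3 ∧ Nat.card F = 9 ∧ lam ^ 2 = -1 ∧ Nonempty (G ≃* alternatingGroup (Fin 5))) := by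
  classical
  haveI := Fintype.ofFinite F
  have hpp : p.Prime := Fact.out
  have h2 : (2 : F) ≠ 0 := fun h => hp ((Nat.prime_dvd_prime_iff_eq hpp Nat.prime_two).1
    ((CharP.cast_eq_zero_iff F p 2).1 (by exact_mod_cast h)))
  refine or_iff_not_imp_left.2 fun hG => ?_
  obtain ⟨n, -, hn⟩ := FiniteField.card F p
  rw [← Nat.card_eq_fintype_card] at hn
  have hpq : p ∣ Nat.card F := by rw [hn]; exact dvd_pow_self p n.ne_zero
  have hq1 : 1 < Nat.card F := Finite.one_lt_card
  have hup : (low 1 : SL2) ^ p = 1 := by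
    rw [low_pow, CharP.cast_eq_zero, zero_mul]
    exact Subtype.ext (by rw [low_val]; simp [Matrix.one_fin_two])
  have hune : pr (low 1 : SL2) ≠ 1 := fun h => by
    have := (isSc_iff.1 (pr_eq_one.1 h)).2.1
    simp [low_val] at this
  have hvne : pr (upp lam : SL2) ≠ 1 := fun h => by
    have := (isSc_iff.1 (pr_eq_one.1 h)).1
    simp [upp_val, hlam] at this
  have hpG : p ∣ Nat.card G := by
    have := Subgroup.orderOf_dvd_natCard G hu
    rwa [orderOf_eq_prime (by rw [← map_pow, hup, map_one]) hune] at this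
  rcases classify_proper' p hG with ⟨k, hk, hc⟩ | ⟨S, hS⟩ | ⟨-, h3, ⟨e⟩⟩ | ⟨-, h3, ⟨e⟩⟩ | ⟨-, h5, ⟨e⟩⟩ |
    ⟨K, _, _, m, hm2, hm, ⟨f, g, hg⟩, -⟩
  · exfalso
    have hpk : p ∣ k := by
      rcases hc with ⟨-, hc⟩ | ⟨⟨e⟩⟩
      · rwa [hc] at hpG
      · rw [Nat.card_congr e.toEquiv, DihedralGroup.nat_card] at hpG
        exact ((Nat.Prime.dvd_mul hpp).1 hpG).resolve_left fun h =>
          hp ((Nat.prime_dvd_prime_iff_eq hpp Nat.prime_two).1 h)
    rcases hk with hk | hk <;> have h' := (hpk.trans (dvd_mul_left k _)).trans hk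
    · exact hpp.not_dvd_one ((Nat.dvd_add_right hpq).1 h')
    · have h5 := Nat.dvd_sub hpq h'
      rw [Nat.sub_sub_self (by omega)] at h5
      exact hpp.not_dvd_one h5
  · exfalso
    obtain ⟨hcomm, -⟩ := sylow_facts p S
    have hS' : ∀ x : SL2, x ^ p = 1 → pr x ∈ G → pr x ∈ (S : Subgroup P) := by
      intro x hx hxG
      have hp' : IsPGroup p (Subgroup.zpowers (pr x)) := fun y => by
        obtain ⟨j, hj⟩ := y.2
        refine ⟨1, Subtype.ext ?_⟩
        rw [SubmonoidClass.coe_pow, ← hj, Subgroup.coe_one, ← zpow_natCast, ← zpow_mul, mul_comm, zpow_mul,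
          zpow_natCast, pow_one, ← map_pow, hx, map_one, one_zpow]
      exact ((hp'.inf_normalizer_sylow S).le ⟨Subgroup.mem_zpowers _, hS hxG⟩).2
    have h := hcomm _ (hS' _ hup hu) _ (hS' _ (upp_pow_char lam) hv)
    rw [← map_mul, ← map_mul, pr_eq_iff] at h
    rcases h with h | h
    · have := congrArg (fun x : SL2 => (x : M2) 0 0) h
      simp [low_val, upp_val, Matrix.mul_apply, Fin.sum_univ_two] at this
      exact hlam this
    · have := congrArg (fun x : SL2 => (x : M2) 1 0) h
      simp [low_val, upp_val, coe_negOne, Matrix.mul_apply, Fin.sum_univ_two] at this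
      exact h2 (by linear_combination this)
  · exfalso
    rw [Nat.card_congr e.toEquiv, card_a4] at hpG
    have := Nat.le_of_dvd (by norm_num) hpG
    interval_cases p <;> norm_num at *
  · exfalso
    rw [Nat.card_congr e.toEquiv, card_s4] at hpG
    have := Nat.le_of_dvd (by norm_num) hpG
    interval_cases p <;> norm_num at *
  · have hp3 : p = 3 := by
      rw [Nat.card_congr e.toEquiv, card_a5] at hpG
      have := Nat.le_of_dvd (by norm_num) hpG
      interval_cases p <;> norm_num at *
    subst hp3
    refine ⟨rfl, ?_⟩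
    have h30 : (3 : F) = 0 := by exact_mod_cast CharP.cast_eq_zero F 3
    have hs : ∀ (U : SL2), ¬ IsSc U → pr U ∈ G →
        (U : M2).trace = 0 ∨ (U : M2).trace ^ 2 = 1 ∨ (U : M2).trace ^ 4 + 1 = 0 := by
      intro U hU hUG
      obtain ⟨t2, t3, t5⟩ := trace_of_orders hU
      have hUe : pr U = ((⟨pr U, hUG⟩ : G) : P) := rfl
      rcases a5_orders (e ⟨pr U, hUG⟩) with h | h | h | h
      · exact absurd (pr_eq_one.1 (congrArg Subtype.val (e.map_eq_one_iff.1 h) :)) hU
      · rw [← map_pow, e.map_eq_one_iff] at h; exact Or.inl (t2 (congrArg Subtype.val h :))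
      · rw [← map_pow, e.map_eq_one_iff] at h; exact Or.inr (Or.inl (t3 (congrArg Subtype.val h :)))
      · rw [← map_pow, e.map_eq_one_iff] at h
        refine Or.inr (Or.inr ?_)
        linear_combination (t5 (congrArg Subtype.val h :)) + (U : M2).trace ^ 2 * h30
    have hA := hs (low 1 * upp lam) (fun h => by
      have := (isSc_iff.1 h).2.1
      simp [low_val, upp_val, Matrix.mul_apply, Fin.sum_univ_two] at this) (by rw [map_mul]; exact mul_mem hu hv)
    have hB := hs (low 1 * (upp lam)⁻¹) (fun h => by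
      have := (isSc_iff.1 h).2.1
      simp [upp_inv, low_val, upp_val, Matrix.mul_apply, Fin.sum_univ_two] at this)
      (by rw [map_mul, map_inv]; exact mul_mem hu (inv_mem hv))
    simp [upp_inv, low_val, upp_val, Matrix.trace_fin_two, Matrix.mul_apply, Fin.sum_univ_two] at hA hB
    have hone : ∀ c : F, c ∈ (⊥ : Subfield F) → lam ≠ c := by
      intro c hc h
      have hbot : (⊤ : Subfield F) = ⊥ := by
        rw [← hgen, Subfield.closure_eq_of_le (t := ⊥)]
        · exact Set.singleton_subset_iff.2 (h ▸ hc)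
        · exact bot_le
      have hq3 : Nat.card F ≤ 3 := by
        have hall : ∀ x : F, x ^ 3 = x := fun x => by
          have hx : x ∈ (ZMod.castHom (dvd_refl 3) F).fieldRange :=
            (bot_le : (⊥ : Subfield F) ≤ _) (hbot ▸ Subfield.mem_top x)
          obtain ⟨y, rfl⟩ := hx
          rw [← map_pow, ZMod.pow_card]
        have := Fintype.card_le_of_surjective (ZMod.castHom (dvd_refl 3) F) fun x =>
          mem_fieldRange_of_pow (ZMod.castHom (dvd_refl 3) F) (by rw [Nat.card_zmod]; exact hall x)
        rwa [ZMod.card, ← Nat.card_eq_fintype_card] at this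
      have hP := zz_mul_card (F := F)
      have hlt : 60 ≤ Nat.card P := by
        rw [← card_a5, ← Nat.card_congr e.toEquiv]; exact Subgroup.card_le_card_group G
      have hz1 : 1 ≤ Nat.card (Subgroup.center SL2) := Nat.card_pos
      have h24 : Nat.card F * (Nat.card F ^ 2 - 1) ≤ 3 * (3 ^ 2 - 1) :=
        Nat.mul_le_mul hq3 (Nat.sub_le_sub_right (Nat.pow_le_pow_left hq3 2) 1)
      have := Nat.mul_le_mul hz1 hlt
      omega
    have hl1 : lam ≠ 1 := hone 1 (one_mem _)
    have hlm1 : lam ≠ -1 := hone (-1) (neg_mem (one_mem _))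
    have hl2 : lam ≠ 2 := hone 2 (by exact_mod_cast natCast_mem (⊥ : Subfield F) 2)
    have hA' : (2 + lam) ^ 4 + 1 = 0 := by
      rcases hA with h | h | h
      · exact absurd (show lam = 1 by linear_combination h - h30) hl1
      · rcases h with h | h
        · exact absurd (show lam = -1 by linear_combination h) hlm1
        · exact absurd (show lam = 0 by linear_combination h - h30) hlam
      · linear_combination h
    have hB' : (2 - lam) ^ 4 + 1 = 0 := by
      rcases hB with h | h | h
      · exact absurd (show lam = -1 by linear_combination -h + h30) hlm1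
      · rcases h with h | h
        · exact absurd (show lam = 1 by linear_combination -h) hl1
        · exact absurd (show lam = 0 by linear_combination -h + h30) hlam
      · linear_combination h
    have hl : lam ^ 2 = -1 := by
      have h : lam * (lam ^ 2 + 1) = 0 := by
        linear_combination hA' - hB' - (5 * lam ^ 3 + 21 * lam) * h30
      linear_combination (mul_eq_zero.1 h).resolve_left hlam
    refine ⟨?_, hl, ⟨e⟩⟩
    let K := GaloisField 3 2
    haveI := Fintype.ofFinite K
    have hK : Nat.card K = 9 := GaloisField.card 3 2 (by norm_num)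
    have hall : ∀ x : F, x ^ 9 = x := fun x => by
      let φ : F →+* F := (frobenius F 3).comp (frobenius F 3)
      have hle : Subfield.closure ({lam} : Set F) ≤ φ.eqLocusField (RingHom.id F) := by
        rw [Subfield.closure_le]
        intro y hy
        rw [Set.mem_singleton_iff] at hy
        subst y
        show (lam ^ 3) ^ 3 = lam
        have h2 : lam ^ 3 = -lam := by linear_combination lam * hl
        rw [h2]
        linear_combination (-lam) * hl
      have := hle (hgen ▸ Subfield.mem_top x)
      have hx : (x ^ 3) ^ 3 = x := this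
      rw [← pow_mul] at hx
      exact hx
    have hle : Nat.card F ≤ 9 := by
      obtain ⟨u, hu'⟩ := IsCyclic.exists_generator (α := Fˣ)
      have hu8 : u ^ 8 = 1 := by
        refine Units.ext (mul_left_cancel₀ u.ne_zero ?_)
        rw [Units.val_one, mul_one, Units.val_pow_eq_pow_val, ← pow_succ', hall]
      have h := Nat.le_of_dvd (by norm_num) (orderOf_dvd_of_pow_eq_one hu8)
      rw [orderOf_eq_card_of_forall_mem_zpowers hu', Nat.card_units] at h
      omega
    have hne : (n : ℕ) ≠ 1 := fun h1 => by
      have hP := zz_mul_card (F := F)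
      rw [hn, h1, pow_one] at hP
      have hlt : 60 ≤ Nat.card P := by
        rw [← card_a5, ← Nat.card_congr e.toEquiv]; exact Subgroup.card_le_card_group G
      have hz1 : 1 ≤ Nat.card (Subgroup.center SL2) := Nat.card_pos
      have := Nat.mul_le_mul hz1 hlt
      simp only [Nat.reducePow, Nat.reduceSub, Nat.reduceMul] at hP
      omega
    have : (n : ℕ) ≤ 2 := by
      by_contra h
      have : 3 ^ 3 ≤ Nat.card F := hn ▸ Nat.pow_le_pow_right (by norm_num) (by omega)
      omega
    have hn2 : (n : ℕ) = 2 := by have := n.pos; omega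
    rw [hn, hn2]; rfl
  · exfalso
    induction g using ProjGenLinGroup.induction_on with | mk γ =>
    let C : SL2 →* SL2 := conjGL γ⁻¹
    have hrat : ∀ x : SL2, pr x ∈ G → ∃ (M : Matrix (Fin 2) (Fin 2) K) (c : F), c ≠ 0 ∧
        (C x : SL2).1 * Matrix.scalar (Fin 2) c = M.map f := by
      intro x hx
      obtain ⟨y, hy⟩ := hg _ hx
      induction y using ProjGenLinGroup.induction_on with | mk M =>
      rw [ProjGenLinGroup.map_mk] at hy
      have h : ProjGenLinGroup.mk (Matrix.SpecialLinearGroup.toGL (C x)) =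
          ProjGenLinGroup.mk (GeneralLinearGroup.map f M) := by
        rw [hy, show Matrix.SpecialLinearGroup.toGL (C x) = γ * Matrix.SpecialLinearGroup.toGL x * γ⁻¹ from
          Units.ext (by simp [C, conjGL_val]), map_mul, map_mul, map_inv]
        rfl
      obtain ⟨c, hc⟩ := (ProjGenLinGroup.mk_eq_mk_iff).1 h
      refine ⟨M.1, c, c.ne_zero, ?_⟩
      have := congrArg Units.val hc
      rw [Units.val_mul, GeneralLinearGroup.coe_scalar] at this
      exact this
    have htr : ∀ x : SL2, (C x : SL2).1.trace = (x : M2).trace := fun x => by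
      simp only [C, conjGL_val, inv_inv]
      rw [Matrix.trace_mul_comm, ← mul_assoc, ← Units.val_mul, inv_mul_cancel, Units.val_one, one_mul]
    have hent : ∀ x : SL2, pr x ∈ G → (x : M2).trace = 2 → ∀ i j, (C x : SL2).1 i j ∈ f.fieldRange := by
      intro x hx ht
      obtain ⟨M, c, hc0, hM⟩ := hrat x hx
      have hval : ∀ i j, (C x : SL2).1 i j * c = f (M i j) := fun i j => by
        have := congrFun (congrFun hM i) j
        rwa [Matrix.scalar_apply, Matrix.mul_diagonal, Matrix.map_apply] at this
      have hcr : c ∈ f.fieldRange := by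
        refine ⟨(M 0 0 + M 1 1) * (2 : K)⁻¹, ?_⟩
        rw [map_mul, map_add, ← hval, ← hval, map_inv₀, map_ofNat, ← add_mul, ← Matrix.trace_fin_two, htr, ht]
        field_simp
      intro i j
      rw [← mul_div_cancel_right₀ ((C x : SL2).1 i j) hc0, hval]
      exact div_mem ⟨_, rfl⟩ hcr
    have hU := hent _ hu (by simp [low_val, Matrix.trace_fin_two]; norm_num)
    have hV := hent _ hv (by simp [upp_val, Matrix.trace_fin_two]; norm_num)
    have hUV : (C (low 1 * upp lam) : SL2).1.trace ∈ f.fieldRange := by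
      rw [map_mul, Matrix.SpecialLinearGroup.coe_mul, Matrix.trace_fin_two, Matrix.mul_apply, Matrix.mul_apply,
        Fin.sum_univ_two, Fin.sum_univ_two]
      exact add_mem (add_mem (mul_mem (hU _ _) (hV _ _)) (mul_mem (hU _ _) (hV _ _)))
        (add_mem (mul_mem (hU _ _) (hV _ _)) (mul_mem (hU _ _) (hV _ _)))
    rw [htr] at hUV
    simp [low_val, upp_val, Matrix.trace_fin_two, Matrix.mul_apply, Fin.sum_univ_two] at hUV
    obtain ⟨t, ht⟩ := hUV
    have hl : lam ∈ f.fieldRange := ⟨t - 2, by rw [map_sub, ht, map_ofNat]; ring⟩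
    have htop : f.fieldRange = ⊤ := top_le_iff.1 (hgen ▸ Subfield.closure_le.2 (Set.singleton_subset_iff.2 hl))
    have hsurj : Function.Surjective f := fun x => by
      have : x ∈ f.fieldRange := htop ▸ Subfield.mem_top x
      exact this
    have h1 := Fintype.card_congr (Equiv.ofBijective f ⟨f.injective, hsurj⟩)
    rw [Nat.card_eq_fintype_card, ← h1] at hm
    have hK1 : 1 < Fintype.card K := Fintype.one_lt_card
    have := Nat.pow_le_pow_right (show 0 < Fintype.card K by omega) hm2
    rw [hm] at this
    nlinarith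

end Cfsg.Agent.Dickson
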