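/-
Overgroups of subfield subgroups of prime index degree.
-/
import Cfsg.Agent.Lib.Classical.DicksonOver
import Mathlib.Data.Nat.GCD.Basic

set_option autoImplicit false
set_option linter.style.haveILetI false

namespace Cfsg.Agent.Dickson

open Matrix PStable

theorem exp_eq {p a b r m : ℕ} (hp : p.Prime) (ha : 1 ≤ a) (hr : r.Prime) (hm : 2 ≤ m) (hbm : b * m = a * r)
    (hd : p ^ a * ((p ^ a) ^ 2 - 1) ∣ 2 * (p ^ b * ((p ^ b) ^ 2 - 1))) : b = a := by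
  have hb : 1 ≤ b := by
    rcases Nat.eq_zero_or_pos b with h | h
    · rw [h, zero_mul] at hbm
      exact absurd hbm.symm (Nat.mul_ne_zero (by omega) hr.ne_zero)
    · exact h
  have h2 : (p ^ a) ^ 2 - 1 ∣ 2 * ((p ^ b) ^ 2 - 1) := by
    have h1 : (p ^ a) ^ 2 - 1 ∣ p ^ b * (2 * ((p ^ b) ^ 2 - 1)) := by
      rw [← mul_assoc, mul_comm (p ^ b) 2, mul_assoc]
      exact (dvd_mul_left _ _).trans hd
    refine Nat.Coprime.dvd_of_dvd_mul_left ?_ h1
    refine Nat.Coprime.pow_right b ((Nat.coprime_comm).1 ((Nat.Prime.coprime_iff_not_dvd hp).2 fun h => ?_))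
    have h3 := Nat.dvd_sub (dvd_pow (dvd_pow_self p (show a ≠ 0 by omega)) two_ne_zero) h
    rw [Nat.sub_sub_self (Nat.one_le_pow _ _ (pow_pos hp.pos a))] at h3
    exact hp.not_dvd_one h3
  have hg : (p ^ a) ^ 2 - 1 ∣ 2 * (p ^ (2 * Nat.gcd a b) - 1) := by
    have h3 := Nat.dvd_gcd (dvd_mul_left ((p ^ a) ^ 2 - 1) 2) h2
    rw [Nat.gcd_mul_left, ← pow_mul, ← pow_mul, Nat.pow_sub_one_gcd_pow_sub_one, Nat.gcd_mul_right] at h3
    rwa [← pow_mul, mul_comm 2 (Nat.gcd a b)]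
  have hab : a ∣ b := by
    by_contra hn
    have hne : Nat.gcd a b ≠ a := fun h => hn (h ▸ Nat.gcd_dvd_right a b)
    have hle : 2 * Nat.gcd a b ≤ a := by
      obtain ⟨c, hc⟩ := Nat.gcd_dvd_left a b
      have hc2 : 2 ≤ c := by
        by_contra hlt
        rcases Nat.lt_or_ge c 1 with h | h
        · rw [Nat.lt_one_iff.1 h, mul_zero] at hc; omega
        · rw [show c = 1 by omega, mul_one] at hc; exact hne hc.symm
      calc 2 * Nat.gcd a b = Nat.gcd a b * 2 := mul_comm _ _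
        _ ≤ Nat.gcd a b * c := Nat.mul_le_mul_left _ hc2
        _ = a := hc.symm
    have hg0 : 0 < Nat.gcd a b := Nat.gcd_pos_of_pos_left _ ha
    have h4 : 1 < p ^ (2 * Nat.gcd a b) := Nat.one_lt_pow (by omega) hp.one_lt
    have h5 := Nat.le_of_dvd (by omega) hg
    have h6 : p ^ (2 * Nat.gcd a b) ≤ p ^ a := Nat.pow_le_pow_right hp.pos hle
    have h7 : 2 * p ^ a ≤ (p ^ a) ^ 2 := by rw [sq]; exact Nat.mul_le_mul_right _ (by omega)
    omega
  obtain ⟨j, rfl⟩ := hab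
  have hj : j * m = r := Nat.eq_of_mul_eq_mul_left ha (by rw [← hbm]; ring)
  rcases (Nat.dvd_prime hr).1 (Dvd.intro m hj) with h | h
  · rw [h, mul_one]
  · exfalso
    rw [h] at hj
    have : r * 2 ≤ r * m := Nat.mul_le_mul_left _ hm
    have := hr.two_le
    omega

variable {F : Type*} [Field F] [Finite F]

local notation "P" => Matrix.ProjectiveSpecialLinearGroup (Fin 2) F

theorem subfield_overgroup (p : ℕ) [Fact p.Prime] [CharP F p] {a r c : ℕ} (ha : 1 ≤ a) (hr : r.Prime)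
    (hF : Nat.card F = (p ^ a) ^ r) (hc : c ∣ 2) {H G : Subgroup P} (hH : Core p H)
    (hcard : c * Nat.card H = p ^ a * ((p ^ a) ^ 2 - 1)) (hHG : H ≤ G) (hG : G ≠ ⊤) :
    (Nat.card G = 12 ∨ Nonempty (G ≃* Equiv.Perm (Fin 4)) ∨ Nonempty (G ≃* alternatingGroup (Fin 5))) ∨
    (∃ (K : Type) (_ : Field K) (_ : Fintype K), Fintype.card K = p ^ a ∧
      (Nonempty (G ≃* Matrix.ProjectiveSpecialLinearGroup (Fin 2) K) ∨
        Nonempty (G ≃* Matrix.ProjGenLinGroup (Fin 2) K))) := by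
  rcases overgroup_cases p hH hHG hG with ⟨⟨f⟩⟩ | h | h | ⟨K, i1, i2, m, hm, hK, hh⟩
  · exact Or.inl (Or.inl ((Nat.card_congr f.toEquiv).trans card_a4))
  · exact Or.inl (Or.inr (Or.inl h))
  · exact Or.inl (Or.inr (Or.inr h))
  refine Or.inr ⟨K, i1, i2, ?_, hh⟩
  rw [hF, ← pow_mul] at hK
  obtain ⟨b, -, hb⟩ := (Nat.dvd_prime_pow Fact.out).1 (hK ▸ dvd_pow_self (Fintype.card K) (show m ≠ 0 by omega))
  rw [hb, ← pow_mul] at hK
  have hbm : b * m = a * r := Nat.pow_right_injective (Fact.out : p.Prime).two_le hK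
  rw [hb]
  congr 1
  refine exp_eq (Fact.out : p.Prime) ha hr hm hbm ?_
  rw [← hcard]
  refine mul_dvd_mul hc ((Subgroup.card_dvd_of_le hHG).trans ?_)
  rw [← hb, ← Nat.card_eq_fintype_card]
  rcases hh with ⟨⟨e⟩⟩ | ⟨⟨e⟩⟩
  · rw [Nat.card_congr e.toEquiv, ← gcd_mul_card_psl]; exact dvd_mul_left _ _
  · rw [Nat.card_congr e.toEquiv, card_pgl2]

theorem ne_top_of_card {p a r c : ℕ} (hp : p.Prime) (ha : 1 ≤ a) (hr : 2 ≤ r)
    (hF : Nat.card F = (p ^ a) ^ r) (hc : 1 ≤ c) {H : Subgroup P}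
    (hcard : c * Nat.card H = p ^ a * ((p ^ a) ^ 2 - 1)) : H ≠ ⊤ := by
  intro h
  rw [h, Subgroup.card_top] at hcard
  have hP := zz_mul_card (F := F)
  have hz : Nat.card (Subgroup.center (SpecialLinearGroup (Fin 2) F)) ≤ 2 := by
    rw [card_center]; exact Nat.gcd_le_left _ (by norm_num)
  have hq : 2 ≤ p ^ a := hp.two_le.trans (Nat.le_self_pow (by omega) p)
  have hQ : (p ^ a) ^ 2 ≤ Nat.card F := hF ▸ Nat.pow_le_pow_right (by omega) hr
  have h1 : Nat.card P ≤ p ^ a * ((p ^ a) ^ 2 - 1) := hcard ▸ Nat.le_mul_of_pos_left _ hc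
  have h2 : Nat.card F * (Nat.card F ^ 2 - 1) ≤ 2 * (p ^ a * ((p ^ a) ^ 2 - 1)) :=
    hP ▸ Nat.mul_le_mul hz h1
  generalize p ^ a = q at *
  have h3 : q ^ 2 - 1 ≤ Nat.card F - 1 := by omega
  have h4 : 4 ≤ Nat.card F := by nlinarith
  have h5 : 5 * (Nat.card F - 1) ≤ Nat.card F ^ 2 - 1 := by
    rw [show Nat.card F ^ 2 - 1 = (Nat.card F + 1) * (Nat.card F - 1) by simpa using Nat.sq_sub_sq (Nat.card F) 1]
    exact Nat.mul_le_mul_right _ (by omega)
  have h6 : q * (q ^ 2 - 1) ≤ Nat.card F * (Nat.card F - 1) :=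
    Nat.mul_le_mul (le_trans (Nat.le_self_pow two_ne_zero q) hQ) h3
  have h7 : Nat.card F * (5 * (Nat.card F - 1)) ≤ Nat.card F * (Nat.card F ^ 2 - 1) := Nat.mul_le_mul_left _ h5
  have : 0 < Nat.card F * (Nat.card F - 1) := Nat.mul_pos (by omega) (by omega)
  nlinarith

end Cfsg.Agent.Dickson
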