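/-
Dihedral subgroups of dihedral groups.
-/
import Mathlib.GroupTheory.SpecificGroups.Dihedral
import Mathlib.Data.ZMod.Basic

set_option autoImplicit false

namespace Cfsg.Agent.DihedralSub

/-- `D_m` embeds in `D_h` when `m` divides `h`. -/
theorem exists_hom {m h c : ℕ} (hc : h = m * c) (hm : 0 < m) (hh : 0 < h) :
    ∃ φ : DihedralGroup m →* DihedralGroup h, Function.Injective φ := by
  haveI : NeZero m := ⟨hm.ne'⟩
  let f : ZMod m →+ ZMod h := ZMod.lift m ⟨zmultiplesHom (ZMod h) (c : ZMod h), by
    show ((m : ℤ) • (c : ZMod h)) = 0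
    rw [zsmul_eq_mul, Int.cast_natCast, ← Nat.cast_mul, ← hc, ZMod.natCast_self]⟩
  have hf : Function.Injective f := by
    rw [injective_iff_map_eq_zero]
    intro x hx
    rw [← ZMod.natCast_zmod_val x] at hx ⊢
    rw [show ((x.val : ℕ) : ZMod m) = ((x.val : ℤ) : ZMod m) by push_cast; rfl, ZMod.lift_coe] at hx
    change ((x.val : ℤ) • (c : ZMod h)) = 0 at hx
    rw [zsmul_eq_mul, Int.cast_natCast, ← Nat.cast_mul, ZMod.natCast_eq_zero_iff, hc] at hx
    have hc0 : 0 < c := Nat.pos_of_ne_zero fun h0 => by rw [h0, mul_zero] at hc; omega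
    have := Nat.eq_zero_of_dvd_of_lt hx ((Nat.mul_lt_mul_right hc0).2 (ZMod.val_lt x))
    rcases Nat.mul_eq_zero.1 this with h0 | h0
    · rw [h0, Nat.cast_zero]
    · omega
  refine ⟨{ toFun := fun
              | .r i => .r (f i)
              | .sr i => .sr (f i)
            map_one' := by
              show DihedralGroup.r (f 0) = 1
              rw [map_zero]; rfl
            map_mul' := by
              rintro (a | a) (b | b) <;> simp [map_add, map_sub] }, ?_⟩
  rintro (a | a) (b | b) hab <;> simp at hab <;> simp [hf hab]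

end Cfsg.Agent.DihedralSub
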