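import Cfsg.Agent.Lib.Classical.SLClassBound

/-!
The code of a class that is fixed by multiplication with a scalar of order `e` only involves
powers of `X ^ e`.
-/

set_option autoImplicit false
set_option linter.style.haveILetI false
set_option linter.unusedSectionVars false

namespace Cfsg.Agent.SLTwist

open Polynomial Module Cfsg.Agent.GLCount Cfsg.Agent.BlockDet Cfsg.Agent.SLWeight

universe u

variable {F : Type u} [Field F]

theorem finrank_ker_mulBlk_self (p : F[X]) (hp : p.Monic) (k e : ℕ) :
    finrank F (LinearMap.ker (mulBlk p e (p ^ k))) = min k e * p.natDegree := by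
  haveI : Module.Finite F (Blk p e) := (hp.pow e).finite_quotient
  rcases Nat.le_total e k with h | h
  · have h0 : mulBlk p e (p ^ k) = 0 := by
      refine LinearMap.ext fun x => ?_
      obtain ⟨a, rfl⟩ := Submodule.mkQ_surjective _ x
      rw [mulBlk_apply, LinearMap.zero_apply, Submodule.mkQ_apply, ← Submodule.Quotient.mk_smul,
        Submodule.Quotient.mk_eq_zero, Submodule.mem_span_singleton]
      exact ⟨p ^ (k - e) * a, by
        rw [smul_eq_mul, smul_eq_mul, mul_right_comm, ← pow_add, Nat.sub_add_cancel h]⟩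
    rw [h0, LinearMap.ker_zero, finrank_top, finrank_blk, min_eq_right h]
  · obtain ⟨m, rfl⟩ : ∃ m, e = m + k := ⟨e - k, by omega⟩
    let S : Submodule F[X] F[X] := Submodule.span F[X] {p ^ k}
    let S' : Submodule F[X] F[X] := Submodule.span F[X] {p ^ (m + k)}
    have h2 : S ≤ Submodule.comap (LinearMap.lsmul F[X] F[X] (p ^ m)) S' := by
      refine Submodule.span_le.2 ?_
      rintro _ rfl
      exact Submodule.mem_span_singleton.2 ⟨1, by
        rw [LinearMap.lsmul_apply, smul_eq_mul, smul_eq_mul, one_mul, ← pow_add]⟩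
    let φ : Blk p k →ₗ[F[X]] Blk p (m + k) := Submodule.mapQ S S' (LinearMap.lsmul F[X] F[X] (p ^ m)) h2
    have hφi : Function.Injective φ := by
      rw [injective_iff_map_eq_zero]
      intro x hx
      obtain ⟨a, rfl⟩ := Submodule.mkQ_surjective S x
      have hx' : p ^ m * a ∈ S' := (Submodule.Quotient.mk_eq_zero _).1 hx
      obtain ⟨c, hc⟩ := Submodule.mem_span_singleton.1 hx'
      rw [smul_eq_mul, pow_add, mul_left_comm] at hc
      exact (Submodule.Quotient.mk_eq_zero _).2
        (Submodule.mem_span_singleton.2 ⟨c, mul_left_cancel₀ (pow_ne_zero _ hp.ne_zero) hc⟩)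
    have hker : LinearMap.ker (mulBlk p (m + k) (p ^ k)) = LinearMap.range (φ.restrictScalars F) := by
      apply le_antisymm
      · intro x hx
        obtain ⟨a, rfl⟩ := Submodule.mkQ_surjective _ x
        rw [LinearMap.mem_ker, mulBlk_apply, Submodule.mkQ_apply, ← Submodule.Quotient.mk_smul,
          Submodule.Quotient.mk_eq_zero, Submodule.mem_span_singleton] at hx
        obtain ⟨c, hc⟩ := hx
        rw [smul_eq_mul, smul_eq_mul, pow_add, ← mul_assoc, mul_comm (p ^ k) a] at hc
        refine ⟨Submodule.Quotient.mk c, ?_⟩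
        show (Submodule.Quotient.mk (p ^ m • c) : F[X] ⧸ S') = Submodule.Quotient.mk a
        rw [smul_eq_mul, mul_comm, mul_right_cancel₀ (pow_ne_zero _ hp.ne_zero) hc]
      · rintro _ ⟨x, rfl⟩
        obtain ⟨a, rfl⟩ := Submodule.mkQ_surjective S x
        rw [LinearMap.mem_ker, mulBlk_apply]
        show p ^ k • (Submodule.Quotient.mk (p ^ m • a) : F[X] ⧸ S') = 0
        rw [← Submodule.Quotient.mk_smul, Submodule.Quotient.mk_eq_zero, Submodule.mem_span_singleton]
        exact ⟨a, by rw [smul_eq_mul, smul_eq_mul, smul_eq_mul, pow_add]; ring⟩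
    rw [hker, LinearMap.finrank_range_of_inj (f := φ.restrictScalars F) hφi, finrank_blk,
      min_eq_left (by omega)]

theorem finrank_ker_mulBlk_ne {p r : F[X]} (hp : Irreducible p ∧ p.Monic)
    (hr : Irreducible r ∧ r.Monic) (hne : r ≠ p) (k e : ℕ) :
    finrank F (LinearMap.ker (mulBlk r e (p ^ k))) = 0 := by
  haveI : Module.Finite F (Blk r e) := (hr.2.pow e).finite_quotient
  have hco : IsCoprime (p ^ k) (r ^ e) := (hp.1.coprime_iff_not_dvd.2 fun h => hne
    (eq_of_monic_of_associated hp.2 hr.2 (hp.1.associated_of_dvd hr.1 h)).symm).pow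
  obtain ⟨a, b, hab⟩ := hco
  rw [Submodule.finrank_eq_zero, eq_bot_iff]
  intro x hx
  rw [Submodule.mem_bot]
  rw [LinearMap.mem_ker, mulBlk_apply] at hx
  have hz : (r ^ e : F[X]) • x = 0 := by
    obtain ⟨c, rfl⟩ := Submodule.mkQ_surjective _ x
    rw [Submodule.mkQ_apply, ← Submodule.Quotient.mk_smul, Submodule.Quotient.mk_eq_zero,
      Submodule.mem_span_singleton]
    exact ⟨c, by rw [smul_eq_mul, smul_eq_mul, mul_comm]⟩
  calc x = (1 : F[X]) • x := (one_smul _ x).symm
    _ = 0 := by rw [← hab, add_smul, mul_smul, mul_smul, hx, hz, smul_zero, smul_zero, add_zero]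

variable {n : ℕ}

theorem finrank_ker_aeval (g : Matrix.GeneralLinearGroup (Fin n) F) {ι : Type u} [Fintype ι]
    {q : ι → F[X]} {e : ι → ℕ} (hq : ∀ i, Irreducible (q i) ∧ (q i).Monic)
    (Φ : AEval' (lin g.1) ≃ₗ[F[X]] ((i : ι) → Blk (q i) (e i))) (P : F[X]) :
    finrank F (LinearMap.ker (aeval (lin g.1) P)) =
      ∑ i, finrank F (LinearMap.ker (mulBlk (q i) (e i) P)) := by
  classical
  haveI : ∀ i, Module.Finite F (Blk (q i) (e i)) := fun i => ((hq i).2.pow (e i)).finite_quotient
  let L : (Fin n → F) ≃ₗ[F] ((i : ι) → Blk (q i) (e i)) :=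
    (AEval'.of (lin g.1)).trans (Φ.restrictScalars F)
  have hL : ∀ v, L (aeval (lin g.1) P v) = fun i => P • L v i := by
    intro v
    show Φ (AEval'.of (lin g.1) (aeval (lin g.1) P v)) = _
    rw [show AEval'.of (lin g.1) (aeval (lin g.1) P v) = P • AEval'.of (lin g.1) v from
      AEval.of_aeval_smul _ _ _, map_smul]
    rfl
  have hfwd : ∀ (x : LinearMap.ker (aeval (lin g.1) P)) (i : ι),
      L x.1 i ∈ LinearMap.ker (mulBlk (q i) (e i) P) := by
    intro x i
    rw [LinearMap.mem_ker, mulBlk_apply, ← congrFun (hL x.1) i, LinearMap.mem_ker.1 x.2, map_zero]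
    rfl
  have hbwd : ∀ y : ∀ i, LinearMap.ker (mulBlk (q i) (e i) P),
      L.symm (fun i => (y i).1) ∈ LinearMap.ker (aeval (lin g.1) P) := by
    intro y
    rw [LinearMap.mem_ker]
    apply L.injective
    rw [hL, map_zero, LinearEquiv.apply_symm_apply]
    exact funext fun i => LinearMap.mem_ker.1 (y i).2
  let E : LinearMap.ker (aeval (lin g.1) P) ≃ₗ[F] ∀ i, LinearMap.ker (mulBlk (q i) (e i) P) :=
    { toFun := fun x i => ⟨L x.1 i, hfwd x i⟩
      map_add' := fun x y => funext fun i => Subtype.ext (congrFun (L.map_add x.1 y.1) i)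
      map_smul' := fun a x => funext fun i => Subtype.ext (congrFun (L.map_smul a x.1) i)
      invFun := fun y => ⟨L.symm fun i => (y i).1, hbwd y⟩
      left_inv := fun x => Subtype.ext (L.symm_apply_apply x.1)
      right_inv := fun y => funext fun i =>
        Subtype.ext (congrFun (L.apply_symm_apply fun i => (y i).1) i) }
  rw [E.finrank_eq]
  haveI : ∀ i, Module.Free F (LinearMap.ker (mulBlk (q i) (e i) P)) := fun i =>
    Module.Free.of_divisionRing F _
  exact Module.finrank_pi_fintype F

theorem sum_min [DecidableEq F] (g : Matrix.GeneralLinearGroup (Fin n) F) {ι : Type u} [Fintype ι]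
    {q : ι → F[X]} {e : ι → ℕ} (hq : ∀ i, Irreducible (q i) ∧ (q i).Monic)
    (Φ : AEval' (lin g.1) ≃ₗ[F[X]] ((i : ι) → Blk (q i) (e i))) {p : F[X]}
    (hp : Irreducible p ∧ p.Monic) (k : ℕ) :
    finrank F (LinearMap.ker (aeval (lin g.1) (p ^ k))) =
      (∑ i ∈ Finset.univ.filter (fun i => q i = p), min k (e i)) * p.natDegree := by
  classical
  rw [finrank_ker_aeval g hq Φ, Finset.sum_mul, Finset.sum_filter]
  refine Finset.sum_congr rfl fun i _ => ?_
  split_ifs with h
  · rw [h, finrank_ker_mulBlk_self p hp.2]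
  · exact finrank_ker_mulBlk_ne hp (hq i) h k (e i)

theorem count_eq_of_sum_min {ι : Type*} (S T : Finset ι) (e : ι → ℕ)
    (h : ∀ k, ∑ i ∈ S, min k (e i) = ∑ i ∈ T, min k (e i)) (j : ℕ) :
    (S.filter fun i => e i = j + 1).card = (T.filter fun i => e i = j + 1).card := by
  have hgt : ∀ (U : Finset ι) (k : ℕ),
      ∑ i ∈ U, min (k + 1) (e i) = (∑ i ∈ U, min k (e i)) + (U.filter fun i => k < e i).card := by
    intro U k
    rw [Finset.card_filter, ← Finset.sum_add_distrib]
    refine Finset.sum_congr rfl fun i _ => ?_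
    split_ifs <;> omega
  have key : ∀ k, (S.filter fun i => k < e i).card = (T.filter fun i => k < e i).card := fun k => by
    have h1 := hgt S k
    have h2 := hgt T k
    rw [h, h, h2] at h1
    omega
  have hsplit : ∀ U : Finset ι, (U.filter fun i => j < e i).card =
      (U.filter fun i => e i = j + 1).card + (U.filter fun i => j + 1 < e i).card := by
    intro U
    rw [Finset.card_filter, Finset.card_filter, Finset.card_filter, ← Finset.sum_add_distrib]
    refine Finset.sum_congr rfl fun i _ => ?_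
    split_ifs <;> omega
  have h1 := hsplit S
  have h2 := hsplit T
  rw [key, key] at h1
  omega

/-- The monic twist of a polynomial by a scalar. -/
noncomputable def tau (z : F) (p : F[X]) : F[X] := C (z ^ p.natDegree) * p.comp (C z⁻¹ * X)

theorem coeff_tau (z : F) (p : F[X]) (i : ℕ) :
    (tau z p).coeff i = z ^ p.natDegree * (z⁻¹) ^ i * p.coeff i := by
  rw [tau, coeff_C_mul, comp_C_mul_X_coeff]
  ring

theorem natDegree_comp_scale {c : F} (hc : c ≠ 0) (p : F[X]) :
    (p.comp (C c * X)).natDegree = p.natDegree := by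
  rw [natDegree_comp, natDegree_C_mul_X c hc, mul_one]

theorem natDegree_tau {z : F} (hz : z ≠ 0) (p : F[X]) : (tau z p).natDegree = p.natDegree := by
  rw [tau, natDegree_C_mul (pow_ne_zero _ hz), natDegree_comp_scale (inv_ne_zero hz)]

theorem tau_monic {z : F} (hz : z ≠ 0) {p : F[X]} (hp : p.Monic) : (tau z p).Monic := by
  rw [Monic, leadingCoeff, natDegree_tau hz, coeff_tau, hp.coeff_natDegree, mul_one, ← mul_pow,
    mul_inv_cancel₀ hz, one_pow]

theorem tau_tau {z : F} (hz : z ≠ 0) (p : F[X]) : tau z (tau z⁻¹ p) = p := by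
  ext i
  rw [coeff_tau, natDegree_tau (inv_ne_zero hz), coeff_tau, inv_inv]
  have : z ^ p.natDegree * z⁻¹ ^ i * (z⁻¹ ^ p.natDegree * z ^ i) = 1 := by
    rw [mul_mul_mul_comm, ← mul_pow, ← mul_pow, mul_inv_cancel₀ hz, inv_mul_cancel₀ hz, one_pow,
      one_pow, mul_one]
  rw [← mul_assoc, this, one_mul]

theorem tau_mul {z : F} {p r : F[X]} (hp : p ≠ 0) (hr : r ≠ 0) :
    tau z (p * r) = tau z p * tau z r := by
  rw [tau, tau, tau, natDegree_mul hp hr, pow_add, C_mul, mul_comp]
  ring

theorem tau_one (z : F) : tau z (1 : F[X]) = 1 := by simp [tau]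

theorem tau_irreducible {z : F} (hz : z ≠ 0) {p : F[X]} (hp : Irreducible p ∧ p.Monic) :
    Irreducible (tau z p) ∧ (tau z p).Monic := by
  refine ⟨⟨fun h => hp.1.not_isUnit ?_, fun a b hab => ?_⟩, tau_monic hz hp.2⟩
  · have := natDegree_eq_zero_of_isUnit h
    rw [natDegree_tau hz] at this
    exact absurd this hp.1.natDegree_pos.ne'
  have hne : tau z p ≠ 0 := (tau_monic hz hp.2).ne_zero
  have ha : a ≠ 0 := fun h => hne (by rw [hab, h, zero_mul])
  have hb : b ≠ 0 := fun h => hne (by rw [hab, h, mul_zero])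
  have h1 : tau z⁻¹ (tau z p) = p := by
    have h2 := tau_tau (inv_ne_zero hz) p
    rwa [inv_inv] at h2
  rw [hab, tau_mul ha hb] at h1
  rcases hp.1.isUnit_or_isUnit h1.symm with h | h
  · left
    rw [isUnit_iff_degree_eq_zero, degree_eq_natDegree ha]
    have := natDegree_eq_zero_of_isUnit h
    rw [natDegree_tau (inv_ne_zero hz)] at this
    simp [this]
  · right
    rw [isUnit_iff_degree_eq_zero, degree_eq_natDegree hb]
    have := natDegree_eq_zero_of_isUnit h
    rw [natDegree_tau (inv_ne_zero hz)] at this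
    simp [this]

theorem aeval_smul_end {A : Type*} [Ring A] [Algebra F A] (z : F) (a : A) (P : F[X]) :
    aeval (z • a) P = aeval a (P.comp (C z * X)) := by
  rw [aeval_comp, map_mul, aeval_C, aeval_X, Algebra.smul_def]

theorem goodE_code (g x : Matrix.GeneralLinearGroup (Fin n) F) {z : F} (hz : z ≠ 0)
    (hx : (x * g * x⁻¹ : Matrix.GeneralLinearGroup (Fin n) F).1 = z • g.1) {ι : Type u} [Fintype ι]
    {q : ι → F[X]} {e : ι → ℕ} (hq : ∀ i, Irreducible (q i) ∧ (q i).Monic)
    (Φ : AEval' (lin g.1) ≃ₗ[F[X]] ((i : ι) → Blk (q i) (e i))) (j : ℕ) :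
    GoodE (orderOf z) (code q e j) := by
  classical
  let L : (Fin n → F) ≃ₗ[F] (Fin n → F) :=
    { (Matrix.toLinAlgEquiv' x.1 : Module.End F (Fin n → F)) with
      invFun := Matrix.toLinAlgEquiv' (x⁻¹).1
      left_inv := fun v => by
        show Matrix.toLinAlgEquiv' (x⁻¹).1 (Matrix.toLinAlgEquiv' x.1 v) = v
        rw [← Module.End.mul_apply, ← map_mul, Units.inv_mul, map_one, Module.End.one_apply]
      right_inv := fun v => by
        show Matrix.toLinAlgEquiv' x.1 (Matrix.toLinAlgEquiv' (x⁻¹).1 v) = v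
        rw [← Module.End.mul_apply, ← map_mul, Units.mul_inv, map_one, Module.End.one_apply] }
  have hlin : z • lin g.1 = L.conj (lin g.1) := by
    rw [lin, ← map_smul, ← hx, Units.val_mul, Units.val_mul, map_mul, map_mul]
    rfl
  have hkd : ∀ P : F[X], finrank F (LinearMap.ker (aeval (lin g.1) (P.comp (C z * X)))) =
      finrank F (LinearMap.ker (aeval (lin g.1) P)) := by
    intro P
    rw [← aeval_smul_end, hlin]
    have h1 : aeval (L.conj (lin g.1)) P = L.conj (aeval (lin g.1) P) :=
      aeval_algHom_apply (L.conjAlgEquiv F).toAlgHom (lin g.1) P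
    rw [h1]
    refine (LinearEquiv.finrank_eq ((L.submoduleMap (LinearMap.ker (aeval (lin g.1) P))).trans
      (LinearEquiv.ofEq _ _ ?_))).symm
    ext v
    rw [LinearMap.mem_ker, LinearEquiv.conj_apply, LinearMap.comp_apply, LinearMap.comp_apply,
      LinearEquiv.coe_coe, LinearEquiv.coe_coe, LinearEquiv.map_eq_zero_iff]
    constructor
    · rintro ⟨w, hw, rfl⟩
      rw [LinearEquiv.coe_coe, LinearEquiv.symm_apply_apply]
      exact hw
    · intro hv
      exact ⟨L.symm v, hv, L.apply_symm_apply v⟩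
  have hcount : ∀ p : F[X], Irreducible p ∧ p.Monic →
      ((Finset.univ.filter fun i => q i = tau z p).filter fun i => e i = j + 1).card =
        ((Finset.univ.filter fun i => q i = p).filter fun i => e i = j + 1).card := by
    intro p hp
    refine count_eq_of_sum_min _ _ e (fun k => ?_) j
    have h1 := sum_min g hq Φ (tau_irreducible hz hp) k
    have h2 := sum_min g hq Φ hp k
    rw [natDegree_tau hz, ← hkd, pow_comp] at h1
    have h3 : (tau z p).comp (C z * X) = C (z ^ p.natDegree) * p := by
      rw [tau, mul_comp, C_comp, comp_assoc, mul_comp, C_comp, X_comp, ← mul_assoc (C z⁻¹), ← C_mul,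
        inv_mul_cancel₀ hz, C_1, one_mul, comp_X]
    rw [h3, mul_pow, ← C_pow, map_mul, aeval_C, ← Algebra.smul_def,
      LinearMap.ker_smul _ _ (pow_ne_zero _ (pow_ne_zero _ hz)), h2] at h1
    exact (Nat.eq_of_mul_eq_mul_right hp.1.natDegree_pos h1).symm
  let M := ((Finset.univ.filter fun i => e i = j + 1).val).map q
  have hcnt : ∀ a, M.count a = ((Finset.univ.filter fun i => q i = a).filter fun i => e i = j + 1).card := by
    intro a
    rw [Multiset.count_map, ← Finset.filter_val, ← Finset.card_def, Finset.filter_filter,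
      Finset.filter_filter]
    exact congrArg Finset.card (Finset.filter_congr fun i _ => ⟨fun h => ⟨h.2.symm, h.1⟩,
      fun h => ⟨h.2, h.1.symm⟩⟩)
  have hmem : ∀ a ∈ M, Irreducible a ∧ a.Monic := fun a ha => by
    obtain ⟨i, -, rfl⟩ := Multiset.mem_map.1 ha
    exact hq i
  have hinj : Function.Injective (tau z) :=
    Function.RightInverse.injective (g := tau z⁻¹) fun p => by
      have := tau_tau (inv_ne_zero hz) p
      rwa [inv_inv] at this
  have hM : M.map (tau z) = M := by
    refine Multiset.ext.2 fun a => ?_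
    by_cases ha : Irreducible a ∧ a.Monic
    · conv_lhs => rw [← tau_tau hz a]
      rw [Multiset.count_map_eq_count' _ _ hinj, hcnt, hcnt, ← hcount _ (tau_irreducible (inv_ne_zero hz) ha),
        tau_tau hz]
    · rw [Multiset.count_eq_zero.2 (fun h => by
        obtain ⟨b, hb, rfl⟩ := Multiset.mem_map.1 h
        exact ha (tau_irreducible hz (hmem b hb))), Multiset.count_eq_zero.2 (fun h => ha (hmem a h))]
  have hprod : ∀ s : Multiset F[X], (∀ a ∈ s, a.Monic) → tau z s.prod = (s.map (tau z)).prod := by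
    intro s
    induction s using Multiset.induction with
    | empty => intro _; simp [tau_one]
    | cons a s ih =>
      intro h
      rw [Multiset.prod_cons, Multiset.map_cons, Multiset.prod_cons,
        tau_mul (h a (Multiset.mem_cons_self _ _)).ne_zero, ih fun b hb => h b (Multiset.mem_cons_of_mem hb)]
      refine Multiset.prod_ne_zero fun h0 => ?_
      exact (h 0 (Multiset.mem_cons_of_mem h0)).ne_zero rfl
  have hfix : tau z (code q e j) = code q e j := by
    show tau z M.prod = M.prod
    rw [hprod M fun a ha => (hmem a ha).2, hM]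
  have hmon : (code q e j).Monic := monic_multiset_prod_of_monic _ _ fun i _ => (hq i).2
  have hi : ∀ i, (code q e j).coeff i ≠ 0 → z ^ (code q e j).natDegree = z ^ i := by
    intro i hi
    have h1 := congrArg (fun P : F[X] => P.coeff i) hfix
    simp only [coeff_tau] at h1
    have h2 := mul_right_cancel₀ hi (h1.trans (one_mul _).symm)
    rw [inv_pow] at h2
    exact (mul_inv_eq_one₀ (pow_ne_zero _ hz)).1 h2
  have h0 : (code q e j).coeff 0 ≠ 0 := by
    rw [coeff_zero_eq_eval_zero, code, eval_multiset_prod, Multiset.map_map]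
    refine Multiset.prod_ne_zero fun h => ?_
    obtain ⟨i, hi', h⟩ := Multiset.mem_map.1 h
    rw [Finset.mem_val, Finset.mem_filter] at hi'
    simp only [Function.comp_apply, ← coeff_zero_eq_eval_zero] at h
    have hdvd : (X : F[X]) ∣ q i := X_dvd_iff.2 h
    have hX : q i = X := (eq_of_monic_of_associated monic_X (hq i).2
      (irreducible_X.associated_of_dvd (hq i).1 hdvd)).symm
    have := finrank_ker_aeval g hq Φ X
    rw [aeval_X] at this
    have h3 : LinearMap.ker (lin g.1) = ⊥ := LinearMap.ker_eq_bot.2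
      (Function.LeftInverse.injective (g := Matrix.toLinAlgEquiv' (g⁻¹).1) fun v => by
        show Matrix.toLinAlgEquiv' (g⁻¹).1 (Matrix.toLinAlgEquiv' g.1 v) = v
        rw [← Module.End.mul_apply, ← map_mul, Units.inv_mul, map_one, Module.End.one_apply])
    rw [h3, finrank_bot, eq_comm, Finset.sum_eq_zero_iff] at this
    have h4 := this i (Finset.mem_univ i)
    have h5 := finrank_ker_mulBlk_self (X : F[X]) monic_X 1 (e i)
    rw [pow_one, natDegree_X, mul_one] at h5
    rw [hX, h5] at h4
    omega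
  have hdeg : orderOf z ∣ (code q e j).natDegree := orderOf_dvd_of_pow_eq_one (by
    rw [hi 0 h0, pow_zero])
  refine ⟨hdeg, fun i hni => by_contra fun hne => hni (orderOf_dvd_of_pow_eq_one ?_)⟩
  rw [← hi i hne]
  exact orderOf_dvd_iff_pow_eq_one.1 hdeg

end Cfsg.Agent.SLTwist
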