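import Cfsg.Agent.Lib.Classical.SLClassWeight

/-!
Conjugacy classes of `SL_n` are counted by the weighted codes of determinant one.
-/

set_option autoImplicit false
set_option linter.style.haveILetI false
set_option linter.unusedSectionVars false

namespace Cfsg.Agent.SLBound

open Polynomial Module Cfsg.Agent.GLCount Cfsg.Agent.BlockDet Cfsg.Agent.SLWeight

theorem cnt_stab (q : ℕ) : ∀ m n, n ≤ m → cnt q m n = cnt q n n
  | 0, n, h => by rw [Nat.le_zero.1 h]
  | m + 1, n, h => by
    rcases Nat.lt_or_eq_of_le h with h | rfl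
    · rw [cnt, Nat.div_eq_of_lt h, zero_add, Finset.sum_range_one, zero_mul, Nat.sub_zero, c,
        if_pos rfl, one_mul]
      exact cnt_stab q m n (by omega)
    · rfl

/-- The bound for the weighted number of good codes of determinant one. -/
def bnd (q e n : ℕ) : ℕ :=
  (if e ∣ n then cnt q (n / e) (n / e) else 0) +
    ∑ d ∈ (Nat.gcd n (q - 1)).divisors.erase 1,
      (d * d - 1) * (if d * e ∣ n then cnt q (n / (d * e)) (n / (d * e)) else 0)

variable {F : Type*} [Field F] [Fintype F] [DecidableEq F]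

theorem total_le {e : ℕ} (he : 0 < e) (n : ℕ) :
    (Fintype.card F - 1) * ∑ l ∈ (seqsE (F := F) e n n).filter (fun l => dt l = 1), wt l ≤
      bnd (Fintype.card F) e n := by
  classical
  obtain ⟨q, hq⟩ : ∃ q, Fintype.card F = q := ⟨_, rfl⟩
  have hq1 : 0 < q - 1 := by
    have := Fintype.one_lt_card (α := F)
    omega
  have h := weight_le (F := F) e he n n id (Fintype.card F - 1) 1 dvd_rfl one_ne_zero
  rw [hq, Nat.div_self hq1] at h
  simp only [mul_one, pow_one, id_eq] at h
  rw [hq]
  let D := (Nat.gcd n (q - 1)).divisors.erase 1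
  let I : ℕ → ℕ → ℕ := fun d w => if d ∣ w then 1 else 0
  refine h.trans (le_trans (W_mono q e n n (g := fun w => I 1 w + ∑ d ∈ D, (d * d - 1) * I d w) ?_) ?_)
  · intro w h1 h2
    rw [Nat.gcd_eq_left h1]
    simp only [I, one_dvd, if_true]
    by_cases hw : w = 1
    · subst hw; omega
    · have hwD : w ∈ D := Finset.mem_erase.2 ⟨hw, Nat.mem_divisors.2
        ⟨Nat.dvd_gcd h2 h1, (Nat.gcd_pos_of_pos_right _ hq1).ne'⟩⟩
      refine le_trans ?_ (Nat.add_le_add_left (Finset.single_le_sum (f := fun d =>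
        (d * d - 1) * if d ∣ w then 1 else 0) (fun _ _ => Nat.zero_le _) hwD) _)
      simp only [dvd_refl, if_true, mul_one]
      omega
  rw [W_add, W_sum, bnd]
  refine Nat.add_le_add ?_ (Finset.sum_le_sum fun d hd => ?_)
  · refine (W_dvd q he one_pos n n).trans (le_of_eq ?_)
    rw [one_mul, Nat.div_one]
    split_ifs
    · exact cnt_stab q _ _ (Nat.div_le_self n e)
    · rfl
  · rw [W_smul]
    refine Nat.mul_le_mul_left _ ((W_dvd q he (Nat.pos_of_mem_divisors (Finset.mem_of_mem_erase hd))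
      n n).trans (le_of_eq ?_))
    split_ifs
    · refine cnt_stab q _ _ ?_
      rw [← Nat.div_div_eq_div_mul]
      exact Nat.div_le_self _ _
    · rfl

omit [Fintype F] [DecidableEq F] in
theorem sgc_prod (s : Multiset F[X]) (hs : ∀ p ∈ s, p.Monic) : sgc s.prod = (s.map sgc).prod := by
  induction s using Multiset.induction with
  | empty => simp [sgc]
  | cons a s ih =>
    have ha := hs a (Multiset.mem_cons_self _ _)
    have hs' : ∀ p ∈ s, p.Monic := fun p hp => hs p (Multiset.mem_cons_of_mem hp)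
    rw [Multiset.prod_cons, Multiset.map_cons, Multiset.prod_cons, ← ih hs', sgc, sgc, sgc,
      Monic.natDegree_mul ha (monic_multiset_prod_of_monic s id (by simpa using hs') |> fun h => by
        simpa using h), mul_coeff_zero, pow_add]
    ring

omit [Fintype F] [DecidableEq F] in
theorem dt_lst (G : ℕ → F[X]) : ∀ m, dt (lst G m) = ∏ j ∈ Finset.range m, sgc (G j) ^ (j + 1)
  | 0 => by simp [lst, dt]
  | m + 1 => by
    have hlen : ∀ k, (lst G k).length = k := fun k => by induction k <;> simp [lst, *]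
    rw [lst, dt, hlen, dt_lst G m, Finset.prod_range_succ, mul_comm]

omit [DecidableEq F] in
theorem pow_wt_mem (G : ℕ → F[X]) (S : Subgroup Fˣ) (a : Fˣ) : ∀ m,
    (∀ j < m, (G j).natDegree ≠ 0 → a ^ (j + 1) ∈ S) → a ^ wt (lst G m) ∈ S
  | 0, _ => by
    have : a ^ (Fintype.card F - 1) = 1 := by
      rw [← Nat.card_eq_fintype_card, ← Nat.card_units]
      exact pow_card_eq_one'
    rw [lst, wt, this]
    exact one_mem S
  | m + 1, h => by
    have hlen : ∀ k, (lst G k).length = k := fun k => by induction k <;> simp [lst, *]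
    have ih := pow_wt_mem G S a m fun j hj => h j (by omega)
    rw [lst, wt, hlen]
    split_ifs with h0
    · exact ih
    · rw [← zpow_natCast, Nat.gcd_eq_gcd_ab, zpow_add, zpow_mul, zpow_mul, zpow_natCast, zpow_natCast]
      exact mul_mem (zpow_mem (h m (by omega) h0) _) (zpow_mem ih _)

omit [DecidableEq F] in
theorem wt_pos (l : List F[X]) : 0 < wt l := by
  induction l with
  | nil =>
    have := Fintype.one_lt_card (α := F)
    simp only [wt]
    omega
  | cons p l ih =>
    rw [wt]
    split_ifs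
    · exact ih
    · exact Nat.gcd_pos_of_pos_right _ ih

section Classes

universe u

variable {K : Type u} [Field K] [Fintype K] {n : ℕ}

/-- A chosen code of an invertible matrix. -/
noncomputable def codeOf (g : Matrix.GeneralLinearGroup (Fin n) K) : List K[X] :=
  letI := (exists_decomp g).choose_spec.choose
  lst (code (exists_decomp g).choose_spec.choose_spec.choose
    (exists_decomp g).choose_spec.choose_spec.choose_spec.choose) n

theorem codeOf_spec (g : Matrix.GeneralLinearGroup (Fin n) K) :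
    ∃ (ι : Type u) (_ : Fintype ι) (p : ι → K[X]) (e : ι → ℕ),
      (∀ i, Irreducible (p i) ∧ (p i).Monic) ∧ (∀ i, e i ≠ 0 → (p i).eval 0 ≠ 0) ∧
      (∀ i, e i ≤ n) ∧ ∑ i, e i * (p i).natDegree = n ∧
      Nonempty (AEval' (lin g.1) ≃ₗ[K[X]] ((i : ι) → Blk (p i) (e i))) ∧
      codeOf g = lst (code p e) n := by
  obtain ⟨hp, h0, hsum, hΦ⟩ :=
    (exists_decomp g).choose_spec.choose_spec.choose_spec.choose_spec
  letI := (exists_decomp g).choose_spec.choose
  refine ⟨_, (exists_decomp g).choose_spec.choose, _, _, hp, h0, fun i => ?_, hsum, hΦ, rfl⟩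
  exact le_trans (Nat.le_mul_of_pos_right _ (hp i).1.natDegree_pos)
    ((Finset.single_le_sum (fun _ _ => Nat.zero_le _) (Finset.mem_univ i)).trans_eq hsum)

theorem code_monic {ι : Type u} [Fintype ι] {p : ι → K[X]} {e : ι → ℕ}
    (hp : ∀ i, Irreducible (p i) ∧ (p i).Monic) (j : ℕ) : (code p e j).Monic :=
  monic_multiset_prod_of_monic _ _ fun i _ => (hp i).2

theorem code_degree {ι : Type u} [Fintype ι] {p : ι → K[X]} {e : ι → ℕ}
    (hp : ∀ i, Irreducible (p i) ∧ (p i).Monic) (j : ℕ) :
    (code p e j).natDegree = ∑ i ∈ Finset.univ.filter (fun i => e i = j + 1), (p i).natDegree := by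
  rw [code, natDegree_multiset_prod_of_monic _ fun f hf => by
    obtain ⟨i, -, rfl⟩ := Multiset.mem_map.1 hf; exact (hp i).2, Multiset.map_map]
  rfl

theorem codeOf_mem [DecidableEq K] (g : Matrix.GeneralLinearGroup (Fin n) K) :
    codeOf g ∈ seqs K n n := by
  classical
  obtain ⟨ι, hι, p, e, hp, h0, hle, hsum, -, hc⟩ := codeOf_spec g
  rw [hc]
  refine lst_mem K (code_monic hp) (fun j => ?_) n n ?_
  · show (code p e j).eval 0 ≠ 0
    unfold code
    rw [eval_multiset_prod, Multiset.map_map]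
    refine Multiset.prod_ne_zero fun hz => ?_
    obtain ⟨i, hi, hz⟩ := Multiset.mem_map.1 hz
    rw [Finset.mem_val, Finset.mem_filter] at hi
    exact h0 i (by omega) hz
  · simp only [code_degree hp, Finset.mul_sum]
    conv_rhs => rw [← hsum]
    rw [Finset.sum_congr rfl fun j _ => Finset.sum_filter _ _, Finset.sum_comm]
    refine Finset.sum_congr rfl fun i _ => ?_
    rcases Nat.eq_zero_or_pos (e i) with hz | hz
    · simp [hz]
    · rw [Finset.sum_eq_single (e i - 1) (fun j _ hj => if_neg (by omega))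
        (fun hj => absurd (Finset.mem_range.2 (by have := hle i; omega)) hj), if_pos (by omega),
        show e i - 1 + 1 = e i by omega]

theorem isConj_of_codeOf {g g' : Matrix.GeneralLinearGroup (Fin n) K} (h : codeOf g = codeOf g') :
    IsConj g g' := by
  obtain ⟨ι, hι, p, e, hp, -, hle, -, ⟨Φ₁⟩, hc⟩ := codeOf_spec g
  obtain ⟨ι', hι', p', e', hp', -, hle', -, ⟨Φ₂⟩, hc'⟩ := codeOf_spec g'
  rw [hc, hc'] at h
  obtain ⟨Φ⟩ := blocks_equiv p e p' e' hp hp' hle hle' (lst_inj n h)
  exact isConj_of_equiv ((Φ₁.trans Φ).trans Φ₂.symm)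

theorem dt_codeOf (g : Matrix.GeneralLinearGroup (Fin n) K) : dt (codeOf g) = g.1.det := by
  classical
  obtain ⟨ι, hι, p, e, hp, -, hle, -, ⟨Φ⟩, hc⟩ := codeOf_spec g
  rw [hc, dt_lst, (matrix_facts g hp Φ).1]
  have hsg : ∀ j, sgc (code p e j) = ∏ i ∈ Finset.univ.filter (fun i => e i = j + 1), sgc (p i) := by
    intro j
    rw [code, sgc_prod _ fun f hf => by
      obtain ⟨i, -, rfl⟩ := Multiset.mem_map.1 hf; exact (hp i).2, Multiset.map_map]
    rfl
  simp only [hsg, ← Finset.prod_pow]
  rw [Finset.prod_congr rfl fun j _ => Finset.prod_filter _ _, Finset.prod_comm]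
  refine Finset.prod_congr rfl fun i _ => ?_
  rcases Nat.eq_zero_or_pos (e i) with hz | hz
  · simp [hz]
  · rw [Finset.prod_eq_single (e i - 1) (fun j _ hj => if_neg (by omega))
      (fun hj => absurd (Finset.mem_range.2 (by have := hle i; omega)) hj), if_pos (by omega),
      show e i - 1 + 1 = e i by omega]

theorem exists_commuting (g : Matrix.GeneralLinearGroup (Fin n) K) (a : Kˣ) :
    ∃ c : Matrix.GeneralLinearGroup (Fin n) K, c * g = g * c ∧
      Matrix.GeneralLinearGroup.det c = a ^ wt (codeOf g) := by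
  classical
  obtain ⟨ι, hι, p, e, hp, -, -, -, ⟨Φ⟩, hc⟩ := codeOf_spec g
  have key := pow_wt_mem (code p e)
    ((Subgroup.centralizer {g}).map (Matrix.GeneralLinearGroup.det (n := Fin n) (R := K))) a n ?_
  · rw [← hc] at key
    obtain ⟨c, hc1, hc2⟩ := key
    exact ⟨c, Subgroup.mem_centralizer_singleton_iff.1 hc1, hc2⟩
  intro j _ hj
  have hne : (Finset.univ.filter fun i => e i = j + 1).Nonempty := by
    by_contra h
    rw [Finset.not_nonempty_iff_eq_empty] at h
    rw [code_degree hp, h, Finset.sum_empty] at hj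
    exact hj rfl
  obtain ⟨i, hi⟩ := hne
  obtain ⟨c, hc1, hc2⟩ := (matrix_facts g hp Φ).2 i a
  refine ⟨c, Subgroup.mem_centralizer_singleton_iff.2 hc1, ?_⟩
  rw [hc2, (Finset.mem_filter.1 hi).2]

/-- A set of classes of `SL_n` is counted by the weights of the codes it gives. -/
theorem card_le_sum (S : Set (ConjClasses (Matrix.SpecialLinearGroup (Fin n) K)))
    (T : Finset (List K[X]))
    (hT : ∀ g : Matrix.SpecialLinearGroup (Fin n) K, ConjClasses.mk g ∈ S →
      codeOf (Matrix.SpecialLinearGroup.toGL g) ∈ T) :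
    Nat.card S ≤ ∑ l ∈ T, wt l := by
  classical
  haveI := Fintype.ofFinite S
  let rep : S → Matrix.SpecialLinearGroup (Fin n) K := fun C => C.1.out
  have hrep : ∀ C : S, ConjClasses.mk (rep C) = C.1 := fun C => Quotient.out_eq C.1
  let ψ : S → List K[X] := fun C => codeOf (Matrix.SpecialLinearGroup.toGL (rep C))
  have hψ : ∀ C, ψ C ∈ T := fun C => hT _ (by rw [hrep]; exact C.2)
  rw [Nat.card_eq_fintype_card, ← Finset.card_univ,
    Finset.card_eq_sum_card_fiberwise (f := ψ) (t := T) (fun C _ => hψ C)]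
  refine Finset.sum_le_sum fun l _ => ?_
  rcases (Finset.univ.filter fun C => ψ C = l).eq_empty_or_nonempty with he | ⟨C₀, hC₀⟩
  · rw [he]; simp
  rw [Finset.mem_filter] at hC₀
  let g₀ := Matrix.SpecialLinearGroup.toGL (rep C₀)
  let N : Subgroup Kˣ :=
    (Subgroup.centralizer {g₀}).map (Matrix.GeneralLinearGroup.det (n := Fin n) (R := K))
  have hsol : ∀ C : S, ψ C = l → ∃ x, x * g₀ * x⁻¹ = Matrix.SpecialLinearGroup.toGL (rep C) :=
    fun C hC => isConj_iff.1 (isConj_of_codeOf (hC₀.2.trans hC.symm))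
  choose! x hx using hsol
  have hwt : l = codeOf g₀ := hC₀.2.symm
  have hq : Nat.card (Kˣ ⧸ N) ≤ wt l := by
    haveI : IsCyclic (Kˣ ⧸ N) := isCyclic_of_surjective (QuotientGroup.mk' N) (QuotientGroup.mk'_surjective N)
    haveI := Fintype.ofFinite (Kˣ ⧸ N)
    rw [Nat.card_eq_fintype_card, ← Finset.card_univ]
    refine le_trans (le_of_eq ?_) (IsCyclic.card_pow_eq_one_le (α := Kˣ ⧸ N) (n := wt l) (wt_pos l))
    congr 1
    refine (Finset.filter_true_of_mem fun y _ => ?_).symm
    obtain ⟨a, rfl⟩ := QuotientGroup.mk_surjective y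
    rw [← QuotientGroup.mk_pow, QuotientGroup.eq_one_iff, hwt]
    obtain ⟨c, hc1, hc2⟩ := exists_commuting g₀ a
    exact ⟨c, Subgroup.mem_centralizer_singleton_iff.2 hc1, hc2⟩
  refine le_trans ?_ hq
  rw [← Fintype.card_coe, ← Nat.card_eq_fintype_card]
  refine Nat.card_le_card_of_injective
    (fun C => (QuotientGroup.mk (Matrix.GeneralLinearGroup.det (x C.1)) : Kˣ ⧸ N)) fun C D h => ?_
  obtain ⟨C, hC⟩ := C
  obtain ⟨D, hD⟩ := D
  rw [Finset.mem_filter] at hC hD
  obtain ⟨c, hc1, hc2⟩ := QuotientGroup.eq.1 h.symm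
  rw [SetLike.mem_coe, Subgroup.mem_centralizer_singleton_iff] at hc1
  have hz : x D * c * g₀ * (x D * c)⁻¹ = Matrix.SpecialLinearGroup.toGL (rep D) := by
    rw [mul_assoc (x D) c, hc1, ← hx D hD.2]
    group
  have hdet : Matrix.GeneralLinearGroup.det (x C * (x D * c)⁻¹) = 1 := by
    rw [map_mul, map_inv, map_mul, hc2]
    group
  let s : Matrix.SpecialLinearGroup (Fin n) K :=
    ⟨(x C * (x D * c)⁻¹ : Matrix.GeneralLinearGroup (Fin n) K).1, congrArg Units.val hdet⟩
  have hs : Matrix.SpecialLinearGroup.toGL s = x C * (x D * c)⁻¹ := Units.ext rfl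
  apply Subtype.ext
  apply Subtype.ext
  rw [← hrep C, ← hrep D]
  refine (ConjClasses.mk_eq_mk_iff_isConj.2 (isConj_iff.2 ⟨s, ?_⟩)).symm
  apply Matrix.SpecialLinearGroup.toGL_injective
  rw [map_mul, map_mul, map_inv, hs, ← hx C hC.2, ← hz]
  group

end Classes

end Cfsg.Agent.SLBound
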