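/-
Functions induced from the Borel subgroup of GL_2 and SL_2 as sums over eigenvectors.
-/
import Cfsg.Agent.Lib.Classical.GL2Count
import Cfsg.Prelude.Def_Characters
import Cfsg.Prelude.Def_ParabolicCharacters
import Mathlib.GroupTheory.Coset.Card

set_option autoImplicit false

namespace Cfsg.Agent.GL2Induced

open Matrix TwoByTwo GL2Count

theorem fixedPoint_mul_card {G : Type*} [Group G] [Fintype G] (H : Subgroup G) (g : G)
    [DecidablePred fun x : G => x⁻¹ * g * x ∈ H] :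
    Cfsg.fixedPointCharacter H g * (Nat.card H : ℂ) =
      ∑ x : G, if x⁻¹ * g * x ∈ H then (1 : ℂ) else 0 := by
  classical
  have key : Nat.card (MulAction.fixedBy (G ⧸ H) g) * Nat.card H =
      Nat.card {x : G // x⁻¹ * g * x ∈ H} := by
    rw [mul_comm, ← Nat.card_prod,
      ← Nat.card_congr (QuotientGroup.preimageMkEquivSubgroupProdSet H (MulAction.fixedBy (G ⧸ H) g))]
    refine Nat.card_congr (Equiv.subtypeEquivRight fun x => ?_)
    show g • (x : G ⧸ H) = x ↔ _
    rw [MulAction.Quotient.smul_mk, eq_comm, QuotientGroup.eq, smul_eq_mul, ← mul_assoc]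
  rw [Cfsg.fixedPointCharacter, ← Nat.cast_mul, key, Finset.sum_boole, Nat.card_eq_fintype_card,
    Fintype.card_subtype]

theorem indFun_mul_card {G : Type*} [Group G] [Fintype G] (H : Subgroup G) (θ : H → ℂ) (g : G) :
    Cfsg.indFun H θ g * (Nat.card H : ℂ) = ∑ x : G, Cfsg.extendByZero H θ (x⁻¹ * g * x) := by
  rw [Cfsg.indFun, mul_comm, ← mul_assoc, mul_inv_cancel₀, one_mul]
  exact_mod_cast Nat.card_pos.ne'

theorem extendByZero_mem {G : Type*} [Group G] (H : Subgroup G) (θ : H → ℂ) {y : G} (hy : y ∈ H) :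
    Cfsg.extendByZero H θ y = θ ⟨y, hy⟩ :=
  Subtype.val_injective.extend_apply θ 0 ⟨y, hy⟩

theorem extendByZero_not_mem {G : Type*} [Group G] (H : Subgroup G) (θ : H → ℂ) {y : G} (hy : y ∉ H) :
    Cfsg.extendByZero H θ y = 0 :=
  Function.extend_apply' _ _ _ (fun ⟨a, ha⟩ => hy (ha ▸ a.2))

variable {F : Type*} [Field F]

theorem mem_borel_gl (x : GL (Fin 2) F) : x ∈ Cfsg.upperTriangularGL 2 F ↔ x.1 1 0 = 0 := by
  constructor
  · intro h
    exact h (show (0 : Fin 2) < 1 by decide)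
  · intro h i j hij
    fin_cases i <;> fin_cases j <;> simp at hij ⊢
    exact h

theorem mem_borel_sl (x : Matrix.SpecialLinearGroup (Fin 2) F) :
    x ∈ (Cfsg.upperTriangularGL 2 F).comap Matrix.SpecialLinearGroup.toGL ↔ x.1 1 0 = 0 := by
  rw [Subgroup.mem_comap, mem_borel_gl]
  rfl

theorem card_borel_gl [Fintype F] :
    Nat.card (Cfsg.upperTriangularGL 2 F) = Fintype.card F * (Fintype.card F - 1) ^ 2 := by
  rw [← Nat.card_eq_fintype_card, ← ClassicalGL2.card_normalizer_upperU]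
  exact Nat.card_congr (Equiv.subtypeEquivRight fun x => by
    rw [mem_borel_gl, ClassicalGL2.mem_normalizer_upperU])

theorem card_borel_sl [Fintype F] :
    Nat.card ((Cfsg.upperTriangularGL 2 F).comap Matrix.SpecialLinearGroup.toGL) =
      Fintype.card F * (Fintype.card F - 1) := by
  classical
  rw [← Fintype.card_units, ← Fintype.card_prod, ← Nat.card_eq_fintype_card]
  refine (Nat.card_congr (Equiv.ofBijective (fun ba : F × Fˣ =>
    (⟨(⟨!![(ba.2 : F), ba.1; 0, (ba.2 : F)⁻¹], by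
      rw [det_fin_two_of, mul_inv_cancel₀ ba.2.ne_zero, mul_zero, sub_zero]⟩ :
        Matrix.SpecialLinearGroup (Fin 2) F), (mem_borel_sl _).2 rfl⟩ :
      ((Cfsg.upperTriangularGL 2 F).comap Matrix.SpecialLinearGroup.toGL))) ⟨?_, ?_⟩)).symm
  · rintro ⟨b, a⟩ ⟨b', a'⟩ h
    have h0 := congrArg (fun x : ((Cfsg.upperTriangularGL 2 F).comap
      Matrix.SpecialLinearGroup.toGL) => x.1.1 0 0) h
    have h1 := congrArg (fun x : ((Cfsg.upperTriangularGL 2 F).comap
      Matrix.SpecialLinearGroup.toGL) => x.1.1 0 1) h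
    simp at h0 h1
    exact Prod.ext h1 (Units.ext h0)
  · rintro ⟨x, hx⟩
    have h10 := (mem_borel_sl x).1 hx
    have hd := x.det_coe
    rw [det_fin_two, h10, mul_zero, sub_zero] at hd
    have h00 : x.1 0 0 ≠ 0 := fun e => by simp [e] at hd
    refine ⟨(x.1 0 1, Units.mk0 _ h00), Subtype.ext (Subtype.ext ?_)⟩
    ext i j
    fin_cases i <;> fin_cases j <;> simp [h10, eq_inv_of_mul_eq_one_right hd]

theorem card_sl_col₀ [Fintype F] (v : Fin 2 → F) (hv : v ≠ 0) :
    Nat.card {x : Matrix.SpecialLinearGroup (Fin 2) F // col₀ x.1 = v} = Fintype.card F := by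
  classical
  obtain ⟨w, hw⟩ := exists_second v hv
  rw [← Nat.card_eq_fintype_card]
  refine (Nat.card_congr (Equiv.ofBijective (fun s : F =>
    (⟨⟨!![v 0, s * v 0 + w 0; v 1, s * v 1 + w 1], by
      rw [det_fin_two_of]; linear_combination hw⟩,
      funext fun i => by fin_cases i <;> simp [col₀]⟩ :
      {x : Matrix.SpecialLinearGroup (Fin 2) F // col₀ x.1 = v})) ⟨?_, ?_⟩)).symm
  · intro s s' h
    have h0 := congrArg (fun x : {x : Matrix.SpecialLinearGroup (Fin 2) F // col₀ x.1 = v} => x.1.1 0 1) h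
    have h1 := congrArg (fun x : {x : Matrix.SpecialLinearGroup (Fin 2) F // col₀ x.1 = v} => x.1.1 1 1) h
    simp at h0 h1
    by_cases hv0 : v 0 = 0
    · rcases h1 with h1 | h1
      · exact h1
      · exact absurd (funext fun i => by fin_cases i <;> assumption) hv
    · exact h0.resolve_right hv0
  · rintro ⟨x, hx⟩
    have e0 : x.1 0 0 = v 0 := congrFun hx 0
    have e1 : x.1 1 0 = v 1 := congrFun hx 1
    have hd := x.det_coe
    rw [det_fin_two, e0, e1] at hd
    refine ⟨x.1 0 1 * w 1 - w 0 * x.1 1 1, Subtype.ext (Subtype.ext ?_)⟩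
    ext i j
    fin_cases i <;> fin_cases j <;> simp [e0, e1]
    · linear_combination (x.1 0 1) * hw - w 0 * hd
    · linear_combination (x.1 1 1) * hw - w 1 * hd

/-- Summing a function of the first column over a group of matrices with uniform fibres. -/
theorem sum_col₀ [Fintype F] {G : Type*} [Fintype G] (c : G → Fin 2 → F) (N : ℕ)
    (hne : ∀ x, c x ≠ 0) (hN : ∀ v, v ≠ 0 → Nat.card {x : G // c x = v} = N)
    (φ : (Fin 2 → F) → ℂ) (h0 : φ 0 = 0) :
    ∑ x : G, φ (c x) = (N : ℂ) * ∑ v, φ v := by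
  classical
  rw [← Finset.sum_fiberwise (s := Finset.univ) (g := c), Finset.mul_sum]
  refine Finset.sum_congr rfl fun v _ => ?_
  rw [Finset.sum_congr rfl (g := fun _ => φ v) (fun x hx => by rw [(Finset.mem_filter.1 hx).2]),
    Finset.sum_const, nsmul_eq_mul]
  by_cases hv : v = 0
  · simp [hv, h0]
  · rw [← Fintype.card_subtype, ← Nat.card_eq_fintype_card, hN v hv]

theorem sum_axes [Fintype F] [DecidableEq F] (A D : ℂ) :
    ∑ v : Fin 2 → F, (if v 1 = 0 then (if v 0 = 0 then 0 else A)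
      else (if v 0 = 0 then D else 0)) = ((Fintype.card F : ℂ) - 1) * (A + D) := by
  have one : ∀ X : ℂ, ∑ a : F, (if a = 0 then 0 else X) = ((Fintype.card F : ℂ) - 1) * X := by
    intro X
    rw [← Finset.add_sum_erase _ _ (Finset.mem_univ (0 : F)),
      Finset.sum_congr rfl (g := fun _ => X) (fun b hb => by simp [(Finset.mem_erase.1 hb).1])]
    simp [Finset.card_erase_of_mem, Nat.cast_sub Fintype.card_pos]
  rw [Fintype.sum_equiv (finTwoArrowEquiv F)
    (fun v : Fin 2 → F => if v 1 = 0 then (if v 0 = 0 then 0 else A) else (if v 0 = 0 then D else 0))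
    (fun p : F × F => if p.2 = 0 then (if p.1 = 0 then 0 else A) else (if p.1 = 0 then D else 0))
    (fun v => by simp), Fintype.sum_prod_type]
  have split : ∀ a b : F, (if b = 0 then (if a = 0 then 0 else A) else (if a = 0 then D else 0)) =
      (if b = 0 then (if a = 0 then 0 else A) else 0) +
        (if a = 0 then (if b = 0 then 0 else D) else 0) := by
    intro a b; split_ifs <;> simp
  simp only [split, Finset.sum_add_distrib]
  rw [Finset.sum_congr rfl (g := fun a => if a = 0 then 0 else A) (fun a _ => by simp), one,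
    Finset.sum_comm, Finset.sum_congr rfl (g := fun b => if b = 0 then 0 else D) (fun b _ => by simp),
    one]
  ring

theorem sum_nonzero [Fintype F] [DecidableEq F] (A : ℂ) :
    ∑ v : Fin 2 → F, (if v = 0 then 0 else A) = ((Fintype.card F : ℂ) ^ 2 - 1) * A := by
  rw [← Finset.add_sum_erase _ _ (Finset.mem_univ (0 : Fin 2 → F)),
    Finset.sum_congr rfl (g := fun _ => A) (fun b hb => by simp [(Finset.mem_erase.1 hb).1])]
  simp [Finset.card_erase_of_mem, Nat.cast_sub (Nat.one_le_pow _ _ Fintype.card_pos)]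

theorem conj_val_sl (g x : Matrix.SpecialLinearGroup (Fin 2) F) :
    (x⁻¹ * g * x).1 = x.1⁻¹ * g.1 * x.1 := by
  have h : x⁻¹.1 = x.1⁻¹ := (Matrix.inv_eq_left_inv
    (congrArg Subtype.val (inv_mul_cancel x) : x⁻¹.1 * x.1 = 1)).symm
  show x⁻¹.1 * g.1 * x.1 = _
  rw [h]

/-- The summand of a function induced from the Borel subgroup of SL_2, as an eigenvector function. -/
theorem term_sl (θ : F → ℂ) (g x : Matrix.SpecialLinearGroup (Fin 2) F) (φ : (Fin 2 → F) → ℂ)
    (hφ : ∀ v, v ≠ 0 → (∀ c : F, g.1 *ᵥ v = c • v → φ v = θ c) ∧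
      ((∀ c : F, g.1 *ᵥ v ≠ c • v) → φ v = 0)) :
    Cfsg.extendByZero ((Cfsg.upperTriangularGL 2 F).comap Matrix.SpecialLinearGroup.toGL)
      (fun b => θ ((b : Matrix.SpecialLinearGroup (Fin 2) F).1 0 0)) (x⁻¹ * g * x) = φ (col₀ x.1) := by
  have hd : x.1.det ≠ 0 := by rw [x.det_coe]; exact one_ne_zero
  obtain ⟨h1, h2⟩ := hφ _ (col₀_ne_zero hd)
  by_cases hm : x⁻¹ * g * x ∈ (Cfsg.upperTriangularGL 2 F).comap Matrix.SpecialLinearGroup.toGL
  · rw [extendByZero_mem _ _ hm]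
    have h10 := (mem_borel_sl _).1 hm
    rw [conj_val_sl] at h10
    refine (h1 _ ((conj_mem_upper_iff hd _).1 ⟨h10, ?_⟩)).symm
    show _ = (x⁻¹ * g * x).1 0 0
    rw [conj_val_sl]
  · rw [extendByZero_not_mem _ _ hm]
    refine (h2 fun c hc => hm ((mem_borel_sl _).2 ?_)).symm
    rw [conj_val_sl]
    exact ((conj_mem_upper_iff hd c).2 hc).1

theorem indFun_sl [Fintype F] [DecidableEq F] (θ : F → ℂ) (g : Matrix.SpecialLinearGroup (Fin 2) F)
    (φ : (Fin 2 → F) → ℂ) (h0 : φ 0 = 0)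
    (hφ : ∀ v, v ≠ 0 → (∀ c : F, g.1 *ᵥ v = c • v → φ v = θ c) ∧
      ((∀ c : F, g.1 *ᵥ v ≠ c • v) → φ v = 0)) (r : ℂ)
    (hr : ∑ v, φ v = ((Fintype.card F : ℂ) - 1) * r) :
    Cfsg.indFun ((Cfsg.upperTriangularGL 2 F).comap Matrix.SpecialLinearGroup.toGL)
      (fun b => θ ((b : Matrix.SpecialLinearGroup (Fin 2) F).1 0 0)) g = r := by
  classical
  have hB : (Nat.card ((Cfsg.upperTriangularGL 2 F).comap Matrix.SpecialLinearGroup.toGL) : ℂ) ≠ 0 :=
    Nat.cast_ne_zero.2 Nat.card_pos.ne'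
  refine mul_right_cancel₀ hB ?_
  rw [indFun_mul_card, Finset.sum_congr rfl (fun x _ => term_sl θ g x φ hφ),
    sum_col₀ (fun x : Matrix.SpecialLinearGroup (Fin 2) F => col₀ x.1) (Fintype.card F)
      (fun x => col₀_ne_zero (by rw [x.det_coe]; exact one_ne_zero)) card_sl_col₀ φ h0, hr,
    card_borel_sl, Nat.cast_mul, Nat.cast_sub Fintype.card_pos]
  simp
  ring

theorem fixedPoint_gl [Fintype F] [DecidableEq F] (g : GL (Fin 2) F)
    (φ : (Fin 2 → F) → ℂ) (h0 : φ 0 = 0)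
    (hφ : ∀ v, v ≠ 0 → (∀ c : F, g.1 *ᵥ v = c • v → φ v = 1) ∧
      ((∀ c : F, g.1 *ᵥ v ≠ c • v) → φ v = 0)) (r : ℂ)
    (hr : ∑ v, φ v = ((Fintype.card F : ℂ) - 1) * r) :
    Cfsg.fixedPointCharacter (Cfsg.upperTriangularGL 2 F) g = r := by
  classical
  have hB : (Nat.card (Cfsg.upperTriangularGL 2 F) : ℂ) ≠ 0 := Nat.cast_ne_zero.2 Nat.card_pos.ne'
  refine mul_right_cancel₀ hB ?_
  rw [fixedPoint_mul_card, Finset.sum_congr rfl (g := fun x : GL (Fin 2) F => φ (col₀ x.1)) ?_,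
    sum_col₀ (fun x : GL (Fin 2) F => col₀ x.1) (Fintype.card F * (Fintype.card F - 1))
      (fun x => col₀_ne_zero x.det_ne_zero) card_gl_col₀ φ h0, hr,
    card_borel_gl, Nat.cast_mul, Nat.cast_mul, Nat.cast_pow, Nat.cast_sub Fintype.card_pos]
  · simp
    ring
  · intro x _
    obtain ⟨h1, h2⟩ := hφ _ (col₀_ne_zero x.det_ne_zero)
    have hcv : (x⁻¹ * g * x).1 = x.1⁻¹ * g.1 * x.1 := by
      rw [Units.val_mul, Units.val_mul, Matrix.coe_units_inv]
    split_ifs with hm
    · rw [mem_borel_gl, hcv] at hm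
      exact (h1 _ ((conj_mem_upper_iff x.det_ne_zero _).1 ⟨hm, rfl⟩)).symm
    · refine (h2 fun c hc => hm ((mem_borel_gl _).2 ?_)).symm
      rw [hcv]
      exact ((conj_mem_upper_iff x.det_ne_zero c).2 hc).1

theorem eigen_entries {M : Matrix (Fin 2) (Fin 2) F} {v : Fin 2 → F} {c : F}
    (h : M *ᵥ v = c • v) :
    M 0 0 * v 0 + M 0 1 * v 1 = c * v 0 ∧ M 1 0 * v 0 + M 1 1 * v 1 = c * v 1 := by
  refine ⟨?_, ?_⟩
  · simpa [mulVec, dotProduct, Fin.sum_univ_two] using congrFun h 0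
  · simpa [mulVec, dotProduct, Fin.sum_univ_two] using congrFun h 1

theorem axes_spec_diag [DecidableEq F] {M : Matrix (Fin 2) (Fin 2) F} (θ : F → ℂ) (h01 : M 0 1 = 0)
    (h10 : M 1 0 = 0) (hne : M 0 0 ≠ M 1 1) (v : Fin 2 → F) (hv : v ≠ 0) :
    (∀ c : F, M *ᵥ v = c • v → (if v 1 = 0 then (if v 0 = 0 then 0 else θ (M 0 0))
        else (if v 0 = 0 then θ (M 1 1) else 0)) = θ c) ∧
    ((∀ c : F, M *ᵥ v ≠ c • v) → (if v 1 = 0 then (if v 0 = 0 then 0 else θ (M 0 0))
        else (if v 0 = 0 then θ (M 1 1) else 0)) = 0) := by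
  refine ⟨fun c hc => ?_, fun h => ?_⟩
  · obtain ⟨e0, e1⟩ := eigen_entries hc
    simp [h01, h10] at e0 e1
    split_ifs with a b b
    · exact absurd (funext fun i => by fin_cases i <;> assumption) hv
    · rw [e0.resolve_right b]
    · rw [e1.resolve_right a]
    · exact absurd ((e0.resolve_right b).trans (e1.resolve_right a).symm) hne
  · split_ifs with a b b
    · rfl
    · exact absurd (by funext i; fin_cases i <;> simp [mulVec, dotProduct, Fin.sum_univ_two, a, h10])
        (h (M 0 0))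
    · exact absurd (by funext i; fin_cases i <;> simp [mulVec, dotProduct, Fin.sum_univ_two, b, h01])
        (h (M 1 1))
    · rfl

theorem axes_spec_jordan [DecidableEq F] {M : Matrix (Fin 2) (Fin 2) F} (θ : F → ℂ)
    (h10 : M 1 0 = 0) (heq : M 0 0 = M 1 1) (h01 : M 0 1 ≠ 0) (v : Fin 2 → F) (hv : v ≠ 0) :
    (∀ c : F, M *ᵥ v = c • v → (if v 1 = 0 then (if v 0 = 0 then 0 else θ (M 0 0))
        else (if v 0 = 0 then (0 : ℂ) else 0)) = θ c) ∧
    ((∀ c : F, M *ᵥ v ≠ c • v) → (if v 1 = 0 then (if v 0 = 0 then 0 else θ (M 0 0))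
        else (if v 0 = 0 then (0 : ℂ) else 0)) = 0) := by
  refine ⟨fun c hc => ?_, fun h => ?_⟩
  · obtain ⟨e0, e1⟩ := eigen_entries hc
    simp [h10] at e1
    split_ifs with a b b
    · exact absurd (funext fun i => by fin_cases i <;> assumption) hv
    · simp [a] at e0; rw [e0.resolve_right b]
    all_goals
      rw [← e1.resolve_right a, ← heq] at e0
      have : M 0 1 * v 1 = 0 := by linear_combination e0
      exact absurd this (mul_ne_zero h01 a)
  · split_ifs with a b b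
    · rfl
    · exact absurd (by funext i; fin_cases i <;> simp [mulVec, dotProduct, Fin.sum_univ_two, a, h10])
        (h (M 0 0))
    all_goals rfl

theorem scalar_spec [DecidableEq F] {M : Matrix (Fin 2) (Fin 2) F} (θ : F → ℂ) (hs : IsScalar M)
    (v : Fin 2 → F) (hv : v ≠ 0) :
    (∀ c : F, M *ᵥ v = c • v → (if v = 0 then 0 else θ (M 0 0)) = θ c) ∧
    ((∀ c : F, M *ᵥ v ≠ c • v) → (if v = 0 then 0 else θ (M 0 0)) = 0) := by
  have hMv : M *ᵥ v = M 0 0 • v := by
    conv_lhs => rw [isScalar_iff.1 hs]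
    rw [smul_mulVec, one_mulVec]
  refine ⟨fun c hc => ?_, fun h => absurd hMv (h _)⟩
  rw [if_neg hv, smul_left_injective F hv (hMv.symm.trans hc)]

end Cfsg.Agent.GL2Induced
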