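/-
The irreducible characters of GL_2 over a finite field: linear, Steinberg, principal series, cuspidal.
-/
import Cfsg.Agent.Lib.Classical.GL2Induced
import Cfsg.Agent.Lib.Classical.SL2Tori
import Cfsg.Agent.Lib.Classical.CharTools

set_option autoImplicit false

namespace Cfsg.Agent.GL2Chars

open scoped ComplexConjugate
open Matrix TwoByTwo GL2Count Cfsg.Agent.Char CharTools

variable {F : Type*} [Field F]

/-- The upper triangular element with the given entries. -/
noncomputable def gm (a d : Fˣ) (s : F) : GL (Fin 2) F :=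
  GeneralLinearGroup.mkOfDetNeZero !![(a : F), s; 0, (d : F)]
    (by simp [det_fin_two_of])

@[simp] theorem gm_val (a d : Fˣ) (s : F) : (gm a d s).1 = !![(a : F), s; 0, (d : F)] := rfl

theorem isConj_gm {a d : Fˣ} (h : (a : F) ≠ d) (s : F) : IsConj (gm a d 0) (gm a d s) := by
  rw [isConj_gl_iff]
  exact ⟨by simp [trace_fin_two], by simp [det_fin_two_of],
    by simp [IsScalar, h]⟩

theorem isConj_jordan (a : Fˣ) {s : F} (hs : s ≠ 0) : IsConj (gm a a s) (gm a a 1) := by
  rw [isConj_gl_iff]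
  exact ⟨by simp [trace_fin_two], by simp [det_fin_two_of],
    by simp [IsScalar, hs]⟩

theorem noEigen_or_conj (g : GL (Fin 2) F) :
    SL2Tori.NoEigen g.1 ∨ ∃ (a d : Fˣ) (s : F), IsConj (gm a d s) g := by
  classical
  by_cases h : SL2Tori.NoEigen g.1
  · exact Or.inl h
  right
  simp only [SL2Tori.NoEigen, not_forall, not_not] at h
  obtain ⟨c, v, hv, hcv⟩ := h
  obtain ⟨w, hw⟩ := exists_second v hv
  let x : GL (Fin 2) F := GeneralLinearGroup.mkOfDetNeZero !![v 0, w 0; v 1, w 1]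
    (by rw [det_fin_two_of]; intro e; exact one_ne_zero (hw.symm.trans (by linear_combination e)))
  have hcol : col₀ x.1 = v := funext fun i => by fin_cases i <;> simp [x, col₀, GeneralLinearGroup.mkOfDetNeZero]
  have hup := (conj_mem_upper_iff x.det_ne_zero c).2 (show g.1 *ᵥ col₀ x.1 = c • col₀ x.1 by rw [hcol]; exact hcv)
  set y := x⁻¹ * g * x with hy
  have hcval : y.1 = x.1⁻¹ * g.1 * x.1 := by
    rw [hy, Units.val_mul, Units.val_mul, Matrix.coe_units_inv]
  have h10 : y.1 1 0 = 0 := by rw [hcval]; exact hup.1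
  have hd := y.det_ne_zero
  rw [det_fin_two, h10, mul_zero, sub_zero, mul_ne_zero_iff] at hd
  have e : gm (Units.mk0 _ hd.1) (Units.mk0 _ hd.2) (y.1 0 1) = y := Units.ext (by
    ext i j; fin_cases i <;> fin_cases j <;> simp [h10])
  refine ⟨Units.mk0 _ hd.1, Units.mk0 _ hd.2, y.1 0 1, ?_⟩
  rw [e, hy]
  exact isConj_iff.2 ⟨x, by group⟩

variable [Fintype F] [DecidableEq F]

/-- The character induced from the Borel subgroup by `α ⊗ β`. -/
noncomputable def R (α β : MulChar F ℂ) : GL (Fin 2) F → ℂ :=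
  Cfsg.indFun (Cfsg.upperTriangularGL 2 F) (fun b =>
    α ((b : GL (Fin 2) F).1 0 0) * β ((b : GL (Fin 2) F).1 1 1))

/-- The linear character `α ∘ det`. -/
noncomputable def linC (α : MulChar F ℂ) : GL (Fin 2) F → ℂ := fun g => α g.1.det

/-- The twisted Steinberg character. -/
noncomputable def St (α : MulChar F ℂ) : GL (Fin 2) F → ℂ := R α α - linC α

theorem indFun_gl (θ : F → F → ℂ) (g : GL (Fin 2) F)
    (φ : (Fin 2 → F) → ℂ) (h0 : φ 0 = 0)
    (hφ : ∀ v, v ≠ 0 → (∀ c : F, g.1 *ᵥ v = c • v → φ v = θ c (g.1.det / c)) ∧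
      ((∀ c : F, g.1 *ᵥ v ≠ c • v) → φ v = 0)) (r : ℂ)
    (hr : ∑ v, φ v = ((Fintype.card F : ℂ) - 1) * r) :
    Cfsg.indFun (Cfsg.upperTriangularGL 2 F)
      (fun b => θ ((b : GL (Fin 2) F).1 0 0) ((b : GL (Fin 2) F).1 1 1)) g = r := by
  classical
  have hB : (Nat.card (Cfsg.upperTriangularGL 2 F) : ℂ) ≠ 0 := Nat.cast_ne_zero.2 Nat.card_pos.ne'
  refine mul_right_cancel₀ hB ?_
  rw [GL2Induced.indFun_mul_card, Finset.sum_congr rfl (g := fun x : GL (Fin 2) F => φ (col₀ x.1)) ?_,
    GL2Induced.sum_col₀ (fun x : GL (Fin 2) F => col₀ x.1) (Fintype.card F * (Fintype.card F - 1))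
      (fun x => col₀_ne_zero x.det_ne_zero) card_gl_col₀ φ h0, hr,
    GL2Induced.card_borel_gl, Nat.cast_mul, Nat.cast_mul, Nat.cast_pow,
    Nat.cast_sub Fintype.card_pos]
  · simp
    ring
  · intro x _
    obtain ⟨h1, h2⟩ := hφ _ (col₀_ne_zero x.det_ne_zero)
    have hcv : (x⁻¹ * g * x).1 = x.1⁻¹ * g.1 * x.1 := by
      rw [Units.val_mul, Units.val_mul, Matrix.coe_units_inv]
    have hdet : (x⁻¹ * g * x).1.det = g.1.det := by
      rw [Units.val_mul, Units.val_mul, Matrix.det_units_conj']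
    by_cases hm : x⁻¹ * g * x ∈ Cfsg.upperTriangularGL 2 F
    · rw [GL2Induced.extendByZero_mem _ _ hm]
      have h10 := (GL2Induced.mem_borel_gl _).1 hm
      have hd' := (x⁻¹ * g * x).det_ne_zero
      rw [det_fin_two, h10, mul_zero, sub_zero] at hdet hd'
      have h10' : (x.1⁻¹ * g.1 * x.1) 1 0 = 0 := hcv ▸ h10
      have he : g.1 *ᵥ col₀ x.1 = ((x⁻¹ * g * x).1 0 0) • col₀ x.1 :=
        (conj_mem_upper_iff x.det_ne_zero _).1 ⟨h10', by rw [hcv]⟩
      rw [h1 _ he]
      show θ ((x⁻¹ * g * x).1 0 0) ((x⁻¹ * g * x).1 1 1) = _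
      rw [← hdet, mul_div_cancel_left₀ _ (left_ne_zero_of_mul hd')]
    · rw [GL2Induced.extendByZero_not_mem _ _ hm]
      refine (h2 fun c hc => hm ((GL2Induced.mem_borel_gl _).2 ?_)).symm
      rw [hcv]
      exact ((conj_mem_upper_iff x.det_ne_zero c).2 hc).1

theorem isClassFunction_R (α β : MulChar F ℂ) : Cfsg.IsClassFunction (GL (Fin 2) F) (R α β) :=
  isClassFunction_indFun _ _

theorem R_diag_entries (α β : MulChar F ℂ) (g : GL (Fin 2) F) (h01 : g.1 0 1 = 0)
    (h10 : g.1 1 0 = 0) (hne : g.1 0 0 ≠ g.1 1 1) :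
    R α β g = α (g.1 0 0) * β (g.1 1 1) + α (g.1 1 1) * β (g.1 0 0) := by
  have hd := g.det_ne_zero
  rw [det_fin_two, h01, zero_mul, sub_zero, mul_ne_zero_iff] at hd
  refine indFun_gl (fun c e => α c * β e) g _ ?_
    (GL2Induced.axes_spec_diag (fun c => α c * β (g.1.det / c)) h01 h10 hne) _ ?_
  · simp
  · rw [GL2Induced.sum_axes, det_fin_two, h01, zero_mul, sub_zero, mul_div_cancel_left₀ _ hd.1,
      mul_div_cancel_right₀ _ hd.2]

theorem R_jordan (α β : MulChar F ℂ) (a : Fˣ) {s : F} (hs : s ≠ 0) :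
    R α β (gm a a s) = α (a : F) * β (a : F) := by
  refine indFun_gl (fun c e => α c * β e) _ _ ?_
    (GL2Induced.axes_spec_jordan (fun c => α c * β ((gm a a s).1.det / c)) (by simp) (by simp)
      (by simpa using hs)) _ ?_
  · simp
  · rw [GL2Induced.sum_axes]; simp [det_fin_two_of]

theorem R_scalar (α β : MulChar F ℂ) (a : Fˣ) :
    R α β (gm a a 0) = ((Fintype.card F : ℂ) + 1) * (α (a : F) * β (a : F)) := by
  refine indFun_gl (fun c e => α c * β e) _ _ ?_
    (GL2Induced.scalar_spec (fun c => α c * β ((gm a a 0).1.det / c)) (by simp [IsScalar])) _ ?_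
  · simp
  · rw [GL2Induced.sum_nonzero]; simp [det_fin_two_of]; ring

theorem R_noEigen (α β : MulChar F ℂ) {g : GL (Fin 2) F} (hg : SL2Tori.NoEigen g.1) :
    R α β g = 0 := by
  refine indFun_gl (fun c e => α c * β e) g (fun _ => 0) rfl
    (fun v hv => ⟨fun c hc => absurd hc (hg c v hv), fun _ => rfl⟩) 0 (by simp)

theorem R_gm_ne (α β : MulChar F ℂ) {a d : Fˣ} (h : (a : F) ≠ d) (s : F) :
    R α β (gm a d s) = α (a : F) * β (d : F) + α (d : F) * β (a : F) := by
  rw [← isClassFunction_iff.1 (isClassFunction_R α β) _ _ (isConj_gm h s),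
    R_diag_entries α β _ (by simp) (by simp) (by simpa using h)]
  simp

theorem gm_one : gm (1 : Fˣ) 1 (0 : F) = 1 := Units.ext (by
  ext i j; fin_cases i <;> fin_cases j <;> simp)

theorem R_one (α β : MulChar F ℂ) : R α β 1 = (Fintype.card F : ℂ) + 1 := by
  rw [← gm_one, R_scalar]; simp

omit [Fintype F] [DecidableEq F] in
theorem linC_gm (α : MulChar F ℂ) (a d : Fˣ) (s : F) :
    linC α (gm a d s) = α (a : F) * α (d : F) := by
  rw [← map_mul]; simp [linC, det_fin_two_of]

theorem St_one (α : MulChar F ℂ) : St α 1 = (Fintype.card F : ℂ) := by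
  simp [St, R_one, linC]

omit [DecidableEq F] in
theorem linC_irr (α : MulChar F ℂ) : Cfsg.IsIrrCharacter (GL (Fin 2) F) (linC α) := by
  have h := isIrrCharacter_linear (α.toUnitHom.comp (GeneralLinearGroup.det (n := Fin 2) (R := F)))
  show Cfsg.IsIrrCharacter _ (fun g : GL (Fin 2) F => α g.1.det)
  simpa [MulChar.coe_toUnitHom] using h

omit [DecidableEq F] in
theorem isClassFunction_linC (α : MulChar F ℂ) : Cfsg.IsClassFunction (GL (Fin 2) F) (linC α) :=
  IsCharacter.isClassFunction (IsIrrCharacter.isCharacter (linC_irr α))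

theorem isCharacter_R (α β : MulChar F ℂ) : Cfsg.IsCharacter (GL (Fin 2) F) (R α β) := by
  refine isCharacter_indFun _ ?_
  let f : (Cfsg.upperTriangularGL 2 F) →* ℂ :=
    { toFun := fun b => α ((b : GL (Fin 2) F).1 0 0) * β ((b : GL (Fin 2) F).1 1 1)
      map_one' := by simp
      map_mul' := fun x y => by
        have hx := (GL2Induced.mem_borel_gl _).1 x.2
        have hy := (GL2Induced.mem_borel_gl _).1 y.2
        show α ((x.1.1 * y.1.1) 0 0) * β ((x.1.1 * y.1.1) 1 1) = _
        simp [Matrix.mul_apply, Fin.sum_univ_two, hx, hy]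
        ring }
  exact IsIrrCharacter.isCharacter (isIrrCharacter_linear f.toHomUnits)

/-- Sum over a coset of the unipotent radical. -/
noncomputable def US (f : GL (Fin 2) F → ℂ) (a d : Fˣ) : ℂ := ∑ s : F, f (gm a d s)

theorem US_eq {f : GL (Fin 2) F → ℂ} (hf : Cfsg.IsClassFunction (GL (Fin 2) F) f) (a : Fˣ) :
    US f a a = f (gm a a 0) + ((Fintype.card F : ℂ) - 1) * f (gm a a 1) := by
  rw [US, ← Finset.add_sum_erase _ _ (Finset.mem_univ (0 : F)),
    Finset.sum_congr rfl (g := fun _ => f (gm a a 1)) (fun s hs =>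
      isClassFunction_iff.1 hf _ _ (isConj_jordan a (Finset.mem_erase.1 hs).1))]
  simp [Finset.card_erase_of_mem, Nat.cast_sub Fintype.card_pos]

theorem US_ne {f : GL (Fin 2) F → ℂ} (hf : Cfsg.IsClassFunction (GL (Fin 2) F) f) {a d : Fˣ}
    (h : (a : F) ≠ d) : US f a d = (Fintype.card F : ℂ) * f (gm a d 0) := by
  rw [US, Finset.sum_congr rfl (g := fun _ => f (gm a d 0)) (fun s _ =>
    (isClassFunction_iff.1 hf _ _ (isConj_gm h s)).symm)]
  simp

theorem US_R (α β : MulChar F ℂ) (a d : Fˣ) :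
    US (R α β) a d = (Fintype.card F : ℂ) * (α (a : F) * β (d : F) + α (d : F) * β (a : F)) := by
  by_cases h : (a : F) = d
  · obtain rfl : a = d := Units.ext h
    rw [US_eq (isClassFunction_R α β), R_scalar, R_jordan α β a one_ne_zero]; ring
  · rw [US_ne (isClassFunction_R α β) h, R_gm_ne α β h]

theorem US_linC (γ : MulChar F ℂ) (a d : Fˣ) :
    US (linC γ) a d = (Fintype.card F : ℂ) * (γ (a : F) * γ (d : F)) := by
  simp [US, linC_gm]

theorem inner_R (α β : MulChar F ℂ) {f : GL (Fin 2) F → ℂ}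
    (hf : Cfsg.IsClassFunction (GL (Fin 2) F) f) :
    Cfsg.classInner (R α β) f = ((Fintype.card F : ℂ) * ((Fintype.card F : ℂ) - 1) ^ 2)⁻¹ *
      ∑ a : Fˣ, ∑ d : Fˣ, α (a : F) * β (d : F) * conj (US f a d) := by
  classical
  haveI : Fintype (Cfsg.upperTriangularGL 2 F) := Fintype.ofFinite _
  rw [R, classInner_indFun_left _ _ hf, Cfsg.classInner, GL2Induced.card_borel_gl, Nat.cast_mul,
    Nat.cast_pow, Nat.cast_sub Fintype.card_pos, Nat.cast_one]
  congr 1
  simp only [US, map_sum, Finset.mul_sum]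
  rw [← Fintype.sum_prod_type', ← Fintype.sum_prod_type']
  symm
  refine Fintype.sum_bijective
    (fun p : (Fˣ × Fˣ) × F => (⟨gm p.1.1 p.1.2 p.2, (GL2Induced.mem_borel_gl _).2 (by simp)⟩ :
      Cfsg.upperTriangularGL 2 F)) ⟨?_, ?_⟩ _ _ (fun p => by simp)
  · rintro ⟨⟨a, d⟩, s⟩ ⟨⟨a', d'⟩, s'⟩ h
    have h' : (gm a d s).1 = (gm a' d' s').1 := congrArg (fun b : Cfsg.upperTriangularGL 2 F => b.1.1) h
    have e0 := congrFun (congrFun h' 0) 0
    have e1 := congrFun (congrFun h' 0) 1
    have e2 := congrFun (congrFun h' 1) 1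
    simp at e0 e1 e2
    exact Prod.ext (Prod.ext (Units.ext e0) (Units.ext e2)) e1
  · rintro ⟨y, hy⟩
    have h10 := (GL2Induced.mem_borel_gl _).1 hy
    have hd := y.det_ne_zero
    rw [det_fin_two, h10, mul_zero, sub_zero, mul_ne_zero_iff] at hd
    refine ⟨((Units.mk0 _ hd.1, Units.mk0 _ hd.2), y.1 0 1), Subtype.ext (Units.ext ?_)⟩
    ext i j; fin_cases i <;> fin_cases j <;> simp [h10]

theorem q_sub_one_ne_zero : (Fintype.card F : ℂ) - 1 ≠ 0 := by
  rw [sub_ne_zero]; exact_mod_cast (Fintype.one_lt_card (α := F)).ne'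

open scoped Classical in
theorem inner_R_R (α β α' β' : MulChar F ℂ) :
    Cfsg.classInner (R α β) (R α' β') =
      (if α = α' ∧ β = β' then 1 else 0) + (if α = β' ∧ β = α' then 1 else 0) := by
  rw [inner_R α β (isClassFunction_R α' β'),
    Finset.sum_congr rfl (g := fun a : Fˣ => (Fintype.card F : ℂ) *
      ((α (a : F) * conj (α' (a : F))) * ∑ d : Fˣ, β (d : F) * conj (β' (d : F)) +
       (α (a : F) * conj (β' (a : F))) * ∑ d : Fˣ, β (d : F) * conj (α' (d : F)))) ?_]
  · rw [← Finset.mul_sum, Finset.sum_add_distrib, ← Finset.sum_mul, ← Finset.sum_mul]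
    simp only [mulChar_sum]
    have h0 : (Fintype.card F : ℂ) ≠ 0 := Nat.cast_ne_zero.2 Fintype.card_ne_zero
    have h1 := q_sub_one_ne_zero (F := F)
    split_ifs <;> first | (exfalso; tauto) | (field_simp; done) | (field_simp; ring)
  · intro a _
    simp only [US_R, map_mul, map_add, map_natCast, Finset.mul_sum, ← Finset.sum_add_distrib]
    exact Finset.sum_congr rfl fun d _ => by ring

open scoped Classical in
theorem inner_R_linC (α β γ : MulChar F ℂ) :
    Cfsg.classInner (R α β) (linC γ) = if α = γ ∧ β = γ then 1 else 0 := by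
  rw [inner_R α β (isClassFunction_linC γ),
    Finset.sum_congr rfl (g := fun a : Fˣ => (Fintype.card F : ℂ) *
      ((α (a : F) * conj (γ (a : F))) * ∑ d : Fˣ, β (d : F) * conj (γ (d : F)))) ?_]
  · rw [← Finset.mul_sum, ← Finset.sum_mul]
    simp only [mulChar_sum]
    have h0 : (Fintype.card F : ℂ) ≠ 0 := Nat.cast_ne_zero.2 Fintype.card_ne_zero
    have h1 := q_sub_one_ne_zero (F := F)
    split_ifs <;> first | (exfalso; tauto) | (field_simp; done) | (field_simp; ring)
  · intro a _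
    simp only [US_linC, map_mul, map_natCast, Finset.mul_sum]
    exact Finset.sum_congr rfl fun d _ => by ring

theorem R_irr {α β : MulChar F ℂ} (h : α ≠ β) : Cfsg.IsIrrCharacter (GL (Fin 2) F) (R α β) := by
  classical
  refine IsCharacter.isIrr_of_norm_one (isCharacter_R α β) ?_
  rw [inner_R_R, if_pos ⟨rfl, rfl⟩, if_neg (fun e => h e.1), add_zero]

theorem R_swap (α β : MulChar F ℂ) : R α β = R β α := by
  classical
  refine sub_eq_zero.1 (classInner_self_eq_zero ?_)
  simp only [classInner_sub_left, classInner_sub_right, inner_R_R]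
  by_cases h : α = β
  · subst h; simp
  · simp [h, Ne.symm h]

theorem R_eq_iff (α β α' β' : MulChar F ℂ) :
    R α β = R α' β' ↔ (α = α' ∧ β = β') ∨ (α = β' ∧ β = α') := by
  classical
  refine ⟨fun e => ?_, ?_⟩
  · by_contra hc
    rw [not_or] at hc
    have h1 := inner_R_R α β α' β'
    rw [← e, inner_R_R, if_neg hc.1, if_neg hc.2, if_pos ⟨rfl, rfl⟩] at h1
    split_ifs at h1 <;> norm_num at h1
  · rintro (⟨rfl, rfl⟩ | ⟨rfl, rfl⟩)
    exacts [rfl, R_swap α β]

open scoped Classical in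
theorem inner_R_St (α β γ : MulChar F ℂ) :
    Cfsg.classInner (R α β) (St γ) = if α = γ ∧ β = γ then 1 else 0 := by
  rw [St, classInner_sub_right, inner_R_R, inner_R_linC]
  split_ifs <;> first | (exfalso; tauto) | norm_num

theorem St_irr (γ : MulChar F ℂ) : Cfsg.IsIrrCharacter (GL (Fin 2) F) (St γ) := by
  classical
  refine isIrr_of_norm_one (IsGeneralizedCharacter.sub
    (IsGeneralizedCharacter.of_isCharacter (isCharacter_R γ γ))
    (IsGeneralizedCharacter.of_isCharacter (IsIrrCharacter.isCharacter (linC_irr γ)))) ?_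
    (St_one γ) Fintype.card_ne_zero
  show Cfsg.classInner (R γ γ - linC γ) (St γ) = 1
  rw [classInner_sub_left, inner_R_St, if_pos ⟨rfl, rfl⟩, St, classInner_sub_right,
    classInner_self_irr (linC_irr γ), ← classInner_conj_symm (R γ γ) (linC γ), inner_R_linC,
    if_pos ⟨rfl, rfl⟩]
  simp

/-- Orthogonal to the whole principal series. -/
def Cuspidal (χ : GL (Fin 2) F → ℂ) : Prop :=
  ∀ α β : MulChar F ℂ, Cfsg.classInner (R α β) χ = 0

theorem constituent {χ : GL (Fin 2) F → ℂ} (hχ : Cfsg.IsIrrCharacter (GL (Fin 2) F) χ)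
    (hc : ¬ Cuspidal χ) :
    (∃ α, χ = linC α) ∨ (∃ α, χ = St α) ∨ ∃ α β : MulChar F ℂ, α ≠ β ∧ χ = R α β := by
  simp only [Cuspidal, not_forall] at hc
  obtain ⟨α, β, h⟩ := hc
  by_cases e : α = β
  · subst e
    rw [show R α α = linC α + St α by simp [St], classInner_add_left] at h
    by_cases h1 : χ = linC α
    · exact Or.inl ⟨α, h1⟩
    by_cases h2 : χ = St α
    · exact Or.inr (Or.inl ⟨α, h2⟩)
    rw [classInner_irr_of_ne (linC_irr α) hχ (Ne.symm h1),
      classInner_irr_of_ne (St_irr α) hχ (Ne.symm h2), add_zero] at h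
    exact absurd rfl h
  · refine Or.inr (Or.inr ⟨α, β, e, ?_⟩)
    by_contra h1
    exact h (classInner_irr_of_ne (R_irr e) hχ (Ne.symm h1))

section cusp

variable {χ : GL (Fin 2) F → ℂ}

theorem cusp_US (hχ : Cfsg.IsClassFunction (GL (Fin 2) F) χ) (hc : Cuspidal χ) (a d : Fˣ) :
    US χ a d = 0 := by
  have hq : ((Fintype.card F : ℂ) * ((Fintype.card F : ℂ) - 1) ^ 2)⁻¹ ≠ 0 :=
    inv_ne_zero (mul_ne_zero (Nat.cast_ne_zero.2 Fintype.card_ne_zero)
      (pow_ne_zero _ q_sub_one_ne_zero))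
  have h : ∀ (β : MulChar F ℂ) (a : Fˣ), ∑ d : Fˣ, β (d : F) * conj (US χ a d) = 0 := fun β a => by
    refine mulChar_sep (fun a => ∑ d : Fˣ, β (d : F) * conj (US χ a d)) (fun α => ?_) a
    have := hc α β
    rw [inner_R α β hχ] at this
    rw [← (mul_eq_zero.1 this).resolve_left hq]
    simp only [Finset.mul_sum, mul_assoc]
  have := mulChar_sep (fun d => conj (US χ a d)) (fun β => h β a) d
  simpa using this

theorem cusp_diag (hχ : Cfsg.IsClassFunction (GL (Fin 2) F) χ) (hc : Cuspidal χ) {a d : Fˣ}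
    (h : (a : F) ≠ d) (s : F) : χ (gm a d s) = 0 := by
  have := cusp_US hχ hc a d
  rw [US_ne hχ h] at this
  rw [← isClassFunction_iff.1 hχ _ _ (isConj_gm h s)]
  exact (mul_eq_zero.1 this).resolve_left (Nat.cast_ne_zero.2 Fintype.card_ne_zero)

theorem cusp_unipotent (hχ : Cfsg.IsClassFunction (GL (Fin 2) F) χ) (hc : Cuspidal χ) :
    χ (gm 1 1 1) = -(χ 1 / ((Fintype.card F : ℂ) - 1)) := by
  have := cusp_US hχ hc 1 1
  rw [US_eq hχ, gm_one] at this
  rw [← neg_div, eq_div_iff q_sub_one_ne_zero]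
  linear_combination this

theorem cusp_dvd (hχ : Cfsg.IsIrrCharacter (GL (Fin 2) F) χ) (hc : Cuspidal χ) {d : ℕ}
    (hd : χ 1 = d) : Fintype.card F - 1 ∣ d := by
  have hq : Fintype.card F - 1 ≠ 0 := by have := Fintype.one_lt_card (α := F); omega
  refine dvd_of_isIntegral_div hq ?_
  have h := IsCharacter.isIntegral (IsIrrCharacter.isCharacter hχ) (gm 1 1 1)
  rw [cusp_unipotent (IsCharacter.isClassFunction (IsIrrCharacter.isCharacter hχ)) hc, hd] at h
  rw [Nat.cast_sub Fintype.card_pos, Nat.cast_one]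
  simpa using h.neg

end cusp

open scoped Classical in
/-- The twists of the trivial character. -/
noncomputable def linSet [Fintype (MulChar F ℂ)] : Finset (Cfsg.IrrCharacter (GL (Fin 2) F)) :=
  Finset.univ.image fun α => ⟨linC α, linC_irr α⟩

open scoped Classical in
/-- The twists of the Steinberg character. -/
noncomputable def stSet [Fintype (MulChar F ℂ)] : Finset (Cfsg.IrrCharacter (GL (Fin 2) F)) :=
  Finset.univ.image fun α => ⟨St α, St_irr α⟩

open scoped Classical in
/-- The irreducible principal series. -/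
noncomputable def psSet [Fintype (MulChar F ℂ)] : Finset (Cfsg.IrrCharacter (GL (Fin 2) F)) :=
  Finset.univ.filter fun χ => ∃ α β : MulChar F ℂ, α ≠ β ∧ χ.1 = R α β

open scoped Classical in
/-- The cuspidal characters. -/
noncomputable def cuspSet : Finset (Cfsg.IrrCharacter (GL (Fin 2) F)) :=
  Finset.univ.filter fun χ => Cuspidal χ.1

theorem card_linSet [Fintype (MulChar F ℂ)] :
    (linSet (F := F)).card = Fintype.card F - 1 := by
  classical
  rw [linSet, Finset.card_image_of_injective, Finset.card_univ, ← Nat.card_eq_fintype_card,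
    card_mulChar]
  intro α β h
  refine MulChar.ext fun a => ?_
  have := congrFun (congrArg Subtype.val h) (gm a 1 0)
  simpa [linC_gm] using this

theorem card_stSet [Fintype (MulChar F ℂ)] :
    (stSet (F := F)).card = Fintype.card F - 1 := by
  classical
  rw [stSet, Finset.card_image_of_injective, Finset.card_univ, ← Nat.card_eq_fintype_card,
    card_mulChar]
  intro α β h
  have h' : St α = St β := congrArg Subtype.val h
  have e := inner_R_St α α β
  rw [← h', inner_R_St, if_pos ⟨rfl, rfl⟩] at e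
  by_contra hne
  rw [if_neg (fun hh => hne hh.1)] at e
  exact one_ne_zero e

theorem two_mul_card_psSet [Fintype (MulChar F ℂ)] :
    2 * (psSet (F := F)).card = (Fintype.card F - 1) * (Fintype.card F - 2) := by
  classical
  let f : MulChar F ℂ × MulChar F ℂ → GL (Fin 2) F → ℂ := fun p => R p.1 p.2
  have hc : ∀ inst : DecidableEq (GL (Fin 2) F → ℂ),
      (@Finset.image _ _ inst f (Finset.univ : Finset (MulChar F ℂ)).offDiag).card =
        (psSet (F := F)).card := by
    intro inst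
    rw [← Finset.card_image_of_injective (psSet (F := F)) Subtype.val_injective]
    congr 1
    ext φ
    simp only [Finset.mem_image, Finset.mem_offDiag, Finset.mem_univ, true_and, psSet,
      Finset.mem_filter, f]
    constructor
    · rintro ⟨⟨α, β⟩, h, rfl⟩
      exact ⟨⟨R α β, R_irr h⟩, ⟨α, β, h, rfl⟩, rfl⟩
    · rintro ⟨χ, ⟨α, β, h, e⟩, rfl⟩
      exact ⟨(α, β), h, e.symm⟩
  have h := card_eq_two_mul_image ((Finset.univ : Finset (MulChar F ℂ)).offDiag) Prod.swap f
    (fun p hp => by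
      simp only [Finset.mem_offDiag, Finset.mem_univ, true_and] at hp ⊢
      exact ⟨hp.symm, fun e => hp.symm (congrArg Prod.fst e)⟩)
    (fun p _ p' _ => by
      show R p.1 p.2 = R p'.1 p'.2 ↔ _
      rw [R_eq_iff]
      simp [Prod.ext_iff]
      tauto)
  rw [hc] at h
  rw [Finset.offDiag_card,
    Finset.card_univ, ← Nat.card_eq_fintype_card, card_mulChar] at h
  rw [show Fintype.card F - 2 = Fintype.card F - 1 - 1 by omega, ← h]
  generalize Fintype.card F - 1 = n
  rw [Nat.mul_sub, mul_one]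

theorem disjoint_lin_st [Fintype (MulChar F ℂ)] : Disjoint (linSet (F := F)) stSet := by
  classical
  rw [Finset.disjoint_left]
  intro χ h1 h2
  obtain ⟨α, -, rfl⟩ := Finset.mem_image.1 h1
  obtain ⟨β, -, e⟩ := Finset.mem_image.1 h2
  have h := congrFun (congrArg Subtype.val e) (1 : GL (Fin 2) F)
  simp [St_one, linC] at h
  exact (Fintype.one_lt_card (α := F)).ne' h

open scoped Classical in
theorem disjoint_linst_ps [Fintype (MulChar F ℂ)] :
    Disjoint (linSet (F := F) ∪ stSet) psSet := by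
  classical
  rw [Finset.disjoint_left]
  intro χ h1 h2
  obtain ⟨α, β, -, e⟩ := (Finset.mem_filter.1 h2).2
  have h := congrFun e (1 : GL (Fin 2) F)
  rw [R_one] at h
  rcases Finset.mem_union.1 h1 with h1 | h1
  · obtain ⟨γ, -, rfl⟩ := Finset.mem_image.1 h1
    simp [linC] at h
  · obtain ⟨γ, -, rfl⟩ := Finset.mem_image.1 h1
    simp [St_one] at h

open scoped Classical in
theorem compl_cuspSet [Fintype (MulChar F ℂ)] :
    cuspSet (F := F) = (linSet ∪ stSet ∪ psSet)ᶜ := by
  classical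
  ext χ
  simp only [cuspSet, Finset.mem_filter, Finset.mem_univ, true_and, Finset.mem_compl,
    Finset.mem_union]
  refine ⟨fun hc h => ?_, fun h => by_contra fun hc => ?_⟩
  · rcases h with (h | h) | h
    · obtain ⟨γ, -, rfl⟩ := Finset.mem_image.1 h
      have := (inner_R_linC γ γ γ).symm.trans (hc γ γ)
      simp at this
    · obtain ⟨γ, -, rfl⟩ := Finset.mem_image.1 h
      have := (inner_R_St γ γ γ).symm.trans (hc γ γ)
      simp at this
    · obtain ⟨α, β, hne, e⟩ := (Finset.mem_filter.1 h).2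
      have := hc α β
      rw [e, classInner_self_irr (R_irr hne)] at this
      exact one_ne_zero this
  · rcases constituent χ.2 hc with ⟨α, e⟩ | ⟨α, e⟩ | ⟨α, β, hne, e⟩
    · exact h (Or.inl (Or.inl (Finset.mem_image.2 ⟨α, Finset.mem_univ _, Subtype.ext e.symm⟩)))
    · exact h (Or.inl (Or.inr (Finset.mem_image.2 ⟨α, Finset.mem_univ _, Subtype.ext e.symm⟩)))
    · exact h (Or.inr (Finset.mem_filter.2 ⟨Finset.mem_univ _, α, β, hne, e⟩))

theorem cusp_count :
    2 * (cuspSet (F := F)).card = Fintype.card F * (Fintype.card F - 1) ∧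
      ∀ χ ∈ cuspSet (F := F), χ.1 1 = (Fintype.card F : ℂ) - 1 := by
  classical
  haveI : Fintype (MulChar F ℂ) := Fintype.ofFinite _
  set L := linSet (F := F) with hL
  set S := stSet (F := F) with hS
  set P := psSet (F := F) with hP
  set K := cuspSet (F := F) with hK
  have hq := Fintype.one_lt_card (α := F)
  set n := Fintype.card F - 1 with hn
  have hcardU : (L ∪ S ∪ P).card = L.card + S.card + P.card := by
    rw [Finset.card_union_of_disjoint disjoint_linst_ps,
      Finset.card_union_of_disjoint disjoint_lin_st]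
  have htot : K.card + (L ∪ S ∪ P).card = Fintype.card F ^ 2 - 1 := by
    rw [hK, compl_cuspSet, ← hL, ← hS, ← hP, Finset.card_compl_add_card, ← Nat.card_eq_fintype_card,
      card_irrCharacter, GL2Count.card_conjClasses_gl]
  have hn2 := two_mul_card_psSet (F := F)
  rw [← hP] at hn2
  rw [hcardU, card_linSet, card_stSet] at htot
  have hq' : Fintype.card F = n + 1 := by omega
  rw [← hn, show Fintype.card F - 2 = n - 1 by omega] at hn2
  rw [← hn, hq', show (n + 1) ^ 2 - 1 = n * n + 2 * n by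
    rw [show (n + 1) ^ 2 = n * n + 2 * n + 1 by ring, Nat.add_sub_cancel]] at htot
  have hcardK : 2 * K.card = Fintype.card F * n := by
    have e : n * (n - 1) + n = n * n := by
      rw [← Nat.mul_succ, show (n - 1).succ = n by omega]
    rw [hq', add_mul, one_mul]
    omega
  refine ⟨hcardK, ?_⟩
  have hdeg := fun χ : Cfsg.IrrCharacter (GL (Fin 2) F) => IsIrrCharacter.exists_degree χ.2
  choose d hd0 hd using hdeg
  have hge : ∀ χ ∈ K, n ^ 2 ≤ d χ ^ 2 := fun χ hχ =>
    Nat.pow_le_pow_left (Nat.le_of_dvd (hd0 χ)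
      (cusp_dvd χ.2 (Finset.mem_filter.1 hχ).2 (hd χ))) 2
  have hsum := sum_sq_degree (G := GL (Fin 2) F)
  rw [← Finset.sum_compl_add_sum (L ∪ S ∪ P), ← compl_cuspSet, ← hK,
    Finset.sum_union disjoint_linst_ps, Finset.sum_union disjoint_lin_st,
    Finset.sum_congr rfl (g := fun _ => (1 : ℂ)) (s₁ := L) (fun χ hχ => by
      obtain ⟨α, -, rfl⟩ := Finset.mem_image.1 hχ; simp [linC]),
    Finset.sum_congr rfl (g := fun _ => (Fintype.card F : ℂ) ^ 2) (s₁ := S) (fun χ hχ => by
      obtain ⟨α, -, rfl⟩ := Finset.mem_image.1 hχ; simp [St_one]),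
    Finset.sum_congr rfl (g := fun _ => ((Fintype.card F : ℂ) + 1) ^ 2) (s₁ := P) (fun χ hχ => by
      obtain ⟨α, β, -, e⟩ := (Finset.mem_filter.1 hχ).2; rw [e, R_one]),
    Finset.sum_congr rfl (g := fun χ => ((d χ ^ 2 : ℕ) : ℂ)) (s₁ := K) (fun χ _ => by
      rw [hd χ, Nat.cast_pow]),
    Finset.sum_const, Finset.sum_const, Finset.sum_const, card_linSet, card_stSet,
    ClassicalGL2.card_gl2, Nat.card_eq_fintype_card, ← hn, hq'] at hsum
  push_cast [nsmul_eq_mul] at hsum
  have hn2' : 2 * (P.card : ℂ) + n = n * n := by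
    have e : n * (n - 1) + n = n * n := by rw [← Nat.mul_succ, show (n - 1).succ = n by omega]
    have : 2 * P.card + n = n * n := by omega
    exact_mod_cast this
  have hK' : 2 * (K.card : ℂ) = ((n : ℂ) + 1) * n := by
    have := hcardK
    rw [hq'] at this
    exact_mod_cast this
  have key : ∑ χ ∈ K, d χ ^ 2 = ∑ χ ∈ K, n ^ 2 := by
    rw [Finset.sum_const, smul_eq_mul]
    apply Nat.cast_injective (R := ℂ)
    push_cast
    linear_combination hsum - (((n : ℂ) + 2) ^ 2 / 2) * hn2' - ((n : ℂ) ^ 2 / 2) * hK'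
  intro χ hχ
  have h2 := (Finset.sum_eq_sum_iff_of_le hge).1 key.symm χ hχ
  rw [hd χ, ← Nat.pow_left_injective two_ne_zero h2, hn, Nat.cast_sub Fintype.card_pos,
    Nat.cast_one]

/-- The four kinds of irreducible characters of `GL_2`. -/
theorem classify {χ : GL (Fin 2) F → ℂ} (hχ : Cfsg.IsIrrCharacter (GL (Fin 2) F) χ) :
    (χ 1 = 1 ∧ ∃ α, χ = linC α) ∨
    (χ 1 = (Fintype.card F : ℂ) ∧ ∃ α, χ = St α) ∨
    (χ 1 = (Fintype.card F : ℂ) + 1 ∧ ∃ α β : MulChar F ℂ, α ≠ β ∧ χ = R α β) ∨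
    (χ 1 = (Fintype.card F : ℂ) - 1 ∧ Cuspidal χ) := by
  classical
  by_cases hc : Cuspidal χ
  · exact Or.inr (Or.inr (Or.inr ⟨(cusp_count (F := F)).2 ⟨χ, hχ⟩
      (Finset.mem_filter.2 ⟨Finset.mem_univ _, hc⟩), hc⟩))
  · rcases constituent hχ hc with ⟨α, rfl⟩ | ⟨α, rfl⟩ | ⟨α, β, hne, rfl⟩
    · exact Or.inl ⟨by simp [linC], α, rfl⟩
    · exact Or.inr (Or.inl ⟨St_one α, α, rfl⟩)
    · exact Or.inr (Or.inr (Or.inl ⟨R_one α β, α, β, hne, rfl⟩))

end Cfsg.Agent.GL2Chars
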