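/-
Coordinate subspaces of F^n, their stabilisers in GL_n, and block triangular matrices.
-/
import Cfsg.Agent.Lib.Transvec.Subspaces
import Cfsg.Prelude.Def_ClassicalGeometry

set_option autoImplicit false

namespace Cfsg.Agent.GLSubspace

open Matrix Cfsg.Agent.Transvec

variable {F : Type*} [Field F]

/-- The span of the first k coordinate vectors. -/
def coordSub (F : Type*) [Field F] (n k : ℕ) : Submodule F (Fin n → F) where
  carrier := {v | ∀ i : Fin n, k ≤ (i : ℕ) → v i = 0}
  zero_mem' := fun _ _ => rfl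
  add_mem' := fun {a b} ha hb i hi => by simp [ha i hi, hb i hi]
  smul_mem' := fun c {a} ha i hi => by simp [ha i hi]

theorem mem_coordSub {n k : ℕ} {v : Fin n → F} :
    v ∈ coordSub F n k ↔ ∀ i : Fin n, k ≤ (i : ℕ) → v i = 0 := Iff.rfl

theorem finrank_coordSub {n k : ℕ} (hk : k ≤ n) : Module.finrank F (coordSub F n k) = k := by
  have e : coordSub F n k ≃ₗ[F] (Fin k → F) :=
    { toFun := fun v i => v.1 ⟨i, by omega⟩
      map_add' := fun _ _ => rfl
      map_smul' := fun _ _ => rfl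
      invFun := fun u => ⟨fun i => if h : (i : ℕ) < k then u ⟨i, h⟩ else 0, fun i hi => dif_neg (by omega)⟩
      left_inv := fun v => Subtype.ext (funext fun i => by
        by_cases h : (i : ℕ) < k
        · simp [h]
        · simp [h, v.2 i (by omega)])
      right_inv := fun u => funext fun i => by simp }
  rw [e.finrank_eq, Module.finrank_fin_fun]

variable {ι : Type} [Fintype ι] [DecidableEq ι]

theorem mem_stabilizing_of_le {W : Submodule F (ι → F)} {g : GL ι F} (h : ∀ w ∈ W, mv g w ∈ W) :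
    g ∈ Cfsg.stabilizing (Cfsg.glToMat ι F) (W : Set (ι → F)) := by
  intro v
  refine ⟨h v, fun hv => ?_⟩
  have hmap : W.map (mvLin g) = W := by
    refine Submodule.eq_of_le_of_finrank_eq ?_ ?_
    · rintro _ ⟨w, hw, rfl⟩; exact h w hw
    · exact ((Submodule.equivMapOfInjective _ (fun x y e => mv_inj g e) W).finrank_eq).symm
  rw [← hmap] at hv
  obtain ⟨w, hw, e⟩ := hv
  rw [← mv_inj g (show mv g w = mv g v from e)]
  exact hw

theorem stabilizing_eq (W : Submodule F (ι → F)) :
    Cfsg.stabilizing (Cfsg.glToMat ι F) (W : Set (ι → F)) = Geo.subspaceStabilizer W := by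
  refine le_antisymm (fun g hg => mem_subspaceStabilizer_of_le fun w hw => (hg w).1 hw)
    fun g hg => mem_stabilizing_of_le fun w hw => mv_mem_of_mem_stab hg hw

/-- A transvection with centre in W, or fixing W pointwise, stabilises W. -/
theorem tv_mem_stab {W : Submodule F (ι → F)} {z : ι → F} {φ : Module.Dual F (ι → F)} (h : φ z = 0)
    (hor : z ∈ W ∨ ∀ w ∈ W, φ w = 0) :
    tv z φ h ∈ Cfsg.stabilizing (Cfsg.glToMat ι F) (W : Set (ι → F)) :=
  mem_stabilizing_of_le fun w hw => by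
    rw [mv_tv]
    rcases hor with hz | hφ
    · exact W.add_mem hw (W.smul_mem _ hz)
    · rw [hφ w hw, zero_smul, add_zero]; exact hw

/-- A proper non-zero subspace is determined by its stabiliser. -/
theorem stab_injective {W U : Submodule F (ι → F)} (hU0 : U ≠ ⊥) (hU1 : U ≠ ⊤)
    (h : Cfsg.stabilizing (Cfsg.glToMat ι F) (W : Set (ι → F)) ≤
      Cfsg.stabilizing (Cfsg.glToMat ι F) (U : Set (ι → F))) (hW0 : W ≠ ⊥) : U = W := by
  have move : ∀ (z : ι → F) (φ : Module.Dual F (ι → F)) (hz : φ z = 0),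
      (z ∈ W ∨ ∀ w ∈ W, φ w = 0) → ∀ u ∈ U, φ u = 1 → z ∈ U := by
    intro z φ hz hor u hu hφu
    have h1 := (h (tv_mem_stab hz hor) u).1 hu
    change mv (tv z φ hz) u ∈ U at h1
    rw [mv_tv, hφu, one_smul] at h1
    simpa using U.sub_mem h1 hu
  have hUW : U ≤ W := by
    intro u hu
    by_contra huW
    have hWU : W ≤ U := by
      intro w hw
      have hsp : u ∉ Submodule.span F {w} := fun hm => huW ((Submodule.span_singleton_le_iff_mem w W).2 hw hm)
      obtain ⟨φ, h1, h2⟩ := exists_dual hsp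
      exact move w φ (h1 w (Submodule.mem_span_singleton_self w)) (Or.inl hw) u hu h2
    obtain ⟨z, hz⟩ : ∃ z, z ∉ U := by
      by_contra! hall
      exact hU1 (Submodule.eq_top_iff'.2 hall)
    have hind : u ∉ W ⊔ Submodule.span F {z} := by
      intro hm
      obtain ⟨w, hw, x, hx, hsum⟩ := Submodule.mem_sup.1 hm
      obtain ⟨a, rfl⟩ := Submodule.mem_span_singleton.1 hx
      rcases eq_or_ne a 0 with rfl | ha
      · exact huW (by simpa [← hsum] using hw)
      · apply hz
        have h2 := U.smul_mem a⁻¹ (U.sub_mem hu (hWU hw))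
        rwa [← hsum, add_sub_cancel_left, smul_smul, inv_mul_cancel₀ ha, one_smul] at h2
    obtain ⟨φ, hφW, hφz, hφu⟩ := exists_dual₂ hind
    exact hz (move z φ hφz (Or.inr hφW) u hu hφu)
  refine le_antisymm hUW fun w hw => ?_
  by_contra hwU
  obtain ⟨u, hu, hu0⟩ := U.ne_bot_iff.1 hU0
  have hsp : u ∉ Submodule.span F {w} := fun hm => by
    obtain ⟨a, rfl⟩ := Submodule.mem_span_singleton.1 hm
    have ha : a ≠ 0 := fun ha => hu0 (by rw [ha, zero_smul])
    exact hwU (by simpa [smul_smul, inv_mul_cancel₀ ha] using U.smul_mem a⁻¹ hu)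
  obtain ⟨φ, h1, h2⟩ := exists_dual hsp
  exact hwU (move w φ (h1 w (Submodule.mem_span_singleton_self w)) (Or.inl hw) u hu h2)

theorem isCoatom_stabilizing {W : Submodule F (ι → F)} (hW0 : W ≠ ⊥) (hW1 : W ≠ ⊤) :
    IsCoatom (Cfsg.stabilizing (Cfsg.glToMat ι F) (W : Set (ι → F))) := by
  obtain ⟨hlt, hmax⟩ := stab_maximal (F := F) hW0 hW1
  rw [stabilizing_eq]
  set P := Geo.subspaceStabilizer W with hP
  have hsurj : ∀ a : Fˣ, ∃ s ∈ P, GeneralLinearGroup.det s = a := by
    intro a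
    obtain ⟨w, hw, hw0⟩ := W.ne_bot_iff.1 hW0
    obtain ⟨φ, -, h2⟩ := exists_dual (W := (⊥ : Submodule F (ι → F))) (u := w) (by simpa using hw0)
    have hdet : (tvMat w (((a : F) - 1) • φ)).det = a := by
      rw [det_tvMat, LinearMap.smul_apply, h2, smul_eq_mul, mul_one, add_sub_cancel]
    refine ⟨GeneralLinearGroup.mkOfDetNeZero (tvMat w (((a : F) - 1) • φ)) (hdet.trans_ne a.ne_zero), ?_,
      Units.ext hdet⟩
    refine mem_subspaceStabilizer_of_le fun x hx => ?_
    show tvMat w _ *ᵥ x ∈ W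
    rw [tvMat_mulVec]
    exact W.add_mem hx (W.smul_mem _ hw)
  refine ⟨fun htop => hlt.ne (by rw [htop, top_inf_eq]), fun M hM => ?_⟩
  rcases hmax (M ⊓ Geo.specialLinear ι F) (inf_le_inf_right _ hM.le) inf_le_right with h | h
  · refine absurd ?_ hM.not_ge
    intro g hg
    obtain ⟨s, hs, hsd⟩ := hsurj (GeneralLinearGroup.det g)
    have h1 : s⁻¹ * g ∈ M ⊓ Geo.specialLinear ι F :=
      ⟨M.mul_mem (M.inv_mem (hM.le hs)) hg, MonoidHom.mem_ker.2 (by rw [map_mul, map_inv, hsd, inv_mul_cancel])⟩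
    rw [h] at h1
    simpa using P.mul_mem hs h1.1
  · refine (Subgroup.eq_top_iff' M).2 fun g => ?_
    obtain ⟨s, hs, hsd⟩ := hsurj (GeneralLinearGroup.det g)
    have h1 : s⁻¹ * g ∈ M ⊓ Geo.specialLinear ι F := by
      rw [h]; exact MonoidHom.mem_ker.2 (by rw [map_mul, map_inv, hsd, inv_mul_cancel])
    simpa using M.mul_mem (hM.le hs) h1.1

theorem mem_stab_coord {n k : ℕ} {g : GL (Fin n) F} :
    g ∈ Cfsg.stabilizing (Cfsg.glToMat (Fin n) F) (coordSub F n k : Set (Fin n → F)) ↔
      ∀ i j : Fin n, k ≤ (i : ℕ) → (j : ℕ) < k → (g : Matrix (Fin n) (Fin n) F) i j = 0 := by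
  constructor
  · intro h i j hi hj
    have h1 := (h (Pi.single j 1)).1 (fun l hl => by
      rw [Pi.single_apply, if_neg (fun e => by subst e; omega)]) i hi
    simpa using h1
  · intro h
    refine mem_stabilizing_of_le fun w hw i hi => ?_
    show ∑ j, (g : Matrix (Fin n) (Fin n) F) i j * w j = 0
    refine Finset.sum_eq_zero fun j _ => ?_
    rcases Nat.lt_or_ge (j : ℕ) k with hj | hj
    · rw [h i j hi hj, zero_mul]
    · rw [hw j hj, mul_zero]

/-- The automorphism g ↦ reversed transpose of g⁻¹. -/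
def dualRev (n : ℕ) : GL (Fin n) F →* GL (Fin n) F where
  toFun g :=
    { val := (g⁻¹ : GL (Fin n) F).1ᵀ.submatrix Fin.revPerm Fin.revPerm
      inv := g.1ᵀ.submatrix Fin.revPerm Fin.revPerm
      val_inv := by
        rw [Matrix.submatrix_mul_equiv, ← Matrix.transpose_mul, Units.mul_inv, Matrix.transpose_one,
          Matrix.submatrix_one_equiv]
      inv_val := by
        rw [Matrix.submatrix_mul_equiv, ← Matrix.transpose_mul, Units.inv_mul, Matrix.transpose_one,
          Matrix.submatrix_one_equiv] }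
  map_one' := Units.ext (by simp)
  map_mul' a b := Units.ext (by
    simp only [Units.val_mul, _root_.mul_inv_rev, Matrix.transpose_mul]
    rw [Matrix.submatrix_mul_equiv])

theorem dualRev_dualRev {n : ℕ} (g : GL (Fin n) F) : dualRev n (dualRev n g) = g := by
  refine Units.ext ?_
  ext i j
  show (g : Matrix (Fin n) (Fin n) F) (Fin.revPerm (Fin.revPerm i)) (Fin.revPerm (Fin.revPerm j)) = _
  simp

theorem dualRev_mem {n k : ℕ} (hk : k ≤ n) {g : GL (Fin n) F}
    (hg : g ∈ Cfsg.stabilizing (Cfsg.glToMat (Fin n) F) (coordSub F n k : Set (Fin n → F))) :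
    dualRev n g ∈ Cfsg.stabilizing (Cfsg.glToMat (Fin n) F) (coordSub F n (n - k) : Set (Fin n → F)) := by
  refine mem_stab_coord.2 fun i j hi hj => ?_
  show (g⁻¹ : GL (Fin n) F).1 (Fin.rev j) (Fin.rev i) = 0
  refine mem_stab_coord.1 (Subgroup.inv_mem _ hg) _ _ ?_ ?_ <;> rw [Fin.val_rev] <;> omega

end Cfsg.Agent.GLSubspace
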