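import Cfsg.Agent.Lib.Unipotent.GLCosets
import Mathlib.GroupTheory.Sylow
import Mathlib.GroupTheory.Nilpotent
import Mathlib.Algebra.CharP.Lemmas

/-!
Sylow 2-subgroups of `GL_n(F)` for `|F| = 2`: self-normalizing, and those opposite to a given one are
conjugate under it.  Intersections in extensions by index two.
-/

set_option autoImplicit false

namespace Cfsg.Agent.GLTwoSylow

open Matrix
open Cfsg.Agent.Unipotent (permGL permGL_apply exists_perm_upper)
open scoped Pointwise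

variable {n : ℕ} {F : Type*} [Field F]

theorem one_of_ne_zero [Fintype F] (hF : Fintype.card F = 2) {x : F} (hx : x ≠ 0) : x = 1 := by
  have h := FiniteField.pow_card_sub_one_eq_one x hx
  rwa [hF, show 2 - 1 = 1 from rfl, pow_one] at h

/-- An elementary unitriangular matrix. -/
def elem (F : Type*) [Field F] {i j : Fin n} (h : i < j) : GL (Fin n) F :=
  Matrix.GeneralLinearGroup.mkOfDetNeZero (1 + Matrix.single i j 1)
    (by rw [← Matrix.transvection, Matrix.det_transvection_of_ne _ _ h.ne]; exact one_ne_zero)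

theorem elem_val {i j : Fin n} (h : i < j) :
    (elem F h : Matrix (Fin n) (Fin n) F) = 1 + Matrix.single i j 1 := rfl

theorem elem_mem {i j : Fin n} (h : i < j) : elem F h ∈ Cfsg.upperTriangularGL n F := by
  intro a b hab
  have hab' : b < a := hab
  rw [elem_val, Matrix.add_apply, Matrix.one_apply_ne hab'.ne', Matrix.single_apply, if_neg, add_zero]
  rintro ⟨rfl, rfl⟩
  exact lt_asymm h hab'

theorem elem_ne_one {i j : Fin n} (h : i < j) : elem F h ≠ 1 := by
  intro e
  have := congrFun (congrFun (congrArg (fun g : GL (Fin n) F => (g : Matrix (Fin n) (Fin n) F)) e) i) j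
  simp [elem_val, h.ne] at this

theorem perm_conj_elem (σ : Equiv.Perm (Fin n)) {i j : Fin n} (h : i < j) {a b : Fin n} (ha : σ i = a) (hb : σ j = b) :
    ((permGL n F σ * elem F h * (permGL n F σ)⁻¹ : GL (Fin n) F) : Matrix (Fin n) (Fin n) F) =
      1 + Matrix.single a b 1 := by
  have key : (permGL n F σ : Matrix (Fin n) (Fin n) F) * (elem F h : Matrix (Fin n) (Fin n) F) =
      (1 + Matrix.single a b 1) * (permGL n F σ : Matrix (Fin n) (Fin n) F) := by
    subst ha hb
    rw [elem_val, Matrix.mul_add, Matrix.mul_one, Matrix.add_mul, Matrix.one_mul]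
    congr 1
    ext x y
    rw [Matrix.mul_apply, Matrix.mul_apply, Finset.sum_eq_single i, Finset.sum_eq_single (σ j)]
    · simp [permGL_apply, Matrix.single_apply, eq_comm (a := σ i)]
    · intro k _ hk
      simp [Matrix.single_apply, Ne.symm hk]
    · simp
    · intro k _ hk
      simp [Matrix.single_apply, Ne.symm hk]
    · simp
  rw [Units.val_mul, Units.val_mul, key, Matrix.mul_assoc, Units.mul_inv, Matrix.mul_one]

section

variable [Fintype F] (hF : Fintype.card F = 2)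
include hF

theorem isPGroup_upper : IsPGroup 2 (Cfsg.upperTriangularGL n F) := by
  haveI : Fact (Nat.Prime 2) := ⟨Nat.prime_two⟩
  haveI : CharP F 2 := by
    obtain ⟨p, hp⟩ := CharP.exists F
    obtain ⟨k, hpp, hk⟩ := FiniteField.card F p
    rw [hF] at hk
    obtain rfl : p = 2 := ((Nat.prime_dvd_prime_iff_eq hpp Nat.prime_two).1
      (hk ▸ dvd_pow_self p k.ne_zero))
    exact hp
  intro g
  rcases Nat.eq_zero_or_pos n with rfl | hn
  · exact ⟨0, Subtype.ext (Units.ext (Subsingleton.elim _ _))⟩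
  haveI : Nonempty (Fin n) := ⟨⟨0, hn⟩⟩
  set A := (g.1 : Matrix (Fin n) (Fin n) F)
  have hA : A.BlockTriangular id := g.2
  have hdiag : ∀ i, A i i = 1 := by
    intro i
    refine one_of_ne_zero hF fun h0 => ?_
    have hdet := (Matrix.isUnit_iff_isUnit_det A).1 ⟨g.1, rfl⟩
    rw [Matrix.det_of_upperTriangular hA,
      (Finset.prod_eq_zero (Finset.mem_univ i) h0 : ∏ j, A j j = 0)] at hdet
    exact not_isUnit_zero hdet
  have hN : (A - 1) ^ n = 0 := by
    have hchar : (A - 1).charpoly = Polynomial.X ^ n := by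
      rw [Matrix.charpoly_of_upperTriangular (A - 1) (fun a b hab => by
        simp [hA hab, Matrix.one_apply_ne (ne_of_gt (show b < a from hab))])]
      simp [hdiag]
    have := Matrix.aeval_self_charpoly (A - 1)
    rwa [hchar, map_pow, Polynomial.aeval_X] at this
  refine ⟨n, Subtype.ext (Units.ext ?_)⟩
  show ((g ^ 2 ^ n).1 : Matrix (Fin n) (Fin n) F) = 1
  rw [SubmonoidClass.coe_pow, Units.val_pow_eq_pow_val, ← sub_eq_zero,
    ← one_pow (M := Matrix (Fin n) (Fin n) F) (2 ^ n), ← sub_pow_char_pow_of_commute 2 n (Commute.one_right A)]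
  exact pow_eq_zero_of_le (Nat.lt_two_pow_self).le hN

theorem perm_eq_one_of_le {σ : Equiv.Perm (Fin n)}
    (h : (Cfsg.upperTriangularGL n F).map (MulAut.conj (permGL n F σ)).toMonoidHom ≤ Cfsg.upperTriangularGL n F) :
    σ = 1 := by
  have hmono : StrictMono σ := by
    intro i j hij
    by_contra hlt
    have hlt' : σ j < σ i := lt_of_le_of_ne (not_lt.1 hlt) fun e => hij.ne (σ.injective e).symm
    have hm : permGL n F σ * elem F hij * (permGL n F σ)⁻¹ ∈ Cfsg.upperTriangularGL n F :=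
      h ⟨_, elem_mem hij, rfl⟩
    have := hm (show id (σ j) < id (σ i) from hlt')
    rw [perm_conj_elem σ hij rfl rfl] at this
    simp [hlt'.ne'] at this
  refine Equiv.ext fun i => ?_
  have := congrFun (Subsingleton.elim (hmono.orderIsoOfSurjective σ σ.surjective : Fin n ≃o Fin n) (OrderIso.refl _) ▸ rfl :
    ⇑(hmono.orderIsoOfSurjective σ σ.surjective) = ⇑(OrderIso.refl (Fin n))) i
  simpa using this

theorem perm_eq_rev_of_inf {σ : Equiv.Perm (Fin n)}
    (h : Cfsg.upperTriangularGL n F ⊓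
      (Cfsg.upperTriangularGL n F).map (MulAut.conj (permGL n F σ)).toMonoidHom = ⊥) :
    σ = Fin.revPerm := by
  have hanti : StrictAnti σ := by
    intro i j hij
    by_contra hlt
    have hlt' : σ i < σ j := lt_of_le_of_ne (not_lt.1 hlt) fun e => hij.ne (σ.injective e)
    have hm : elem F hlt' ∈ Cfsg.upperTriangularGL n F ⊓
        (Cfsg.upperTriangularGL n F).map (MulAut.conj (permGL n F σ)).toMonoidHom := by
      refine ⟨elem_mem hlt', elem F hij, elem_mem hij, Units.ext ?_⟩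
      rw [MulEquiv.coe_toMonoidHom, MulAut.conj_apply, perm_conj_elem σ hij rfl rfl, elem_val]
    rw [h, Subgroup.mem_bot] at hm
    exact elem_ne_one hlt' hm
  have hmono : StrictMono (fun i => σ (Fin.rev i)) := fun i j hij => hanti (Fin.rev_lt_rev.2 hij)
  have hsurj : Function.Surjective (fun i => σ (Fin.rev i)) := σ.surjective.comp Fin.rev_surjective
  refine Equiv.ext fun i => ?_
  have := congrFun (Subsingleton.elim (hmono.orderIsoOfSurjective _ hsurj : Fin n ≃o Fin n) (OrderIso.refl _) ▸ rfl :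
    ⇑(hmono.orderIsoOfSurjective _ hsurj) = ⇑(OrderIso.refl (Fin n))) (Fin.rev i)
  simpa using this

section

variable {M : Type*} [Group M] (φ : M ≃* GL (Fin n) F)
include φ

/-- The standard Sylow subgroup. -/
theorem exists_standard [Finite M] : ∃ P : Sylow 2 M, (P : Subgroup M) = (Cfsg.upperTriangularGL n F).comap φ.toMonoidHom ∧
    Subgroup.normalizer ((P : Subgroup M) : Set M) = P := by
  haveI : Fact (Nat.Prime 2) := ⟨Nat.prime_two⟩
  set B := Cfsg.upperTriangularGL n F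
  set B' := B.comap φ.toMonoidHom
  have hnorm : ∀ g : M, (∀ b ∈ B', g * b * g⁻¹ ∈ B') → g ∈ B' := by
    intro g hg
    obtain ⟨u, hu, v, hv, σ, hσ⟩ := exists_perm_upper (φ g)
    have hσ1 : σ = 1 := by
      refine perm_eq_one_of_le hF ?_
      rintro _ ⟨b, hb, rfl⟩
      show permGL n F σ * b * (permGL n F σ)⁻¹ ∈ B
      have hb' := hg (φ.symm (v * b * v⁻¹)) (by simpa [B'] using mul_mem (mul_mem hv hb) (inv_mem hv))
      simp only [B', Subgroup.mem_comap, MulEquiv.coe_toMonoidHom, map_mul, map_inv, MulEquiv.apply_symm_apply] at hb'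
      rw [← hσ, show u * φ g * v * b * (u * φ g * v)⁻¹ = u * (φ g * (v * b * v⁻¹) * (φ g)⁻¹) * u⁻¹ by group]
      exact mul_mem (mul_mem hu hb') (inv_mem hu)
    rw [hσ1, map_one] at hσ
    show φ g ∈ B
    rw [show φ g = u⁻¹ * (u * φ g * v) * v⁻¹ by group, hσ, mul_one]
    exact mul_mem (inv_mem hu) (inv_mem hv)
  have hp : IsPGroup 2 B' := (isPGroup_upper hF).comap_of_injective _ φ.injective
  obtain ⟨P, hP⟩ := hp.exists_le_sylow
  have heq : B' = P := by
    by_contra hne
    have hlt : B'.subgroupOf P < ⊤ := lt_top_iff_ne_top.2 fun e => hne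
      (le_antisymm hP (Subgroup.subgroupOf_eq_top.1 e))
    haveI : Group.IsNilpotent (P : Subgroup M) := P.2.isNilpotent
    obtain ⟨x, hx, hxB⟩ := SetLike.exists_of_lt (Group.normalizerCondition_of_isNilpotent _ hlt)
    refine hxB (hnorm x.1 fun b hb => ?_)
    exact (Subgroup.mem_normalizer_iff.1 hx ⟨b, hP hb⟩).1 hb
  refine ⟨P, heq.symm, le_antisymm (fun g hg => ?_) Subgroup.le_normalizer⟩
  rw [← heq] at hg ⊢
  exact hnorm g fun b hb => (Subgroup.mem_normalizer_iff.1 hg b).1 hb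

theorem normalizer_sylow [Finite M] (S : Sylow 2 M) :
    Subgroup.normalizer ((S : Subgroup M) : Set M) = S := by
  haveI : Fact (Nat.Prime 2) := ⟨Nat.prime_two⟩
  obtain ⟨P, -, hPn⟩ := exists_standard hF φ
  refine (Subgroup.eq_of_le_of_card_ge Subgroup.le_normalizer ?_).symm
  have h1 : Nat.card (Sylow 2 M) = (Subgroup.normalizer ((P : Subgroup M) : Set M)).index :=
    P.card_eq_index_normalizer
  have h2 : Nat.card (Sylow 2 M) = (Subgroup.normalizer ((S : Subgroup M) : Set M)).index :=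
    S.card_eq_index_normalizer
  have h3 : Nat.card (Subgroup.normalizer ((S : Subgroup M) : Set M)) =
      Nat.card (Subgroup.normalizer ((P : Subgroup M) : Set M)) := by
    have e1 := (Subgroup.normalizer ((S : Subgroup M) : Set M)).card_mul_index
    rw [← h2, h1] at e1
    exact Nat.eq_of_mul_eq_mul_right (Nat.pos_of_ne_zero Subgroup.index_ne_zero_of_finite)
      (e1.trans (Subgroup.card_mul_index _).symm)
  rw [h3, hPn, Nat.card_congr (Sylow.equiv P S).toEquiv]

/-- The Sylow subgroups opposite to a given one form one orbit under it. -/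
theorem opposite_conj [Finite M] {S S₁ S₂ : Sylow 2 M} (h1 : (S : Subgroup M) ⊓ S₁ = ⊥)
    (h2 : (S : Subgroup M) ⊓ S₂ = ⊥) :
    ∃ u ∈ (S : Subgroup M), (S₁ : Subgroup M).map (MulAut.conj u).toMonoidHom = S₂ := by
  haveI : Fact (Nat.Prime 2) := ⟨Nat.prime_two⟩
  obtain ⟨P, hP, -⟩ := exists_standard hF φ
  obtain ⟨a, ha⟩ := MulAction.exists_smul_eq M P S
  set w := φ.symm (permGL n F Fin.revPerm)
  have key : ∀ T : Sylow 2 M, (S : Subgroup M) ⊓ T = ⊥ →
      ∃ u ∈ (S : Subgroup M), (T : Subgroup M) = (P : Subgroup M).map (MulAut.conj (u * a * w)).toMonoidHom := by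
    intro T hT
    obtain ⟨g, hg⟩ := MulAction.exists_smul_eq M P T
    obtain ⟨u, hu, v, hv, σ, hσ⟩ := exists_perm_upper (φ (a⁻¹ * g))
    have hu' : φ.symm u ∈ (P : Subgroup M) := by rw [hP]; simpa using hu
    have hv' : φ.symm v ∈ (P : Subgroup M) := by rw [hP]; simpa using hv
    have hσ' : φ.symm (permGL n F σ) = φ.symm u * (a⁻¹ * g) * φ.symm v := by
      rw [← hσ, map_mul, map_mul, MulEquiv.symm_apply_apply]
    have hS : ∀ x, x ∈ (S : Subgroup M) ↔ a⁻¹ * x * a ∈ (P : Subgroup M) := fun x => by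
      rw [← ha, Sylow.coe_subgroup_smul, Subgroup.mem_pointwise_smul_iff_inv_smul_mem]
      simp [MulAut.smul_def]
    have hT' : ∀ x, x ∈ (T : Subgroup M) ↔ g⁻¹ * x * g ∈ (P : Subgroup M) := fun x => by
      rw [← hg, Sylow.coe_subgroup_smul, Subgroup.mem_pointwise_smul_iff_inv_smul_mem]
      simp [MulAut.smul_def]
    have hrev : σ = Fin.revPerm := by
      refine perm_eq_rev_of_inf hF (eq_bot_iff.2 ?_)
      rintro x ⟨hx, b, hb, rfl⟩
      rw [Subgroup.mem_bot]
      set y := a * ((φ.symm u)⁻¹ * (φ.symm (permGL n F σ) * φ.symm b * (φ.symm (permGL n F σ))⁻¹) * φ.symm u) * a⁻¹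
        with hy
      have hb' : φ.symm b ∈ (P : Subgroup M) := by rw [hP]; simpa using hb
      have hyS : y ∈ (S : Subgroup M) := by
        rw [hS, show a⁻¹ * y * a = (φ.symm u)⁻¹ *
          (φ.symm (permGL n F σ) * φ.symm b * (φ.symm (permGL n F σ))⁻¹) * φ.symm u by rw [hy]; group]
        refine mul_mem (mul_mem (inv_mem hu') ?_) hu'
        rw [hP, ← map_inv, ← map_mul, ← map_mul]
        simpa using hx
      have hyT : y ∈ (T : Subgroup M) := by
        rw [hT', show g⁻¹ * y * g = φ.symm v * φ.symm b * (φ.symm v)⁻¹ by rw [hy, hσ']; group]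
        exact mul_mem (mul_mem hv' hb') (inv_mem hv')
      have hy1 : y = 1 := by
        have : y ∈ (S : Subgroup M) ⊓ T := ⟨hyS, hyT⟩
        rwa [hT, Subgroup.mem_bot] at this
      rw [hy, conj_eq_one_iff] at hy1
      have h' : φ.symm (permGL n F σ) * φ.symm b * (φ.symm (permGL n F σ))⁻¹ = 1 := by
        rw [← conj_eq_one_iff (a := (φ.symm u)⁻¹), inv_inv]; exact hy1
      rw [← map_inv, ← map_mul, ← map_mul, map_eq_one_iff _ φ.symm.injective] at h'
      exact h'
    refine ⟨a * (φ.symm u)⁻¹ * a⁻¹, by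
      rw [hS, show a⁻¹ * (a * (φ.symm u)⁻¹ * a⁻¹) * a = (φ.symm u)⁻¹ by group]; exact inv_mem hu',
      ?_⟩
    ext x
    rw [hT', Subgroup.mem_map_equiv, MulAut.conj_symm_apply]
    have e : a * (φ.symm u)⁻¹ * a⁻¹ * a * w = g * φ.symm v := by
      rw [show w = φ.symm (permGL n F σ) by rw [hrev], hσ']; group
    rw [e]
    constructor
    · intro hx
      rw [show (g * φ.symm v)⁻¹ * x * (g * φ.symm v) = (φ.symm v)⁻¹ * (g⁻¹ * x * g) * φ.symm v by group]
      exact mul_mem (mul_mem (inv_mem hv') hx) hv'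
    · intro hx
      rw [show g⁻¹ * x * g = φ.symm v * ((g * φ.symm v)⁻¹ * x * (g * φ.symm v)) * (φ.symm v)⁻¹ by group]
      exact mul_mem (mul_mem hv' hx) (inv_mem hv')
  obtain ⟨u₁, hu₁, e₁⟩ := key S₁ h1
  obtain ⟨u₂, hu₂, e₂⟩ := key S₂ h2
  refine ⟨u₂ * u₁⁻¹, mul_mem hu₂ (inv_mem hu₁), ?_⟩
  rw [e₁, e₂, Subgroup.map_map]
  congr 1
  ext x
  simp [MulAut.conj_apply, mul_assoc]

end

/-- Two Sylow 2-subgroups of an extension by index two meet non-trivially. -/
theorem sylow_inf_ne_bot {G : Type*} [Group G] [Finite G] (N : Subgroup G) [N.Normal]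
    (ψ : N ≃* GL (Fin n) F) (hidx : N.index = 2) (H : Sylow 2 G) (x : G) :
    (H : Subgroup G) ⊓ MulAut.conj x • (H : Subgroup G) ≠ ⊥ := by
  haveI : Fact (Nat.Prime 2) := ⟨Nat.prime_two⟩
  -- the trace of a Sylow subgroup on `N`
  have hS : ∀ K : Sylow 2 G, ∃ S : Sylow 2 N, (S : Subgroup N) = (K : Subgroup G).subgroupOf N := by
    intro K
    have hp : IsPGroup 2 ((K : Subgroup G).subgroupOf N) := K.2.comap_of_injective _ N.subtype_injective
    obtain ⟨S, hS⟩ := hp.exists_le_sylow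
    refine ⟨S, (Subgroup.eq_of_le_of_card_ge hS ?_).symm⟩
    obtain ⟨K₀, hK₀⟩ := S.exists_comap_subtype_eq
    obtain ⟨g, rfl⟩ := MulAction.exists_smul_eq G K₀ K
    rw [← hK₀]
    refine Nat.card_le_card_of_injective
      (fun s => ⟨⟨g * s.1.1 * g⁻¹, Subgroup.Normal.conj_mem ‹N.Normal› _ s.1.2 g⟩, ?_⟩) ?_
    · exact ⟨s.1.1, s.2, rfl⟩
    · intro a b hab
      simpa using congrArg (fun t => (t.1.1 : G)) hab
  have hout : ∀ K : Sylow 2 G, ∃ g ∈ (K : Subgroup G), g ∉ N := by
    intro K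
    by_contra hc
    push Not at hc
    have := Subgroup.index_dvd_of_le (show (K : Subgroup G) ≤ N from hc)
    rw [hidx] at this
    exact K.not_dvd_index this
  -- a Sylow subgroup is the normalizer of its trace
  have hnormK : ∀ K : Sylow 2 G, ∀ g : G, (∀ s ∈ (K : Subgroup G) ⊓ N, g * s * g⁻¹ ∈ (K : Subgroup G) ⊓ N) →
      g ∈ (K : Subgroup G) := by
    intro K g hg
    obtain ⟨S, hSK⟩ := hS K
    obtain ⟨k, hk, hkN⟩ := hout K
    have inN : ∀ m : G, m ∈ N → (∀ s ∈ (K : Subgroup G) ⊓ N, m * s * m⁻¹ ∈ (K : Subgroup G) ⊓ N) →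
        m ∈ (K : Subgroup G) := by
      intro m hm hmn
      have hmem : (⟨m, hm⟩ : N) ∈ Subgroup.normalizer ((S : Subgroup N) : Set N) := by
        rw [hSK]
        refine Subgroup.mem_normalizer_fintype fun s hs => ?_
        exact (hmn s.1 ⟨hs, s.2⟩).1
      rw [normalizer_sylow hF ψ S, hSK] at hmem
      exact hmem
    by_cases hgN : g ∈ N
    · exact inN g hgN hg
    · have hm : k⁻¹ * g ∈ N := (Subgroup.mul_mem_iff_of_index_two hidx).2 (by simp [hkN, hgN])
      have := inN _ hm fun s hs => by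
        have h1 := hg s hs
        rw [show k⁻¹ * g * s * (k⁻¹ * g)⁻¹ = k⁻¹ * (g * s * g⁻¹) * k by group]
        exact Subgroup.mem_inf.2 ⟨mul_mem (mul_mem (inv_mem hk) (Subgroup.mem_inf.1 h1).1) hk, by
          have := Subgroup.Normal.conj_mem ‹N.Normal› _ h1.2 k⁻¹
          rwa [inv_inv] at this⟩
      simpa using mul_mem hk this
  intro hbot
  let K : Sylow 2 G := MulAut.conj x • H
  have hK : (K : Subgroup G) = MulAut.conj x • (H : Subgroup G) := Sylow.coe_subgroup_smul
  rw [← hK] at hbot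
  obtain ⟨S, hSH⟩ := hS H
  obtain ⟨T, hTK⟩ := hS K
  obtain ⟨g, hgH, hgN⟩ := hout H
  let K' : Sylow 2 G := MulAut.conj g • K
  obtain ⟨T', hT'K⟩ := hS K'
  have hK'mem : ∀ z, z ∈ (K' : Subgroup G) ↔ g⁻¹ * z * g ∈ (K : Subgroup G) := fun z => by
    rw [show (K' : Subgroup G) = MulAut.conj g • (K : Subgroup G) from Sylow.coe_subgroup_smul,
      Subgroup.mem_pointwise_smul_iff_inv_smul_mem]
    simp [MulAut.smul_def]
  have h1 : (S : Subgroup N) ⊓ T = ⊥ := by
    rw [eq_bot_iff, hSH, hTK]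
    rintro s ⟨hs1, hs2⟩
    have : (s : G) ∈ (H : Subgroup G) ⊓ (K : Subgroup G) := ⟨hs1, hs2⟩
    rw [hbot, Subgroup.mem_bot] at this
    exact Subgroup.mem_bot.2 (Subtype.ext this)
  have h2 : (S : Subgroup N) ⊓ T' = ⊥ := by
    rw [eq_bot_iff, hSH, hT'K]
    rintro s ⟨hs1, hs2⟩
    have : g⁻¹ * (s : G) * g ∈ (H : Subgroup G) ⊓ (K : Subgroup G) := Subgroup.mem_inf.2
      ⟨mul_mem (mul_mem (inv_mem hgH) hs1) hgH, (hK'mem _).1 hs2⟩
    rw [hbot, Subgroup.mem_bot] at this
    refine Subgroup.mem_bot.2 (Subtype.ext ?_)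
    have e : (s : G) = g * (g⁻¹ * (s : G) * g) * g⁻¹ := by group
    rw [e, this]; group; rfl
  obtain ⟨u, hu, he⟩ := opposite_conj hF ψ h1 h2
  rw [hSH] at hu
  have huH : (u : G) ∈ (H : Subgroup G) := hu
  have hy : (u : G)⁻¹ * g ∈ (K : Subgroup G) := by
    refine hnormK K _ fun s hs => ?_
    have h3 : g * s * g⁻¹ ∈ (K' : Subgroup G) := by
      rw [hK'mem, show g⁻¹ * (g * s * g⁻¹) * g = s by group]; exact hs.1
    have hsN : g * s * g⁻¹ ∈ N := Subgroup.Normal.conj_mem ‹N.Normal› _ hs.2 g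
    have h4 : (⟨_, hsN⟩ : N) ∈ (T' : Subgroup N) := by rw [hT'K]; exact h3
    rw [← he] at h4
    obtain ⟨t, ht, hte⟩ := h4
    rw [hTK] at ht
    have e : (u : G) * (t : G) * (u : G)⁻¹ = g * s * g⁻¹ := congrArg Subtype.val hte
    rw [show (u : G)⁻¹ * g * s * ((u : G)⁻¹ * g)⁻¹ = (u : G)⁻¹ * (g * s * g⁻¹) * u by group, ← e]
    rw [show (u : G)⁻¹ * ((u : G) * (t : G) * (u : G)⁻¹) * u = t by group]
    exact Subgroup.mem_inf.2 ⟨ht, t.2⟩
  have hmem : (u : G)⁻¹ * g ∈ (H : Subgroup G) ⊓ (K : Subgroup G) := Subgroup.mem_inf.2 ⟨mul_mem (inv_mem huH) hgH, hy⟩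
  rw [hbot, Subgroup.mem_bot, inv_mul_eq_one] at hmem
  exact hgN (hmem ▸ u.2)

end

end Cfsg.Agent.GLTwoSylow
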