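import Cfsg.Agent.Lib.Classical.SLClassBound

/-!
Arithmetic for the class number of `SL_n`, and its lower bound.
-/

set_option autoImplicit false

namespace Cfsg.Agent.SLArith

open Polynomial Cfsg.Agent.GLCount Cfsg.Agent.SLBound Cfsg.Agent.SLWeight Cfsg.Agent.BlockDet

theorem cnt_lt {q k : ℕ} (hq : 1 ≤ q) (hk : 1 ≤ k) : cnt q k k + 1 ≤ q ^ k := by
  have h := cnt_le hq k k hk
  rw [mul_comm ((q : ℤ) ^ k)] at h
  have h2 := le_of_mul_le_mul_right h (pow_pos (by exact_mod_cast hq) k)
  have : ((cnt q k k + 1 : ℕ) : ℤ) ≤ ((q ^ k : ℕ) : ℤ) := by push_cast; linarith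
  exact_mod_cast this

theorem cnt_one {q : ℕ} : cnt q 1 1 = q - 1 := by
  simp [cnt, c, Finset.sum_range_succ]

theorem cnt_three {q : ℕ} : cnt q 3 3 = (q - 1) * q ^ 2 + ((q - 1) * (q - 1) + (q - 1)) := by
  simp [cnt, c, Finset.sum_range_succ]
  ring

/-- The extra term. -/
def extra (q n : ℕ) : ℕ :=
  ∑ d ∈ (Nat.gcd n (q - 1)).divisors.erase 1, (d * d - 1) * cnt q (n / d) (n / d)

theorem bnd_one (q n : ℕ) : bnd q 1 n = cnt q n n + extra q n := by
  rw [bnd, if_pos (one_dvd n), Nat.div_one, extra]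
  congr 1
  refine Finset.sum_congr rfl fun d hd => ?_
  have h := (Nat.dvd_of_mem_divisors (Finset.mem_of_mem_erase hd)).trans (Nat.gcd_dvd_left _ _)
  rw [mul_one, if_pos h]

theorem mem_D {q n d : ℕ} (hq : 2 ≤ q) (hd : d ∈ (Nat.gcd n (q - 1)).divisors.erase 1) :
    d ∣ n ∧ d ∣ q - 1 ∧ 2 ≤ d ∧ d < q := by
  obtain ⟨h1, h2⟩ := Finset.mem_erase.1 hd
  have h3 := Nat.dvd_of_mem_divisors h2
  have hn := h3.trans (Nat.gcd_dvd_left _ _)
  have hq1 := h3.trans (Nat.gcd_dvd_right _ _)
  have h4 := Nat.pos_of_mem_divisors h2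
  have h5 := Nat.le_of_dvd (by omega) hq1
  exact ⟨hn, hq1, by omega, by omega⟩

theorem extra_le_sum (q n : ℕ) (s : Finset ℕ) (hq : 2 ≤ q)
    (h : ∀ d, d ∣ n → 2 ≤ d → d < q → d ∈ s) :
    extra q n ≤ ∑ d ∈ s, (d * d - 1) * cnt q (n / d) (n / d) := by
  refine Finset.sum_le_sum_of_subset fun d hd => ?_
  obtain ⟨h1, -, h2, h3⟩ := mem_D hq hd
  exact h d h1 h2 h3

theorem geom_le {q : ℕ} (hq : 2 ≤ q) : ∀ k, ∑ i ∈ Finset.range (k + 1), q ^ i + 1 ≤ 2 * q ^ k
  | 0 => by simp
  | k + 1 => by
    have := geom_le hq k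
    have h2 : 2 * q ^ k ≤ q ^ (k + 1) := by rw [pow_succ']; exact Nat.mul_le_mul_right _ hq
    rw [Finset.sum_range_succ]
    omega

theorem extra_large {q n : ℕ} (hq : 2 ≤ q) (hn : 1 ≤ n) : extra q n ≤ 2 * q ^ (n / 2 + 2) := by
  calc extra q n ≤ ∑ d ∈ (Nat.gcd n (q - 1)).divisors.erase 1, q ^ 2 * q ^ (n / d) := by
        refine Finset.sum_le_sum fun d hd => Nat.mul_le_mul ?_ ?_
        · obtain ⟨-, -, -, h⟩ := mem_D hq hd
          rw [pow_two]
          exact (Nat.sub_le _ _).trans (Nat.mul_le_mul h.le h.le)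
        · rcases Nat.eq_zero_or_pos (n / d) with h | h
          · simp [h, cnt]
          · exact (Nat.le_succ _).trans (cnt_lt (by omega) h)
    _ = q ^ 2 * ∑ i ∈ ((Nat.gcd n (q - 1)).divisors.erase 1).image (n / ·), q ^ i := by
        rw [Finset.mul_sum, Finset.sum_image]
        intro a ha b hb h
        obtain ⟨ha1, -⟩ := mem_D hq ha
        obtain ⟨hb1, -⟩ := mem_D hq hb
        rw [← Nat.div_div_self ha1 (by omega), ← Nat.div_div_self hb1 (by omega)]
        exact congrArg (n / ·) h
    _ ≤ q ^ 2 * ∑ i ∈ Finset.range (n / 2 + 1), q ^ i := by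
        refine Nat.mul_le_mul_left _ (Finset.sum_le_sum_of_subset fun i hi => ?_)
        obtain ⟨d, hd, rfl⟩ := Finset.mem_image.1 hi
        obtain ⟨-, -, h, -⟩ := mem_D hq hd
        rw [Finset.mem_range, Nat.lt_succ_iff]
        exact Nat.div_le_div_left h (by omega)
    _ ≤ q ^ 2 * (2 * q ^ (n / 2)) := Nat.mul_le_mul_left _ (by have := geom_le hq (n / 2); omega)
    _ = _ := by ring

theorem bnd_three {q n : ℕ} (hq : 2 ≤ q) (hn : 3 ≤ n) :
    bnd q 1 n ≤ (q - 1) * (q ^ (n - 1) + 3 * q ^ (n - 2)) := by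
  rw [bnd_one]
  obtain ⟨r, rfl⟩ : ∃ r, q = r + 1 := ⟨q - 1, by omega⟩
  obtain ⟨m, rfl⟩ : ∃ m, n = m + 3 := ⟨n - 3, by omega⟩
  simp only [Nat.add_sub_cancel, show m + 3 - 1 = m + 2 by omega, show m + 3 - 2 = m + 1 by omega]
  have hc := cnt_lt (q := r + 1) (by omega) (show 1 ≤ m + 3 by omega)
  rcases Nat.lt_or_ge r 2 with hr | hr
  · obtain rfl : r = 1 := by omega
    have h0 : extra (1 + 1) (m + 3) = 0 := by simp [extra]
    rw [h0]
    have : 2 ^ (m + 3) ≤ 2 ^ (m + 2) + 3 * 2 ^ (m + 1) := by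
      rw [pow_succ 2 (m + 2), pow_succ 2 (m + 1)]; omega
    simp only [show 1 + 1 = 2 from rfl] at hc ⊢
    omega
  rcases Nat.lt_or_ge m 5 with hm | hm
  · interval_cases m
    · -- degree 3
      have he := extra_le_sum (r + 1) 3 ({3} : Finset ℕ) (by omega) fun d h1 h2 h3 => by
        have := Nat.le_of_dvd (by omega) h1
        interval_cases d <;> simp_all
      by_cases h3 : 3 ∣ r
      · have h4 : 3 ≤ r := Nat.le_of_dvd (by omega) h3
        simp only [Finset.sum_singleton, Nat.div_self (show 0 < 3 by omega), cnt_one,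
          Nat.add_sub_cancel] at he
        rw [cnt_three, Nat.add_sub_cancel]
        ring_nf at he ⊢
        nlinarith
      · have h0 : extra (r + 1) 3 = 0 := by
          refine Finset.sum_eq_zero fun d hd => ?_
          obtain ⟨h1, h2, h5, -⟩ := mem_D (q := r + 1) (by omega) hd
          rw [Nat.add_sub_cancel] at h2
          have := Nat.le_of_dvd (by omega) h1
          interval_cases d
          · omega
          · exact absurd h2 h3
        rw [cnt_three, Nat.add_sub_cancel, h0]
        ring_nf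
        nlinarith
    · -- degree 4
      rcases Nat.lt_or_ge r 4 with h4 | h4
      · have he := extra_le_sum (r + 1) 4 ({2} : Finset ℕ) (by omega) fun d h1 h2 h3 => by
          have := Nat.le_of_dvd (by omega) h1
          interval_cases d <;> simp_all <;> omega
        have := cnt_lt (q := r + 1) (by omega) (show 1 ≤ 2 by omega)
        simp only [Finset.sum_singleton, show 4 / 2 = 2 from rfl] at he
        ring_nf at he this hc ⊢
        nlinarith
      · have he := extra_le_sum (r + 1) 4 ({2, 4} : Finset ℕ) (by omega) fun d h1 h2 h3 => by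
          have := Nat.le_of_dvd (by omega) h1
          interval_cases d <;> simp_all
        have := cnt_lt (q := r + 1) (by omega) (show 1 ≤ 2 by omega)
        rw [Finset.sum_pair (by omega)] at he
        simp only [show 4 / 2 = 2 from rfl, show 4 / 4 = 1 from rfl, cnt_one, Nat.add_sub_cancel] at he
        ring_nf at he this hc ⊢
        nlinarith
    · -- degree 5
      have he := extra_le_sum (r + 1) 5 ({5} : Finset ℕ) (by omega) fun d h1 h2 h3 => by
        have := Nat.le_of_dvd (by omega) h1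
        interval_cases d <;> simp_all
      simp only [Finset.sum_singleton, Nat.div_self (show 0 < 5 by omega), cnt_one,
        Nat.add_sub_cancel] at he
      ring_nf at he hc ⊢
      nlinarith [pow_le_pow_left₀ (Nat.zero_le 2) hr 3, pow_le_pow_left₀ (Nat.zero_le 2) hr 2,
        pow_le_pow_left₀ (Nat.zero_le 2) hr 4]
    · -- degree 6
      have c2 := cnt_lt (q := r + 1) (by omega) (show 1 ≤ 2 by omega)
      have c3 := cnt_lt (q := r + 1) (by omega) (show 1 ≤ 3 by omega)
      rcases Nat.lt_or_ge r 3 with h3 | h3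
      · obtain rfl : r = 2 := by omega
        have he := extra_le_sum (2 + 1) 6 ({2} : Finset ℕ) (by omega) fun d h1 h2 h3 => by
          interval_cases d; simp
        simp only [Finset.sum_singleton, show 6 / 2 = 3 from rfl] at he
        norm_num at he c3 hc ⊢
        omega
      · have he := extra_le_sum (r + 1) 6 ({2, 3, 6} : Finset ℕ) (by omega) fun d h1 h2 h3 => by
          have := Nat.le_of_dvd (by omega) h1
          interval_cases d <;> simp_all
        rw [Finset.sum_insert (by simp), Finset.sum_pair (by omega)] at he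
        simp only [show 6 / 2 = 3 from rfl, show 6 / 3 = 2 from rfl, show 6 / 6 = 1 from rfl, cnt_one,
          Nat.add_sub_cancel] at he
        ring_nf at he c2 c3 hc ⊢
        nlinarith [pow_le_pow_left₀ (Nat.zero_le 3) h3 3, pow_le_pow_left₀ (Nat.zero_le 3) h3 4,
          pow_le_pow_left₀ (Nat.zero_le 3) h3 2, pow_le_pow_left₀ (Nat.zero_le 3) h3 5]
    · -- degree 7
      have he := extra_le_sum (r + 1) 7 ({7} : Finset ℕ) (by omega) fun d h1 h2 h3 => by
        have := Nat.le_of_dvd (by omega) h1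
        interval_cases d <;> simp_all
      simp only [Finset.sum_singleton, Nat.div_self (show 0 < 7 by omega), cnt_one,
        Nat.add_sub_cancel] at he
      ring_nf at he hc ⊢
      nlinarith [pow_le_pow_left₀ (Nat.zero_le 2) hr 3, pow_le_pow_left₀ (Nat.zero_le 2) hr 2,
        pow_le_pow_left₀ (Nat.zero_le 2) hr 4, pow_le_pow_left₀ (Nat.zero_le 2) hr 5,
        pow_le_pow_left₀ (Nat.zero_le 2) hr 6]
  · have he := extra_large (q := r + 1) (n := m + 3) (by omega) (by omega)
    have hexp : (r + 1) ^ ((m + 3) / 2 + 2) ≤ (r + 1) ^ (m + 1) :=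
      Nat.pow_le_pow_right (by omega) (by omega)
    rw [show m + 3 = (m + 1) + 2 by omega, pow_add (r + 1) (m + 1) 2] at hc
    rw [pow_succ (r + 1) (m + 1)]
    have key : (r + 1) ^ (m + 1) * (r + 1) ^ 2 + 2 * (r + 1) ^ (m + 1) ≤
        r * ((r + 1) ^ (m + 1) * (r + 1) + 3 * (r + 1) ^ (m + 1)) := by
      have : (r + 1) ^ 2 + 2 ≤ r * (r + 1 + 3) := by nlinarith
      calc _ = (r + 1) ^ (m + 1) * ((r + 1) ^ 2 + 2) := by ring
        _ ≤ (r + 1) ^ (m + 1) * (r * (r + 1 + 3)) := Nat.mul_le_mul_left _ this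
        _ = _ := by ring
    have e : cnt (r + 1) (m + 1 + 2) (m + 1 + 2) + extra (r + 1) (m + 1 + 2) ≤ _ :=
      (Nat.add_le_add ((Nat.le_succ _).trans hc) (he.trans (Nat.mul_le_mul_left 2 hexp))).trans key
    exact e

theorem bnd_two {q : ℕ} (hq : 2 ≤ q) : 2 * bnd q 1 2 ≤ (q - 1) * (5 * q) := by
  rw [bnd_one]
  obtain ⟨r, rfl⟩ : ∃ r, q = r + 1 := ⟨q - 1, by omega⟩
  rw [Nat.add_sub_cancel]
  have hc := cnt_lt (q := r + 1) (by omega) (show 1 ≤ 2 by omega)
  rcases Nat.lt_or_ge r 2 with hr | hr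
  · obtain rfl : r = 1 := by omega
    have h0 : extra (1 + 1) 2 = 0 := by simp [extra]
    rw [h0]
    norm_num at hc ⊢
    omega
  have he := extra_le_sum (r + 1) 2 ({2} : Finset ℕ) (by omega) fun d h1 h2 h3 => by
    have := Nat.le_of_dvd (by omega) h1
    interval_cases d; simp
  simp only [Finset.sum_singleton, Nat.div_self (show 0 < 2 by omega), cnt_one, Nat.add_sub_cancel] at he
  ring_nf at he hc ⊢
  nlinarith

universe u

theorem card_mul_le {F : Type u} [Field F] [Fintype F] (n : ℕ) :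
    (Fintype.card F - 1) * Nat.card (ConjClasses (Matrix.SpecialLinearGroup (Fin n) F)) ≤
      bnd (Fintype.card F) 1 n := by
  classical
  refine le_trans (Nat.mul_le_mul_left _ ?_) (total_le (F := F) one_pos n)
  refine le_trans (le_of_eq ?_) (card_le_sum Set.univ _ fun g _ => Finset.mem_filter.2
    ⟨Finset.mem_filter.2 ⟨codeOf_mem _, fun p _ => ⟨one_dvd _, fun i hi => absurd (one_dvd i) hi⟩⟩, ?_⟩)
  · exact (Nat.card_congr (Equiv.Set.univ _)).symm
  · rw [dt_codeOf]
    exact g.2

theorem card_gt {F : Type u} [Field F] [Fintype F] (n : ℕ) (hn : 2 ≤ n) :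
    Fintype.card F ^ (n - 1) < Nat.card (ConjClasses (Matrix.SpecialLinearGroup (Fin n) F)) := by
  classical
  obtain ⟨a, rfl⟩ : ∃ a, n = a + 1 := ⟨n - 1, by omega⟩
  let cf : (Fin a → F) → Fin (a + 1) → F := fun f => Fin.cons ((-1) ^ (a + 1)) f
  have hM : ∀ f : Fin a → F, ∃ g : Matrix.SpecialLinearGroup (Fin (a + 1)) F,
      g.1.charpoly = mkP F (cf f) ∧ g ≠ 1 := by
    intro f
    have hm := mkP_monic F (cf f)
    have hne := hm.ne_zero
    let B := AdjoinRoot.powerBasis hne
    have hdim : B.dim = a + 1 := by rw [AdjoinRoot.powerBasis_dim, mkP_natDegree]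
    let M := Matrix.reindex (finCongr hdim) (finCongr hdim) (Algebra.leftMulMatrix B.basis B.gen)
    have hch : M.charpoly = mkP F (cf f) := by
      rw [Matrix.charpoly_reindex, charpoly_leftMulMatrix, AdjoinRoot.powerBasis_gen,
        AdjoinRoot.minpoly_root hne, hm.leadingCoeff, inv_one, map_one, mul_one]
    have hdet : M.det = 1 := by
      rw [Matrix.det_eq_sign_charpoly_coeff, hch, Fintype.card_fin,
        show (0 : ℕ) = ((0 : Fin (a + 1)) : ℕ) from rfl, mkP_coeff]
      simp only [cf, Fin.cons_zero, ← pow_add, ← two_mul, pow_mul, neg_one_sq, one_pow]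
    refine ⟨⟨M, hdet⟩, hch, fun h => ?_⟩
    have h1 : Algebra.leftMulMatrix B.basis B.gen = Algebra.leftMulMatrix B.basis 1 := by
      rw [map_one]
      apply (Matrix.reindex (finCongr hdim) (finCongr hdim)).injective
      rw [show Matrix.reindex (finCongr hdim) (finCongr hdim) (Algebra.leftMulMatrix B.basis B.gen) = 1
        from congrArg Subtype.val h]
      simp
    have h2 := Algebra.leftMulMatrix_injective B.basis h1
    rw [AdjoinRoot.powerBasis_gen, ← AdjoinRoot.mk_X, ← map_one (AdjoinRoot.mk (mkP F (cf f))),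
      AdjoinRoot.mk_eq_mk] at h2
    have h3 := natDegree_le_of_dvd h2 (X_sub_C_ne_zero (1 : F) |> fun h => by simpa using h)
    rw [mkP_natDegree, show ((X : F[X]) - 1).natDegree = 1 by simpa using natDegree_X_sub_C (1 : F)] at h3
    omega
  choose g hg hg1 using hM
  let ψ : Option (Fin a → F) → ConjClasses (Matrix.SpecialLinearGroup (Fin (a + 1)) F) :=
    fun o => ConjClasses.mk (o.elim 1 g)
  have hψ : Function.Injective ψ := by
    rintro (_ | f) (_ | f') h
    · rfl
    · exact absurd (isConj_one_right.1 (ConjClasses.mk_eq_mk_iff_isConj.1 h)) (hg1 f')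
    · exact absurd (isConj_one_right.1 (ConjClasses.mk_eq_mk_iff_isConj.1 h).symm) (hg1 f)
    · obtain ⟨x, hx⟩ := isConj_iff.1 (ConjClasses.mk_eq_mk_iff_isConj.1 h)
      have h1 : (g f').1.charpoly = (g f).1.charpoly := by
        have h2 := congrArg (fun y => (Matrix.SpecialLinearGroup.toGL y).1) hx
        simp only [map_mul, map_inv, Units.val_mul, Matrix.coe_units_inv] at h2
        rw [show (g f').1 = (Matrix.SpecialLinearGroup.toGL (g f')).1 from rfl]
        simp only [Option.elim] at h2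
        rw [← h2]
        exact Matrix.charpoly_units_conj (Matrix.SpecialLinearGroup.toGL x) _
      rw [hg, hg] at h1
      have h2 : cf f' = cf f := funext fun i => by rw [← mkP_coeff F (cf f') i, h1, mkP_coeff]
      refine congrArg some (funext fun i => ?_)
      have := congrFun h2 i.succ
      simpa [cf] using this.symm
  have := Nat.card_le_card_of_injective ψ hψ
  rw [Nat.card_eq_fintype_card, Fintype.card_option, Fintype.card_fun, Fintype.card_fin] at this
  simp only [Nat.add_sub_cancel]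
  omega

end Cfsg.Agent.SLArith
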