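/-
The number of nilpotent linear maps of an n-dimensional space over F_q is q^(n(n-1)) (Fine-Herstein).
-/
import Mathlib.LinearAlgebra.Matrix.GeneralLinearGroup.Card
import Mathlib.LinearAlgebra.Projection
import Mathlib.LinearAlgebra.FreeModule.Finite.Matrix
import Mathlib.LinearAlgebra.Matrix.CharP
import Mathlib.Tactic.LinearCombination
import Mathlib.RingTheory.Nilpotent.Basic

set_option autoImplicit false

namespace Cfsg.Agent.NilCount

open Module

universe u

/-! ### A telescoping identity -/

theorem telescope (q n : ℕ) :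
    ∑ d ∈ Finset.range n, (∏ i ∈ Finset.range d, ((q : ℤ) ^ n - (q : ℤ) ^ i)) * (q : ℤ) ^ ((n - d) * (n - 1))
      + ∏ i ∈ Finset.range n, ((q : ℤ) ^ n - (q : ℤ) ^ i) = (q : ℤ) ^ (n * n) := by
  set T : ℕ → ℤ := fun d => (∏ i ∈ Finset.range d, ((q : ℤ) ^ n - (q : ℤ) ^ i)) * (q : ℤ) ^ ((n - d) * n)
    with hT
  have h : ∀ d ∈ Finset.range n,
      (∏ i ∈ Finset.range d, ((q : ℤ) ^ n - (q : ℤ) ^ i)) * (q : ℤ) ^ ((n - d) * (n - 1)) =
        T d - T (d + 1) := by
    intro d hd
    obtain ⟨e, rfl⟩ : ∃ e, n = d + e + 1 := ⟨n - d - 1, by rw [Finset.mem_range] at hd; omega⟩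
    simp only [hT, Finset.prod_range_succ]
    rw [show (d + e + 1 - d) * (d + e + 1 - 1) = e * (d + e + 1) + d by
        rw [show d + e + 1 - d = e + 1 by omega, show d + e + 1 - 1 = d + e by omega]; ring,
      show (d + e + 1 - d) * (d + e + 1) = e * (d + e + 1) + (d + e + 1) by
        rw [show d + e + 1 - d = e + 1 by omega]; ring,
      show d + e + 1 - (d + 1) = e by omega, pow_add, pow_add]
    ring
  rw [Finset.sum_congr rfl h, Finset.sum_range_sub']
  simp [hT]

/-! ### The fibres -/

variable {F : Type u} [Field F] {V : Type u} [AddCommGroup V] [Module F V]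

/-- `f` shifts the tuple `w` and kills its last member. -/
def Shifts {d : ℕ} (f : Module.End F V) (w : Fin d → V) : Prop :=
  ∀ i : Fin d, f (w i) = if h : (i : ℕ) + 1 < d then w ⟨i + 1, h⟩ else 0

theorem Shifts.pow_apply {d : ℕ} {f : Module.End F V} {w : Fin d → V} (h : Shifts f w) :
    ∀ (j : ℕ) (i : Fin d), (f ^ j) (w i) = if hh : (i : ℕ) + j < d then w ⟨i + j, hh⟩ else 0 := by
  intro j
  induction j with
  | zero => intro i; simp [i.2]
  | succ j ih =>
    intro i
    rw [pow_succ', Module.End.mul_apply, ih i]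
    by_cases h1 : (i : ℕ) + j < d
    · rw [dif_pos h1, h ⟨i + j, h1⟩]
      by_cases h2 : (i : ℕ) + j + 1 < d
      · rw [dif_pos h2, dif_pos (show (i : ℕ) + (j + 1) < d from h2)]; rfl
      · rw [dif_neg h2, dif_neg (show ¬ (i : ℕ) + (j + 1) < d from h2)]
    · rw [dif_neg h1, map_zero, dif_neg (by omega)]

theorem linearIndependent_orbit (f : Module.End F V) (v : V) (d : ℕ) (h0 : (f ^ d) v = 0)
    (hlt : ∀ j < d, (f ^ j) v ≠ 0) :
    LinearIndependent F (fun i : Fin d => (f ^ (i : ℕ)) v) := by
  rw [Fintype.linearIndependent_iff]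
  intro c hc
  suffices ∀ (k : ℕ) (hk : k < d), c ⟨k, hk⟩ = 0 from fun i => this i.1 i.2
  intro k
  induction k using Nat.strong_induction_on with
  | _ k ih =>
    intro hk
    have h := congrArg (f ^ (d - 1 - k)) hc
    rw [map_sum, map_zero, Finset.sum_eq_single (⟨k, hk⟩ : Fin d)] at h
    · rw [map_smul, ← Module.End.mul_apply, ← pow_add, smul_eq_zero] at h
      refine h.resolve_right ?_
      exact hlt _ (show d - 1 - k + k < d by omega)
    · intro j _ hj
      rcases lt_or_gt_of_ne (fun e => hj (Fin.ext e) : (j : ℕ) ≠ k) with hlt' | hgt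
      · rw [show c j = 0 from ih j hlt' j.2, zero_smul, map_zero]
      · rw [map_smul, ← Module.End.mul_apply, ← pow_add,
          show d - 1 - k + j = ((j : ℕ) - k - 1) + d by omega, pow_add, Module.End.mul_apply, h0,
          map_zero, smul_zero]
    · intro hn; exact absurd (Finset.mem_univ _) hn

variable [FiniteDimensional F V]

theorem card_fibre {d : ℕ} (w : Fin d → V) (hw : LinearIndependent F w) :
    ∃ C : Submodule F V, finrank F C + d = finrank F V ∧
      Nat.card {f : Module.End F V // IsNilpotent f ∧ Shifts f w} =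
        Nat.card (C →ₗ[F] Submodule.span F (Set.range w)) *
          Nat.card {g : Module.End F C // IsNilpotent g} := by
  classical
  set W := Submodule.span F (Set.range w) with hW
  obtain ⟨C, hc⟩ := Submodule.exists_isCompl W
  have hdim : finrank F W = d := by rw [hW, finrank_span_eq_card hw, Fintype.card_fin]
  refine ⟨C, by rw [← Submodule.finrank_add_eq_of_isCompl hc, hdim]; ring, ?_⟩
  let pW : V →ₗ[F] W := W.linearProjOfIsCompl C hc
  let pC : V →ₗ[F] C := C.linearProjOfIsCompl W hc.symm
  have hmemW : ∀ i, w i ∈ W := fun i => Submodule.subset_span (Set.mem_range_self i)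
  let sh : Fin d → V := fun i => if h : (i : ℕ) + 1 < d then w ⟨i + 1, h⟩ else 0
  have hsh : ∀ i, sh i ∈ W := fun i => by
    simp only [sh]; split_ifs
    · exact hmemW _
    · exact W.zero_mem
  let J : W →ₗ[F] V := (Basis.span hw).constr F sh
  have hJ : ∀ i, J ⟨w i, hmemW i⟩ = sh i := fun i => by
    rw [show (⟨w i, hmemW i⟩ : W) = Basis.span hw i from Subtype.ext (Basis.coe_span_apply hw i).symm]
    exact (Basis.span hw).constr_basis F sh i
  have hJW : ∀ x : W, J x ∈ W := by
    intro x
    rw [← (Basis.span hw).sum_repr x, map_sum]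
    refine W.sum_mem fun i _ => ?_
    rw [map_smul]
    exact W.smul_mem _ (by rw [(Basis.span hw).constr_basis F sh i]; exact hsh i)
  have hinvW : ∀ f : Module.End F V, Shifts f w → ∀ x ∈ W, f x ∈ W := by
    intro f hf x hx
    induction hx using Submodule.span_induction with
    | mem y hy => obtain ⟨i, rfl⟩ := hy; rw [hf i]; exact hsh i
    | zero => rw [map_zero]; exact W.zero_mem
    | add a b _ _ ha hb => rw [map_add]; exact W.add_mem ha hb
    | smul a y _ hy => rw [map_smul]; exact W.smul_mem a hy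
  have hdecomp : ∀ v : V, (pW v : V) + (pC v : V) = v := fun v =>
    Submodule.projection_add_projection_eq_self hc v
  have hpCW : ∀ x ∈ W, pC x = 0 := fun x hx =>
    (Submodule.projectionOnto_apply_eq_zero_iff hc.symm).2 hx
  have hpCpow : ∀ (f : Module.End F V), Shifts f w → ∀ (k : ℕ) (v : V),
      pC ((f ^ k) v) = (((pC.comp f).comp C.subtype) ^ k : Module.End F C) (pC v) := by
    intro f hf k
    induction k with
    | zero => intro v; rfl
    | succ k ih =>
      intro v
      rw [pow_succ', Module.End.mul_apply, pow_succ', Module.End.mul_apply, ← ih]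
      show _ = pC (f ((pC ((f ^ k) v) : C) : V))
      conv_lhs => rw [← hdecomp ((f ^ k) v), map_add, map_add, hpCW _ (hinvW f hf _ (pW _).2), zero_add]
  have hkill : ∀ (f : Module.End F V), Shifts f w → ∀ x ∈ W, (f ^ d) x = 0 := by
    intro f hf x hx
    induction hx using Submodule.span_induction with
    | mem y hy => obtain ⟨i, rfl⟩ := hy; rw [hf.pow_apply, dif_neg (by omega)]
    | zero => rw [map_zero]
    | add a b _ _ ha hb => rw [map_add, ha, hb, add_zero]
    | smul a y _ hy => rw [map_smul, hy, smul_zero]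
  rw [← Nat.card_prod]
  refine Nat.card_congr
    { toFun := fun f => ((pW.comp f.1).comp C.subtype, ⟨(pC.comp f.1).comp C.subtype, ?_⟩)
      invFun := fun p => ⟨LinearMap.ofIsCompl hc J (W.subtype.comp p.1 + C.subtype.comp p.2.1), ?_, ?_⟩
      left_inv := ?_
      right_inv := ?_ }
  · obtain ⟨k, hk⟩ := f.2.1
    refine ⟨k, LinearMap.ext fun c => ?_⟩
    have := hpCpow f.1 f.2.2 k (c : V)
    rw [hk, LinearMap.zero_apply, map_zero] at this
    have hcc : pC (c : V) = c := Submodule.projectionOnto_apply_left hc.symm c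
    rw [hcc] at this
    exact this.symm
  · obtain ⟨k, hk⟩ := p.2.2
    set f : Module.End F V :=
      LinearMap.ofIsCompl hc J (W.subtype.comp p.1 + C.subtype.comp p.2.1) with hf
    have hsf : Shifts f w := fun i => by
      rw [show w i = ((⟨w i, hmemW i⟩ : W) : V) from rfl, hf, LinearMap.ofIsCompl_apply_left, hJ]
    have hB : (pC.comp f).comp C.subtype = p.2.1 := LinearMap.ext fun c => by
      show pC (f (c : V)) = _
      rw [hf, LinearMap.ofIsCompl_apply_right, LinearMap.add_apply, map_add]
      show pC (p.1 c : V) + pC (p.2.1 c : V) = _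
      rw [hpCW _ (p.1 c).2, zero_add]
      exact Submodule.projectionOnto_apply_left hc.symm _
    refine ⟨d + k, LinearMap.ext fun v => ?_⟩
    rw [pow_add, Module.End.mul_apply, LinearMap.zero_apply]
    refine hkill f hsf _ ((Submodule.projectionOnto_apply_eq_zero_iff hc.symm).1 ?_)
    show pC ((f ^ k) v) = 0
    rw [hpCpow f hsf, hB, hk, LinearMap.zero_apply]
  · intro i
    show LinearMap.ofIsCompl hc J _ ((⟨w i, hmemW i⟩ : W) : V) = _
    rw [LinearMap.ofIsCompl_apply_left, hJ]
  · intro f
    apply Subtype.ext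
    refine LinearMap.ofIsCompl_eq hc (fun x => ?_) (fun c => ?_)
    · have : f.1.comp W.subtype = J := (Basis.span hw).ext fun i => by
        rw [(Basis.span hw).constr_basis F sh i]
        show f.1 ((Basis.span hw i : W) : V) = _
        rw [Basis.coe_span_apply]
        exact f.2.2 i
      exact (LinearMap.congr_fun this x).symm
    · exact hdecomp _
  · rintro ⟨A, B, hB⟩
    refine Prod.ext (LinearMap.ext fun c => ?_) (Subtype.ext (LinearMap.ext fun c => ?_))
    · show pW (LinearMap.ofIsCompl hc J _ (c : V)) = A c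
      rw [LinearMap.ofIsCompl_apply_right]
      show pW ((A c : V) + (B c : V)) = A c
      rw [map_add, show pW (B c : V) = 0 from (Submodule.projectionOnto_apply_eq_zero_iff hc).2 (B c).2,
        add_zero]
      exact Submodule.projectionOnto_apply_left hc _
    · show pC (LinearMap.ofIsCompl hc J _ (c : V)) = B c
      rw [LinearMap.ofIsCompl_apply_right]
      show pC ((A c : V) + (B c : V)) = B c
      rw [map_add, hpCW _ (A c).2, zero_add]
      exact Submodule.projectionOnto_apply_left hc.symm _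

/-! ### The count -/

variable [Fintype F]

omit [FiniteDimensional F V] in
theorem card_linMap (A B : Type u) [AddCommGroup A] [Module F A] [FiniteDimensional F A]
    [AddCommGroup B] [Module F B] [FiniteDimensional F B] :
    Nat.card (A →ₗ[F] B) = Fintype.card F ^ (finrank F A * finrank F B) := by
  rw [Module.natCard_eq_pow_finrank (K := F), Module.finrank_linearMap, Nat.card_eq_fintype_card]

theorem card_nilpotent_aux : ∀ (N : ℕ) (V : Type u) [AddCommGroup V] [Module F V]
    [FiniteDimensional F V], finrank F V ≤ N →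
    Nat.card {f : Module.End F V // IsNilpotent f} =
      Fintype.card F ^ (finrank F V * (finrank F V - 1)) := by
  intro N
  induction N with
  | zero =>
    intro V _ _ _ h
    haveI : Subsingleton V := Module.finrank_zero_iff.mp (Nat.le_zero.1 h)
    rw [Nat.le_zero.1 h, Nat.zero_mul, pow_zero, Nat.card_eq_one_iff_unique]
    exact ⟨⟨fun a b => Subtype.ext (Subsingleton.elim _ _)⟩, ⟨⟨0, IsNilpotent.zero⟩⟩⟩
  | succ N ih =>
    intro V _ _ _ hN
    classical
    by_cases hle : finrank F V ≤ N
    · exact ih V hle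
    set n := finrank F V with hn
    set q := Fintype.card F with hq
    have : Finite V := Module.finite_of_finite F
    have : Finite (Module.End F V) := Finite.of_injective _ DFunLike.coe_injective
    let Ind : Fin (n + 1) → Type u := fun d => {w : Fin d → V // LinearIndependent F w}
    let Fib : (Σ d, Ind d) → Type u := fun x =>
      {f : Module.End F V // IsNilpotent f ∧ Shifts f x.2.1}
    let Ψ : (Σ x, Fib x) → {f : Module.End F V // IsNilpotent f} × V := fun y =>
      (⟨y.2.1, y.2.2.1⟩, if h : 0 < (y.1.1 : ℕ) then y.1.2.1 ⟨0, h⟩ else 0)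
    have hw : ∀ (y : Σ x, Fib x) (i : Fin y.1.1), (y.2.1 ^ (i : ℕ)) (Ψ y).2 = y.1.2.1 i := by
      intro y i
      have hd : 0 < (y.1.1 : ℕ) := Nat.lt_of_le_of_lt (Nat.zero_le _) i.2
      simp only [Ψ]
      rw [dif_pos hd, y.2.2.2.pow_apply]
      simp [i.2]
    have hzero : ∀ (y : Σ x, Fib x), (y.2.1 ^ (y.1.1 : ℕ)) (Ψ y).2 = 0 := by
      intro y
      simp only [Ψ]
      split_ifs with hd
      · rw [y.2.2.2.pow_apply]; simp
      · rw [map_zero]
    have hdeg : ∀ (y : Σ x, Fib x), ∀ j < (y.1.1 : ℕ), (y.2.1 ^ j) (Ψ y).2 ≠ 0 := fun y j hj => by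
      rw [hw y ⟨j, hj⟩]; exact y.1.2.2.ne_zero _
    have hbij : Function.Bijective Ψ := by
      constructor
      · rintro ⟨⟨d, w⟩, f⟩ ⟨⟨d', w'⟩, f'⟩ h
        have hf : f.1 = f'.1 := congrArg (fun z => z.1.1) h
        have hv : (Ψ ⟨⟨d, w⟩, f⟩).2 = (Ψ ⟨⟨d', w'⟩, f'⟩).2 := congrArg Prod.snd h
        obtain rfl : d = d' := by
          refine Fin.ext (le_antisymm ?_ ?_)
          · by_contra hlt
            have := hdeg ⟨⟨d, w⟩, f⟩ d' (not_le.1 hlt)
            rw [hv] at this
            exact this (hf ▸ hzero ⟨⟨d', w'⟩, f'⟩)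
          · by_contra hlt
            have := hdeg ⟨⟨d', w'⟩, f'⟩ d (not_le.1 hlt)
            rw [← hv] at this
            exact this (hf ▸ hzero ⟨⟨d, w⟩, f⟩)
        obtain rfl : w = w' := Subtype.ext (funext fun i => by
          have a := hw ⟨⟨d, w⟩, f⟩ i
          have b := hw ⟨⟨d, w'⟩, f'⟩ i
          simp only at a b
          rw [← a, ← b, hf, hv])
        obtain rfl : f = f' := Subtype.ext hf
        rfl
      · rintro ⟨⟨f, hf⟩, v⟩
        have hex : ∃ k, (f ^ k) v = 0 := by
          obtain ⟨k, hk⟩ := hf; exact ⟨k, by rw [hk, LinearMap.zero_apply]⟩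
        set d := Nat.find hex with hd
        have hli := linearIndependent_orbit f v d (Nat.find_spec hex) fun j hj => Nat.find_min hex hj
        have hdn : d ≤ n := by simpa using hli.fintype_card_le_finrank
        refine ⟨⟨⟨⟨d, Nat.lt_succ_of_le hdn⟩, ⟨fun i => (f ^ (i : ℕ)) v, hli⟩⟩, ⟨f, hf, fun i => ?_⟩⟩, ?_⟩
        · rw [← Module.End.mul_apply, ← pow_succ']
          split_ifs with h
          · rfl
          · rw [show (i : ℕ) + 1 = d by have := i.2; simp only at this h; omega]
            exact Nat.find_spec hex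
        · refine Prod.ext rfl ?_
          simp only [Ψ]
          split_ifs with h
          · rfl
          · have h0 : (f ^ d) v = 0 := Nat.find_spec hex
            rw [show d = 0 by simp only [not_lt] at h; omega, pow_zero] at h0
            exact h0.symm
    haveI : ∀ d, Fintype (Ind d) := fun d => Fintype.ofFinite _
    have hcount := Nat.card_eq_of_bijective Ψ hbij
    rw [Nat.card_sigma, Nat.card_prod] at hcount
    set A := Nat.card {f : Module.End F V // IsNilpotent f} with hA
    let T : Fin (n + 1) → ℕ := fun d => if (d : ℕ) = 0 then A else q ^ ((n - d) * (n - 1))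
    have hfib : ∀ x : Σ d, Ind d, Nat.card (Fib x) = T x.1 := by
      rintro ⟨d, w, hwli⟩
      obtain ⟨C, hC, hcard⟩ := card_fibre w hwli
      show Nat.card {f : Module.End F V // IsNilpotent f ∧ Shifts f w} = _
      by_cases hd : (d : ℕ) = 0
      · simp only [T, if_pos hd, hA]
        refine Nat.card_congr (Equiv.subtypeEquivRight fun f => and_iff_left_of_imp fun _ i => ?_)
        exact absurd i.2 (by omega)
      · rw [hcard, card_linMap, ih C (by omega), finrank_span_eq_card hwli, Fintype.card_fin,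
          ← pow_add]
        simp only [T, if_neg hd]
        congr 1
        have : finrank F C = n - d := by omega
        rw [this, ← Nat.mul_add]
        have : (d : ℕ) ≤ n := Nat.lt_succ_iff.1 d.2
        rcases Nat.eq_zero_or_pos (n - d) with h0 | h0
        · rw [h0]; simp
        · congr 1; omega
    have hInd : ∀ d : Fin (n + 1), (Fintype.card (Ind d) : ℤ) =
        ∏ i ∈ Finset.range (d : ℕ), ((q : ℤ) ^ n - (q : ℤ) ^ i) := by
      intro d
      rw [← Nat.card_eq_fintype_card,
        show Nat.card (Ind d) = _ from card_linearIndependent (Nat.lt_succ_iff.1 d.2),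
        ← Finset.prod_range (fun i => q ^ n - q ^ i), Nat.cast_prod]
      refine Finset.prod_congr rfl fun i hi => ?_
      rw [Nat.cast_sub (Nat.pow_le_pow_right Fintype.card_pos
        (by rw [Finset.mem_range] at hi; omega)), Nat.cast_pow, Nat.cast_pow]
    rw [Finset.sum_congr rfl (fun x _ => hfib x), Fintype.sum_sigma,
      Module.natCard_eq_pow_finrank (K := F) (V := V), Nat.card_eq_fintype_card (α := F)] at hcount
    simp only [Finset.sum_const, Finset.card_univ, smul_eq_mul] at hcount
    have hZ : ∑ d : Fin (n + 1), (Fintype.card (Ind d) : ℤ) * (T d : ℤ) = (A : ℤ) * (q : ℤ) ^ n := by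
      exact_mod_cast hcount
    simp only [hInd] at hZ
    have htel := telescope q n
    have hrange : ∀ d : ℕ, d < n + 1 → ((if d = 0 then (A : ℤ) else (q : ℤ) ^ ((n - d) * (n - 1))))
        = (q : ℤ) ^ ((n - d) * (n - 1)) + (if d = 0 then (A : ℤ) - (q : ℤ) ^ (n * (n - 1)) else 0) := by
      intro d _; split_ifs with h
      · subst h; simp
      · simp
    simp only [T] at hZ
    push_cast at hZ
    rw [← Finset.sum_range (fun d => (∏ i ∈ Finset.range d, ((q : ℤ) ^ n - (q : ℤ) ^ i)) *
      (if d = 0 then (A : ℤ) else (q : ℤ) ^ ((n - d) * (n - 1)))),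
      Finset.sum_congr rfl (fun d hd => by rw [hrange d (Finset.mem_range.1 hd), mul_add]),
      Finset.sum_add_distrib, Finset.sum_range_succ, Nat.sub_self, Nat.zero_mul, pow_zero, mul_one,
      htel, Finset.sum_eq_single 0 (fun d _ hd => by simp [hd]) (fun h => absurd (by simp) h)] at hZ
    simp only [Finset.range_zero, Finset.prod_empty, if_true, one_mul] at hZ
    have hq1 : (1 : ℤ) < (q : ℤ) ^ n := one_lt_pow₀ (by exact_mod_cast Fintype.one_lt_card) (by omega)
    have hsplit : (q : ℤ) ^ (n * n) = (q : ℤ) ^ (n * (n - 1)) * (q : ℤ) ^ n := by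
      rw [← pow_add, ← Nat.mul_succ, show (n - 1).succ = n by omega]
    have : ((A : ℤ) - (q : ℤ) ^ (n * (n - 1))) * ((q : ℤ) ^ n - 1) = 0 := by
      linear_combination -hZ + hsplit
    have hfin := sub_eq_zero.1 ((mul_eq_zero.1 this).resolve_right (by omega))
    exact_mod_cast hfin

theorem card_nilpotent_matrix (n : ℕ) :
    Nat.card {M : Matrix (Fin n) (Fin n) F // IsNilpotent M} = Fintype.card F ^ (n * (n - 1)) := by
  have h := card_nilpotent_aux (F := F) n (Fin n → F) (by rw [Module.finrank_fin_fun])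
  rw [Module.finrank_fin_fun] at h
  rw [← h]
  refine Nat.card_congr (Matrix.toLinAlgEquiv'.toEquiv.subtypeEquiv fun M => ?_)
  exact (IsNilpotent.map_iff (f := Matrix.toLinAlgEquiv') (AlgEquiv.injective _)).symm

theorem card_pPower_gl (p : ℕ) [Fact p.Prime] [CharP F p] (n : ℕ) :
    Nat.card {g : Matrix.GeneralLinearGroup (Fin n) F // ∃ k : ℕ, orderOf g = p ^ k} =
      Fintype.card F ^ (n * (n - 1)) := by
  rcases Nat.eq_zero_or_pos n with rfl | hn
  · rw [Nat.zero_mul, pow_zero, Nat.card_eq_one_iff_unique]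
    exact ⟨⟨fun a b => Subtype.ext (Subsingleton.elim _ _)⟩, ⟨⟨1, 0, by simp⟩⟩⟩
  haveI : Nonempty (Fin n) := ⟨⟨0, hn⟩⟩
  rw [← card_nilpotent_matrix (F := F) n]
  have key : ∀ (g : Matrix.GeneralLinearGroup (Fin n) F) (k : ℕ),
      (g.1 - 1) ^ p ^ k = 0 ↔ g ^ p ^ k = 1 := by
    intro g k
    rw [sub_pow_char_pow_of_commute p k (Commute.one_right _), one_pow, sub_eq_zero, Units.ext_iff,
      Units.val_pow_eq_pow_val, Units.val_one]
  refine Nat.card_eq_of_bijective (fun g => ⟨g.1.1 - 1, ?_⟩) ⟨fun a b h => ?_, fun M => ?_⟩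
  · obtain ⟨k, hk⟩ := g.2
    exact ⟨p ^ k, (key _ _).2 (by rw [← hk, pow_orderOf_eq_one])⟩
  · have h1 : a.1.1 - 1 = b.1.1 - 1 := congrArg Subtype.val h
    exact Subtype.ext (Units.ext (sub_left_inj.1 h1))
  · obtain ⟨m, hm⟩ := M.2
    obtain ⟨u, hu⟩ := M.2.isUnit_one_add
    have hu1 : u.1 - 1 = M.1 := by rw [hu, add_sub_cancel_left]
    refine ⟨⟨u, ?_⟩, Subtype.ext hu1⟩
    obtain ⟨k, -, hk⟩ := (Nat.dvd_prime_pow Fact.out).1 (orderOf_dvd_of_pow_eq_one ((key u m).1 (by
      rw [hu1]; exact pow_eq_zero_of_le (Nat.lt_pow_self (Fact.out : p.Prime).one_lt).le hm)))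
    exact ⟨k, hk⟩

end Cfsg.Agent.NilCount
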