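/-
Jordan normal form for nilpotent linear maps and the bijection between nilpotent similarity classes
and partitions.
-/
import Mathlib

set_option autoImplicit false

namespace Cfsg.Agent.NilJordan

open Module Polynomial
open scoped DirectSum

section

variable {F : Type*} [Field F]

/-- The shift on `Fin k → F`. -/
def shift (F : Type*) [Field F] (k : ℕ) : Module.End F (Fin k → F) where
  toFun x i := if h : 0 < (i : ℕ) then x ⟨(i : ℕ) - 1, by omega⟩ else 0
  map_add' x y := by ext i; simp only [Pi.add_apply]; split_ifs <;> simp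
  map_smul' c x := by ext i; simp only [Pi.smul_apply, RingHom.id_apply]; split_ifs <;> simp

theorem shift_pow_apply {k : ℕ} (j : ℕ) (x : Fin k → F) (i : Fin k) :
    (shift F k ^ j) x i = if h : j ≤ (i : ℕ) then x ⟨(i : ℕ) - j, by omega⟩ else 0 := by
  induction j generalizing i with
  | zero => simp
  | succ j ih =>
    rw [pow_succ', Module.End.mul_apply]
    show (if h : 0 < (i : ℕ) then (shift F k ^ j) x ⟨(i : ℕ) - 1, _⟩ else 0) = _
    by_cases h : j + 1 ≤ (i : ℕ)
    · rw [dif_pos (by omega), dif_pos h, ih, dif_pos (show j ≤ (i : ℕ) - 1 by omega)]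
      exact congrArg x (Fin.ext (show (i : ℕ) - 1 - j = (i : ℕ) - (j + 1) by omega))
    · rw [dif_neg h]
      split_ifs with h0
      · rw [ih, dif_neg (show ¬ j ≤ (i : ℕ) - 1 by omega)]
      · rfl

theorem finrank_ker_shift (k j : ℕ) : finrank F (LinearMap.ker (shift F k ^ j)) = min k j := by
  have e : LinearMap.ker (shift F k ^ j) ≃ₗ[F] ({i : Fin k // k ≤ (i : ℕ) + j} → F) :=
    { toFun := fun x i => x.1 i.1
      map_add' := fun _ _ => rfl
      map_smul' := fun _ _ => rfl
      invFun := fun y => ⟨fun i => if h : k ≤ (i : ℕ) + j then y ⟨i, h⟩ else 0, by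
        rw [LinearMap.mem_ker]
        ext i
        rw [shift_pow_apply, Pi.zero_apply]
        split_ifs with h h'
        · exact absurd h' (by have := i.2; show ¬ k ≤ (i : ℕ) - j + j; omega)
        · rfl
        · rfl⟩
      left_inv := fun x => by
        apply Subtype.ext
        funext i
        show (if h : k ≤ (i : ℕ) + j then x.1 i else 0) = x.1 i
        split_ifs with h
        · rfl
        · have hx := congrFun (LinearMap.mem_ker.1 x.2) ⟨(i : ℕ) + j, by omega⟩
          rw [shift_pow_apply, dif_pos (show j ≤ (i : ℕ) + j by omega)] at hx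
          simp only [Nat.add_sub_cancel] at hx
          exact hx.symm
      right_inv := fun y => by
        funext i
        show (if h : k ≤ (i.1 : ℕ) + j then y ⟨i.1, h⟩ else 0) = y i
        rw [dif_pos i.2] }
  rw [e.finrank_eq, Module.finrank_pi]
  let e' : {i : Fin k // k ≤ (i : ℕ) + j} ≃ Fin (min k j) :=
    { toFun := fun i => ⟨(i.1 : ℕ) - (k - min k j), by have := i.1.2; have := i.2; omega⟩
      invFun := fun a => ⟨⟨(a : ℕ) + (k - min k j), by have := a.2; omega⟩, by
        show k ≤ (a : ℕ) + (k - min k j) + j; omega⟩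
      left_inv := fun i => Subtype.ext (Fin.ext (by
        have := i.1.2; have := i.2
        show (i.1 : ℕ) - (k - min k j) + (k - min k j) = (i.1 : ℕ); omega))
      right_inv := fun a => Fin.ext (by
        show (a : ℕ) + (k - min k j) - (k - min k j) = (a : ℕ); omega) }
  rw [Fintype.card_congr e', Fintype.card_fin]

theorem shift_pow_self (k : ℕ) {m : ℕ} (h : k ≤ m) : shift F k ^ m = 0 := by
  refine LinearMap.ext fun x => funext fun i => ?_
  rw [shift_pow_apply, dif_neg (by have := i.2; omega)]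
  rfl

/-- The nilpotent normal form with block sizes `k`. -/
def nf (F : Type*) [Field F] {ι : Type*} (k : ι → ℕ) : Module.End F ((i : ι) → Fin (k i) → F) where
  toFun x i := shift F (k i) (x i)
  map_add' x y := by ext i; simp
  map_smul' c x := by ext i; simp

theorem nf_pow_apply {ι : Type*} (k : ι → ℕ) (j : ℕ) (x : (i : ι) → Fin (k i) → F) (i : ι) :
    (nf F k ^ j) x i = (shift F (k i) ^ j) (x i) := by
  induction j with
  | zero => rfl
  | succ j ih =>
    rw [pow_succ', pow_succ', Module.End.mul_apply, Module.End.mul_apply]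
    show shift F (k i) ((nf F k ^ j) x i) = _
    rw [ih]

theorem nf_nilpotent {ι : Type*} [Fintype ι] (k : ι → ℕ) : IsNilpotent (nf F k) := by
  refine ⟨∑ i, k i, LinearMap.ext fun x => funext fun i => ?_⟩
  rw [nf_pow_apply, shift_pow_self _ (Finset.single_le_sum (fun i _ => Nat.zero_le _)
    (Finset.mem_univ i))]
  rfl

theorem finrank_ker_nf {ι : Type*} [Fintype ι] (k : ι → ℕ) (j : ℕ) :
    finrank F (LinearMap.ker (nf F k ^ j)) = ∑ i, min (k i) j := by
  have e : LinearMap.ker (nf F k ^ j) ≃ₗ[F] ((i : ι) → LinearMap.ker (shift F (k i) ^ j)) :=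
    { toFun := fun x i => ⟨x.1 i, by
        rw [LinearMap.mem_ker, ← nf_pow_apply]
        exact congrFun (LinearMap.mem_ker.1 x.2) i⟩
      map_add' := fun _ _ => rfl
      map_smul' := fun _ _ => rfl
      invFun := fun y => ⟨fun i => (y i).1, by
        rw [LinearMap.mem_ker]
        funext i
        rw [nf_pow_apply]
        exact LinearMap.mem_ker.1 (y i).2⟩
      left_inv := fun _ => rfl
      right_inv := fun _ => rfl }
  rw [e.finrank_eq, Module.finrank_pi_fintype]
  exact Finset.sum_congr rfl fun i _ => finrank_ker_shift _ _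

theorem finrank_model {ι : Type*} [Fintype ι] (k : ι → ℕ) :
    finrank F ((i : ι) → Fin (k i) → F) = ∑ i, k i := by
  rw [Module.finrank_pi_fintype]; simp

/-- Similarity of endomorphisms. -/
def Sim {V W : Type*} [AddCommGroup V] [Module F V] [AddCommGroup W] [Module F W]
    (f : Module.End F V) (g : Module.End F W) : Prop :=
  ∃ e : V ≃ₗ[F] W, ∀ v, e (f v) = g (e v)

variable {V W U : Type*} [AddCommGroup V] [Module F V] [AddCommGroup W] [Module F W]
  [AddCommGroup U] [Module F U]

theorem Sim.trans {f : Module.End F V} {g : Module.End F W} {h : Module.End F U}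
    (h1 : Sim f g) (h2 : Sim g h) : Sim f h := by
  obtain ⟨e, he⟩ := h1
  obtain ⟨e', he'⟩ := h2
  exact ⟨e.trans e', fun v => by simp [he, he']⟩

theorem Sim.symm {f : Module.End F V} {g : Module.End F W} (h1 : Sim f g) : Sim g f := by
  obtain ⟨e, he⟩ := h1
  exact ⟨e.symm, fun w => e.injective (by rw [he, e.apply_symm_apply, e.apply_symm_apply])⟩

theorem Sim.pow {f : Module.End F V} {g : Module.End F W} {e : V ≃ₗ[F] W}
    (he : ∀ v, e (f v) = g (e v)) (j : ℕ) (v : V) : e ((f ^ j) v) = (g ^ j) (e v) := by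
  induction j with
  | zero => rfl
  | succ j ih => rw [pow_succ', pow_succ', Module.End.mul_apply, Module.End.mul_apply, he, ih]

theorem Sim.finrank_ker {f : Module.End F V} {g : Module.End F W} (h : Sim f g) (j : ℕ) :
    finrank F (LinearMap.ker (f ^ j)) = finrank F (LinearMap.ker (g ^ j)) := by
  obtain ⟨e, he⟩ := h
  refine LinearEquiv.finrank_eq (e.ofSubmodules _ _ ?_)
  ext w
  rw [Submodule.mem_map]
  constructor
  · rintro ⟨v, hv, rfl⟩
    rw [LinearMap.mem_ker] at hv ⊢
    show (g ^ j) (e v) = 0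
    rw [← Sim.pow he, hv, map_zero]
  · intro hw
    refine ⟨e.symm w, ?_, e.apply_symm_apply w⟩
    rw [LinearMap.mem_ker] at hw ⊢
    apply e.injective
    rw [Sim.pow he, e.apply_symm_apply, hw, map_zero]

theorem sim_reindex {ι κ : Type*} (σ : ι ≃ κ) (k : ι → ℕ) (k' : κ → ℕ) (h : ∀ i, k' (σ i) = k i) :
    Sim (nf F k) (nf F k') := by
  obtain rfl : k = k' ∘ σ := funext fun i => (h i).symm
  refine ⟨LinearEquiv.piCongrLeft F (fun j => Fin (k' j) → F) σ, fun x => funext fun j => ?_⟩
  obtain ⟨i, rfl⟩ := σ.surjective j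
  show Equiv.piCongrLeft (fun j => Fin (k' j) → F) σ (nf F (k' ∘ σ) x) (σ i) =
    shift F (k' (σ i)) (Equiv.piCongrLeft (fun j => Fin (k' j) → F) σ x (σ i))
  rw [Equiv.piCongrLeft_apply_apply, Equiv.piCongrLeft_apply_apply]
  rfl

theorem sim_drop_zero {ι : Type*} (k : ι → ℕ) :
    Sim (nf F k) (nf F (fun i : {i // k i ≠ 0} => k i)) := by
  classical
  refine ⟨{ toFun := fun x i => x i.1
            map_add' := fun _ _ => rfl
            map_smul' := fun _ _ => rfl
            invFun := fun y i => if h : k i ≠ 0 then y ⟨i, h⟩ else fun _ => 0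
            left_inv := fun x => funext fun i => ?_
            right_inv := fun y => funext fun i => ?_ }, fun x => rfl⟩
  · show (if h : k i ≠ 0 then x i else fun _ => 0) = x i
    split_ifs with h
    · rfl
    · exact funext fun a => absurd a.2 (by omega)
  · show (if h : k i.1 ≠ 0 then y ⟨i.1, h⟩ else fun _ => 0) = y i
    rw [dif_pos i.2]

theorem multiset_eq_of_countP {s t : Multiset ℕ} (hs : ∀ a ∈ s, a ≠ 0) (ht : ∀ a ∈ t, a ≠ 0)
    (h : ∀ j, ∑ a ∈ s.toFinset, s.count a * min a j = ∑ a ∈ t.toFinset, t.count a * min a j) :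
    s = t := by
  have hS : ∀ (u : Multiset ℕ) (j : ℕ),
      ∑ a ∈ u.toFinset, u.count a * min a j = (u.map fun a => min a j).sum := fun u j => by
    rw [Finset.sum_multiset_map_count]; simp
  have h1 : ∀ (u : Multiset ℕ) (j : ℕ), (u.map fun a => min a (j + 1)).sum =
      (u.map fun a => min a j).sum + u.countP (j < ·) := by
    intro u j
    induction u using Multiset.induction_on with
    | empty => simp
    | cons a u ih =>
      simp only [Multiset.map_cons, Multiset.sum_cons, Multiset.countP_cons, ih]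
      split_ifs <;> omega
  have h2 : ∀ j, s.countP (j < ·) = t.countP (j < ·) := by
    intro j
    have a1 := h (j + 1)
    have a2 := h j
    rw [hS, hS] at a1 a2
    rw [h1, h1] at a1
    omega
  have h3 : ∀ (u : Multiset ℕ) (b : ℕ),
      u.countP (b < ·) = u.countP (b + 1 < ·) + u.count (b + 1) := by
    intro u b
    induction u using Multiset.induction_on with
    | empty => simp
    | cons a u ih =>
      simp only [Multiset.countP_cons, Multiset.count_cons, ih]
      split_ifs <;> omega
  ext a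
  rcases a with _ | b
  · rw [Multiset.count_eq_zero.2 fun h => hs 0 h rfl, Multiset.count_eq_zero.2 fun h => ht 0 h rfl]
  · have := h3 s b
    have := h3 t b
    have := h2 b
    have := h2 (b + 1)
    omega

/-- Parts of a family of block sizes. -/
def parts {ι : Type*} [Fintype ι] (k : ι → ℕ) : Multiset ℕ := Finset.univ.val.map k

theorem sim_of_parts {ι κ : Type*} [Fintype ι] [Fintype κ] (k : ι → ℕ) (k' : κ → ℕ)
    (h : parts k = parts k') : Sim (nf F k) (nf F k') := by
  classical
  have hc : ∀ c, Fintype.card {i // k i = c} = Fintype.card {i // k' i = c} := by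
    intro c
    have := congrArg (Multiset.count c) h
    simp only [parts, Multiset.count_map] at this
    rw [Fintype.card_subtype, Fintype.card_subtype, Finset.card_def, Finset.card_def,
      Finset.filter_val, Finset.filter_val]
    rw [Multiset.filter_congr (p := fun i => k i = c) (q := fun i => c = k i) (fun _ _ => eq_comm),
      Multiset.filter_congr (p := fun i => k' i = c) (q := fun i => c = k' i) (fun _ _ => eq_comm)]
    exact this
  exact sim_reindex (Equiv.ofFiberEquiv fun c => Fintype.equivOfCardEq (hc c)) k k'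
    (fun i => Equiv.ofFiberEquiv_map _ i)

/-- Coefficient map. -/
noncomputable def coeffMap (F : Type*) [Field F] (k : ℕ) : F[X] →ₗ[F] (Fin k → F) :=
  LinearMap.pi fun i => lcoeff F (i : ℕ)

theorem coeffMap_X_mul (k : ℕ) (p : F[X]) : coeffMap F k (X * p) = shift F k (coeffMap F k p) := by
  ext i
  show (X * p).coeff (i : ℕ) = if h : 0 < (i : ℕ) then p.coeff ((i : ℕ) - 1) else 0
  rcases Nat.eq_zero_or_pos (i : ℕ) with h | h
  · rw [h]; simp
  · rw [dif_pos h]
    conv_lhs => rw [show (i : ℕ) = (i : ℕ) - 1 + 1 by omega, coeff_X_mul]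

theorem ker_coeffMap (k : ℕ) :
    LinearMap.ker (coeffMap F k) = (Submodule.span F[X] {(X : F[X]) ^ k}).restrictScalars F := by
  ext p
  rw [LinearMap.mem_ker, Submodule.restrictScalars_mem, Submodule.mem_span_singleton]
  constructor
  · intro h
    obtain ⟨a, ha⟩ := X_pow_dvd_iff.2 (fun d hd => congrFun h ⟨d, hd⟩ : ∀ d < k, p.coeff d = 0)
    exact ⟨a, by rw [smul_eq_mul, ha, mul_comm]⟩
  · rintro ⟨a, rfl⟩
    ext i
    show (a • X ^ k).coeff (i : ℕ) = 0
    rw [smul_eq_mul, coeff_mul_X_pow']
    rw [if_neg (by have := i.2; omega)]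

theorem coeffMap_surjective (k : ℕ) : Function.Surjective (coeffMap F k) := by
  intro y
  refine ⟨∑ i : Fin k, C (y i) * X ^ (i : ℕ), funext fun j => ?_⟩
  show (∑ i : Fin k, C (y i) * X ^ (i : ℕ)).coeff (j : ℕ) = y j
  simp [finset_sum_coeff, coeff_C_mul, coeff_X_pow, Fin.val_inj]

/-- `F[X]/(X^k) ≃ F^k`. -/
noncomputable def quotEquiv (k : ℕ) :
    (F[X] ⧸ Submodule.span F[X] {(X : F[X]) ^ k}) ≃ₗ[F] (Fin k → F) :=
  (Submodule.Quotient.restrictScalarsEquiv F _).symm ≪≫ₗ
    (Submodule.quotEquivOfEq _ _ (ker_coeffMap k).symm ≪≫ₗ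
      (coeffMap F k).quotKerEquivOfSurjective (coeffMap_surjective k))

theorem quotEquiv_X_smul (k : ℕ) (q : F[X] ⧸ Submodule.span F[X] {(X : F[X]) ^ k}) :
    quotEquiv k ((X : F[X]) • q) = shift F k (quotEquiv k q) := by
  obtain ⟨p, rfl⟩ := Submodule.Quotient.mk_surjective _ q
  exact coeffMap_X_mul k p

theorem exists_sim [FiniteDimensional F V] (f : Module.End F V) (hf : IsNilpotent f) :
    ∃ (d : ℕ) (k : Fin d → ℕ), Sim f (nf F k) := by
  obtain ⟨N, hN⟩ := hf
  have hM : Module.IsTorsion' (Module.AEval' f) (Submonoid.powers (X : F[X])) := by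
    intro x
    obtain ⟨v, rfl⟩ := (AEval'.of f).surjective x
    refine ⟨⟨X ^ N, N, rfl⟩, ?_⟩
    show (X ^ N : F[X]) • AEval'.of f v = 0
    rw [AEval'.X_pow_smul_of, hN, zero_smul, map_zero]
  obtain ⟨d, k, ⟨e⟩⟩ := Module.torsion_by_prime_power_decomposition Polynomial.irreducible_X hM
  refine ⟨d, k, (AEval'.of f).trans ((e.trans (DirectSum.linearEquivFunOnFintype F[X] (Fin d)
    (fun i => F[X] ⧸ Submodule.span F[X] {(X : F[X]) ^ k i}))).restrictScalars F ≪≫ₗ
      LinearEquiv.piCongrRight fun i => quotEquiv (k i)), fun v => funext fun i => ?_⟩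
  show quotEquiv (k i) (DirectSum.linearEquivFunOnFintype F[X] (Fin d) _ (e (AEval'.of f (f v))) i) =
    shift F (k i) (quotEquiv (k i) (DirectSum.linearEquivFunOnFintype F[X] (Fin d) _ (e (AEval'.of f v)) i))
  rw [← AEval'.X_smul_of, map_smul, map_smul, Pi.smul_apply, quotEquiv_X_smul]

/-- A partition records the kernel dimensions of the powers of `f`. -/
def Inv {n : ℕ} (f : Module.End F V) (s : Nat.Partition n) : Prop :=
  ∀ j, finrank F (LinearMap.ker (f ^ j)) = (s.parts.map fun a => min a j).sum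

theorem inv_nf {ι : Type*} [Fintype ι] (k : ι → ℕ) {n : ℕ} (h : (parts k).sum = n) :
    Inv (nf F k) (Nat.Partition.ofSums n (parts k) h) := by
  intro j
  rw [finrank_ker_nf]
  show ∑ i, min (k i) j = (((parts k).filter (· ≠ 0)).map fun a => min a j).sum
  rw [show ∑ i, min (k i) j = ((parts k).map fun a => min a j).sum by
    rw [parts, Multiset.map_map]; rfl]
  generalize parts k = u
  induction u using Multiset.induction_on with
  | empty => simp
  | cons a u ih =>
    rcases Nat.eq_zero_or_pos a with rfl | ha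
    · simp only [ne_eq, not_true_eq_false, Multiset.filter_cons_of_neg, not_false_eq_true,
        Multiset.map_cons, Multiset.sum_cons, Nat.zero_min, zero_add, ih]
    · rw [Multiset.filter_cons_of_pos (p := fun x => x ≠ 0) _ (by omega : a ≠ 0), Multiset.map_cons, Multiset.map_cons,
        Multiset.sum_cons, Multiset.sum_cons, ih]

theorem inv_unique {n : ℕ} {f : Module.End F V} {s t : Nat.Partition n}
    (hs : Inv f s) (ht : Inv f t) : s = t := by
  refine Nat.Partition.ext (multiset_eq_of_countP (fun a ha => (s.parts_pos ha).ne')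
    (fun a ha => (t.parts_pos ha).ne') fun j => ?_)
  have := (hs j).symm.trans (ht j)
  rw [Finset.sum_multiset_map_count, Finset.sum_multiset_map_count] at this
  simpa using this

theorem exists_inv [FiniteDimensional F V] {n : ℕ} (hV : finrank F V = n) (f : Module.End F V)
    (hf : IsNilpotent f) : ∃ s : Nat.Partition n, Inv f s := by
  obtain ⟨d, k, hk⟩ := exists_sim f hf
  have hsum : (parts k).sum = n := by
    obtain ⟨e, -⟩ := hk
    rw [← hV, e.finrank_eq, finrank_model]; rfl
  exact ⟨_, fun j => (hk.finrank_ker j).trans (inv_nf k hsum j)⟩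

theorem sim_of_inv [FiniteDimensional F V] [FiniteDimensional F W] {n : ℕ}
    (hV : finrank F V = n) (hW : finrank F W = n) {f : Module.End F V} {g : Module.End F W}
    (hf : IsNilpotent f) (hg : IsNilpotent g) {s : Nat.Partition n} (h1 : Inv f s) (h2 : Inv g s) :
    Sim f g := by
  obtain ⟨d, k, hk⟩ := exists_sim f hf
  obtain ⟨d', k', hk'⟩ := exists_sim g hg
  have hsum : (parts k).sum = n := by
    obtain ⟨e, -⟩ := hk
    rw [← hV, e.finrank_eq, finrank_model]; rfl
  have hsum' : (parts k').sum = n := by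
    obtain ⟨e, -⟩ := hk'
    rw [← hW, e.finrank_eq, finrank_model]; rfl
  have e1 := inv_unique h1 (fun j => (hk.finrank_ker j).trans (inv_nf k hsum j))
  have e2 := inv_unique h2 (fun j => (hk'.finrank_ker j).trans (inv_nf k' hsum' j))
  have hp : parts (fun i : {i // k i ≠ 0} => k i) = parts (fun i : {i // k' i ≠ 0} => k' i) := by
    have hh : ∀ {ι : Type} [Fintype ι] (k : ι → ℕ),
        parts (fun i : {i // k i ≠ 0} => k i) = (parts k).filter (· ≠ 0) := by
      intro ι _ k
      have hu : (Finset.univ : Finset {i // k i ≠ 0}).map (Function.Embedding.subtype _) =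
          Finset.univ.filter fun i => k i ≠ 0 := by ext i; simp
      rw [parts, parts, Multiset.filter_map]
      have hv := congrArg Finset.val hu
      rw [Finset.map_val, Finset.filter_val] at hv
      exact (Multiset.map_map k _ _).symm.trans (congrArg (Multiset.map k) hv)
    rw [hh, hh]
    exact congrArg Nat.Partition.parts (e1.symm.trans e2)
  exact (hk.trans (sim_drop_zero k)).trans
    ((sim_of_parts _ _ hp).trans ((sim_drop_zero k').symm.trans hk'.symm))

theorem exists_of_partition {n : ℕ} (hV : finrank F V = n) [FiniteDimensional F V]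
    (s : Nat.Partition n) : ∃ f : Module.End F V, IsNilpotent f ∧ Inv f s := by
  classical
  let k : s.parts → ℕ := fun x => (x : ℕ)
  have hp : parts k = s.parts := Multiset.map_univ_coe s.parts
  have hsum : (parts k).sum = n := by rw [hp, s.parts_sum]
  obtain ⟨e⟩ := FiniteDimensional.nonempty_linearEquiv_of_finrank_eq
    (R := F) (M := V) (M' := (i : s.parts) → Fin (k i) → F)
    ((hV.trans hsum.symm).trans (finrank_model k).symm)
  have hsim : Sim (e.symm.conj (nf F k)) (nf F k) :=
    ⟨e, fun v => by simp [LinearEquiv.conj_apply]⟩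
  refine ⟨e.symm.conj (nf F k), ?_, fun j => ?_⟩
  · obtain ⟨N, hN⟩ := nf_nilpotent (F := F) k
    refine ⟨N, LinearMap.ext fun v => e.injective ?_⟩
    obtain ⟨e', he'⟩ := hsim
    rw [Sim.pow (e := e) (g := nf F k) (fun v => by simp [LinearEquiv.conj_apply]), hN]
    simp
  · rw [hsim.finrank_ker, inv_nf k hsum j]
    show (((parts k).filter (· ≠ 0)).map fun a => min a j).sum = _
    rw [hp, Multiset.filter_eq_self.2 fun a ha => (s.parts_pos ha).ne']

end

section Classes

open Matrix

variable {F : Type*} [Field F] [Fintype F]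

theorem card_unipotent_classes (p : ℕ) [Fact p.Prime] [CharP F p] (n : ℕ) :
    Nat.card {C : ConjClasses (Matrix.GeneralLinearGroup (Fin n) F) //
      ∃ g : Matrix.GeneralLinearGroup (Fin n) F, (∃ k : ℕ, orderOf g = p ^ k) ∧ ConjClasses.mk g = C} =
      Fintype.card (Nat.Partition n) := by
  classical
  rcases Nat.eq_zero_or_pos n with rfl | hn
  · rw [Nat.card_eq_one_iff_unique.2 ⟨⟨fun a b => Subtype.ext ?_⟩,
      ⟨⟨ConjClasses.mk 1, 1, ⟨0, by simp⟩, rfl⟩⟩⟩]
    · exact (Fintype.card_unique).symm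
    · obtain ⟨x, hx⟩ := ConjClasses.mk_surjective a.1
      obtain ⟨y, hy⟩ := ConjClasses.mk_surjective b.1
      rw [← hx, ← hy, Subsingleton.elim x y]
  haveI : Nonempty (Fin n) := ⟨⟨0, hn⟩⟩
  let φ : Matrix.GeneralLinearGroup (Fin n) F → Module.End F (Fin n → F) :=
    fun g => Matrix.toLinAlgEquiv' (g.1 - 1)
  have key : ∀ (g : Matrix.GeneralLinearGroup (Fin n) F) (k : ℕ),
      (g.1 - 1) ^ p ^ k = 0 ↔ g ^ p ^ k = 1 := by
    intro g k
    rw [sub_pow_char_pow_of_commute p k (Commute.one_right _), one_pow, sub_eq_zero, Units.ext_iff,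
      Units.val_pow_eq_pow_val, Units.val_one]
  have hnil : ∀ g : Matrix.GeneralLinearGroup (Fin n) F, (∃ k : ℕ, orderOf g = p ^ k) →
      IsNilpotent (φ g) := by
    rintro g ⟨k, hk⟩
    exact (IsNilpotent.map_iff (f := Matrix.toLinAlgEquiv') (AlgEquiv.injective _)).2
      ⟨p ^ k, (key g k).2 (by rw [← hk, pow_orderOf_eq_one])⟩
  have hconj : ∀ g h : Matrix.GeneralLinearGroup (Fin n) F, IsConj g h ↔ Sim (φ g) (φ h) := by
    intro g h
    rw [isConj_iff]
    constructor
    · rintro ⟨u, rfl⟩
      refine ⟨(Matrix.GeneralLinearGroup.toLin u).toLinearEquiv, fun v => ?_⟩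
      show u.1 *ᵥ ((g.1 - 1) *ᵥ v) = ((u * g * u⁻¹ : Matrix.GeneralLinearGroup (Fin n) F).1 - 1) *ᵥ (u.1 *ᵥ v)
      rw [mulVec_mulVec, mulVec_mulVec, Units.val_mul, Units.val_mul]
      congr 1
      rw [mul_sub, sub_mul, Matrix.mul_assoc _ (u⁻¹).1 u.1, Units.inv_mul, mul_one, mul_one, one_mul]
    · rintro ⟨e, he⟩
      refine ⟨Units.map (Matrix.toLinAlgEquiv' (R := F) (n := Fin n)).symm.toRingHom.toMonoidHom
        (LinearMap.GeneralLinearGroup.ofLinearEquiv e), ?_⟩
      set u := Units.map (Matrix.toLinAlgEquiv' (R := F) (n := Fin n)).symm.toRingHom.toMonoidHom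
        (LinearMap.GeneralLinearGroup.ofLinearEquiv e) with hu
      have hu' : Matrix.toLinAlgEquiv' u.1 = (e : Module.End F (Fin n → F)) :=
        Matrix.toLinAlgEquiv'.apply_symm_apply _
      have hm : u.1 * (g.1 - 1) = (h.1 - 1) * u.1 :=
        Matrix.toLinAlgEquiv'.injective (by
          rw [map_mul, map_mul, hu']
          exact LinearMap.ext he)
      rw [mul_inv_eq_iff_eq_mul]
      apply Units.ext
      rw [Units.val_mul, Units.val_mul]
      rw [mul_sub, sub_mul, mul_one, one_mul] at hm
      exact sub_left_inj.1 hm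
  have hfin : finrank F (Fin n → F) = n := Module.finrank_fin_fun F
  have hex : ∀ C : {C : ConjClasses (Matrix.GeneralLinearGroup (Fin n) F) //
      ∃ g : Matrix.GeneralLinearGroup (Fin n) F, (∃ k : ℕ, orderOf g = p ^ k) ∧ ConjClasses.mk g = C},
      ∃ s : Nat.Partition n, Inv (φ C.2.choose) s :=
    fun C => exists_inv hfin _ (hnil _ C.2.choose_spec.1)
  rw [← Nat.card_eq_fintype_card]
  refine Nat.card_eq_of_bijective (fun C => (hex C).choose) ⟨fun C D hCD => ?_, fun s => ?_⟩
  · apply Subtype.ext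
    rw [← C.2.choose_spec.2, ← D.2.choose_spec.2, ConjClasses.mk_eq_mk_iff_isConj, hconj]
    exact sim_of_inv hfin hfin (hnil _ C.2.choose_spec.1) (hnil _ D.2.choose_spec.1)
      (hex C).choose_spec (by simp only at hCD; rw [hCD]; exact (hex D).choose_spec)
  · obtain ⟨f, ⟨m, hm⟩, hs⟩ := exists_of_partition hfin s
    set M := (Matrix.toLinAlgEquiv' (R := F) (n := Fin n)).symm f with hM
    have hMm : M ^ m = 0 := by rw [hM, ← map_pow, hm, map_zero]
    obtain ⟨u, hu⟩ := IsNilpotent.isUnit_one_add ⟨m, hMm⟩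
    have hu1 : u.1 - 1 = M := by rw [hu, add_sub_cancel_left]
    obtain ⟨k, -, hk⟩ := (Nat.dvd_prime_pow Fact.out).1 (orderOf_dvd_of_pow_eq_one ((key u m).1 (by
      rw [hu1]; exact pow_eq_zero_of_le (Nat.lt_pow_self (Fact.out : p.Prime).one_lt).le hMm)))
    have hφ : φ u = f := by
      show Matrix.toLinAlgEquiv' (u.1 - 1) = f
      rw [hu1, hM, AlgEquiv.apply_symm_apply]
    refine ⟨⟨ConjClasses.mk u, u, ⟨k, hk⟩, rfl⟩, ?_⟩
    generalize hC : (⟨ConjClasses.mk u, u, ⟨k, hk⟩, rfl⟩ : {C : ConjClasses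
      (Matrix.GeneralLinearGroup (Fin n) F) // ∃ g : Matrix.GeneralLinearGroup (Fin n) F,
        (∃ k : ℕ, orderOf g = p ^ k) ∧ ConjClasses.mk g = C}) = C
    have hc : IsConj C.2.choose u := by
      rw [← ConjClasses.mk_eq_mk_iff_isConj, C.2.choose_spec.2, ← hC]
    refine inv_unique (f := φ C.2.choose) (hex C).choose_spec fun j => ?_
    rw [((hconj _ _).1 hc).finrank_ker, hφ]
    exact hs j

end Classes

end Cfsg.Agent.NilJordan
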