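/-
In PGL_2(q) with q + 1 a power of two, any two Sylow 2-subgroups meet non-trivially.
-/
import Cfsg.Agent.Lib.Classical.GL2
import Mathlib.GroupTheory.Sylow
import Mathlib.FieldTheory.Finite.Basic
import Mathlib.Algebra.Field.ZMod
import Mathlib.NumberTheory.LegendreSymbol.QuadraticChar.Basic
import Mathlib.LinearAlgebra.Matrix.GeneralLinearGroup.Basic
import Mathlib.Algebra.Group.Subgroup.Pointwise

set_option autoImplicit false

namespace Cfsg.Agent.PGL2SylowInter

open Matrix
open scoped Pointwise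

variable {F : Type*} [Field F]

local notation "GL2" => GL (Fin 2) F
local notation "PG" => GL (Fin 2) F ⧸ Subgroup.center (GL (Fin 2) F)

/-- The rotation by a right angle. -/
def w : GL2 := ⟨!![0, -1; 1, 0], !![0, 1; -1, 0], by ext i j; fin_cases i <;> fin_cases j <;> simp,
  by ext i j; fin_cases i <;> fin_cases j <;> simp⟩

theorem mem_center_iff (z : GL2) :
    z ∈ Subgroup.center GL2 ↔ ∃ c : F, z.1 = c • (1 : Matrix (Fin 2) (Fin 2) F) := by
  rw [GeneralLinearGroup.center_eq_range_scalar]
  constructor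
  · rintro ⟨u, rfl⟩
    refine ⟨u, ?_⟩
    ext i j; fin_cases i <;> fin_cases j <;> simp
  · rintro ⟨c, hc⟩
    have hc0 : c ≠ 0 := fun h => z.det_ne_zero (by rw [hc, h, zero_smul, det_zero])
    refine ⟨Units.mk0 c hc0, Units.ext ?_⟩
    rw [hc]
    ext i j; fin_cases i <;> fin_cases j <;> simp

theorem mk_commute_iff (g h : GL2) :
    ((g : PG) * (h : PG) = (h : PG) * (g : PG)) ↔
      g.1 * h.1 = h.1 * g.1 ∨ g.1 * h.1 = -(h.1 * g.1) := by
  rw [← QuotientGroup.mk_mul, ← QuotientGroup.mk_mul, QuotientGroup.eq, mem_center_iff]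
  have e : (h * g).1 = (g * h).1 * ((g * h)⁻¹ * (h * g)).1 := by
    rw [← Units.val_mul, mul_inv_cancel_left]
  constructor
  · rintro ⟨c, hc⟩
    rw [hc, mul_smul_comm, mul_one] at e
    have hd : c ^ 2 = 1 := by
      have := congrArg Matrix.det e
      simp only [Units.val_mul, det_smul, det_mul, Fintype.card_fin] at this
      have hne : g.1.det * h.1.det ≠ 0 := mul_ne_zero g.det_ne_zero h.det_ne_zero
      exact mul_right_cancel₀ hne (by linear_combination -this)
    simp only [Units.val_mul] at e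
    rcases sq_eq_one_iff.1 hd with rfl | rfl
    · exact Or.inl (by rw [e, one_smul])
    · exact Or.inr (by rw [e, neg_one_smul, neg_neg])
  · intro hh
    have h1 : ((g * h)⁻¹ * (h * g)).1 = (g * h)⁻¹.1 * (h.1 * g.1) := rfl
    rcases hh with hh | hh
    · refine ⟨1, ?_⟩
      rw [h1, ← hh, ← Units.val_mul, ← Units.val_mul, inv_mul_cancel, Units.val_one, one_smul]
    · refine ⟨-1, ?_⟩
      rw [h1, show h.1 * g.1 = -(g.1 * h.1) by rw [hh, neg_neg], mul_neg, ← Units.val_mul,
        ← Units.val_mul, inv_mul_cancel, Units.val_one, neg_one_smul]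

theorem mk_eq_one_iff (g : GL2) : (g : PG) = 1 ↔ ∃ c : F, g.1 = c • (1 : Matrix (Fin 2) (Fin 2) F) := by
  rw [QuotientGroup.eq_one_iff, mem_center_iff]

/-- Two conjugates of the rotation share a non-trivial commuting element. -/
theorem exists_common (hm : ¬ IsSquare (-1 : F)) (h2 : (2 : F) ≠ 0) (g : GL2) :
    ∃ J : PG, J ≠ 1 ∧ J * ((w : GL2) : PG) = ((w : GL2) : PG) * J ∧
      J * ((g * w * g⁻¹ : GL2) : PG) = ((g * w * g⁻¹ : GL2) : PG) * J := by
  set M := g * w * g⁻¹ with hM
  have htr : M.1.trace = 0 := by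
    rw [hM, Units.val_mul, Units.val_mul, trace_units_conj]
    simp [w, trace_fin_two]
  have hdet : M.1.det = 1 := by
    rw [hM, Units.val_mul, Units.val_mul, det_units_conj]
    simp [w, det_fin_two]
  rw [trace_fin_two] at htr
  rw [det_fin_two] at hdet
  set J := w.1 * M.1 - M.1 * w.1 with hJ
  by_cases hJ0 : J = 0
  · refine ⟨((w : GL2) : PG), ?_, rfl, ?_⟩
    · rw [Ne, mk_eq_one_iff]
      rintro ⟨c, hc⟩
      have := congrFun (congrFun hc 1) 0
      simp [w] at this
    · rw [mk_commute_iff]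
      exact Or.inl (sub_eq_zero.1 hJ0)
  · have hJd : J.det ≠ 0 := by
      intro h0
      have h' : -((M.1 0 1 + M.1 1 0) ^ 2 + (M.1 0 0 - M.1 1 1) ^ 2) = 0 := by
        rw [← h0]
        simp [hJ, w, det_fin_two, Matrix.mul_apply, Fin.sum_univ_two, Matrix.vecMul, dotProduct]
        ring
      have hz : M.1 0 0 - M.1 1 1 = 0 := by
        by_contra hne
        refine hm ⟨(M.1 0 1 + M.1 1 0) / (M.1 0 0 - M.1 1 1), ?_⟩
        field_simp
        linear_combination h'
      rw [hz] at h'
      have hz2 : M.1 0 1 + M.1 1 0 = 0 :=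
        (pow_eq_zero_iff two_ne_zero).1 (by linear_combination -h')
      apply hJ0
      ext i j
      fin_cases i <;> fin_cases j <;> simp [hJ, w, Matrix.mul_apply, Fin.sum_univ_two, Matrix.vecMul, dotProduct]
      · linear_combination -hz2
      · linear_combination hz
      · linear_combination hz
      · linear_combination hz2
    let Jg : GL2 := GeneralLinearGroup.mkOfDetNeZero J hJd
    have hw2 : w.1 * w.1 = -(1 : Matrix (Fin 2) (Fin 2) F) := by
      ext i j; fin_cases i <;> fin_cases j <;> simp [w, Matrix.mul_apply, Fin.sum_univ_two]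
    have hM2 : M.1 * M.1 = -(1 : Matrix (Fin 2) (Fin 2) F) := by
      ext i j
      fin_cases i <;> fin_cases j <;> simp [Matrix.mul_apply, Fin.sum_univ_two]
      · linear_combination M.1 0 0 * htr - hdet
      · linear_combination M.1 0 1 * htr
      · linear_combination M.1 1 0 * htr
      · linear_combination M.1 1 1 * htr - hdet
    refine ⟨(Jg : PG), ?_, ?_, ?_⟩
    · rw [Ne, mk_eq_one_iff]
      rintro ⟨c, hc⟩
      have hc' : J = c • (1 : Matrix (Fin 2) (Fin 2) F) := hc
      have hc0 : c = 0 := by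
        have h1 := congrArg Matrix.trace hc'
        rw [hJ, trace_sub, trace_mul_comm, sub_self, trace_smul, trace_one, Fintype.card_fin,
          smul_eq_mul] at h1
        push_cast at h1
        exact (mul_eq_zero.1 h1.symm).resolve_right h2
      exact hJ0 (by rw [hc', hc0, zero_smul])
    · rw [mk_commute_iff]
      refine Or.inr ?_
      show J * w.1 = -(w.1 * J)
      rw [hJ, sub_mul, mul_sub, Matrix.mul_assoc M.1, hw2, ← Matrix.mul_assoc w.1 w.1, hw2,
        ← Matrix.mul_assoc w.1 M.1, mul_neg, mul_one, neg_mul, one_mul]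
      abel
    · rw [mk_commute_iff]
      refine Or.inr ?_
      show J * M.1 = -(M.1 * J)
      rw [hJ, sub_mul, mul_sub, Matrix.mul_assoc w.1, hM2, ← Matrix.mul_assoc M.1 M.1, hM2,
        ← Matrix.mul_assoc M.1 w.1, mul_neg, mul_one, neg_mul, one_mul]
      abel

theorem card_comap [Finite F] (hm : ¬ IsSquare (-1 : F)) (h2 : (2 : F) ≠ 0) :
    Nat.card ((Subgroup.centralizer {((w : GL2) : PG)}).comap (QuotientGroup.mk' (Subgroup.center GL2))) =
      2 * (Nat.card F ^ 2 - 1) := by
  classical
  have := Fintype.ofFinite F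
  have hsum : ∀ a b : F, (a, b) ≠ 0 → a * a + b * b ≠ 0 := by
    intro a b hab h
    by_cases hb : b = 0
    · subst hb
      simp at h
      exact hab (Prod.ext h rfl)
    · refine hm ⟨a / b, ?_⟩
      field_simp
      linear_combination -h
  have hmem : ∀ g : GL2, g ∈ (Subgroup.centralizer {((w : GL2) : PG)}).comap
      (QuotientGroup.mk' (Subgroup.center GL2)) ↔
      (g.1 1 1 = g.1 0 0 ∧ g.1 0 1 = -g.1 1 0) ∨ (g.1 1 1 = -g.1 0 0 ∧ g.1 0 1 = g.1 1 0) := by
    intro g
    rw [Subgroup.mem_comap, Subgroup.mem_centralizer_singleton_iff]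
    show ((g : PG) * ((w : GL2) : PG) = ((w : GL2) : PG) * (g : PG)) ↔ _
    rw [mk_commute_iff]
    constructor
    · rintro (h | h)
      · have e0 := congrFun (congrFun h 0) 0
        have e1 := congrFun (congrFun h 1) 0
        simp [w, Matrix.mul_apply, Fin.sum_univ_two, Matrix.vecMul, dotProduct] at e0 e1
        exact Or.inl ⟨e1, e0⟩
      · have e0 := congrFun (congrFun h 0) 0
        have e1 := congrFun (congrFun h 1) 0
        simp [w, Matrix.mul_apply, Fin.sum_univ_two, Matrix.vecMul, dotProduct] at e0 e1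
        exact Or.inr ⟨e1, e0⟩
    · rintro (⟨h1, h0⟩ | ⟨h1, h0⟩)
      · refine Or.inl ?_
        ext i j; fin_cases i <;> fin_cases j <;> simp [w, Matrix.mul_apply, Fin.sum_univ_two, Matrix.vecMul, dotProduct, h1, h0]
      · refine Or.inr ?_
        ext i j; fin_cases i <;> fin_cases j <;> simp [w, Matrix.mul_apply, Fin.sum_univ_two, Matrix.vecMul, dotProduct, h1, h0]
  let f : {ab : F × F // ab ≠ 0} × Bool →
      ((Subgroup.centralizer {((w : GL2) : PG)}).comap (QuotientGroup.mk' (Subgroup.center GL2))) :=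
    fun z => ⟨GeneralLinearGroup.mkOfDetNeZero
      (cond z.2 !![z.1.1.1, z.1.1.2; z.1.1.2, -z.1.1.1] !![z.1.1.1, -z.1.1.2; z.1.1.2, z.1.1.1]) (by
        have := hsum _ _ z.1.2
        cases z.2
        · simpa [det_fin_two] using this
        · intro h
          apply this
          simp [det_fin_two] at h
          linear_combination -h), (hmem _).2 (by
        cases z.2 <;> simp [GeneralLinearGroup.mkOfDetNeZero])⟩
  have hf : Function.Bijective f := by
    refine ⟨?_, fun x => ?_⟩
    · rintro ⟨⟨⟨a, b⟩, hab⟩, i⟩ ⟨⟨⟨a', b'⟩, hab'⟩, i'⟩ h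
      have h00 := congrArg (fun x : ((Subgroup.centralizer {((w : GL2) : PG)}).comap
        (QuotientGroup.mk' (Subgroup.center GL2))) => x.1.1 0 0) h
      have h10 := congrArg (fun x : ((Subgroup.centralizer {((w : GL2) : PG)}).comap
        (QuotientGroup.mk' (Subgroup.center GL2))) => x.1.1 1 0) h
      have h01 := congrArg (fun x : ((Subgroup.centralizer {((w : GL2) : PG)}).comap
        (QuotientGroup.mk' (Subgroup.center GL2))) => x.1.1 0 1) h
      have h11 := congrArg (fun x : ((Subgroup.centralizer {((w : GL2) : PG)}).comap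
        (QuotientGroup.mk' (Subgroup.center GL2))) => x.1.1 1 1) h
      cases i <;> cases i' <;> simp [f, GeneralLinearGroup.mkOfDetNeZero] at h00 h10 h01 h11
      · simp [h00, h10]
      · exfalso
        have ha : a' = 0 := (mul_eq_zero.1 (show (2 : F) * a' = 0 by
          linear_combination h11 - h00)).resolve_left h2
        have hb : b' = 0 := (mul_eq_zero.1 (show (2 : F) * b' = 0 by
          linear_combination -h01 - h10)).resolve_left h2
        exact hab' (Prod.ext ha hb)
      · exfalso
        have ha : a = 0 := (mul_eq_zero.1 (show (2 : F) * a = 0 by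
          linear_combination h00 - h11)).resolve_left h2
        have hb : b = 0 := (mul_eq_zero.1 (show (2 : F) * b = 0 by
          linear_combination h01 + h10)).resolve_left h2
        exact hab (Prod.ext ha hb)
      · simp [h00, h10]
    · have hne : (x.1.1 0 0, x.1.1 1 0) ≠ 0 := by
        intro h
        simp [Prod.ext_iff] at h
        exact x.1.det_ne_zero (by simp [det_fin_two, h.1, h.2])
      rcases (hmem x.1).1 x.2 with ⟨h1, h0⟩ | ⟨h1, h0⟩
      · refine ⟨(⟨_, hne⟩, false), Subtype.ext (Units.ext ?_)⟩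
        ext i j
        fin_cases i <;> fin_cases j <;> simp [f, GeneralLinearGroup.mkOfDetNeZero, h1, h0]
      · refine ⟨(⟨_, hne⟩, true), Subtype.ext (Units.ext ?_)⟩
        ext i j
        fin_cases i <;> fin_cases j <;> simp [f, GeneralLinearGroup.mkOfDetNeZero, h1, h0]
  rw [← Nat.card_eq_of_bijective f hf, Nat.card_prod, Nat.card_eq_fintype_card,
    Fintype.card_subtype_compl, Fintype.card_subtype_eq, Fintype.card_prod,
    Nat.card_eq_fintype_card (α := Bool), Fintype.card_bool, Nat.card_eq_fintype_card, pow_two,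
    mul_comm]

theorem card_center [Finite F] : Nat.card (Subgroup.center GL2) = Nat.card F - 1 := by
  rw [GeneralLinearGroup.center_eq_range_scalar, ← Nat.card_units]
  refine (Nat.card_congr (MonoidHom.ofInjective (f := GeneralLinearGroup.scalar (Fin 2) (R := F))
    fun a b h => ?_).toEquiv).symm
  have := congrArg (fun x : GL2 => x.1 0 0) h
  exact Units.ext (by simpa using this)

theorem card_comap_mk (H : Subgroup PG) [Finite F] :
    Nat.card (H.comap (QuotientGroup.mk' (Subgroup.center GL2))) =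
      Nat.card H * Nat.card (Subgroup.center GL2) := by
  rw [mul_comm, ← Nat.card_prod]
  exact Nat.card_congr (QuotientGroup.preimageMkEquivSubgroupProdSet (Subgroup.center GL2) (H : Set PG))

theorem sylow_inter [Fintype F] {k : ℕ} (hk : Fintype.card F + 1 = 2 ^ k) (hk2 : 2 ≤ k)
    (H : Sylow 2 PG) (x : PG) :
    (H : Subgroup PG) ⊓ MulAut.conj x • (H : Subgroup PG) ≠ ⊥ := by
  classical
  have h4 : Fintype.card F % 4 = 3 := by
    obtain ⟨m, rfl⟩ := Nat.exists_eq_add_of_le hk2
    rw [pow_add] at hk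
    norm_num at hk
    omega
  have h2 : (2 : F) ≠ 0 := by
    intro h
    have hr : ringChar F ∣ 2 := ringChar.dvd (by exact_mod_cast h)
    rcases (Nat.dvd_prime Nat.prime_two).1 hr with h1 | h1
    · exact CharP.ringChar_ne_one h1
    · have := FiniteField.even_card_of_char_two h1
      omega
  have hm : ¬ IsSquare (-1 : F) := fun h => (FiniteField.isSquare_neg_one_iff.1 h) h4
  have hq : 1 < Fintype.card F := Fintype.one_lt_card
  set C := Subgroup.centralizer {((w : GL2) : PG)} with hC
  have hCc : Nat.card C = 2 ^ (k + 1) := by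
    have h := card_comap (F := F) hm h2
    rw [card_comap_mk, card_center, Nat.card_eq_fintype_card (α := F),
      show Fintype.card F ^ 2 - 1 = (Fintype.card F + 1) * (Fintype.card F - 1) by
        simpa using Nat.sq_sub_sq (Fintype.card F) 1, hk, ← mul_assoc, ← pow_succ'] at h
    exact Nat.eq_of_mul_eq_mul_right (by omega) h
  have hPG : Nat.card PG * (Fintype.card F - 1) =
      (Fintype.card F + 1) * (Fintype.card F * (Fintype.card F - 1) ^ 2) := by
    have h := (Subgroup.card_eq_card_quotient_mul_card_subgroup (Subgroup.center GL2)).symm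
    rw [card_center, ClassicalGL2.card_gl2, Nat.card_eq_fintype_card (α := F)] at h
    exact h
  have hPG' : Nat.card PG = 2 ^ k * (Fintype.card F * (Fintype.card F - 1)) := by
    refine Nat.eq_of_mul_eq_mul_right (show 0 < Fintype.card F - 1 by omega) (hPG.trans ?_)
    rw [hk, pow_two]; ring
  obtain ⟨m, hm2, hmo⟩ : ∃ m, Fintype.card F - 1 = 2 * m ∧ ¬ 2 ∣ m :=
    ⟨(Fintype.card F - 1) / 2, by omega, by omega⟩
  have hfac : (Nat.card PG).factorization 2 = k + 1 := by
    have e : Nat.card PG = 2 ^ (k + 1) * (Fintype.card F * m) := by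
      rw [hPG', hm2]; ring
    have hodd : ¬ 2 ∣ Fintype.card F * m := by
      rw [Nat.prime_two.dvd_mul]; omega
    have hne : Fintype.card F * m ≠ 0 := fun h => hodd (by rw [h]; exact dvd_zero 2)
    rw [e, Nat.factorization_mul (pow_ne_zero _ two_ne_zero) hne, Finsupp.add_apply,
      Nat.prime_two.factorization_pow, Finsupp.single_eq_same,
      Nat.factorization_eq_zero_of_not_dvd hodd, add_zero]
  haveI : Finite PG := Quotient.finite _
  let P₀ : Sylow 2 PG := Sylow.ofCard C (by rw [hCc, hfac])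
  obtain ⟨y, hy⟩ := MulAction.exists_smul_eq PG P₀ H
  have hH : (H : Subgroup PG) = MulAut.conj y • C := by
    rw [← hy, Sylow.coe_subgroup_smul]
    rfl
  obtain ⟨g, hg⟩ := QuotientGroup.mk_surjective (y⁻¹ * x * y)
  obtain ⟨J, hJ1, hJw, hJg⟩ := exists_common hm h2 g
  intro hbot
  have h1 : y * J * y⁻¹ ∈ (H : Subgroup PG) := by
    rw [hH]
    exact Subgroup.smul_mem_pointwise_smul J (MulAut.conj y) C
      (Subgroup.mem_centralizer_singleton_iff.2 hJw)
  have h3 : (g : PG)⁻¹ * J * (g : PG) ∈ C := by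
    rw [QuotientGroup.mk_mul, QuotientGroup.mk_mul, QuotientGroup.mk_inv] at hJg
    rw [hC, Subgroup.mem_centralizer_singleton_iff]
    calc (g : PG)⁻¹ * J * (g : PG) * ((w : GL2) : PG) = (g : PG)⁻¹ * (J * ((g : PG) * ((w : GL2) : PG) * (g : PG)⁻¹)) * (g : PG) := by group
      _ = (g : PG)⁻¹ * (((g : PG) * ((w : GL2) : PG) * (g : PG)⁻¹) * J) * (g : PG) := by rw [hJg]
      _ = ((w : GL2) : PG) * ((g : PG)⁻¹ * J * (g : PG)) := by group
  have h4' : y * J * y⁻¹ ∈ MulAut.conj x • (H : Subgroup PG) := by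
    rw [hH, smul_smul, ← map_mul]
    have h5 := Subgroup.smul_mem_pointwise_smul _ (MulAut.conj (x * y)) C h3
    have e : MulAut.conj (x * y) • ((g : PG)⁻¹ * J * (g : PG)) = y * J * y⁻¹ := by
      show x * y * ((g : PG)⁻¹ * J * (g : PG)) * (x * y)⁻¹ = _
      rw [hg]
      group
    rwa [e] at h5
  have : y * J * y⁻¹ ∈ (⊥ : Subgroup PG) := hbot ▸ Subgroup.mem_inf.2 ⟨h1, h4'⟩
  exact hJ1 (conj_eq_one_iff.1 (Subgroup.mem_bot.1 this))

end Cfsg.Agent.PGL2SylowInter
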