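/-
Products of conjugacy classes and the factorisation ABA in PSL_2 over a finite field.
-/
import Cfsg.Agent.Lib.Classical.SL2Tori
import Mathlib.LinearAlgebra.Matrix.ProjectiveSpecialLinearGroup
import Mathlib.FieldTheory.Finite.Basic

set_option autoImplicit false

namespace Cfsg.Agent.PSL2Products

open Matrix TwoByTwo SL2Tori

variable {F : Type*} [Field F]

local notation "SL2" => Matrix.SpecialLinearGroup (Fin 2) F
local notation "PS" => Matrix.ProjectiveSpecialLinearGroup (Fin 2) F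

/-- The projection to `PSL`. -/
def pr : SL2 →* PS := QuotientGroup.mk' _

theorem pr_surjective : Function.Surjective (pr : SL2 → PS) := QuotientGroup.mk'_surjective _

theorem mem_center_iff (x : SL2) : x ∈ Subgroup.center SL2 ↔ IsScalar x.1 := by
  constructor
  · intro h
    obtain ⟨r, -, hr⟩ := Matrix.SpecialLinearGroup.mem_center_iff.1 h
    rw [← hr]
    simp [IsScalar]
  · intro h
    rw [Subgroup.mem_center_iff]
    intro y
    apply Subtype.ext
    show y.1 * x.1 = x.1 * y.1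
    rw [isScalar_iff.1 h, mul_smul_comm, smul_mul_assoc, mul_one, one_mul]

theorem pr_eq_one_iff (x : SL2) : pr x = 1 ↔ IsScalar x.1 := by
  rw [← mem_center_iff]
  exact QuotientGroup.eq_one_iff x

theorem val_eq_or_neg {x y : SL2} (h : pr x = pr y) : y.1 = x.1 ∨ y.1 = -x.1 := by
  have h1 : pr (x⁻¹ * y) = 1 := by rw [map_mul, map_inv, h, inv_mul_cancel]
  have h2 : x.1 * (x⁻¹ * y).1 = y.1 := congrArg Subtype.val (mul_inv_cancel_left x y)
  rcases val_eq_pm_one ((pr_eq_one_iff _).1 h1) with e | e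
  · rw [e, mul_one] at h2; exact Or.inl h2.symm
  · rw [e, mul_neg, mul_one] at h2; exact Or.inr h2.symm

/-- The companion of trace `t` scaled by `c`. -/
def std (t c : F) (hc : c ≠ 0) : SL2 := ⟨!![0, -c⁻¹; c, t], by simp [det_fin_two_of, hc]⟩

theorem form_std {t c : F} (hc : c ≠ 0) : form (std t c hc).1 ![1, 0] = c := by
  simp [form_eq, std]

theorem trace_std {t c : F} (hc : c ≠ 0) : (std t c hc).1.trace = t := by
  simp [std, trace_fin_two]

theorem exists_std {g : SL2} (hg : ¬ IsScalar g.1) :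
    ∃ (c : F) (hc : c ≠ 0), IsConj g (std g.1.trace c hc) := by
  obtain ⟨v, hv⟩ := exists_form_ne_zero hg
  exact ⟨form g.1 v, hv, (isConj_sl_iff _ _ hg).2 ⟨(trace_std hv).symm, v, ![1, 0], hv, form_std hv⟩⟩

/-- Conjugates of `b` by upper unitriangular matrices give many traces. -/
theorem not_single_class [Fintype F] (h4 : 4 ≤ Fintype.card F) (a b : PS) (ha : a ≠ 1) (hb : b ≠ 1)
    (c : PS) :
    {g : PS | ∃ u v : PS, g = (u * a * u⁻¹) * (v * b * v⁻¹)} ≠ {g | IsConj c g} := by
  classical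
  intro heq
  obtain ⟨a₁, rfl⟩ := pr_surjective a
  obtain ⟨b₁, rfl⟩ := pr_surjective b
  obtain ⟨c₁, rfl⟩ := pr_surjective c
  obtain ⟨k, hk, hA⟩ := exists_std (fun h => ha ((pr_eq_one_iff a₁).2 h))
  obtain ⟨e, he, hB⟩ := exists_std (fun h => hb ((pr_eq_one_iff b₁).2 h))
  obtain ⟨u, hu⟩ := isConj_iff.1 hA
  obtain ⟨v, hv⟩ := isConj_iff.1 hB
  set s := a₁.1.trace with hs
  set r := b₁.1.trace with hr
  let f : F → F := fun x => (-k⁻¹) * e + k * (-e⁻¹ + x * r - x ^ 2 * e) + s * (r - x * e)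
  have hval : ∀ x : F, f x = c₁.1.trace ∨ f x = -c₁.1.trace := by
    intro x
    let U := SL2Classes.upper x
    have hmem : pr (u * a₁ * u⁻¹ * ((U * v) * b₁ * (U * v)⁻¹)) ∈
        {g : PS | ∃ p q : PS, g = (p * pr a₁ * p⁻¹) * (q * pr b₁ * q⁻¹)} :=
      ⟨pr u, pr (U * v), by simp only [map_mul, map_inv]⟩
    rw [heq] at hmem
    obtain ⟨y, hy⟩ := isConj_iff.1 (hmem : IsConj (pr c₁) _)
    obtain ⟨y₁, rfl⟩ := pr_surjective y
    rw [← map_inv, ← map_mul, ← map_mul] at hy
    have htr : (u * a₁ * u⁻¹ * ((U * v) * b₁ * (U * v)⁻¹)).1.trace = f x := by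
      rw [show (U * v) * b₁ * (U * v)⁻¹ = U * (v * b₁ * v⁻¹) * U⁻¹ by group, hu, hv]
      show ((std s k hk).1 * (U.1 * (std r e he).1 * U.1.adjugate)).trace = f x
      simp [std, U, f, trace_fin_two, Matrix.mul_apply, Fin.sum_univ_two, adjugate_fin_two]
      ring
    have hc := trace_conj y₁ c₁
    rcases val_eq_or_neg hy with h | h
    · refine Or.inl ?_
      rw [← htr, h, hc]
    · refine Or.inr ?_
      rw [← htr, h, trace_neg, hc]
  have hfib : ∀ τ : F, (Finset.univ.filter fun x => f x = τ).card ≤ 2 := by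
    intro τ
    by_cases hne : ∃ x, f x = τ
    · obtain ⟨x₀, rfl⟩ := hne
      refine (Finset.card_le_card (t := {x₀, (r * k - s * e) / (k * e) - x₀}) ?_).trans
        Finset.card_le_two
      intro x hx
      simp only [Finset.mem_filter, Finset.mem_univ, true_and] at hx
      simp only [Finset.mem_insert, Finset.mem_singleton]
      by_cases hxx : x = x₀
      · exact Or.inl hxx
      · refine Or.inr ?_
        have hz : (x - x₀) * ((x + x₀) * (k * e) - (r * k - s * e)) = 0 := by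
          simp only [f] at hx
          linear_combination -hx
        have := (mul_eq_zero.1 hz).resolve_left (sub_ne_zero.2 hxx)
        rw [eq_sub_iff_add_eq, eq_div_iff (mul_ne_zero hk he)]
        linear_combination this
    · rw [Finset.filter_eq_empty_iff.2 fun x _ hx => hne ⟨x, hx⟩]
      simp
  have hcount := Finset.card_eq_sum_card_fiberwise (s := (Finset.univ : Finset F))
    (t := {c₁.1.trace, -c₁.1.trace}) (f := f) (fun x _ => by
      rcases hval x with h | h <;> simp [h])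
  have hle := Finset.sum_le_sum (s := ({c₁.1.trace, -c₁.1.trace} : Finset F)) fun τ _ => hfib τ
  rw [← hcount, Finset.card_univ, Finset.sum_const, smul_eq_mul] at hle
  by_cases h2 : ringChar F = 2
  · haveI : CharP F 2 := ringChar.of_eq h2
    rw [CharTwo.neg_eq, Finset.insert_eq_of_mem (Finset.mem_singleton_self _),
      Finset.card_singleton] at hle
    omega
  · have hodd := FiniteField.odd_card_of_char_ne_two h2
    have := Finset.card_le_two (a := c₁.1.trace) (b := -c₁.1.trace)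
    have : ({c₁.1.trace, -c₁.1.trace} : Finset F).card * 2 ≤ 4 := by omega
    omega

/-- A non-degenerate binary form takes every value. -/
theorem repr_of_disc [Finite F] (t : F) (h : t ^ 2 - 4 ≠ 0) (c : F) :
    ∃ a b : F, a ^ 2 + a * b * t + b ^ 2 = c := by
  classical
  have := Fintype.ofFinite F
  by_cases h2 : ringChar F = 2
  · obtain ⟨r, hr⟩ := FiniteField.isSquare_of_char_two h2 c
    exact ⟨r, 0, by rw [hr]; ring⟩
  · have hodd := FiniteField.odd_card_of_char_ne_two h2
    have t2 : (2 : F) ≠ 0 := Ring.two_ne_zero h2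
    have hD : (1 : F) - t ^ 2 / 4 ≠ 0 := by
      intro e
      refine h ?_
      rw [show (4 : F) = 2 * 2 by norm_num] at e ⊢
      field_simp at e
      linear_combination -e
    have hC : (Polynomial.C (1 - t ^ 2 / 4) * Polynomial.X ^ 2 + Polynomial.C (-c)).degree = 2 := by
      rw [Polynomial.degree_add_C (by rw [Polynomial.degree_C_mul_X_pow 2 hD]; decide),
        Polynomial.degree_C_mul_X_pow 2 hD]
      rfl
    obtain ⟨x, y, hxy⟩ := FiniteField.exists_root_sum_quadratic (Polynomial.degree_X_pow 2) hC hodd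
    simp at hxy
    refine ⟨x - y * t / 2, y, ?_⟩
    rw [show (4 : F) = 2 * 2 by norm_num] at hxy
    field_simp at hxy ⊢
    linear_combination hxy

theorem isConj_semisimple [Finite F] {g h : SL2} (hg : ¬ IsScalar g.1) (hh : ¬ IsScalar h.1)
    (ht : g.1.trace = h.1.trace) (hd : g.1.trace ^ 2 - 4 ≠ 0) : IsConj g h := by
  obtain ⟨v, hv⟩ := exists_form_ne_zero hg
  obtain ⟨w, hw⟩ := exists_form_ne_zero hh
  obtain ⟨a, b, hab⟩ := repr_of_disc g.1.trace hd (form h.1 w / form g.1 v)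
  have hdet : (a • (1 : Matrix (Fin 2) (Fin 2) F) + b • g.1).det = form h.1 w / form g.1 v := by
    rw [det_lin, g.det_coe, mul_one]; exact hab
  have hf : form g.1 ((a • (1 : Matrix (Fin 2) (Fin 2) F) + b • g.1) *ᵥ v) = form h.1 w := by
    rw [form_conj (commute_lin g.1 a b).symm v, hdet, div_mul_cancel₀ _ hv]
  exact (isConj_sl_iff g h hg).2 ⟨ht, _, w, hf ▸ hw, hf.symm⟩

theorem trace_eq_two_cases {x : SL2} (h : x.1.trace ^ 2 - 4 = 0) (p : ℕ) [Fact p.Prime] [CharP F p] :
    pr x ^ p = 1 := by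
  obtain ⟨ε, hε, hεt⟩ : ∃ ε : F, ε * ε = 1 ∧ x.1.trace = 2 * ε := by
    have h' : (x.1.trace - 2) * (x.1.trace + 2) = 0 := by linear_combination h
    rcases mul_eq_zero.1 h' with e | e
    · exact ⟨1, by ring, by linear_combination e⟩
    · exact ⟨-1, by ring, by linear_combination e⟩
  have h0 : (x.1 - ε • 1) ^ 2 = 0 := by
    have hd := x.det_coe
    rw [det_fin_two] at hd
    rw [trace_fin_two] at hεt
    ext i j
    fin_cases i <;> fin_cases j <;> simp [pow_two, Matrix.mul_apply, Fin.sum_univ_two]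
    · linear_combination x.1 0 0 * hεt - hd + hε
    · linear_combination x.1 0 1 * hεt
    · linear_combination x.1 1 0 * hεt
    · linear_combination x.1 1 1 * hεt - hd + hε
  have h1 := pow_eq_zero_of_le (Fact.out : p.Prime).two_le h0
  rw [sub_pow_char_of_commute p (by
      show x.1 * (ε • (1 : Matrix (Fin 2) (Fin 2) F)) = (ε • (1 : Matrix (Fin 2) (Fin 2) F)) * x.1
      rw [mul_smul_comm, smul_mul_assoc, mul_one, one_mul]), sub_eq_zero, smul_pow, one_pow] at h1
  rw [← map_pow, pr_eq_one_iff, show (x ^ p).1 = x.1 ^ p from Matrix.SpecialLinearGroup.coe_pow x p,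
    h1]
  exact isScalar_smul_one _

theorem mul_self_of_trace_zero {x : SL2} (h : x.1.trace = 0) : pr x ^ 2 = 1 := by
  rw [← map_pow, pr_eq_one_iff, pow_two]
  show IsScalar (x.1 * x.1)
  have hd := x.det_coe
  rw [det_fin_two] at hd
  rw [trace_fin_two] at h
  refine ⟨?_, ?_, ?_⟩ <;> simp [Matrix.mul_apply, Fin.sum_univ_two]
  · linear_combination x.1 0 1 * h
  · linear_combination x.1 1 0 * h
  · linear_combination (x.1 0 0 - x.1 1 1) * h

/-- The covering lemma: the conjugates of an element of trace `s` multiply onto everything. -/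
theorem covering [Fintype F] {x : SL2} (hxns : ¬ IsScalar x.1) (hd : x.1.trace ^ 2 - 4 ≠ 0)
    (hs : x.1.trace ≠ 0)
    (hroot : (2 : F) = 0 → ∃ a : F, a ^ 2 - a * x.1.trace + 1 = 0) (g : PS) (hg : g ≠ 1) :
    ∃ u v : PS, g = (u * pr x * u⁻¹) * (v * pr x * v⁻¹) := by
  set s := x.1.trace with hsdef
  obtain ⟨G₀, rfl⟩ := pr_surjective g
  -- choose the lift of trace different from `2`, unless the characteristic is two
  obtain ⟨G, hG, hGt⟩ : ∃ G : SL2, pr G = pr G₀ ∧ (G.1.trace = 2 → G.1.trace = -2) := by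
    by_cases h : G₀.1.trace = 2
    · let N : SL2 := ⟨-G₀.1, by rw [det_neg, Fintype.card_fin, neg_one_sq, one_mul, G₀.det_coe]⟩
      refine ⟨N, ?_, ?_⟩
      · symm
        rw [← inv_mul_eq_one, ← map_inv, ← map_mul, pr_eq_one_iff]
        show IsScalar (G₀.1.adjugate * -G₀.1)
        rw [mul_neg, adjugate_mul, G₀.det_coe, one_smul]
        simp [IsScalar]
      · intro _; show (-G₀.1).trace = -2; rw [trace_neg, h]
    · exact ⟨G₀, rfl, fun e => absurd e h⟩
  rw [← hG] at hg ⊢
  obtain ⟨c, hc, hconj⟩ := exists_std (fun h => hg ((pr_eq_one_iff G).2 h))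
  set t := G.1.trace with htdef
  obtain ⟨α, z, hαz⟩ : ∃ α z : F, α ^ 2 - t * α * z + z ^ 2 - s * α + s * z + 1 = 0 := by
    by_cases htm : t + 2 = 0
    · by_cases h2 : (2 : F) = 0
      · obtain ⟨a, ha⟩ := hroot h2
        refine ⟨0, a, ?_⟩
        linear_combination ha + a * s * h2
      · refine ⟨1 / (2 * s), -(1 / (2 * s)), ?_⟩
        have ht : t = -2 := by linear_combination htm
        rw [ht]
        field_simp
        ring
    · have ht2 : t ^ 2 - 4 ≠ 0 := by
        intro e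
        have h' : (t - 2) * (t + 2) = 0 := by linear_combination e
        have := sub_eq_zero.1 ((mul_eq_zero.1 h').resolve_right htm)
        exact htm (by rw [hGt this]; ring)
      obtain ⟨A, Z, hAZ⟩ := repr_of_disc (-t) (by rwa [neg_sq]) (-(1 - s ^ 2 / (2 + t)))
      refine ⟨s / (2 + t) + A, -(s / (2 + t)) + Z, ?_⟩
      have h2t : 2 + t ≠ 0 := by rwa [add_comm]
      field_simp at hAZ ⊢
      linear_combination (2 + t) * hAZ
  let β := z / c
  let γ := c * (s + z - α * t)
  let U : SL2 := ⟨!![α, β; γ, s - α], by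
    rw [det_fin_two_of]
    simp only [β, γ]
    field_simp
    linear_combination -hαz⟩
  have hUt : U.1.trace = s := by simp [U, trace_fin_two]
  have hVt : (U⁻¹ * std t c hc).1.trace = s := by
    show (U.1.adjugate * (std t c hc).1).trace = s
    simp [U, β, γ, std, trace_fin_two, Matrix.mul_apply, Fin.sum_univ_two, adjugate_fin_two]
    field_simp
    ring
  have conjx : ∀ Y : SL2, Y.1.trace = s → ∃ w : SL2, w * x * w⁻¹ = Y := by
    intro Y hY
    have hns : ¬ IsScalar Y.1 := by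
      intro h
      refine hd ?_
      rcases val_eq_pm_one h with e | e <;>
        rw [e] at hY <;> simp at hY <;> rw [← hY] <;> ring
    exact isConj_iff.1 (isConj_semisimple hxns hns hY.symm hd)
  obtain ⟨w₁, hw₁⟩ := conjx U hUt
  obtain ⟨w₂, hw₂⟩ := conjx _ hVt
  obtain ⟨y, hy⟩ := isConj_iff.1 hconj
  refine ⟨pr (y⁻¹ * w₁), pr (y⁻¹ * w₂), ?_⟩
  rw [← map_inv, ← map_inv, ← map_mul, ← map_mul, ← map_mul, ← map_mul, ← map_mul]
  congr 1
  calc G = y⁻¹ * (y * G * y⁻¹) * y := by group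
    _ = y⁻¹ * (U * (U⁻¹ * std t c hc)) * y := by rw [hy, mul_inv_cancel_left]
    _ = y⁻¹ * ((w₁ * x * w₁⁻¹) * (w₂ * x * w₂⁻¹)) * y := by rw [hw₁, hw₂]
    _ = _ := by group

/-- The upper unitriangular subgroup. -/
def upperGroup : Subgroup SL2 where
  carrier := Set.range (SL2Classes.upper : F → SL2)
  one_mem' := ⟨0, Subtype.ext (by ext i j; fin_cases i <;> fin_cases j <;> simp)⟩
  mul_mem' := by
    rintro _ _ ⟨a, rfl⟩ ⟨b, rfl⟩
    refine ⟨a + b, Subtype.ext ?_⟩
    show _ = (SL2Classes.upper a).1 * (SL2Classes.upper b).1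
    ext i j; fin_cases i <;> fin_cases j <;> simp [Matrix.mul_apply, Fin.sum_univ_two, add_comm]
  inv_mem' := by
    rintro _ ⟨a, rfl⟩
    refine ⟨-a, Subtype.ext ?_⟩
    show _ = (SL2Classes.upper a).1.adjugate
    ext i j; fin_cases i <;> fin_cases j <;> simp [adjugate_fin_two]

theorem pr_injective [CharP F 2] : Function.Injective (pr : SL2 → PS) := fun x y h => by
  rcases val_eq_or_neg h with e | e
  · exact (Subtype.ext e).symm
  · refine (Subtype.ext (e.trans ?_)).symm
    ext i j; simp [CharTwo.neg_eq]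

/-- The factorisation `ABA` in even characteristic. -/
theorem exists_ABA [Fintype F] [CharP F 2] :
    ∃ A B : Subgroup PS, IsCyclic A ∧ Nat.card A = Fintype.card F + 1 ∧ IsMulCommutative B ∧
      (∀ b ∈ B, b * b = 1) ∧ Nat.card B = Fintype.card F ∧
      ∀ g : PS, ∃ a ∈ A, ∃ b ∈ B, ∃ c ∈ A, g = a * b * c := by
  classical
  obtain ⟨g₀, hg₀⟩ := exists_noEigen (F := F)
  let θ : SL2 := ⟨TwoByTwo.comp g₀.1.trace 1, det_comp _ 1⟩
  have hθ : NoEigen θ.1 := noEigen_of_trace hg₀ (trace_comp _ _).symm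
  have hform : ∀ v, form θ.1 v = v 0 ^ 2 + g₀.1.trace * (v 0 * v 1) + v 1 ^ 2 := fun v => by
    simp [form_eq, θ, TwoByTwo.comp]
  have haniso : ∀ v, form θ.1 v = 0 → v = 0 := by
    intro v hv
    by_contra hne
    have hd : (cyc θ.1 v).det = 0 := hv
    obtain ⟨w, hw, hw0⟩ := exists_mulVec_eq_zero_iff.2 hd
    have hlin : w 0 • v + w 1 • (θ.1 *ᵥ v) = 0 := by
      rw [← hw0]
      ext i; fin_cases i <;> simp [cyc, Matrix.mulVec, dotProduct, Fin.sum_univ_two] <;> ring
    by_cases h1 : w 1 = 0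
    · rw [h1, zero_smul, add_zero] at hlin
      rcases smul_eq_zero.1 hlin with h | h
      · exact hw (funext fun i => by fin_cases i <;> assumption)
      · exact hne h
    · refine hθ (-(w 0 / w 1)) v hne ?_
      have := congrArg (fun y => (w 1)⁻¹ • y) hlin
      simp only [smul_add, smul_smul, inv_mul_cancel₀ h1, one_smul, smul_zero] at this
      rw [neg_smul, eq_neg_iff_add_eq_zero, div_eq_inv_mul, add_comm]
      exact this
  have trans : ∀ u v : Fin 2 → F, form θ.1 v ≠ 0 → form θ.1 u = form θ.1 v →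
      ∃ T ∈ torus θ, T.1 *ᵥ v = u := by
    intro u v hv huv
    have hu : IsUnit (cyc θ.1 v).det := isUnit_iff_ne_zero.2 hv
    let T : SL2 := ⟨cyc θ.1 u * (cyc θ.1 v)⁻¹, by
      rw [det_mul, det_nonsing_inv, Ring.inverse_eq_inv]
      show form θ.1 u * (form θ.1 v)⁻¹ = 1
      rw [huv, mul_inv_cancel₀ hv]⟩
    refine ⟨T, ?_, ?_⟩
    · rw [mem_torus]
      show cyc θ.1 u * (cyc θ.1 v)⁻¹ * θ.1 = θ.1 * (cyc θ.1 u * (cyc θ.1 v)⁻¹)
      have h1 : (cyc θ.1 v)⁻¹ * θ.1 = TwoByTwo.comp θ.1.trace θ.1.det * (cyc θ.1 v)⁻¹ := by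
        have h0 := congrArg (fun T => (cyc θ.1 v)⁻¹ * T * (cyc θ.1 v)⁻¹) (mul_cyc θ.1 v)
        simp only [Matrix.mul_assoc, Matrix.mul_nonsing_inv _ hu, Matrix.mul_one] at h0
        rw [← Matrix.mul_assoc (cyc θ.1 v)⁻¹ (cyc θ.1 v), Matrix.nonsing_inv_mul _ hu,
          Matrix.one_mul] at h0
        exact h0
      rw [Matrix.mul_assoc, h1, ← Matrix.mul_assoc, ← mul_cyc, Matrix.mul_assoc]
    · have e0 : ∀ y, cyc θ.1 y *ᵥ ![1, 0] = y := fun y => by
        ext i; fin_cases i <;> simp [cyc, Matrix.mulVec, dotProduct, Fin.sum_univ_two]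
      show (cyc θ.1 u * (cyc θ.1 v)⁻¹) *ᵥ v = u
      conv_lhs => arg 2; rw [← e0 v]
      rw [mulVec_mulVec, Matrix.mul_assoc, Matrix.nonsing_inv_mul _ hu, Matrix.mul_one, e0]
  haveI := isCyclic_torus hθ
  refine ⟨(torus θ).map pr, (upperGroup (F := F)).map pr,
    isCyclic_of_surjective _ (MonoidHom.subgroupMap_surjective pr (torus θ)), ?_, ?_, ?_, ?_, ?_⟩
  · rw [Subgroup.card_map_of_injective pr_injective, card_torus hθ, Nat.card_eq_fintype_card]
  · refine ⟨⟨?_⟩⟩
    rintro ⟨_, x, ⟨a, rfl⟩, rfl⟩ ⟨_, y, ⟨b, rfl⟩, rfl⟩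
    apply Subtype.ext
    show pr _ * pr _ = pr _ * pr _
    rw [← map_mul, ← map_mul]
    congr 1
    apply Subtype.ext
    show (SL2Classes.upper a).1 * (SL2Classes.upper b).1 =
      (SL2Classes.upper b).1 * (SL2Classes.upper a).1
    ext i j; fin_cases i <;> fin_cases j <;> simp [Matrix.mul_apply, Fin.sum_univ_two, add_comm]
  · rintro _ ⟨x, ⟨a, rfl⟩, rfl⟩
    rw [← map_mul, pr_eq_one_iff]
    show IsScalar ((SL2Classes.upper a).1 * (SL2Classes.upper a).1)
    simp [IsScalar, Matrix.mul_apply, Fin.sum_univ_two, CharTwo.add_self_eq_zero]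
  · rw [Subgroup.card_map_of_injective pr_injective, ← Nat.card_eq_fintype_card]
    refine (Nat.card_congr (Equiv.ofInjective SL2Classes.upper fun a b h => ?_)).symm
    simpa using congrArg (fun x : SL2 => x.1 0 1) h
  · intro g
    obtain ⟨G, rfl⟩ := pr_surjective g
    set k := form θ.1 ![1, 0] with hk
    have hk0 : k ≠ 0 := fun e => by simpa using congrFun (haniso _ e) 0
    -- a vector on which the form is preserved
    obtain ⟨v, hv, hGv⟩ : ∃ v : Fin 2 → F, v ≠ 0 ∧ form θ.1 (G.1 *ᵥ v) = form θ.1 v := by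
      set P := form θ.1 (G.1 *ᵥ ![1, 0]) - 1 with hP
      set R := form θ.1 (G.1 *ᵥ ![0, 1]) - 1 with hR
      have hd := G.det_coe
      rw [det_fin_two] at hd
      have key : ∀ v : Fin 2 → F,
          form θ.1 (G.1 *ᵥ v) - form θ.1 v = P * v 0 ^ 2 + R * v 1 ^ 2 := by
        intro v
        simp [hP, hR, hform, Matrix.mulVec, dotProduct, Fin.sum_univ_two]
        linear_combination g₀.1.trace * (v 0 * v 1) * hd +
          (G.1 0 0 * G.1 0 1 + g₀.1.trace * (G.1 0 1 * G.1 1 0) + G.1 1 0 * G.1 1 1) * (v 0 * v 1) *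
            (CharTwo.two_eq_zero (R := F))
      by_cases hR0 : R = 0
      · refine ⟨![0, 1], fun e => by simpa using congrFun e 1, sub_eq_zero.1 ?_⟩
        rw [key, hR0]; simp
      · obtain ⟨r, hr⟩ := SL2Classes.exists_sqrt_two (P / R)
        refine ⟨![1, r], fun e => by simpa using congrFun e 0, sub_eq_zero.1 ?_⟩
        rw [key]
        simp
        rw [hr, mul_div_cancel₀ _ hR0, CharTwo.add_self_eq_zero]
    obtain ⟨r, hr⟩ := SL2Classes.exists_sqrt_two (k / form θ.1 v)
    have hv0 : form θ.1 v ≠ 0 := fun e => hv (haniso v e)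
    have h1 : form θ.1 (r • v) = k := by rw [form_smul, hr, div_mul_cancel₀ _ hv0]
    have h2 : form θ.1 (G.1 *ᵥ (r • v)) = k := by
      rw [mulVec_smul, form_smul, hr, hGv, div_mul_cancel₀ _ hv0]
    obtain ⟨C, hC, hCv⟩ := trans ![1, 0] (r • v) (h1 ▸ hk0) h1.symm
    obtain ⟨A, hA, hAv⟩ := trans (G.1 *ᵥ (r • v)) ![1, 0] hk0 h2
    have hB : A⁻¹ * G * C⁻¹ ∈ upperGroup (F := F) := by
      set B := A⁻¹ * G * C⁻¹ with hBdef
      have hfix : B.1 *ᵥ ![1, 0] = ![1, 0] := by
        have hABC : A * B * C = G := by rw [hBdef]; group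
        have h3 : (A * B * C).1 = G.1 := congrArg Subtype.val hABC
        have h4 : A.1 *ᵥ (B.1 *ᵥ (C.1 *ᵥ (r • v))) = A.1 *ᵥ ![1, 0] := by
          rw [mulVec_mulVec, mulVec_mulVec, hAv]
          exact congrArg (· *ᵥ (r • v)) h3
        rw [hCv] at h4
        exact Matrix.mulVec_injective_of_isUnit
          ((Matrix.isUnit_iff_isUnit_det _).2 (by rw [A.det_coe]; exact isUnit_one)) h4
      have e0 := congrFun hfix 0
      have e1 := congrFun hfix 1
      simp [Matrix.mulVec, dotProduct, Fin.sum_univ_two] at e0 e1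
      have hd := B.det_coe
      rw [det_fin_two, e0, e1, one_mul, mul_zero, sub_zero] at hd
      exact ⟨B.1 0 1, (SL2Classes.eq_upper B e0 hd e1).symm⟩
    exact ⟨pr A, Subgroup.mem_map_of_mem pr hA, pr (A⁻¹ * G * C⁻¹), Subgroup.mem_map_of_mem pr hB,
      pr C, Subgroup.mem_map_of_mem pr hC, by rw [← map_mul, ← map_mul]; congr 1; group⟩

end Cfsg.Agent.PSL2Products
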