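import Cfsg.Agent.Lib.Classical.SLClassArith
import Cfsg.Agent.Lib.Classical.SLClassTwist

/-!
Class numbers of central quotients by the counting lemma, and the arithmetic for `PSL_n`.
-/

set_option autoImplicit false
set_option linter.style.haveILetI false

namespace Cfsg.Agent.PSLCount

open Cfsg.Agent.GLCount Cfsg.Agent.SLBound Cfsg.Agent.SLArith Cfsg.Agent.SLWeight

section General

variable {G : Type*} [Group G]

/-- Multiplication by central elements permutes the classes. -/
@[instance_reducible] def centerAction : MulAction (Subgroup.center G) (ConjClasses G) where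
  smul z :=
    Quotient.lift (fun g => ConjClasses.mk ((z : G) * g)) fun a b h => by
      obtain ⟨x, hx⟩ := isConj_iff.1 (h : IsConj a b)
      refine ConjClasses.mk_eq_mk_iff_isConj.2 (isConj_iff.2 ⟨x, ?_⟩)
      rw [← hx, ← mul_assoc x, Subgroup.mem_center_iff.1 z.2 x]
      simp only [mul_assoc]
  one_smul c := by
    induction c using Quotient.inductionOn with
    | h g => exact congrArg ConjClasses.mk (one_mul g)
  mul_smul z w c := by
    induction c using Quotient.inductionOn with
    | h g => exact congrArg ConjClasses.mk (mul_assoc (z : G) w g)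

attribute [local instance] centerAction

theorem smul_mk (z : Subgroup.center G) (g : G) :
    z • ConjClasses.mk g = ConjClasses.mk ((z : G) * g) := rfl

theorem exists_of_map_eq {a b : G}
    (h : ConjClasses.mk (QuotientGroup.mk a : G ⧸ Subgroup.center G) =
      ConjClasses.mk (QuotientGroup.mk b : G ⧸ Subgroup.center G)) :
    ∃ z : Subgroup.center G, z • ConjClasses.mk a = ConjClasses.mk b := by
  obtain ⟨x, hx⟩ := isConj_iff.1 (ConjClasses.mk_eq_mk_iff_isConj.1 h)
  obtain ⟨y, rfl⟩ := QuotientGroup.mk_surjective x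
  rw [← QuotientGroup.mk_inv, ← QuotientGroup.mk_mul, ← QuotientGroup.mk_mul, QuotientGroup.eq] at hx
  refine ⟨⟨_, hx⟩, ?_⟩
  rw [smul_mk, ConjClasses.mk_eq_mk_iff_isConj, isConj_iff]
  refine ⟨y, ?_⟩
  have hc := Subgroup.mem_center_iff.1 hx
  show y * ((y * a * y⁻¹)⁻¹ * b * a) * y⁻¹ = b
  calc y * ((y * a * y⁻¹)⁻¹ * b * a) * y⁻¹
      = y * ((y * a * y⁻¹)⁻¹ * b) * (a * y⁻¹) := by simp only [mul_assoc]
    _ = (y * a * y⁻¹)⁻¹ * b * y * (a * y⁻¹) := by rw [hc y]
    _ = (y * a * y⁻¹)⁻¹ * b * (y * a * y⁻¹) := by simp only [mul_assoc]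
    _ = y * a * y⁻¹ * ((y * a * y⁻¹)⁻¹ * b) := (hc _).symm
    _ = b := by rw [← mul_assoc, mul_inv_cancel, one_mul]

/-- The orbits of the centre are the classes of the central quotient. -/
noncomputable def orbitEquiv :
    Quotient (MulAction.orbitRel (Subgroup.center G) (ConjClasses G)) ≃
      ConjClasses (G ⧸ Subgroup.center G) :=
  Equiv.ofBijective
    (Quotient.lift (ConjClasses.map (QuotientGroup.mk' (Subgroup.center G))) fun a b h => by
      obtain ⟨z, rfl⟩ := (MulAction.orbitRel_apply.1 h)
      induction b using Quotient.inductionOn with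
      | h g =>
        show ConjClasses.mk (QuotientGroup.mk ((z : G) * g) : G ⧸ Subgroup.center G) = ConjClasses.mk _
        rw [QuotientGroup.mk_mul, (QuotientGroup.eq_one_iff _).2 z.2, one_mul]
        rfl)
    ⟨fun a b => by
      induction a using Quotient.inductionOn with
      | h a =>
        induction b using Quotient.inductionOn with
        | h b =>
          intro h
          refine Quotient.sound (MulAction.orbitRel_apply.2 ?_)
          induction a using Quotient.inductionOn with
          | h a =>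
            induction b using Quotient.inductionOn with
            | h b => exact exists_of_map_eq h.symm,
      fun c => by
        induction c using Quotient.inductionOn with
        | h y =>
          obtain ⟨g, rfl⟩ := QuotientGroup.mk_surjective y
          exact ⟨Quotient.mk _ (ConjClasses.mk g), rfl⟩⟩

theorem card_mul_eq [Finite G] [Fintype (Subgroup.center G)] :
    Nat.card (ConjClasses (G ⧸ Subgroup.center G)) * Nat.card (Subgroup.center G) =
      ∑ z : Subgroup.center G, Nat.card (MulAction.fixedBy (ConjClasses G) z) := by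
  classical
  haveI := Fintype.ofFinite (ConjClasses G)
  haveI := Fintype.ofFinite (Quotient (MulAction.orbitRel (Subgroup.center G) (ConjClasses G)))
  rw [← Nat.card_congr orbitEquiv, Nat.card_eq_fintype_card, Nat.card_eq_fintype_card,
    ← MulAction.sum_card_fixedBy_eq_card_orbits_mul_card_group]
  exact Finset.sum_congr rfl fun z _ => Nat.card_eq_fintype_card.symm

end General

theorem cnt_le_pow {q k : ℕ} (hq : 1 ≤ q) : cnt q k k ≤ q ^ k := by
  rcases Nat.eq_zero_or_pos k with rfl | hk
  · simp [cnt]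
  · exact (Nat.le_succ _).trans (cnt_lt hq hk)

theorem twisted_small {q e n : ℕ} (hq : 3 ≤ q) (hn : 3 ≤ n) (he : 2 ≤ e) (hen : e ∣ n) :
    bnd q e n ≤ 2 * q ^ (n - 2) := by
  have hq2 : 2 ≤ q := by omega
  have hsum : ∀ s : Finset ℕ, (∀ d, 2 ≤ d → d < q → d * e ∣ n → d ∈ s) →
      bnd q e n ≤ cnt q (n / e) (n / e) + ∑ d ∈ s, (d * d - 1) * cnt q (n / (d * e)) (n / (d * e)) := by
    intro s hs
    rw [bnd, if_pos hen]
    refine Nat.add_le_add_left ?_ _
    simp only [mul_ite, mul_zero]
    rw [← Finset.sum_filter]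
    refine Finset.sum_le_sum_of_subset fun d hd => ?_
    obtain ⟨hd, hdn⟩ := Finset.mem_filter.1 hd
    obtain ⟨-, -, h1, h2⟩ := mem_D hq2 hd
    exact hs d h1 h2 hdn
  rcases Nat.lt_or_ge n 7 with hn7 | hn7
  · have hcases : ∀ d, 2 ≤ d → d * e ∣ n → d * e ≤ n ∧ d ≤ 3 := fun d h1 h2 => by
      have h3 := Nat.le_of_dvd (by omega) h2
      have : d * 2 ≤ d * e := Nat.mul_le_mul_left _ he
      exact ⟨h3, by omega⟩
    have hq' : q - 1 ≤ 2 * q := by omega
    have := Nat.le_of_dvd (by omega) hen
    interval_cases n <;> interval_cases e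
    all_goals first | omega | skip
    · -- 3, 3
      refine (hsum ∅ fun d h1 _ h3 => by have := hcases d h1 h3; omega).trans ?_
      norm_num [cnt_one]
      omega
    · -- 4, 2
      have := Nat.mul_le_mul_right q hq
      refine (hsum {2} fun d h1 _ h3 => by have := hcases d h1 h3; simp; omega).trans ?_
      have := cnt_le_pow (q := q) (k := 2) (by omega)
      norm_num [cnt_one]
      have := Nat.le_self_pow (show 3 ≠ 0 by omega) q
      have := Nat.le_self_pow (show 4 ≠ 0 by omega) q
      have := Nat.le_self_pow (show 2 ≠ 0 by omega) q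
      rw [pow_two] at *
      omega
    · -- 4, 4
      refine (hsum ∅ fun d h1 _ h3 => by have := hcases d h1 h3; omega).trans ?_
      norm_num [cnt_one]
      have := Nat.le_self_pow (show 3 ≠ 0 by omega) q
      have := Nat.le_self_pow (show 4 ≠ 0 by omega) q
      have := Nat.le_self_pow (show 2 ≠ 0 by omega) q
      rw [pow_two] at *
      omega
    · -- 5, 5
      refine (hsum ∅ fun d h1 _ h3 => by have := hcases d h1 h3; omega).trans ?_
      norm_num [cnt_one]
      have := Nat.le_self_pow (show 3 ≠ 0 by omega) q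
      have := Nat.le_self_pow (show 4 ≠ 0 by omega) q
      have := Nat.le_self_pow (show 2 ≠ 0 by omega) q
      rw [pow_two] at *
      omega
    · -- 6, 2
      refine (hsum {3} fun d h1 _ h3 => by
        have := hcases d h1 h3
        have : d ≠ 2 := fun h => by subst h; norm_num at h3
        simp; omega).trans ?_
      have := cnt_le_pow (q := q) (k := 3) (by omega)
      have h3 : q ^ 3 ≤ q ^ 4 := Nat.pow_le_pow_right (by omega) (by omega)
      have h1 : 8 * q ≤ q ^ 4 := by
        have : 3 ^ 3 ≤ q ^ 3 := Nat.pow_le_pow_left hq 3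
        rw [pow_succ q 3]; exact Nat.mul_le_mul_right _ (by omega)
      norm_num [cnt_one]
      omega
    · -- 6, 3
      refine (hsum {2} fun d h1 _ h3 => by have := hcases d h1 h3; simp; omega).trans ?_
      have := cnt_le_pow (q := q) (k := 2) (by omega)
      have h3 : q ^ 2 ≤ q ^ 4 := Nat.pow_le_pow_right (by omega) (by omega)
      have h1 : 3 * q ≤ q ^ 4 := by
        have : 3 ^ 3 ≤ q ^ 3 := Nat.pow_le_pow_left hq 3
        rw [pow_succ q 3]; exact Nat.mul_le_mul_right _ (by omega)
      norm_num [cnt_one]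
      omega
    · -- 6, 6
      refine (hsum ∅ fun d h1 _ h3 => by have := hcases d h1 h3; omega).trans ?_
      norm_num [cnt_one]
      have := Nat.le_self_pow (show 3 ≠ 0 by omega) q
      have := Nat.le_self_pow (show 4 ≠ 0 by omega) q
      have := Nat.le_self_pow (show 2 ≠ 0 by omega) q
      rw [pow_two] at *
      omega
  · rw [bnd, if_pos hen]
    obtain ⟨D, hDdef⟩ : ∃ D, (Nat.gcd n (q - 1)).divisors.erase 1 = D := ⟨_, rfl⟩
    rw [hDdef]
    simp only [mul_ite, mul_zero]
    rw [← Finset.sum_filter]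
    have hmem : ∀ d ∈ D.filter (fun d => d * e ∣ n), d * e ∣ n ∧ 2 ≤ d ∧ d < q := fun d hd => by
      obtain ⟨hd, hdn⟩ := Finset.mem_filter.1 hd
      obtain ⟨-, -, h1, h2⟩ := mem_D hq2 (hDdef ▸ hd)
      exact ⟨hdn, h1, h2⟩
    have hterm : ∀ d ∈ D.filter (fun d => d * e ∣ n),
        (d * d - 1) * cnt q (n / (d * e)) (n / (d * e)) ≤ q ^ 2 * q ^ (n / (d * e)) := fun d hd => by
      refine Nat.mul_le_mul ?_ (cnt_le_pow (by omega))
      obtain ⟨-, -, h⟩ := hmem d hd
      rw [pow_two]
      exact (Nat.sub_le _ _).trans (Nat.mul_le_mul h.le h.le)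
    refine (Nat.add_le_add ((cnt_le_pow (by omega)).trans (Nat.pow_le_pow_right (by omega)
      (Nat.div_le_div_left he (by omega)))) (Finset.sum_le_sum hterm)).trans ?_
    rw [← Finset.mul_sum]
    have himg : ∑ d ∈ D.filter (fun d => d * e ∣ n), q ^ (n / (d * e)) ≤
        ∑ i ∈ Finset.range (n / 4 + 1), q ^ i := by
      rw [← Finset.sum_image (f := fun i => q ^ i) (g := fun d => n / (d * e))]
      · refine Finset.sum_le_sum_of_subset fun i hi => ?_
        obtain ⟨d, hd, rfl⟩ := Finset.mem_image.1 hi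
        obtain ⟨-, h1, -⟩ := hmem d hd
        rw [Finset.mem_range, Nat.lt_succ_iff]
        exact Nat.div_le_div_left (Nat.mul_le_mul h1 he) (by omega)
      · intro a ha b hb h
        obtain ⟨ha1, -⟩ := hmem a ha
        obtain ⟨hb1, -⟩ := hmem b hb
        have h' : a * e = b * e := by
          rw [← Nat.div_div_self ha1 (by omega), ← Nat.div_div_self hb1 (by omega)]
          exact congrArg (n / ·) h
        exact Nat.eq_of_mul_eq_mul_right (by omega) h'
    have hg := geom_le hq2 (n / 4)
    refine (Nat.add_le_add_left (Nat.mul_le_mul_left _ (himg.trans (show _ ≤ 2 * q ^ (n / 4) by omega))) _).trans ?_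
    have e1 : q ^ (n / 2) ≤ q ^ (n / 2 + 1) := Nat.pow_le_pow_right (by omega) (by omega)
    have e2 : q ^ 2 * q ^ (n / 4) ≤ q ^ (n / 2 + 1) := by
      rw [← pow_add]; exact Nat.pow_le_pow_right (by omega) (by omega)
    have e3 : q ^ (n / 2 + 1 + 1) ≤ q ^ (n - 2) := Nat.pow_le_pow_right (by omega) (by omega)
    have e4 : q ^ (n / 2 + 1) * 3 ≤ q ^ (n / 2 + 1) * q := Nat.mul_le_mul_left _ hq
    rw [pow_succ q (n / 2 + 1)] at e3
    rw [mul_left_comm]
    omega

theorem n_two_extra {q : ℕ} (hq : 2 ≤ q) :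
    bnd q 1 2 + 1 ≤ q ^ 2 + 3 * (q - 1) ∧ bnd q 2 2 = q - 1 := by
  constructor
  · rw [bnd_one]
    have hc := cnt_lt (q := q) (by omega) (show 1 ≤ 2 by omega)
    have he := extra_le_sum q 2 ({2} : Finset ℕ) hq fun d h1 h2 h3 => by
      have := Nat.le_of_dvd (by omega) h1
      interval_cases d; simp
    rw [Finset.sum_singleton, Nat.div_self (by omega), cnt_one] at he
    omega
  · rw [bnd, if_pos dvd_rfl, Nat.div_self (by omega), cnt_one, add_eq_left]
    refine Finset.sum_eq_zero fun d hd => ?_
    obtain ⟨h1, -, h2, -⟩ := mem_D hq hd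
    rw [if_neg, mul_zero]
    intro h
    have := Nat.le_of_dvd (by omega) h
    omega

universe u

section SL

attribute [local instance] centerAction

variable {F : Type u} [Field F] [Fintype F] {n : ℕ}

theorem card_center (hn : 1 ≤ n) :
    Nat.card (Subgroup.center (Matrix.SpecialLinearGroup (Fin n) F)) =
      Nat.gcd n (Fintype.card F - 1) := by
  classical
  rw [Nat.card_congr Matrix.SpecialLinearGroup.center_equiv_rootsOfUnity.toEquiv, Fintype.card_fin,
    max_eq_left hn]
  have h := IsCyclic.card_powMonoidHom_ker (G := Fˣ) n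
  rw [Nat.card_units, Nat.card_eq_fintype_card (α := F), Nat.gcd_comm] at h
  rw [← h]
  exact Nat.card_congr (Equiv.subtypeEquivRight fun x => by
    rw [mem_rootsOfUnity, MonoidHom.mem_ker, powMonoidHom_apply])

theorem fixed_le (hn : 1 ≤ n) {z : Subgroup.center (Matrix.SpecialLinearGroup (Fin n) F)} (hz : z ≠ 1) :
    ∃ e, 2 ≤ e ∧ e ∣ n ∧ e ∣ Fintype.card F - 1 ∧
      (Fintype.card F - 1) *
          Nat.card (MulAction.fixedBy (ConjClasses (Matrix.SpecialLinearGroup (Fin n) F)) z) ≤
        bnd (Fintype.card F) e n := by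
  classical
  obtain ⟨r, hr, hrz⟩ := Matrix.SpecialLinearGroup.mem_center_iff.1 z.2
  rw [Fintype.card_fin] at hr
  have hr0 : r ≠ 0 := fun h => by
    rw [h, zero_pow (by omega)] at hr
    exact zero_ne_one hr
  have hq : r ^ (Fintype.card F - 1) = 1 := FiniteField.pow_card_sub_one_eq_one r hr0
  have hne : r ≠ 1 := fun h => hz (Subtype.ext (Subtype.ext (by
    rw [← hrz, h, map_one]; rfl)))
  have he1 : orderOf r ≠ 1 := fun h => hne (orderOf_eq_one_iff.1 h)
  have hen : orderOf r ∣ n := orderOf_dvd_of_pow_eq_one hr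
  have hepos : 0 < orderOf r := Nat.pos_of_dvd_of_pos hen (by omega)
  refine ⟨orderOf r, by omega, hen, orderOf_dvd_of_pow_eq_one hq, ?_⟩
  refine le_trans (Nat.mul_le_mul_left _ ?_) (total_le (F := F) hepos n)
  refine card_le_sum _ _ fun g hg => Finset.mem_filter.2 ⟨Finset.mem_filter.2 ⟨codeOf_mem _, ?_⟩, ?_⟩
  · obtain ⟨ι, hι, p, e, hp, -, -, -, ⟨Φ⟩, hc⟩ := codeOf_spec (Matrix.SpecialLinearGroup.toGL g)
    have hg' : z • ConjClasses.mk g = ConjClasses.mk g := hg
    rw [smul_mk, ConjClasses.mk_eq_mk_iff_isConj] at hg'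
    obtain ⟨x, hx⟩ := isConj_iff.1 hg'.symm
    have hx' : (Matrix.SpecialLinearGroup.toGL x * Matrix.SpecialLinearGroup.toGL g *
        (Matrix.SpecialLinearGroup.toGL x)⁻¹).1 = r • (Matrix.SpecialLinearGroup.toGL g).1 := by
      rw [← map_inv, ← map_mul, ← map_mul, hx]
      show ((z : Matrix.SpecialLinearGroup (Fin n) F).1 * g.1) = r • g.1
      rw [← hrz, Matrix.scalar_apply]
      ext i k
      rw [Matrix.diagonal_mul, Matrix.smul_apply, smul_eq_mul]
    have hgood := SLTwist.goodE_code _ _ hr0 hx' hp Φ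
    rw [hc]
    have key : ∀ m, ∀ a ∈ lst (code p e) m, GoodE (orderOf r) a := by
      intro m
      induction m with
      | zero => simp [lst]
      | succ m ih =>
        intro a ha
        rw [lst, List.mem_cons] at ha
        rcases ha with rfl | ha
        · exact hgood m
        · exact ih a ha
    exact key n
  · rw [dt_codeOf]
    exact g.2

theorem psl_ge (hn : 2 ≤ n) :
    Fintype.card F ^ (n - 1) ≤ Nat.gcd n (Fintype.card F - 1) *
      Nat.card (ConjClasses (Matrix.ProjectiveSpecialLinearGroup (Fin n) F)) := by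
  classical
  refine (card_gt (F := F) n hn).le.trans ?_
  rw [← card_center (F := F) (show 1 ≤ n by omega), mul_comm]
  rw [card_mul_eq (G := Matrix.SpecialLinearGroup (Fin n) F)]
  refine le_trans (le_of_eq ?_) (Finset.single_le_sum (fun _ _ => Nat.zero_le _) (Finset.mem_univ 1))
  refine Nat.card_congr ((Equiv.Set.univ _).symm.trans (Equiv.setCongr ?_))
  rw [MulAction.fixedBy_one_eq_univ]

theorem psl_le (hn : 2 ≤ n) :
    Nat.gcd n (Fintype.card F - 1) *
        Nat.card (ConjClasses (Matrix.ProjectiveSpecialLinearGroup (Fin n) F)) ≤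
      Fintype.card F ^ (n - 1) + 5 * Fintype.card F ^ (n - 2) := by
  classical
  obtain ⟨q, hqd⟩ : ∃ q, Fintype.card F = q := ⟨_, rfl⟩
  have hq : 2 ≤ q := hqd ▸ Fintype.one_lt_card
  rw [← card_center (F := F) (show 1 ≤ n by omega), mul_comm,
    card_mul_eq (G := Matrix.SpecialLinearGroup (Fin n) F),
    ← Finset.add_sum_erase _ _ (Finset.mem_univ 1)]
  refine Nat.le_of_mul_le_mul_left (c := Fintype.card F - 1) ?_ (by omega)
  rw [mul_add]
  have h1 : (Fintype.card F - 1) *
      Nat.card (MulAction.fixedBy (ConjClasses (Matrix.SpecialLinearGroup (Fin n) F))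
        (1 : Subgroup.center (Matrix.SpecialLinearGroup (Fin n) F))) ≤ bnd (Fintype.card F) 1 n := by
    refine le_trans (le_of_eq ?_) (card_mul_le (F := F) n)
    congr 1
    exact Nat.card_congr ((Equiv.setCongr (MulAction.fixedBy_one_eq_univ _ _)).trans (Equiv.Set.univ _))
  have hcardE : (Finset.univ.erase (1 : Subgroup.center (Matrix.SpecialLinearGroup (Fin n) F))).card =
      Nat.gcd n (q - 1) - 1 := by
    rw [Finset.card_erase_of_mem (Finset.mem_univ _), Finset.card_univ, ← Nat.card_eq_fintype_card,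
      card_center (by omega), hqd]
  have hd1 : Nat.gcd n (q - 1) ≤ q - 1 := Nat.gcd_le_right _ (by omega)
  have hd2 : Nat.gcd n (q - 1) ≤ n := Nat.gcd_le_left _ (by omega)
  rw [hqd] at h1 ⊢
  rcases Nat.lt_or_ge n 3 with h | h
  · obtain rfl : n = 2 := by omega
    obtain ⟨e1, e2⟩ := n_two_extra hq
    have h2 : (q - 1) * ∑ z ∈ Finset.univ.erase (1 : Subgroup.center (Matrix.SpecialLinearGroup (Fin 2) F)),
        Nat.card (MulAction.fixedBy (ConjClasses (Matrix.SpecialLinearGroup (Fin 2) F)) z) ≤ q - 1 := by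
      rw [Finset.mul_sum]
      refine le_trans (Finset.sum_le_card_nsmul _ _ (q - 1) fun z hz => ?_) ?_
      · obtain ⟨e, he, hen, -, hb⟩ := fixed_le (by omega) (Finset.mem_erase.1 hz).1
        have := Nat.le_of_dvd (by omega) hen
        obtain rfl : e = 2 := by omega
        rw [hqd, e2] at hb
        exact hb
      · rw [hcardE, smul_eq_mul]
        exact le_trans (Nat.mul_le_mul_right _ (show Nat.gcd 2 (q - 1) - 1 ≤ 1 by omega)) (by rw [one_mul])
    refine (Nat.add_le_add h1 h2).trans ?_
    obtain ⟨r, rfl⟩ : ∃ r, q = r + 1 := ⟨q - 1, by omega⟩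
    simp only [Nat.add_sub_cancel] at e1 ⊢
    norm_num
    nlinarith
  · have h2 : (q - 1) * ∑ z ∈ Finset.univ.erase (1 : Subgroup.center (Matrix.SpecialLinearGroup (Fin n) F)),
        Nat.card (MulAction.fixedBy (ConjClasses (Matrix.SpecialLinearGroup (Fin n) F)) z) ≤
          (q - 1) * (2 * q ^ (n - 2)) := by
      rw [Finset.mul_sum]
      refine le_trans (Finset.sum_le_card_nsmul _ _ (2 * q ^ (n - 2)) fun z hz => ?_) ?_
      · obtain ⟨e, he, hen, heq, hb⟩ := fixed_le (by omega) (Finset.mem_erase.1 hz).1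
        rw [hqd] at hb heq
        have := Nat.le_of_dvd (by omega) heq
        exact hb.trans (twisted_small (by omega) h he hen)
      · rw [hcardE, smul_eq_mul]
        exact Nat.mul_le_mul_right _ (by omega)
    refine (Nat.add_le_add (h1.trans (bnd_three hq h)) h2).trans (le_of_eq ?_)
    ring

end SL

end Cfsg.Agent.PSLCount
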