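/-
The classes of involutions of PSp_2m(F) in odd characteristic: there are at most m/2 + 1.
-/
import Cfsg.Agent.Lib.Classical.SympClasses
import Cfsg.Agent.Lib.Spectra.SympModels
import Mathlib.LinearAlgebra.Matrix.Charpoly.Eigs
import Mathlib.LinearAlgebra.SymplecticGroup
import Mathlib.FieldTheory.IsAlgClosed.AlgebraicClosure

set_option autoImplicit false

namespace Cfsg.Agent.PspInvolutions

open Polynomial Matrix

theorem roots_pair {K : Type*} [Field K] [IsAlgClosed K] {n : Type*} [Fintype n] [DecidableEq n]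
    {M : Matrix n n K} {a : K} (h : M * M = (a * a) • (1 : Matrix n n K)) {r : K} (hr : r ∈ M.charpoly.roots) :
    r = a ∨ r = -a := by
  classical
  rcases isEmpty_or_nonempty n with hn | hn
  · rw [Matrix.charpoly_isEmpty, roots_one] at hr
    simp at hr
  have h1 : r ∈ spectrum K M := Matrix.mem_spectrum_iff_isRoot_charpoly.2 (isRoot_of_mem_roots hr)
  have h2 := spectrum.pow_mem_pow M 2 h1
  rw [pow_two, pow_two, h, ← Algebra.algebraMap_eq_smul_one, spectrum.scalar_eq,
    Set.mem_singleton_iff] at h2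
  exact mul_self_eq_mul_self_iff.1 h2

theorem charpoly_pair {K : Type*} [Field K] [IsAlgClosed K] {n : Type*} [Fintype n] [DecidableEq n]
    {M : Matrix n n K} {a : K} (ha : a ≠ -a) (h : M * M = (a * a) • (1 : Matrix n n K)) :
    ∃ u v : ℕ, u + v = Fintype.card n ∧ M.charpoly = (X - C a) ^ u * (X + C a) ^ v ∧ M.det = a ^ u * (-a) ^ v := by
  classical
  have hsp := IsAlgClosed.splits M.charpoly
  set s := M.charpoly.roots with hs
  have he : s = Multiset.replicate (s.count a) a + Multiset.replicate (s.count (-a)) (-a) := by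
    ext x
    rw [Multiset.count_add, Multiset.count_replicate, Multiset.count_replicate]
    by_cases hxa : a = x
    · subst hxa; simp [Ne.symm ha]
    by_cases hxb : -a = x
    · subst hxb; simp [hxa]
    rw [if_neg hxa, if_neg hxb, add_zero, Multiset.count_eq_zero]
    intro hx
    rcases roots_pair h hx with e | e
    · exact hxa e.symm
    · exact hxb e.symm
  have hcard : s.card = Fintype.card n := by
    rw [hs, ← Polynomial.Splits.natDegree_eq_card_roots hsp, Matrix.charpoly_natDegree_eq_dim]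
  refine ⟨s.count a, s.count (-a), ?_, ?_, ?_⟩
  · conv_rhs => rw [← hcard, he]
    simp
  · conv_lhs => rw [Polynomial.Splits.eq_prod_roots_of_monic hsp (Matrix.charpoly_monic M), ← hs, he]
    simp
  · conv_lhs => rw [Matrix.det_eq_prod_roots_charpoly, ← hs, he]
    simp

theorem charpoly_neg_eval {R : Type*} [CommRing R] {n : Type*} [Fintype n] [DecidableEq n]
    (hn : Even (Fintype.card n)) (M : Matrix n n R) (t : R) :
    (-M).charpoly.eval t = M.charpoly.eval (-t) := by
  rw [Matrix.eval_charpoly, Matrix.eval_charpoly, sub_neg_eq_add, map_neg]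
  have e : -(Matrix.scalar n t) - M = -(Matrix.scalar n t + M) := by abel
  rw [e, Matrix.det_neg, hn.neg_one_pow, one_mul]

variable {F : Type*} [Field F] {m : ℕ}

local notation "I" => Fin m ⊕ Fin m
local notation "Sp" => Matrix.symplecticGroup (Fin m) F
local notation "Mat" => Matrix I I F

theorem charpoly_neg_of_skew {s : Sp} (h : (s : Mat) * s = -1) : (-(s : Mat)).charpoly = (s : Mat).charpoly := by
  have hinv : ((s⁻¹ : Sp) : Mat) = -(s : Mat) := by
    have h2 : ((s⁻¹ : Sp) : Mat) * ((s : Mat) * s) = ((s⁻¹ * s * s : Sp) : Mat) := by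
      rw [Submonoid.coe_mul, Submonoid.coe_mul, mul_assoc]
    rw [inv_mul_cancel, one_mul, h, mul_neg, mul_one] at h2
    rw [← h2, neg_neg]
  rw [← hinv, SymplecticGroup.coe_inv]
  have hJ : -Matrix.J (Fin m) F * Matrix.J (Fin m) F = 1 := by
    rw [neg_mul, Matrix.J_squared, neg_neg]
  have hJ' : Matrix.J (Fin m) F * -Matrix.J (Fin m) F = 1 := mul_eq_one_comm.1 hJ
  rw [Matrix.mul_assoc, Matrix.charpoly_mul_comm, Matrix.mul_assoc, hJ', mul_one, Matrix.charpoly_transpose]

theorem charpoly_of_skew (h2 : (2 : F) ≠ 0) {s s' : Sp} (h : (s : Mat) * s = -1) (h' : (s' : Mat) * s' = -1) :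
    (s : Mat).charpoly = (s' : Mat).charpoly := by
  classical
  let φ : F →+* AlgebraicClosure F := algebraMap F (AlgebraicClosure F)
  obtain ⟨a, ha⟩ := IsAlgClosed.exists_eq_mul_self (-1 : AlgebraicClosure F)
  have ha0 : a ≠ 0 := fun e => by rw [e, mul_zero] at ha; exact one_ne_zero (neg_eq_zero.1 ha)
  have h2' : (2 : AlgebraicClosure F) ≠ 0 := fun e => h2 (φ.injective (by rw [map_ofNat, map_zero, e]))
  have hne : a ≠ -a := fun e => ha0 ((mul_eq_zero.1 (show (2 : AlgebraicClosure F) * a = 0 by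
    linear_combination e)).resolve_left h2')
  have key : ∀ t : Sp, (t : Mat) * t = -1 →
      (t : Mat).charpoly.map φ = (X - C a) ^ m * (X + C a) ^ m := by
    intro t ht
    have hM : (t : Mat).map φ * (t : Mat).map φ = (a * a) • (1 : Matrix I I (AlgebraicClosure F)) := by
      rw [← Matrix.map_mul, ht, ← ha, neg_one_smul]
      ext i j; by_cases hij : i = j <;> simp [hij]
    obtain ⟨u, v, huv, hp, -⟩ := charpoly_pair hne hM
    rw [Matrix.charpoly_map] at hp
    have hcard : Fintype.card I = 2 * m := by simp [two_mul]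
    have hsym : (X - C a) ^ u * (X + C a) ^ v = (X - C a) ^ v * (X + C a) ^ u := by
      apply Polynomial.funext
      intro x
      have e1 := charpoly_neg_eval (by rw [hcard]; exact even_two_mul m) ((t : Mat).map φ) x
      rw [show -((t : Mat).map φ) = (-(t : Mat)).map φ by ext; simp, Matrix.charpoly_map,
        Matrix.charpoly_map, charpoly_neg_of_skew ht, hp] at e1
      rw [e1]
      simp only [eval_mul, eval_pow, eval_sub, eval_add, eval_X, eval_C]
      rw [show -x - a = -(x + a) by ring, show -x + a = -(x - a) by ring, neg_pow (x + a), neg_pow (x - a),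
        show (-1 : AlgebraicClosure F) ^ u * (x + a) ^ u * ((-1) ^ v * (x - a) ^ v) =
          (-1) ^ (u + v) * ((x - a) ^ v * (x + a) ^ u) by rw [pow_add]; ring,
        huv, hcard, (even_two_mul m).neg_one_pow, one_mul]
    have hroot := congrArg (fun p : (AlgebraicClosure F)[X] => p.roots.count a) hsym
    simp only [show X + C a = X - C (-a) by rw [map_neg, sub_neg_eq_add]] at hroot
    rw [roots_mul (mul_ne_zero (pow_ne_zero _ (X_sub_C_ne_zero _)) (pow_ne_zero _ (X_sub_C_ne_zero _))),
      roots_mul (mul_ne_zero (pow_ne_zero _ (X_sub_C_ne_zero _)) (pow_ne_zero _ (X_sub_C_ne_zero _)))] at hroot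
    simp [hne] at hroot
    rw [hp, show u = m by omega, show v = m by omega]
  exact Polynomial.map_injective φ φ.injective ((key s h).trans (key s' h').symm)

theorem charpoly_of_invol (h2 : (2 : F) ≠ 0) (s : Sp) (h : (s : Mat) * s = 1) :
    ∃ j, j ≤ m ∧ (s : Mat).charpoly = (X - 1) ^ (2 * (m - j)) * (X + 1) ^ (2 * j) := by
  classical
  let φ : F →+* AlgebraicClosure F := algebraMap F (AlgebraicClosure F)
  have h2' : (2 : AlgebraicClosure F) ≠ 0 := fun e => h2 (φ.injective (by rw [map_ofNat, map_zero, e]))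
  have hne : (1 : AlgebraicClosure F) ≠ -1 := fun e => h2' (by linear_combination e)
  have hM : (s : Mat).map φ * (s : Mat).map φ =
      ((1 : AlgebraicClosure F) * 1) • (1 : Matrix I I (AlgebraicClosure F)) := by
    rw [← Matrix.map_mul, h, one_mul, one_smul]
    exact Matrix.map_one _ (map_zero _) (map_one _)
  obtain ⟨u, v, huv, hp, hd⟩ := charpoly_pair hne hM
  rw [Matrix.charpoly_map] at hp
  have hd' : ((-1 : AlgebraicClosure F)) ^ v = 1 := by
    have e : ((s : Mat).map φ).det = φ (s : Mat).det := (RingHom.map_det φ _).symm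
    rw [SymplecticGroup.det_eq_one s.2, map_one, hd, one_pow, one_mul] at e
    exact e
  have hv : Even v := by
    by_contra hodd
    rw [(Nat.not_even_iff_odd.1 hodd).neg_one_pow] at hd'
    exact hne hd'.symm
  obtain ⟨j, rfl⟩ := hv
  have hcard : Fintype.card I = m + m := by simp
  refine ⟨j, by omega, Polynomial.map_injective φ φ.injective ?_⟩
  rw [hp, show u = 2 * (m - j) by omega, two_mul j]
  simp

theorem charpoly_neg {s : Sp} {j : ℕ} (hp : (s : Mat).charpoly = (X - 1) ^ (2 * (m - j)) * (X + 1) ^ (2 * j)) :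
    (-(s : Mat)).charpoly = (X - 1) ^ (2 * j) * (X + 1) ^ (2 * (m - j)) := by
  classical
  let φ : F →+* AlgebraicClosure F := algebraMap F (AlgebraicClosure F)
  apply Polynomial.map_injective φ φ.injective
  apply Polynomial.funext
  intro r
  rw [← Matrix.charpoly_map, show (-(s : Mat)).map φ = -((s : Mat).map φ) by ext; simp,
    charpoly_neg_eval (by simp), Matrix.charpoly_map, hp]
  simp only [Polynomial.map_mul, Polynomial.map_pow, Polynomial.map_sub, Polynomial.map_add, map_X,
    Polynomial.map_one, eval_mul, eval_pow, eval_sub, eval_add, eval_X, eval_one]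
  rw [show -r - 1 = -(r + 1) by ring, show -r + 1 = -(r - 1) by ring, (even_two_mul _).neg_pow,
    (even_two_mul _).neg_pow, mul_comm]

variable [Fintype F]

theorem isConj_of_sq (h2 : (2 : F) ≠ 0) {s s' : Sp}
    (hs : (s : Mat) * s = 1 ∨ (s : Mat) * s = -1) (hs' : (s' : Mat) * s' = 1 ∨ (s' : Mat) * s' = -1)
    (hc : (s : Mat).charpoly = (s' : Mat).charpoly) : IsConj s s' := by
  obtain ⟨p, hcp⟩ := CharP.exists F
  haveI : Fact p.Prime := ⟨CharP.char_is_prime F p⟩
  have hp2 : p ≠ 2 := fun e => h2 (by subst e; exact CharP.cast_eq_zero F 2)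
  have h4 : ∀ t : Sp, ((t : Mat) * t = 1 ∨ (t : Mat) * t = -1) → (orderOf t).Coprime p := by
    intro t ht
    have e : t ^ 4 = 1 := Subtype.ext (by
      rw [SubmonoidClass.coe_pow, OneMemClass.coe_one, show (4 : ℕ) = 2 + 2 from rfl, pow_add, pow_two]
      rcases ht with e | e <;> simp [e])
    refine Nat.Coprime.coprime_dvd_left (orderOf_dvd_of_pow_eq_one e) ?_
    show Nat.Coprime (2 ^ 2) p
    exact Nat.Coprime.pow_left 2 ((Nat.coprime_primes Nat.prime_two (Fact.out : p.Prime)).2 (Ne.symm hp2))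
  exact SympClasses.isConj_of_charpoly p s s' (h4 s hs) (h4 s' hs') hc

/-- Among more than `m / 2 + 1` involutions of PSp_2m two are conjugate. -/
theorem exists_isConj (h2 : (2 : F) ≠ 0) (hm : 1 ≤ m) {ι : Type*} [Fintype ι]
    (hι : m / 2 + 1 < Fintype.card ι) (x : ι → Cfsg.PSp m F) (hx : ∀ i, x i * x i = 1) (hx1 : ∀ i, x i ≠ 1) :
    ∃ i j, i ≠ j ∧ IsConj (x i) (x j) := by
  classical
  choose s hs using fun i => QuotientGroup.mk_surjective (x i)
  have hneg : ∀ t : Sp, ∃ t' : Sp, (t' : Mat) = -(t : Mat) ∧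
      (QuotientGroup.mk t' : Cfsg.PSp m F) = QuotientGroup.mk t := by
    intro t
    refine ⟨⟨-(t : Mat), SymplecticGroup.neg_mem t.2⟩, rfl, ?_⟩
    rw [← mul_inv_eq_one, ← QuotientGroup.mk_inv, ← QuotientGroup.mk_mul, SympSpectra.mk_eq_one_iff hm]
    right
    rw [Submonoid.coe_mul]
    show -(t : Mat) * ((t⁻¹ : Sp) : Mat) = -1
    rw [neg_mul, ← Submonoid.coe_mul, mul_inv_cancel, Submonoid.coe_one]
  have hsq : ∀ i, (s i : Mat) * s i = 1 ∨ (s i : Mat) * s i = -1 := fun i => by
    have := (SympSpectra.mk_eq_one_iff hm (s i * s i)).1 (by rw [QuotientGroup.mk_mul, hs, hx])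
    simpa using this
  have hone : ∀ i, (s i : Mat) * s i = 1 → ∀ j, j ≤ m →
      (s i : Mat).charpoly = (X - 1) ^ (2 * (m - j)) * (X + 1) ^ (2 * j) → 1 ≤ j ∧ j + 1 ≤ m := by
    intro i hi j hj hp
    constructor
    · by_contra h0
      have hj0 : j = 0 := by omega
      subst hj0
      have hc : IsConj (s i) 1 := isConj_of_sq h2 (Or.inl hi) (Or.inl (by simp)) (by
        rw [hp, Submonoid.coe_one, Matrix.charpoly_one]; simp [two_mul])
      rw [isConj_one_left] at hc
      exact hx1 i (by rw [← hs, hc]; rfl)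
    · by_contra h0
      have hj0 : j = m := by omega
      subst hj0
      obtain ⟨t, ht, htx⟩ := hneg (s i)
      have hc : IsConj t 1 := isConj_of_sq h2 (Or.inl (by rw [ht, neg_mul_neg, hi])) (Or.inl (by simp)) (by
        rw [Submonoid.coe_one, Matrix.charpoly_one, ht, charpoly_neg hp]
        simp [two_mul])
      rw [isConj_one_left] at hc
      exact hx1 i (by rw [← hs, ← htx, hc]; rfl)
  have hpick : ∀ i, ∃ (c : Fin (m / 2 + 1)) (t : Sp), (QuotientGroup.mk t : Cfsg.PSp m F) = x i ∧
      ((t : Mat) * t = 1 ∨ (t : Mat) * t = -1) ∧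
      (((t : Mat) * t = -1 ∧ c.1 = 0) ∨ (1 ≤ c.1 ∧
        (t : Mat).charpoly = (X - 1) ^ (2 * (m - c.1)) * (X + 1) ^ (2 * c.1))) := by
    intro i
    rcases hsq i with hi | hi
    · obtain ⟨j, hj, hp⟩ := charpoly_of_invol h2 (s i) hi
      obtain ⟨hj1, hj2⟩ := hone i hi j hj hp
      by_cases hh : j ≤ m / 2
      · exact ⟨⟨j, by omega⟩, s i, hs i, Or.inl hi, Or.inr ⟨hj1, hp⟩⟩
      · obtain ⟨t, ht, htx⟩ := hneg (s i)
        refine ⟨⟨m - j, by omega⟩, t, htx.trans (hs i), Or.inl (by rw [ht, neg_mul_neg, hi]), Or.inr ⟨by simp; omega, ?_⟩⟩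
        rw [ht, charpoly_neg hp]
        simp only
        rw [show m - (m - j) = j by omega]
    · exact ⟨0, s i, hs i, Or.inr hi, Or.inl ⟨hi, rfl⟩⟩
  choose c t htx htsq hcl using hpick
  obtain ⟨i, j, hij, hcij⟩ := Fintype.exists_ne_map_eq_of_card_lt c (by rw [Fintype.card_fin]; exact hι)
  refine ⟨i, j, hij, ?_⟩
  rw [← htx i, ← htx j]
  refine (QuotientGroup.mk' (Subgroup.center Sp)).map_isConj (isConj_of_sq h2 (htsq i) (htsq j) ?_)
  rcases hcl i with ⟨ei, hi0⟩ | ⟨hi0, ei⟩ <;> rcases hcl j with ⟨ej, hj0⟩ | ⟨hj0, ej⟩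
  · exact charpoly_of_skew h2 ei ej
  · rw [hcij] at hi0; omega
  · rw [hcij] at hi0; omega
  · rw [ei, ej, hcij]

end Cfsg.Agent.PspInvolutions
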