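/-
The Borel subgroup and the normaliser of the split torus of SL_2: class numbers.
-/
import Cfsg.Agent.Lib.Classical.GL2Induced
import Mathlib.NumberTheory.LegendreSymbol.QuadraticChar.Basic
import Mathlib.GroupTheory.CommutingProbability

set_option autoImplicit false

namespace Cfsg.Agent.SL2BorelTorus

open Matrix TwoByTwo

variable {F : Type*} [Field F]

local notation "SL2" => Matrix.SpecialLinearGroup (Fin 2) F
local notation "Bor" => Subgroup.comap Matrix.SpecialLinearGroup.toGL (Cfsg.upperTriangularGL 2 F)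

theorem two_ne_zero_of_odd_card [Fintype F] (hodd : Odd (Fintype.card F)) : (2 : F) ≠ 0 := by
  intro h
  have : ringChar F = 2 := by
    have hd : ringChar F ∣ 2 := ringChar.dvd (by exact_mod_cast h)
    rcases (Nat.dvd_prime Nat.prime_two).1 hd with h1 | h1
    · exact absurd h1 (CharP.ringChar_ne_one)
    · exact h1
  have := FiniteField.even_card_of_char_two this
  rw [Nat.odd_iff] at hodd
  omega

/-- An element of the Borel subgroup. -/
def elt (a : Fˣ) (b : F) : Bor :=
  ⟨⟨!![(a : F), b; 0, (a⁻¹ : Fˣ)], by simp [det_fin_two_of]⟩,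
    (GL2Induced.mem_borel_sl _).2 rfl⟩

theorem exists_elt (x : Bor) : ∃ a b, x = elt a b := by
  have h10 := (GL2Induced.mem_borel_sl _).1 x.2
  have hd := x.1.det_coe
  rw [det_fin_two, h10, mul_zero, sub_zero] at hd
  have h00 : x.1.1 0 0 ≠ 0 := fun e => by simp [e] at hd
  refine ⟨Units.mk0 _ h00, x.1.1 0 1, Subtype.ext (Subtype.ext ?_)⟩
  ext i j
  fin_cases i <;> fin_cases j <;> simp [elt, h10, eq_inv_of_mul_eq_one_right hd]

theorem elt_inj {a a' : Fˣ} {b b' : F} : elt a b = elt a' b' ↔ a = a' ∧ b = b' := by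
  refine ⟨fun h => ?_, fun h => by rw [h.1, h.2]⟩
  have h0 := congrArg (fun x : Bor => x.1.1 0 0) h
  have h1 := congrArg (fun x : Bor => x.1.1 0 1) h
  simp [elt] at h0 h1
  exact ⟨Units.ext h0, h1⟩

theorem elt_mul (a a' : Fˣ) (b b' : F) :
    elt a b * elt a' b' = elt (a * a') (a * b' + b * (a'⁻¹ : Fˣ)) := by
  apply Subtype.ext
  apply Subtype.ext
  show (elt a b).1.1 * (elt a' b').1.1 = _
  ext i j
  fin_cases i <;> fin_cases j <;> simp [elt, Matrix.mul_apply, Fin.sum_univ_two, mul_comm]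

theorem isConj_elt {a a' : Fˣ} {b b' : F} :
    IsConj (elt a b) (elt a' b') ↔
      a = a' ∧ ∃ (c : Fˣ) (e : F), b' = (c : F) * c * b + c * e * ((a⁻¹ : Fˣ) - a) := by
  rw [isConj_iff]
  constructor
  · rintro ⟨x, hx⟩
    obtain ⟨c, e, rfl⟩ := exists_elt x
    rw [mul_inv_eq_iff_eq_mul, elt_mul, elt_mul, elt_inj] at hx
    obtain ⟨h1, h2⟩ := hx
    have ha : a = a' := mul_left_cancel (h1.trans (mul_comm a' c))
    subst ha
    refine ⟨rfl, c, e, ?_⟩
    have hc : ((c⁻¹ : Fˣ) : F) * c = 1 := Units.inv_mul c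
    linear_combination -(c : F) * h2 - b' * hc
  · rintro ⟨rfl, c, e, h⟩
    refine ⟨elt c e, ?_⟩
    rw [mul_inv_eq_iff_eq_mul, elt_mul, elt_mul, elt_inj]
    refine ⟨mul_comm _ _, ?_⟩
    have hc : ((c⁻¹ : Fˣ) : F) * c = 1 := Units.inv_mul c
    rw [h]
    linear_combination -((c : F) * b + e * ((a⁻¹ : Fˣ) - a)) * hc

theorem card_conjClasses_borel [Fintype F] (hodd : Odd (Fintype.card F)) :
    Nat.card (ConjClasses Bor) = Fintype.card F + 3 := by
  classical
  have h2 := two_ne_zero_of_odd_card hodd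
  obtain ⟨ν, hν⟩ := FiniteField.exists_nonsquare (F := F) (fun h => by
    have := FiniteField.even_card_of_char_two h
    rw [Nat.odd_iff] at hodd
    omega)
  have hν0 : ν ≠ 0 := fun e => hν (e ▸ IsSquare.zero)
  let f : Bor → Fˣ ⊕ (Bool × Bool) := fun x =>
    if (x.1.1 0 0 = 1 ∨ x.1.1 0 0 = -1) ∧ x.1.1 0 1 ≠ 0 then
      Sum.inr (decide (x.1.1 0 0 = 1), decide (IsSquare (x.1.1 0 1)))
    else Sum.inl (Units.mk0 (x.1.1 0 0) (by
      obtain ⟨a, b, rfl⟩ := exists_elt x
      exact a.ne_zero))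
  have fval : ∀ (a : Fˣ) (b : F), f (elt a b) = if ((a : F) = 1 ∨ (a : F) = -1) ∧ b ≠ 0 then
      Sum.inr (decide ((a : F) = 1), decide (IsSquare b)) else Sum.inl a := by
    intro a b
    simp only [f, elt, Matrix.of_apply, Matrix.cons_val_zero, Matrix.cons_val_one, Matrix.cons_val',
      Matrix.cons_val_fin_one]
    split_ifs
    · rfl
    · exact congrArg Sum.inl (Units.ext rfl)
  have hm1 : (-1 : F) ≠ 1 := fun h => h2 (by linear_combination -h)
  have hsurj : Function.Surjective f := by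
    rintro (a | ⟨s, t⟩)
    · exact ⟨elt a 0, by rw [fval, if_neg (fun h => h.2 rfl)]⟩
    · refine ⟨elt (if s then 1 else -1) (if t then 1 else ν), ?_⟩
      rw [fval, if_pos ⟨by cases s <;> simp, by cases t <;> simp [hν0]⟩]
      cases s <;> cases t <;> simp [hν, hm1]
  rw [card_conjClasses_of_invariant f hsurj ?_, Nat.card_eq_fintype_card, Fintype.card_sum,
    Fintype.card_units, Fintype.card_prod, Fintype.card_bool]
  · have := Fintype.card_pos (α := F)
    omega
  intro x y
  obtain ⟨a, b, rfl⟩ := exists_elt x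
  obtain ⟨a', b', rfl⟩ := exists_elt y
  rw [isConj_elt, fval, fval]
  constructor
  · rintro ⟨rfl, c, e, h⟩
    by_cases ha : (a : F) = 1 ∨ (a : F) = -1
    · have hz : ((a⁻¹ : Fˣ) : F) - a = 0 := by
        rcases ha with h1 | h1 <;> rw [Units.val_inv_eq_inv_val, h1] <;> simp
      rw [hz, mul_zero, add_zero] at h
      by_cases hb : b = 0
      · simp [hb] at h; simp [hb, h]
      · have hb' : b' ≠ 0 := by
          rw [h]; exact mul_ne_zero (mul_ne_zero c.ne_zero c.ne_zero) hb
        rw [if_pos ⟨ha, hb⟩, if_pos ⟨ha, hb'⟩]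
        refine congrArg (fun z => Sum.inr ((decide ((a : F) = 1)), z)) (decide_eq_decide.2 ?_)
        constructor
        · rintro ⟨r, hr⟩
          exact ⟨c * r, by rw [h, hr]; ring⟩
        · rintro ⟨r, hr⟩
          refine ⟨(c⁻¹ : Fˣ) * r, ?_⟩
          have hc : ((c⁻¹ : Fˣ) : F) * c = 1 := Units.inv_mul c
          linear_combination (((c⁻¹ : Fˣ) : F) ^ 2) * hr - ((c⁻¹ : Fˣ) : F) ^ 2 * h -
            b * (((c⁻¹ : Fˣ) : F) * c + 1) * hc
    · rw [if_neg (fun h' => ha h'.1), if_neg (fun h' => ha h'.1)]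
  · intro h
    split_ifs at h with h1 h3 h3
    · simp only [Sum.inr.injEq, Prod.mk.injEq, decide_eq_decide] at h
      obtain ⟨hA, hB⟩ := h
      have haa : a = a' := by
        apply Units.ext
        rcases h1.1 with e | e
        · rw [e, hA.1 e]
        · rcases h3.1 with e' | e'
          · exact absurd ((hA.2 e').symm.trans e).symm hm1
          · rw [e, e']
      refine ⟨haa, ?_⟩
      obtain ⟨r, hr⟩ : IsSquare (b' / b) := by
        by_cases hsq : IsSquare b
        · exact (hB.1 hsq).div hsq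
        · refine (quadraticChar_one_iff_isSquare (div_ne_zero h3.2 h1.2)).1 ?_
          have hb : quadraticChar F (b' / b) * quadraticChar F b = quadraticChar F b' := by
            rw [← map_mul, div_mul_cancel₀ _ h1.2]
          rw [quadraticChar_neg_one_iff_not_isSquare.2 hsq,
            quadraticChar_neg_one_iff_not_isSquare.2 (fun hh => hsq (hB.2 hh))] at hb
          linarith
      have hr0 : r ≠ 0 := fun e => div_ne_zero h3.2 h1.2 (by rw [hr, e, mul_zero])
      refine ⟨Units.mk0 r hr0, 0, ?_⟩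
      rw [Units.val_mk0, mul_zero, zero_mul, add_zero, ← hr, div_mul_cancel₀ _ h1.2]
    · have hab : a = a' := Sum.inl.inj h
      subst hab
      refine ⟨rfl, ?_⟩
      by_cases ha : (a : F) = 1 ∨ (a : F) = -1
      · have hb : b = 0 := by by_contra hb; exact h1 ⟨ha, hb⟩
        have hb' : b' = 0 := by by_contra hb'; exact h3 ⟨ha, hb'⟩
        exact ⟨1, 0, by simp [hb, hb']⟩
      · have hz : ((a⁻¹ : Fˣ) : F) - a ≠ 0 := by
          intro h0
          refine ha (mul_self_eq_one_iff.1 ?_)
          have hi : ((a⁻¹ : Fˣ) : F) * a = 1 := Units.inv_mul a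
          linear_combination hi - (a : F) * h0
        refine ⟨1, (b' - b) / (((a⁻¹ : Fˣ) : F) - a), ?_⟩
        rw [Units.val_one]
        field_simp
        ring

/-- Elements of the monomial subgroup of SL_2. -/
def mono : Fˣ × Bool → SL2
  | (a, false) => ⟨!![(a : F), 0; 0, (a⁻¹ : Fˣ)], by simp [det_fin_two_of]⟩
  | (a, true) => ⟨!![0, (a : F); -((a⁻¹ : Fˣ) : F), 0], by simp [det_fin_two_of]⟩

theorem mono_injective : Function.Injective (mono (F := F)) := by
  rintro ⟨a, _ | _⟩ ⟨b, _ | _⟩ h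
  · have := congrArg (fun x : SL2 => x.1 0 0) h
    simp [mono] at this
    rw [Units.ext this]
  · have := congrArg (fun x : SL2 => x.1 0 0) h
    simp [mono] at this
  · have := congrArg (fun x : SL2 => x.1 0 0) h
    simp [mono] at this
    exact absurd this.symm b.ne_zero
  · have := congrArg (fun x : SL2 => x.1 0 1) h
    simp [mono] at this
    rw [Units.ext this]

theorem mem_range_mono (g : SL2) (h : (g.1 0 1 = 0 ∧ g.1 1 0 = 0) ∨ (g.1 0 0 = 0 ∧ g.1 1 1 = 0)) :
    ∃ p, mono p = g := by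
  have hd := g.det_coe
  rw [det_fin_two] at hd
  rcases h with ⟨h1, h2⟩ | ⟨h1, h2⟩
  · rw [h1, h2, mul_zero, sub_zero] at hd
    have h00 : g.1 0 0 ≠ 0 := fun e => by simp [e] at hd
    refine ⟨(Units.mk0 _ h00, false), Subtype.ext ?_⟩
    ext i j
    fin_cases i <;> fin_cases j <;> simp [mono, h1, h2, eq_inv_of_mul_eq_one_right hd]
  · rw [h1, h2, mul_zero, zero_sub] at hd
    have h01 : g.1 0 1 ≠ 0 := fun e => by simp [e] at hd
    refine ⟨(Units.mk0 _ h01, true), Subtype.ext ?_⟩
    have h10 : g.1 1 0 = -(g.1 0 1)⁻¹ := by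
      field_simp
      linear_combination -hd
    ext i j
    fin_cases i <;> fin_cases j <;> simp [mono, h1, h2, h10]

theorem sum_sq_one [Fintype F] [DecidableEq F] (h2 : (2 : F) ≠ 0) (b : Fˣ) :
    (Finset.univ.filter fun c : Fˣ => c ^ 2 = b ^ 2).card = 2 := by
  have hne : b ≠ -b := by
    intro h
    have h' : (b : F) = -(b : F) := by
      have := congrArg Units.val h
      simpa using this
    exact h2 ((mul_eq_zero.1 (show (2 : F) * b = 0 by linear_combination h')).resolve_right b.ne_zero)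
  have : (Finset.univ.filter fun c : Fˣ => c ^ 2 = b ^ 2) = {b, -b} := by
    ext c
    simp only [Finset.mem_filter, Finset.mem_univ, true_and, Finset.mem_insert, Finset.mem_singleton]
    rw [Units.ext_iff, Units.ext_iff, Units.ext_iff, Units.val_pow_eq_pow_val,
      Units.val_pow_eq_pow_val, Units.val_neg, sq_eq_sq_iff_eq_or_eq_neg]
  rw [this, Finset.card_pair hne]

/-- When two monomial elements commute. -/
def commCond : Fˣ × Bool → Fˣ × Bool → Prop
  | (_, false), (_, false) => True
  | (a, false), (_, true) => a ^ 2 = 1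
  | (_, true), (b, false) => b ^ 2 = 1
  | (a, true), (b, true) => a ^ 2 = b ^ 2

theorem units_sq_iff (a : Fˣ) : a ^ 2 = 1 ↔ (a : F) * a = 1 := by
  rw [Units.ext_iff, Units.val_pow_eq_pow_val, pow_two, Units.val_one]

theorem commute_mono (p r : Fˣ × Bool) : Commute (mono p) (mono r) ↔ commCond p r := by
  obtain ⟨a, i⟩ := p
  obtain ⟨b, j⟩ := r
  have ha : (a : F) ≠ 0 := a.ne_zero
  have hb : (b : F) ≠ 0 := b.ne_zero
  have key : ∀ x y : SL2, Commute x y ↔ x.1 * y.1 = y.1 * x.1 := fun x y =>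
    ⟨fun h => congrArg Subtype.val h, fun h => Subtype.ext h⟩
  rw [key]
  cases i <;> cases j <;> simp only [mono, commCond]
  · simp only [iff_true]
    ext u v
    fin_cases u <;> fin_cases v <;> simp [mul_comm]
  · rw [units_sq_iff]
    constructor
    · intro h
      have h01 := congrFun (congrFun h 0) 1
      simp [Matrix.mul_apply, Fin.sum_univ_two] at h01
      field_simp at h01
      linear_combination h01
    · intro h
      ext u v
      fin_cases u <;> fin_cases v <;> simp [Matrix.mul_apply, Fin.sum_univ_two]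
      · field_simp; linear_combination h
      · field_simp; linear_combination -h
  · rw [units_sq_iff]
    constructor
    · intro h
      have h01 := congrFun (congrFun h 0) 1
      simp [Matrix.mul_apply, Fin.sum_univ_two] at h01
      field_simp at h01
      linear_combination -h01
    · intro h
      ext u v
      fin_cases u <;> fin_cases v <;> simp [Matrix.mul_apply, Fin.sum_univ_two]
      · field_simp; linear_combination -h
      · field_simp; linear_combination h
  · rw [Units.ext_iff, Units.val_pow_eq_pow_val, Units.val_pow_eq_pow_val]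
    constructor
    · intro h
      have h00 := congrFun (congrFun h 0) 0
      simp [Matrix.mul_apply, Fin.sum_univ_two] at h00
      field_simp at h00
      linear_combination h00
    · intro h
      ext u v
      fin_cases u <;> fin_cases v <;> simp [Matrix.mul_apply, Fin.sum_univ_two]
      · field_simp; linear_combination h
      · field_simp; linear_combination -h

theorem card_commCond [Fintype F] (h2 : (2 : F) ≠ 0) :
    Nat.card {z : (Fˣ × Bool) × (Fˣ × Bool) // commCond z.1 z.2} =
      (Fintype.card F - 1) * (Fintype.card F + 5) := by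
  classical
  have h1 : ∀ s : Fˣ, (∑ c : Fˣ, if c ^ 2 = s ^ 2 then 1 else 0) = 2 := fun s => by
    rw [Finset.sum_boole, sum_sq_one h2 s]; rfl
  have h0 : (∑ c : Fˣ, if c ^ 2 = 1 then 1 else 0) = 2 := by
    simpa using h1 1
  let w : Fˣ × Bool → Fˣ × Bool → ℕ := fun p r =>
    match p.2, r.2 with
    | false, false => 1
    | false, true => if p.1 ^ 2 = 1 then 1 else 0
    | true, false => if r.1 ^ 2 = 1 then 1 else 0
    | true, true => if p.1 ^ 2 = r.1 ^ 2 then 1 else 0
  have hw : ∀ p r : Fˣ × Bool, (if commCond p r then 1 else 0) = w p r := by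
    rintro ⟨a, _ | _⟩ ⟨b, _ | _⟩
    · exact if_pos trivial
    all_goals exact if_congr Iff.rfl rfl rfl
  rw [Nat.card_eq_fintype_card, Fintype.card_subtype, Finset.card_filter, Fintype.sum_prod_type]
  simp only [hw]
  simp only [Fintype.sum_prod_type, Fintype.sum_bool, Finset.sum_add_distrib, w,
    Finset.sum_const, Finset.card_univ, smul_eq_mul, mul_one]
  have hcomm : ∀ s : Fˣ, (∑ c : Fˣ, if s ^ 2 = c ^ 2 then 1 else 0) = 2 := fun s => by
    simpa [eq_comm] using h1 s
  have h0' : (∑ a : Fˣ, ∑ _c : Fˣ, if a ^ 2 = 1 then 1 else 0) = Fintype.card Fˣ * 2 := by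
    rw [Finset.sum_comm]; simp [h0]
  simp only [hcomm, h0, h0', ← Finset.mul_sum, Finset.sum_const, Finset.card_univ, smul_eq_mul,
    Fintype.card_units]
  have := Fintype.one_lt_card (α := F)
  obtain ⟨k, hk⟩ : ∃ k, Fintype.card F = k + 1 := ⟨Fintype.card F - 1, by omega⟩
  rw [hk, Nat.add_sub_cancel]
  ring

theorem mem_centralizer_diag (d : SL2) (hd01 : d.1 0 1 = 0) (hd10 : d.1 1 0 = 0)
    (hda : d.1 0 0 ^ 2 ≠ 1) (g : SL2) :
    g ∈ Subgroup.centralizer ({d} : Set SL2) ↔ g.1 0 1 = 0 ∧ g.1 1 0 = 0 := by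
  have hd := d.det_coe
  rw [det_fin_two, hd01, hd10, mul_zero, sub_zero] at hd
  have hne : d.1 0 0 - d.1 1 1 ≠ 0 := fun h => hda (by linear_combination hd + d.1 0 0 * h)
  rw [Subgroup.mem_centralizer_singleton_iff]
  constructor
  · intro h
    have e : g.1 * d.1 = d.1 * g.1 := congrArg Subtype.val h
    have e01 := congrFun (congrFun e 0) 1
    have e10 := congrFun (congrFun e 1) 0
    simp [Matrix.mul_apply, Fin.sum_univ_two, hd01, hd10] at e01 e10
    refine ⟨(mul_eq_zero.1 (?_ : (d.1 0 0 - d.1 1 1) * g.1 0 1 = 0)).resolve_left hne,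
      (mul_eq_zero.1 (?_ : (d.1 0 0 - d.1 1 1) * g.1 1 0 = 0)).resolve_left hne⟩
    · linear_combination -e01
    · linear_combination e10
  · rintro ⟨h1, h2⟩
    apply Subtype.ext
    show g.1 * d.1 = d.1 * g.1
    ext u v
    fin_cases u <;> fin_cases v <;>
      simp [Matrix.mul_apply, Fin.sum_univ_two, hd01, hd10, h1, h2, mul_comm]

theorem mem_normalizer_diag (d : SL2) (hd01 : d.1 0 1 = 0) (hd10 : d.1 1 0 = 0)
    (hda : d.1 0 0 ^ 2 ≠ 1) (g : SL2) :
    g ∈ Subgroup.normalizer ((Subgroup.centralizer ({d} : Set SL2)) : Set SL2) ↔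
      ∃ p, mono p = g := by
  have hT := mem_centralizer_diag d hd01 hd10 hda
  have hd := d.det_coe
  rw [det_fin_two, hd01, hd10, mul_zero, sub_zero] at hd
  have hne : d.1 0 0 - d.1 1 1 ≠ 0 := fun h => hda (by linear_combination hd + d.1 0 0 * h)
  constructor
  · intro hg
    rw [Subgroup.mem_normalizer_iff] at hg
    obtain ⟨h1, h2⟩ := (hT _).1 ((hg d).1 ((hT d).2 ⟨hd01, hd10⟩))
    set e := g * d * g⁻¹ with he
    have hm : g.1 * d.1 = e.1 * g.1 :=
      (congrArg Subtype.val (show e * g = g * d by rw [he, inv_mul_cancel_right])).symm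
    have m00 := congrFun (congrFun hm 0) 0
    have m01 := congrFun (congrFun hm 0) 1
    have m10 := congrFun (congrFun hm 1) 0
    have m11 := congrFun (congrFun hm 1) 1
    simp [Matrix.mul_apply, Fin.sum_univ_two, hd01, hd10, h1, h2] at m00 m01 m10 m11
    have hg' := g.det_coe
    rw [det_fin_two] at hg'
    have r0 : g.1 0 0 * g.1 0 1 = 0 := (mul_eq_zero.1
      (show (d.1 0 0 - d.1 1 1) * (g.1 0 0 * g.1 0 1) = 0 by
        linear_combination g.1 0 1 * m00 - g.1 0 0 * m01)).resolve_left hne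
    have r1 : g.1 1 0 * g.1 1 1 = 0 := (mul_eq_zero.1
      (show (d.1 0 0 - d.1 1 1) * (g.1 1 0 * g.1 1 1) = 0 by
        linear_combination g.1 1 1 * m10 - g.1 1 0 * m11)).resolve_left hne
    apply mem_range_mono
    by_cases h00 : g.1 0 0 = 0
    · refine Or.inr ⟨h00, ?_⟩
      rcases mul_eq_zero.1 r1 with h | h
      · simp [h00, h] at hg'
      · exact h
    · have h01 := (mul_eq_zero.1 r0).resolve_left h00
      refine Or.inl ⟨h01, ?_⟩
      rcases mul_eq_zero.1 r1 with h | h
      · exact h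
      · simp [h01, h] at hg'
  · rintro ⟨p, rfl⟩
    rw [Subgroup.mem_normalizer_iff]
    intro x
    have conjv : ∀ y z : SL2, (y * z * y⁻¹).1 = y.1 * z.1 * y.1.adjugate := fun _ _ => rfl
    obtain ⟨a, i⟩ := p
    have ha : (a : F) ≠ 0 := a.ne_zero
    rw [hT, hT, conjv]
    cases i <;>
      simp [mono, Matrix.mul_apply, Fin.sum_univ_two, Matrix.adjugate_fin_two, Matrix.vecMul,
        dotProduct, ha] <;>
      exact ⟨fun h => ⟨h.2, h.1⟩, fun h => ⟨h.2, h.1⟩⟩

theorem normalizer_diag_counts [Fintype F] (hodd : Odd (Fintype.card F)) (d : SL2)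
    (hd01 : d.1 0 1 = 0) (hd10 : d.1 1 0 = 0) (hda : d.1 0 0 ^ 2 ≠ 1) :
    Nat.card (Subgroup.normalizer ((Subgroup.centralizer ({d} : Set SL2)) : Set SL2)) =
        2 * (Fintype.card F - 1) ∧
      Nat.card (ConjClasses (Subgroup.normalizer ((Subgroup.centralizer ({d} : Set SL2)) : Set SL2))) =
        (Fintype.card F + 5) / 2 := by
  classical
  have h2 := two_ne_zero_of_odd_card hodd
  have hN := mem_normalizer_diag d hd01 hd10 hda
  let e : Fˣ × Bool ≃ Subgroup.normalizer ((Subgroup.centralizer ({d} : Set SL2)) : Set SL2) :=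
    Equiv.ofBijective (fun p => ⟨mono p, (hN _).2 ⟨p, rfl⟩⟩)
      ⟨fun p r h => mono_injective (congrArg Subtype.val h),
        fun g => ⟨((hN _).1 g.2).choose, Subtype.ext ((hN _).1 g.2).choose_spec⟩⟩
  have hc : Nat.card (Subgroup.normalizer ((Subgroup.centralizer ({d} : Set SL2)) : Set SL2)) =
      2 * (Fintype.card F - 1) := by
    rw [← Nat.card_congr e, Nat.card_eq_fintype_card, Fintype.card_prod, Fintype.card_units,
      Fintype.card_bool, mul_comm]
  refine ⟨hc, ?_⟩
  have hp : Nat.card {z : Subgroup.normalizer ((Subgroup.centralizer ({d} : Set SL2)) : Set SL2) ×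
      Subgroup.normalizer ((Subgroup.centralizer ({d} : Set SL2)) : Set SL2) // Commute z.1 z.2} =
      (Fintype.card F - 1) * (Fintype.card F + 5) := by
    rw [← card_commCond h2]
    refine (Nat.card_congr ((Equiv.prodCongr e e).subtypeEquiv fun z => ?_)).symm
    rw [← commute_mono]
    exact ⟨fun h => Subtype.ext h, fun h => congrArg Subtype.val h⟩
  rw [card_comm_eq_card_conjClasses_mul_card, hc] at hp
  have h1 := Fintype.one_lt_card (α := F)
  have h3 : Nat.card (ConjClasses (Subgroup.normalizer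
      ((Subgroup.centralizer ({d} : Set SL2)) : Set SL2))) * 2 = Fintype.card F + 5 :=
    Nat.eq_of_mul_eq_mul_left (show 0 < Fintype.card F - 1 by omega) (by linarith)
  omega

theorem sq_outside (d : SL2) (hd01 : d.1 0 1 = 0) (hd10 : d.1 1 0 = 0) (hda : d.1 0 0 ^ 2 ≠ 1)
    (g : SL2) (hg : g ∈ Subgroup.normalizer ((Subgroup.centralizer ({d} : Set SL2)) : Set SL2))
    (hg' : g ∉ Subgroup.centralizer ({d} : Set SL2)) :
    g.1 * g.1 = -1 := by
  obtain ⟨⟨a, i⟩, rfl⟩ := (mem_normalizer_diag d hd01 hd10 hda g).1 hg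
  cases i
  · exact absurd ((mem_centralizer_diag d hd01 hd10 hda _).2 ⟨rfl, rfl⟩) hg'
  · have ha : (a : F) ≠ 0 := a.ne_zero
    ext u v
    fin_cases u <;> fin_cases v <;> simp [mono, Matrix.mul_apply, Fin.sum_univ_two, ha]

end Cfsg.Agent.SL2BorelTorus
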