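/-
SL_2 over a finite field: the principal series, the Steinberg character, twisting by diagonal
elements of GL_2.
-/
import Cfsg.Agent.Lib.Classical.GL2Induced
import Cfsg.Agent.Lib.Classical.SL2Tori
import Cfsg.Agent.Lib.Classical.CharTools

set_option autoImplicit false

namespace Cfsg.Agent.SL2Principal

open scoped ComplexConjugate
open Matrix TwoByTwo GL2Count Cfsg.Agent.Char CharTools

variable {F : Type*} [Field F]

local notation "SL2" => Matrix.SpecialLinearGroup (Fin 2) F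
local notation "Bor" => Subgroup.comap Matrix.SpecialLinearGroup.toGL (Cfsg.upperTriangularGL 2 F)

/-- The upper triangular element with entries `a`, `s`. -/
def sm (a : Fˣ) (s : F) : Matrix.SpecialLinearGroup (Fin 2) F :=
  ⟨!![(a : F), s; 0, ((a⁻¹ : Fˣ) : F)], by simp [det_fin_two_of]⟩

@[simp] theorem sm_val (a : Fˣ) (s : F) : (sm a s).1 = !![(a : F), s; 0, ((a⁻¹ : Fˣ) : F)] := rfl

theorem sm_one : sm (1 : Fˣ) (0 : F) = 1 := Subtype.ext (by
  ext i j; fin_cases i <;> fin_cases j <;> simp)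

theorem sm_mul (a b : Fˣ) (s t : F) :
    sm a s * sm b t = sm (a * b) (a * t + s * (b⁻¹ : Fˣ)) := Subtype.ext (by
  show (sm a s).1 * (sm b t).1 = _
  ext i j; fin_cases i <;> fin_cases j <;> simp [Matrix.mul_apply, Fin.sum_univ_two, mul_comm])

theorem inv_eq_self_iff (a : Fˣ) : a⁻¹ = a ↔ a = 1 ∨ a = -1 := by
  constructor
  · intro h
    have h' : (a : F) * a = 1 := by
      conv_lhs => arg 2; rw [← h]
      simp
    rcases mul_self_eq_one_iff.1 h' with e | e
    · exact Or.inl (Units.ext e)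
    · exact Or.inr (Units.ext (by simpa using e))
  · rintro (rfl | rfl) <;> simp

theorem isScalar_sm {a : Fˣ} (he : a⁻¹ = a) : IsScalar (sm a (0 : F)).1 := by
  simp [IsScalar, -Units.val_inv_eq_inv_val, he]

theorem exists_sm_scalar {g : SL2} (h : IsScalar g.1) : ∃ a : Fˣ, a⁻¹ = a ∧ g = sm a 0 := by
  rcases SL2Tori.val_eq_pm_one h with e | e
  · exact ⟨1, inv_one, Subtype.ext (by rw [e, sm_one]; rfl)⟩
  · refine ⟨-1, (inv_eq_self_iff _).2 (Or.inr rfl), Subtype.ext ?_⟩
    rw [e]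
    ext i j; fin_cases i <;> fin_cases j <;> simp

theorem sm_zero_mem_center {a : Fˣ} (he : a⁻¹ = a) :
    sm a (0 : F) ∈ Subgroup.center (Matrix.SpecialLinearGroup (Fin 2) F) :=
  Subgroup.mem_center_iff.2 fun g => Subtype.ext (by
    show g.1 * (sm a (0 : F)).1 = (sm a (0 : F)).1 * g.1
    rw [isScalar_iff.1 (isScalar_sm he), mul_smul_comm, smul_mul_assoc, mul_one, one_mul])

theorem isConj_sm {a : Fˣ} (h : a⁻¹ ≠ a) (s : F) : IsConj (sm a 0) (sm a s) := by
  have h' : ((a⁻¹ : Fˣ) : F) - a ≠ 0 := sub_ne_zero.2 fun e => h (Units.ext e)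
  refine isConj_iff.2 ⟨sm 1 (s / (((a⁻¹ : Fˣ) : F) - a)), ?_⟩
  rw [mul_inv_eq_iff_eq_mul, sm_mul, sm_mul, mul_one, one_mul]
  congr 1
  simp only [inv_one, Units.val_one, mul_zero, mul_one, zero_add]
  field_simp
  ring

theorem isConj_sm_sq (a : Fˣ) (s : F) (c : Fˣ) : IsConj (sm a s) (sm a ((c : F) * c * s)) := by
  refine isConj_iff.2 ⟨sm c 0, ?_⟩
  rw [mul_inv_eq_iff_eq_mul, sm_mul, sm_mul, mul_comm c a]
  congr 1
  have hc : (c : F) * (c⁻¹ : Fˣ) = 1 := Units.mul_inv c
  linear_combination -((c : F) * s) * hc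

theorem not_noEigen_sm (a : Fˣ) (s : F) : ¬ SL2Tori.NoEigen (sm a s).1 := fun h =>
  h (a : F) ![1, 0] (fun e => by simpa using congrFun e 0) (by
    ext i; fin_cases i <;> simp [Matrix.mulVec, dotProduct, Fin.sum_univ_two])

theorem noEigen_or_conj (g : SL2) :
    SL2Tori.NoEigen g.1 ∨ ∃ (a : Fˣ) (s : F), IsConj (sm a s) g := by
  classical
  by_cases h : SL2Tori.NoEigen g.1
  · exact Or.inl h
  right
  simp only [SL2Tori.NoEigen, not_forall, not_not] at h
  obtain ⟨c, v, hv, hcv⟩ := h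
  obtain ⟨w, hw⟩ := exists_second v hv
  let x : SL2 := ⟨!![v 0, w 0; v 1, w 1], by rw [det_fin_two_of]; linear_combination hw⟩
  have hcol : col₀ x.1 = v := funext fun i => by fin_cases i <;> simp [x, col₀]
  have hup := (conj_mem_upper_iff (x := x.1) (by rw [x.det_coe]; exact one_ne_zero) c).2
    (show g.1 *ᵥ col₀ x.1 = c • col₀ x.1 by rw [hcol]; exact hcv)
  set y := x⁻¹ * g * x with hy
  have h10 : y.1 1 0 = 0 := by rw [hy, GL2Induced.conj_val_sl]; exact hup.1
  have hd := y.det_coe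
  rw [det_fin_two, h10, mul_zero, sub_zero] at hd
  have h00 : y.1 0 0 ≠ 0 := fun e => by simp [e] at hd
  have e : sm (Units.mk0 _ h00) (y.1 0 1) = y := Subtype.ext (by
    ext i j; fin_cases i <;> fin_cases j <;> simp [h10, eq_inv_of_mul_eq_one_right hd])
  refine ⟨Units.mk0 _ h00, y.1 0 1, ?_⟩
  rw [e, hy]
  exact isConj_iff.2 ⟨x, by group⟩

/-- Conjugation by `diag(ν, 1)`. -/
def tw (ν : Fˣ) : Matrix.SpecialLinearGroup (Fin 2) F ≃* Matrix.SpecialLinearGroup (Fin 2) F where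
  toFun g := ⟨!![g.1 0 0, (ν : F) * g.1 0 1; ((ν⁻¹ : Fˣ) : F) * g.1 1 0, g.1 1 1], by
    have h := g.det_coe
    rw [det_fin_two] at h
    rw [det_fin_two_of]
    have hν : (ν : F) * (ν⁻¹ : Fˣ) = 1 := Units.mul_inv ν
    linear_combination h - g.1 0 1 * g.1 1 0 * hν⟩
  invFun g := ⟨!![g.1 0 0, ((ν⁻¹ : Fˣ) : F) * g.1 0 1; (ν : F) * g.1 1 0, g.1 1 1], by
    have h := g.det_coe
    rw [det_fin_two] at h
    rw [det_fin_two_of]
    have hν : (ν : F) * (ν⁻¹ : Fˣ) = 1 := Units.mul_inv ν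
    linear_combination h - g.1 0 1 * g.1 1 0 * hν⟩
  left_inv g := Subtype.ext (by ext i j; fin_cases i <;> fin_cases j <;> simp)
  right_inv g := Subtype.ext (by ext i j; fin_cases i <;> fin_cases j <;> simp)
  map_mul' g h := Subtype.ext (by
    have hν : (ν : F) * (ν⁻¹ : Fˣ) = 1 := Units.mul_inv ν
    show !![(g.1 * h.1) 0 0, (ν : F) * (g.1 * h.1) 0 1; ((ν⁻¹ : Fˣ) : F) * (g.1 * h.1) 1 0,
      (g.1 * h.1) 1 1] = !![g.1 0 0, (ν : F) * g.1 0 1; ((ν⁻¹ : Fˣ) : F) * g.1 1 0, g.1 1 1] *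
      !![h.1 0 0, (ν : F) * h.1 0 1; ((ν⁻¹ : Fˣ) : F) * h.1 1 0, h.1 1 1]
    ext i j
    fin_cases i <;> fin_cases j <;>
      simp [Matrix.mul_apply, Fin.sum_univ_two, -Units.val_inv_eq_inv_val]
    · linear_combination -(g.1 0 1 * h.1 1 0) * hν
    · ring
    · ring
    · linear_combination -(g.1 1 0 * h.1 0 1) * hν)

theorem tw_sm (ν a : Fˣ) (s : F) : tw ν (sm a s) = sm a ((ν : F) * s) := Subtype.ext (by
  show !![(sm a s).1 0 0, (ν : F) * (sm a s).1 0 1;
    ((ν⁻¹ : Fˣ) : F) * (sm a s).1 1 0, (sm a s).1 1 1] = (sm a ((ν : F) * s)).1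
  simp)

theorem trace_tw (ν : Fˣ) (g : SL2) : (tw ν g).1.trace = g.1.trace := by
  show (!![g.1 0 0, (ν : F) * g.1 0 1; ((ν⁻¹ : Fˣ) : F) * g.1 1 0, g.1 1 1]).trace = _
  simp [trace_fin_two]

theorem isClassFunction_comp_tw (ν : Fˣ) {f : SL2 → ℂ}
    (hf : Cfsg.IsClassFunction (Matrix.SpecialLinearGroup (Fin 2) F) f) :
    Cfsg.IsClassFunction (Matrix.SpecialLinearGroup (Fin 2) F) (fun g => f (tw ν g)) := by
  intro g h
  show f (tw ν (h * g * h⁻¹)) = f (tw ν g)
  rw [map_mul, map_mul, map_inv]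
  exact hf _ _

variable [Fintype F]

theorem tw_eq_noEigen (ν : Fˣ) {f : SL2 → ℂ}
    (hf : Cfsg.IsClassFunction (Matrix.SpecialLinearGroup (Fin 2) F) f) {g : SL2}
    (hg : SL2Tori.NoEigen g.1) : f (tw ν g) = f g :=
  (isClassFunction_iff.1 hf _ _ (SL2Tori.isConj_of_trace hg (trace_tw ν g).symm)).symm

theorem tw_eq_diag (ν : Fˣ) {f : SL2 → ℂ}
    (hf : Cfsg.IsClassFunction (Matrix.SpecialLinearGroup (Fin 2) F) f) {a : Fˣ} (h : a⁻¹ ≠ a)
    (s : F) : f (tw ν (sm a s)) = f (sm a s) := by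
  rw [tw_sm, ← isClassFunction_iff.1 hf _ _ (isConj_sm h _),
    isClassFunction_iff.1 hf _ _ (isConj_sm h s)]

theorem ext_class {f f' : SL2 → ℂ}
    (hf : Cfsg.IsClassFunction (Matrix.SpecialLinearGroup (Fin 2) F) f)
    (hf' : Cfsg.IsClassFunction (Matrix.SpecialLinearGroup (Fin 2) F) f')
    (h1 : ∀ g : SL2, SL2Tori.NoEigen g.1 → f g = f' g) (h2 : ∀ (a : Fˣ) (s : F), f (sm a s) = f' (sm a s)) :
    f = f' := by
  funext g
  rcases noEigen_or_conj g with h | ⟨a, s, h⟩
  · exact h1 g h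
  · rw [← isClassFunction_iff.1 hf _ _ h, ← isClassFunction_iff.1 hf' _ _ h]
    exact h2 a s

theorem comp_tw_eq (ν : Fˣ) {f : SL2 → ℂ}
    (hf : Cfsg.IsClassFunction (Matrix.SpecialLinearGroup (Fin 2) F) f)
    (h : ∀ a : Fˣ, a⁻¹ = a → ∀ s : F, s ≠ 0 → f (sm a ((ν : F) * s)) = f (sm a s)) :
    (fun g => f (tw ν g)) = f := by
  refine ext_class (isClassFunction_comp_tw ν hf) hf (fun g hg => tw_eq_noEigen ν hf hg)
    fun a s => ?_
  by_cases he : a⁻¹ = a
  · rw [tw_sm]
    by_cases hs : s = 0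
    · rw [hs, mul_zero]
    · exact h a he s hs
  · exact tw_eq_diag ν hf he s

variable [DecidableEq F]

/-- The principal series character of `α`. -/
noncomputable def R (α : MulChar F ℂ) : Matrix.SpecialLinearGroup (Fin 2) F → ℂ :=
  Cfsg.indFun Bor (fun b => α ((b : Matrix.SpecialLinearGroup (Fin 2) F).1 0 0))

/-- The Steinberg character. -/
noncomputable def St : Matrix.SpecialLinearGroup (Fin 2) F → ℂ :=
  R (1 : MulChar F ℂ) - fun _ => 1

theorem isClassFunction_R (α : MulChar F ℂ) :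
    Cfsg.IsClassFunction (Matrix.SpecialLinearGroup (Fin 2) F) (R α) := isClassFunction_indFun _ _

theorem isClassFunction_const : Cfsg.IsClassFunction (Matrix.SpecialLinearGroup (Fin 2) F)
    (fun _ => (1 : ℂ)) := fun _ _ => rfl

theorem isCharacter_R (α : MulChar F ℂ) :
    Cfsg.IsCharacter (Matrix.SpecialLinearGroup (Fin 2) F) (R α) := by
  refine isCharacter_indFun _ ?_
  let f : Bor →* ℂ :=
    { toFun := fun b => α ((b : Matrix.SpecialLinearGroup (Fin 2) F).1 0 0)
      map_one' := by simp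
      map_mul' := fun x y => by
        have hy := (GL2Induced.mem_borel_sl _).1 y.2
        show α ((x.1.1 * y.1.1) 0 0) = _
        simp [Matrix.mul_apply, Fin.sum_univ_two, hy] }
  exact IsIrrCharacter.isCharacter (isIrrCharacter_linear f.toHomUnits)

theorem R_diag_entries (α : MulChar F ℂ) (g : SL2) (h01 : g.1 0 1 = 0)
    (h10 : g.1 1 0 = 0) (hne : g.1 0 0 ≠ g.1 1 1) :
    R α g = α (g.1 0 0) + α (g.1 1 1) := by
  refine GL2Induced.indFun_sl (fun c => α c) g _ ?_
    (GL2Induced.axes_spec_diag (fun c => α c) h01 h10 hne) _ (GL2Induced.sum_axes _ _)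
  simp

theorem R_sm_ne (α : MulChar F ℂ) {a : Fˣ} (h : a⁻¹ ≠ a) (s : F) :
    R α (sm a s) = α (a : F) + α ((a⁻¹ : Fˣ) : F) := by
  rw [← isClassFunction_iff.1 (isClassFunction_R α) _ _ (isConj_sm h s),
    R_diag_entries α _ (by simp) (by simp) ?_]
  · simp
  · intro e
    exact h (Units.ext (by simpa using e.symm))

theorem R_jordan (α : MulChar F ℂ) {a : Fˣ} (he : a⁻¹ = a) {s : F} (hs : s ≠ 0) :
    R α (sm a s) = α (a : F) := by
  refine GL2Induced.indFun_sl (fun c => α c) _ _ ?_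
    (GL2Induced.axes_spec_jordan (fun c => α c) (by simp) (by simp [-Units.val_inv_eq_inv_val, he])
      (by simpa using hs)) _ ?_
  · simp
  · rw [GL2Induced.sum_axes]; simp

theorem R_scalar (α : MulChar F ℂ) {a : Fˣ} (he : a⁻¹ = a) :
    R α (sm a 0) = ((Fintype.card F : ℂ) + 1) * α (a : F) := by
  refine GL2Induced.indFun_sl (fun c => α c) _ _ ?_
    (GL2Induced.scalar_spec (fun c => α c) (isScalar_sm he)) _ ?_
  · simp
  · rw [GL2Induced.sum_nonzero]; simp; ring

theorem R_noEigen (α : MulChar F ℂ) {g : SL2} (hg : SL2Tori.NoEigen g.1) : R α g = 0 :=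
  GL2Induced.indFun_sl (fun c => α c) g (fun _ => 0) rfl
    (fun v hv => ⟨fun c hc => absurd hc (hg c v hv), fun _ => rfl⟩) 0 (by simp)

theorem R_one (α : MulChar F ℂ) : R α 1 = (Fintype.card F : ℂ) + 1 := by
  rw [← sm_one, R_scalar α inv_one]; simp

theorem R_tw (ν : Fˣ) (α : MulChar F ℂ) : (fun g => R α (tw ν g)) = R α :=
  comp_tw_eq ν (isClassFunction_R α) fun a he s hs => by
    rw [R_jordan α he hs, R_jordan α he (mul_ne_zero ν.ne_zero hs)]

theorem St_one : (St (F := F)) 1 = (Fintype.card F : ℂ) := by simp [St, R_one]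

/-- Sum over a coset of the unipotent radical. -/
noncomputable def US (f : Matrix.SpecialLinearGroup (Fin 2) F → ℂ) (a : Fˣ) : ℂ :=
  ∑ s : F, f (sm a s)

omit [DecidableEq F] in
theorem US_ne {f : SL2 → ℂ} (hf : Cfsg.IsClassFunction (Matrix.SpecialLinearGroup (Fin 2) F) f)
    {a : Fˣ} (h : a⁻¹ ≠ a) : US f a = (Fintype.card F : ℂ) * f (sm a 0) := by
  rw [US, Finset.sum_congr rfl (g := fun _ => f (sm a 0)) (fun s _ =>
    (isClassFunction_iff.1 hf _ _ (isConj_sm h s)).symm)]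
  simp

omit [DecidableEq F] in
theorem US_const {f : SL2 → ℂ} (a : Fˣ) {A B : ℂ} (h0 : f (sm a 0) = A)
    (hs : ∀ s : F, s ≠ 0 → f (sm a s) = B) : US f a = A + ((Fintype.card F : ℂ) - 1) * B := by
  classical
  rw [US, ← Finset.add_sum_erase _ _ (Finset.mem_univ (0 : F)),
    Finset.sum_congr rfl (g := fun _ => B) (fun s hh => hs s (Finset.mem_erase.1 hh).1), h0]
  simp [Finset.card_erase_of_mem, Nat.cast_sub Fintype.card_pos]

theorem US_R (α : MulChar F ℂ) (a : Fˣ) :
    US (R α) a = (Fintype.card F : ℂ) * (α (a : F) + α ((a⁻¹ : Fˣ) : F)) := by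
  by_cases h : a⁻¹ = a
  · rw [US_const a (R_scalar α h) (fun s hs => R_jordan α h hs), h]; ring
  · rw [US_ne (isClassFunction_R α) h, R_sm_ne α h]

theorem inner_R (α : MulChar F ℂ) {f : SL2 → ℂ}
    (hf : Cfsg.IsClassFunction (Matrix.SpecialLinearGroup (Fin 2) F) f) :
    Cfsg.classInner (R α) f = ((Fintype.card F : ℂ) * ((Fintype.card F : ℂ) - 1))⁻¹ *
      ∑ a : Fˣ, α (a : F) * conj (US f a) := by
  classical
  haveI : Fintype Bor := Fintype.ofFinite _
  rw [R, classInner_indFun_left _ _ hf, Cfsg.classInner, GL2Induced.card_borel_sl, Nat.cast_mul,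
    Nat.cast_sub Fintype.card_pos, Nat.cast_one]
  congr 1
  simp only [US, map_sum, Finset.mul_sum]
  rw [← Fintype.sum_prod_type']
  symm
  refine Fintype.sum_bijective
    (fun p : Fˣ × F => (⟨sm p.1 p.2, (GL2Induced.mem_borel_sl _).2 (by simp)⟩ : Bor)) ⟨?_, ?_⟩
    _ _ (fun p => by simp)
  · rintro ⟨a, s⟩ ⟨a', s'⟩ h
    have h' : (sm a s).1 = (sm a' s').1 := congrArg (fun b : Bor => b.1.1) h
    have e0 := congrFun (congrFun h' 0) 0
    have e1 := congrFun (congrFun h' 0) 1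
    simp at e0 e1
    exact Prod.ext (Units.ext e0) e1
  · rintro ⟨y, hy⟩
    have h10 := (GL2Induced.mem_borel_sl _).1 hy
    have hd := y.det_coe
    rw [det_fin_two, h10, mul_zero, sub_zero] at hd
    have h00 : y.1 0 0 ≠ 0 := fun e => by simp [e] at hd
    refine ⟨(Units.mk0 _ h00, y.1 0 1), Subtype.ext (Subtype.ext ?_)⟩
    ext i j; fin_cases i <;> fin_cases j <;> simp [h10, eq_inv_of_mul_eq_one_right hd]

theorem qq_ne_zero : ((Fintype.card F : ℂ) * ((Fintype.card F : ℂ) - 1))⁻¹ ≠ 0 :=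
  inv_ne_zero (mul_ne_zero (Nat.cast_ne_zero.2 Fintype.card_ne_zero)
    (sub_ne_zero.2 (by exact_mod_cast (Fintype.one_lt_card (α := F)).ne')))

open scoped Classical in
theorem inner_R_R (α β : MulChar F ℂ) :
    Cfsg.classInner (R α) (R β) = (if α = β then 1 else 0) + (if α = β⁻¹ then 1 else 0) := by
  rw [inner_R α (isClassFunction_R β),
    Finset.sum_congr rfl (g := fun a : Fˣ => (Fintype.card F : ℂ) *
      (α (a : F) * conj (β (a : F)) + α (a : F) * conj ((β⁻¹ : MulChar F ℂ) (a : F)))) ?_]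
  · rw [← Finset.mul_sum, Finset.sum_add_distrib, mulChar_sum, mulChar_sum]
    have hq : (Fintype.card F : ℂ) ≠ 0 := Nat.cast_ne_zero.2 Fintype.card_ne_zero
    have h1 : (Fintype.card F : ℂ) - 1 ≠ 0 :=
      sub_ne_zero.2 (by exact_mod_cast (Fintype.one_lt_card (α := F)).ne')
    split_ifs <;> first | (field_simp; done) | (simp; done) | (field_simp; ring)
  · intro a _
    rw [US_R, Units.val_inv_eq_inv_val, ← MulChar.inv_apply' β (a : F), map_mul, map_add,
      map_natCast]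
    ring

open scoped Classical in
theorem inner_R_const (α : MulChar F ℂ) :
    Cfsg.classInner (R α) (fun _ => 1) = if α = 1 then 1 else 0 := by
  rw [inner_R α isClassFunction_const,
    Finset.sum_congr rfl (g := fun a : Fˣ => (Fintype.card F : ℂ) *
      (α (a : F) * conj ((1 : MulChar F ℂ) (a : F)))) ?_]
  · rw [← Finset.mul_sum, mulChar_sum]
    have hq : (Fintype.card F : ℂ) ≠ 0 := Nat.cast_ne_zero.2 Fintype.card_ne_zero
    have h1 : (Fintype.card F : ℂ) - 1 ≠ 0 :=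
      sub_ne_zero.2 (by exact_mod_cast (Fintype.one_lt_card (α := F)).ne')
    split_ifs <;> first | (field_simp; done) | (simp; done)
  · intro a _
    simp [US, mul_comm]

open scoped Classical in
theorem inner_R_St (α : MulChar F ℂ) :
    Cfsg.classInner (R α) (St (F := F)) = if α = 1 then 1 else 0 := by
  rw [St, classInner_sub_right, inner_R_R, inner_R_const, inv_one]
  split_ifs <;> norm_num

theorem inner_St_const : Cfsg.classInner (St (F := F)) (fun _ => 1) = 0 := by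
  classical
  rw [St, classInner_sub_left, inner_R_const, if_pos rfl,
    classInner_self_irr isIrrCharacter_one, sub_self]

theorem St_irr : Cfsg.IsIrrCharacter (Matrix.SpecialLinearGroup (Fin 2) F) (St (F := F)) := by
  classical
  refine isIrr_of_norm_one (IsGeneralizedCharacter.sub
    (IsGeneralizedCharacter.of_isCharacter (isCharacter_R 1))
    (IsGeneralizedCharacter.of_isCharacter isCharacter_one)) ?_ St_one Fintype.card_ne_zero
  show Cfsg.classInner (R (1 : MulChar F ℂ) - fun _ => 1) (St (F := F)) = 1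
  rw [classInner_sub_left, inner_R_St, if_pos rfl, ← classInner_conj_symm (St (F := F)),
    inner_St_const]
  simp

omit [DecidableEq F] in
theorem sq_eq_one_iff' (α : MulChar F ℂ) : α ^ 2 = 1 ↔ α = α⁻¹ := by
  rw [pow_two]; exact mul_eq_one_iff_eq_inv

theorem R_irr_iff (α : MulChar F ℂ) :
    Cfsg.IsIrrCharacter (Matrix.SpecialLinearGroup (Fin 2) F) (R α) ↔ α ^ 2 ≠ 1 := by
  classical
  rw [Ne, sq_eq_one_iff']
  refine ⟨fun h e => ?_, fun h => IsCharacter.isIrr_of_norm_one (isCharacter_R α) ?_⟩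
  · have h1 := classInner_self_irr h
    rw [inner_R_R, if_pos rfl, if_pos e] at h1
    norm_num at h1
  · rw [inner_R_R, if_pos rfl, if_neg h, add_zero]

theorem R_eq_iff (α β : MulChar F ℂ) : R α = R β ↔ β = α ∨ β = α⁻¹ := by
  classical
  refine ⟨fun e => ?_, fun h => ?_⟩
  · by_contra hc
    rw [not_or] at hc
    have h1 := inner_R_R α β
    rw [if_neg (fun h => hc.1 h.symm), if_neg (fun h => hc.2 (by rw [h, inv_inv])), add_zero,
      ← e, inner_R_R, if_pos rfl] at h1
    split_ifs at h1 <;> norm_num at h1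
  · refine sub_eq_zero.1 (classInner_self_eq_zero ?_)
    simp only [classInner_sub_left, classInner_sub_right, inner_R_R]
    rcases h with rfl | rfl
    · simp
    · rw [inv_inv]
      by_cases h : α = α⁻¹
      · rw [← h]; simp
      · simp [h, Ne.symm h]

theorem US_eq_of_inner {f : SL2 → ℂ}
    (hf : Cfsg.IsClassFunction (Matrix.SpecialLinearGroup (Fin 2) F) f) (u : Fˣ → ℂ)
    (h : ∀ α : MulChar F ℂ, Cfsg.classInner (R α) f =
      ((Fintype.card F : ℂ) * ((Fintype.card F : ℂ) - 1))⁻¹ * ∑ a : Fˣ, α (a : F) * conj (u a))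
    (a : Fˣ) : US f a = u a := by
  have := mulChar_sep (fun a => conj (US f a) - conj (u a)) (fun α => by
    have h' := mul_left_cancel₀ qq_ne_zero ((inner_R α hf).symm.trans (h α))
    simp only [mul_sub, Finset.sum_sub_distrib, h', sub_self]) a
  rw [sub_eq_zero] at this
  simpa using congrArg conj this

theorem classInner_mul_left (f b c : SL2 → ℂ) :
    Cfsg.classInner (fun g => f g * b g) c = Cfsg.classInner b (fun g => conj (f g) * c g) := by
  simp only [Cfsg.classInner, map_mul, Complex.conj_conj]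
  congr 1
  exact Finset.sum_congr rfl fun g _ => by ring

end Cfsg.Agent.SL2Principal
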