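/-
SL_2 over a finite field: the discrete series characters attached to a non-split torus.
-/
import Cfsg.Agent.Lib.Classical.SL2Principal

set_option autoImplicit false

namespace Cfsg.Agent.SL2Cuspidal

open scoped ComplexConjugate
open Matrix TwoByTwo Cfsg.Agent.Char CharTools SL2Principal SL2Tori

variable {F : Type*} [Field F]

local notation "SL2" => Matrix.SpecialLinearGroup (Fin 2) F

/-- The elements `±1` of the field. -/
abbrev Z (F : Type*) [Field F] : Type _ := {a : Fˣ // a⁻¹ = a}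

/-- A central element as an element of a torus. -/
def zT (g₀ : Matrix.SpecialLinearGroup (Fin 2) F) (a : Z F) : torus g₀ :=
  ⟨sm a.1 0, Subgroup.mem_centralizer_singleton_iff.2
    (Subgroup.mem_center_iff.1 (sm_zero_mem_center a.2) g₀).symm⟩

@[simp] theorem zT_coe (g₀ : Matrix.SpecialLinearGroup (Fin 2) F) (a : Z F) :
    ((zT g₀ a : torus g₀) : SL2) = sm a.1 0 := rfl

variable {g₀ : Matrix.SpecialLinearGroup (Fin 2) F}

theorem inv_eq_self_of_scalar {t : torus g₀} (h : IsScalar t.1.1) : t⁻¹ = t := by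
  obtain ⟨a, ha, e⟩ := exists_sm_scalar h
  refine Subtype.ext (inv_eq_of_mul_eq_one_right ?_)
  rw [e, sm_mul, show a * a = 1 from inv_eq_iff_mul_eq_one.1 ha]
  simp [sm_one]

variable [Fintype F] [DecidableEq F]

theorem exists_omega (θ : torus g₀ →* ℂˣ) :
    ∃ ω : MulChar F ℂ, ∀ a : Z F, ω (a.1 : F) = (θ (zT g₀ a) : ℂ) := by
  have hone : ∀ a : Z F, a.1 = 1 → (θ (zT g₀ a) : ℂ) = 1 := fun a h => by
    rw [show zT g₀ a = 1 from Subtype.ext (by rw [zT_coe, h, sm_one]; rfl), map_one, Units.val_one]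
  by_cases hneg : (-1 : Fˣ) = 1
  · refine ⟨1, fun a => ?_⟩
    have ha : a.1 = 1 := ((inv_eq_self_iff _).1 a.2).elim id (fun h => h.trans hneg)
    rw [hone a ha, MulChar.one_apply_coe]
  let m : Z F := ⟨-1, (inv_eq_self_iff _).2 (Or.inr rfl)⟩
  have hsq : (θ (zT g₀ m) : ℂ) * θ (zT g₀ m) = 1 := by
    rw [← Units.val_mul, ← map_mul,
      show zT g₀ m * zT g₀ m = 1 from Subtype.ext (by simp [sm_mul, sm_one, m]), map_one,
      Units.val_one]
  rcases mul_self_eq_one_iff.1 hsq with e | e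
  · refine ⟨1, fun a => ?_⟩
    rw [MulChar.one_apply_coe]
    rcases (inv_eq_self_iff _).1 a.2 with h | h
    · rw [hone a h]
    · rw [show a = m from Subtype.ext h, e]
  · obtain ⟨f, hf⟩ := exists_hom_ne hneg
    refine ⟨MulChar.ofUnitHom f, fun a => ?_⟩
    rw [MulChar.ofUnitHom_coe]
    rcases (inv_eq_self_iff _).1 a.2 with h | h
    · rw [hone a h, h, map_one, Units.val_one]
    · rw [show a = m from Subtype.ext h, e]
      have h1 : (f (-1) : ℂ) * f (-1) = 1 := by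
        rw [← Units.val_mul, ← map_mul, neg_mul_neg, one_mul, map_one, Units.val_one]
      exact (mul_self_eq_one_iff.1 h1).resolve_left (fun h' => hf (Units.ext h'))

/-- A multiplicative character of `F` agreeing with `θ` on the centre. -/
noncomputable def omega (θ : torus g₀ →* ℂˣ) : MulChar F ℂ := Classical.choose (exists_omega θ)

theorem omega_spec (θ : torus g₀ →* ℂˣ) {a : Fˣ} (he : a⁻¹ = a) :
    omega θ (a : F) = (θ (zT g₀ ⟨a, he⟩) : ℂ) := Classical.choose_spec (exists_omega θ) ⟨a, he⟩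

/-- The product part of a discrete series character. -/
noncomputable def D (θ : torus g₀ →* ℂˣ) : Matrix.SpecialLinearGroup (Fin 2) F → ℂ :=
  fun g => (R (1 : MulChar F ℂ) g - 2) * R (omega θ) g

/-- The induced part of a discrete series character. -/
noncomputable def I (θ : torus g₀ →* ℂˣ) : Matrix.SpecialLinearGroup (Fin 2) F → ℂ :=
  Cfsg.indFun (torus g₀) (fun t => (θ t : ℂ))

/-- The discrete series character of `θ`. -/
noncomputable def cusp (θ : torus g₀ →* ℂˣ) : Matrix.SpecialLinearGroup (Fin 2) F → ℂ :=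
  D θ - I θ

theorem isClassFunction_D (θ : torus g₀ →* ℂˣ) :
    Cfsg.IsClassFunction (Matrix.SpecialLinearGroup (Fin 2) F) (D θ) := fun g h => by
  simp [D, isClassFunction_R _ g h]

theorem isClassFunction_cusp (θ : torus g₀ →* ℂˣ) :
    Cfsg.IsClassFunction (Matrix.SpecialLinearGroup (Fin 2) F) (cusp θ) :=
  IsClassFunction.sub (isClassFunction_D θ) (isClassFunction_indFun _ _)

theorem isGen_cusp (θ : torus g₀ →* ℂˣ) :
    Cfsg.IsGeneralizedCharacter (Matrix.SpecialLinearGroup (Fin 2) F) (cusp θ) := by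
  refine IsGeneralizedCharacter.sub ?_ (IsGeneralizedCharacter.of_isCharacter
    (isCharacter_indFun _ (IsIrrCharacter.isCharacter (isIrrCharacter_linear θ))))
  have := IsGeneralizedCharacter.mul
    (IsGeneralizedCharacter.sub (IsGeneralizedCharacter.of_isCharacter (isCharacter_R (1 : MulChar F ℂ)))
      (IsGeneralizedCharacter.int_smul (IsGeneralizedCharacter.of_isCharacter
        (isCharacter_one (G := SL2))) 2))
    (IsGeneralizedCharacter.of_isCharacter (isCharacter_R (omega θ)))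
  convert this using 1
  funext g
  simp [D]

theorem D_noEigen (θ : torus g₀ →* ℂˣ) {g : SL2} (hg : NoEigen g.1) : D θ g = 0 := by
  simp [D, R_noEigen _ hg]

theorem D_ne (θ : torus g₀ →* ℂˣ) {a : Fˣ} (h : a⁻¹ ≠ a) (s : F) : D θ (sm a s) = 0 := by
  simp only [D, R_sm_ne _ h, MulChar.one_apply_coe]
  norm_num

theorem D_scalar (θ : torus g₀ →* ℂˣ) {a : Fˣ} (he : a⁻¹ = a) :
    D θ (sm a 0) = ((Fintype.card F : ℂ) ^ 2 - 1) * θ (zT g₀ ⟨a, he⟩) := by
  rw [D, R_scalar _ he, R_scalar _ he, omega_spec θ he, MulChar.one_apply_coe]; ring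

theorem D_jordan (θ : torus g₀ →* ℂˣ) {a : Fˣ} (he : a⁻¹ = a) {s : F} (hs : s ≠ 0) :
    D θ (sm a s) = -(θ (zT g₀ ⟨a, he⟩) : ℂ) := by
  rw [D, R_jordan _ he hs, R_jordan _ he hs, omega_spec θ he, MulChar.one_apply_coe]; ring

theorem conj_torus (hg₀ : NoEigen g₀.1) {g x : SL2} (h : x⁻¹ * g * x ∈ torus g₀) :
    IsScalar g.1 ∨ NoEigen g.1 := by
  by_cases hs : IsScalar (x⁻¹ * g * x).1
  · have hc : IsConj (x⁻¹ * g * x) g := isConj_iff.2 ⟨x, by group⟩
    rw [← (isConj_sl_scalar _ _ hs).1 hc]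
    exact Or.inl hs
  · refine Or.inr (noEigen_of_trace (noEigen_of_mem hg₀ h hs) ?_)
    have := trace_conj x⁻¹ g
    rwa [inv_inv] at this

theorem I_zero (hg₀ : NoEigen g₀.1) (θ : torus g₀ →* ℂˣ) {a : Fˣ} {s : F}
    (h : ¬ IsScalar (sm a s).1) : I θ (sm a s) = 0 :=
  indFun_eq_zero_of_forall _ _ fun x hx =>
    (conj_torus hg₀ hx).elim h (not_noEigen_sm a s)

theorem I_ne (hg₀ : NoEigen g₀.1) (θ : torus g₀ →* ℂˣ) {a : Fˣ} (h : a⁻¹ ≠ a) (s : F) :
    I θ (sm a s) = 0 :=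
  I_zero hg₀ θ fun hs => h (Units.ext (by simpa using hs.2.2.symm))

theorem I_jordan (hg₀ : NoEigen g₀.1) (θ : torus g₀ →* ℂˣ) {a : Fˣ} {s : F} (hs : s ≠ 0) :
    I θ (sm a s) = 0 :=
  I_zero hg₀ θ fun h => hs (by simpa using h.1)

theorem card_torus' (hg₀ : NoEigen g₀.1) :
    (Nat.card (torus g₀) : ℂ) = (Fintype.card F : ℂ) + 1 := by
  rw [card_torus hg₀, Nat.card_eq_fintype_card, Nat.cast_add, Nat.cast_one]

theorem card_sl' : (Nat.card SL2 : ℂ) = (Fintype.card F : ℂ) * ((Fintype.card F : ℂ) ^ 2 - 1) := by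
  rw [card_sl_two, Nat.card_eq_fintype_card, Nat.cast_mul,
    Nat.cast_sub (Nat.one_le_pow _ _ Fintype.card_pos), Nat.cast_pow, Nat.cast_one]

theorem q_add_one_ne_zero : (Fintype.card F : ℂ) + 1 ≠ 0 := by
  exact_mod_cast Nat.succ_ne_zero (Fintype.card F)

theorem I_scalar (hg₀ : NoEigen g₀.1) (θ : torus g₀ →* ℂˣ) {a : Fˣ} (he : a⁻¹ = a) :
    I θ (sm a 0) =
      (Fintype.card F : ℂ) * ((Fintype.card F : ℂ) - 1) * θ (zT g₀ ⟨a, he⟩) := by
  refine mul_right_cancel₀ (b := (Nat.card (torus g₀) : ℂ)) (Nat.cast_ne_zero.2 Nat.card_pos.ne') ?_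
  rw [I, GL2Induced.indFun_mul_card, Finset.sum_congr rfl
    (g := fun _ => (θ (zT g₀ ⟨a, he⟩) : ℂ)) (fun x _ => by
      have hx : x⁻¹ * sm a 0 * x = sm a 0 := by
        rw [Subgroup.mem_center_iff.1 (sm_zero_mem_center he) x⁻¹, inv_mul_cancel_right]
      rw [hx]
      exact extendByZero_coe (torus g₀) _ (zT g₀ ⟨a, he⟩))]
  rw [Finset.sum_const, Finset.card_univ, ← Nat.card_eq_fintype_card, nsmul_eq_mul, card_sl',
    card_torus' hg₀]
  ring

theorem I_elliptic (hg₀ : NoEigen g₀.1) (θ : torus g₀ →* ℂˣ) (c : torus g₀)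
    (hc : ¬ IsScalar c.1.1) : I θ c.1 = (θ c : ℂ) + (θ c⁻¹ : ℂ) := by
  classical
  obtain ⟨w, d, -, -⟩ := exists_inverter hg₀
  have hns := not_scalar hg₀
  have hwc : w⁻¹ * c.1 * w = (c.1)⁻¹ := by
    have h := d.inv _ (inv_mem c.2)
    rw [inv_inv] at h
    conv_lhs => rw [← h]
    group
  have hcT : torus c.1 = torus g₀ := torus_eq hns c.2 hc
  have key : ∀ x : SL2, Cfsg.extendByZero (torus g₀) (fun t => (θ t : ℂ)) (x⁻¹ * c.1 * x) =
      (if x ∈ torus g₀ then (θ c : ℂ) else 0) + (if x * w⁻¹ ∈ torus g₀ then (θ c⁻¹ : ℂ) else 0) := by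
    intro x
    by_cases h1 : x ∈ torus g₀
    · have h2 : x * w⁻¹ ∉ torus g₀ := fun h2 => d.notMem (by
        have := inv_mem ((mul_mem_cancel_left h1).1 h2)
        rwa [inv_inv] at this)
      rw [if_pos h1, if_neg h2, add_zero, mul_assoc, torus_comm hns _ c.2 x h1, inv_mul_cancel_left,
        extendByZero_coe]
    by_cases h2 : x * w⁻¹ ∈ torus g₀
    · rw [if_neg h1, if_pos h2, zero_add]
      have e : x⁻¹ * c.1 * x = (c.1)⁻¹ := by
        conv_rhs => rw [← hwc]
        calc x⁻¹ * c.1 * x = w⁻¹ * ((x * w⁻¹)⁻¹ * (c.1 * (x * w⁻¹))) * w := by group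
          _ = w⁻¹ * c.1 * w := by rw [torus_comm hns _ c.2 _ h2, inv_mul_cancel_left]
      rw [e]
      exact extendByZero_coe (torus g₀) _ c⁻¹
    rw [if_neg h1, if_neg h2, add_zero]
    refine extendByZero_not_mem _ _ fun hm => ?_
    have ht : c.1.1.trace = (x⁻¹ * c.1 * x).1.trace := by
      have := trace_conj x⁻¹ c.1
      rw [inv_inv] at this
      exact this.symm
    rcases eq_or_eq_inv hg₀ c.2 hm ht with e | e
    · refine h1 (hcT ▸ Subgroup.mem_centralizer_singleton_iff.2 ?_)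
      calc x * c.1 = x * (x⁻¹ * c.1 * x) := by rw [e]
        _ = c.1 * x := by group
    · refine h2 (hcT ▸ Subgroup.mem_centralizer_singleton_iff.2 ?_)
      calc x * w⁻¹ * c.1 = x * (w⁻¹ * c.1 * w) * w⁻¹ := by group
        _ = x * (x⁻¹ * c.1 * x) * w⁻¹ := by rw [hwc, e]
        _ = c.1 * (x * w⁻¹) := by group
  have hcard : ∀ A : ℂ, ∑ x : SL2, (if x ∈ torus g₀ then A else 0) = (Nat.card (torus g₀) : ℂ) * A := by
    intro A
    rw [← Finset.sum_filter, Finset.sum_const, nsmul_eq_mul, ← Fintype.card_subtype,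
      ← Nat.card_eq_fintype_card]
  refine mul_right_cancel₀ (b := (Nat.card (torus g₀) : ℂ)) (Nat.cast_ne_zero.2 Nat.card_pos.ne') ?_
  rw [I, GL2Induced.indFun_mul_card, Finset.sum_congr rfl (fun x _ => key x),
    Finset.sum_add_distrib, hcard,
    Fintype.sum_equiv (Equiv.mulRight w⁻¹) (fun x => if x * w⁻¹ ∈ torus g₀ then (θ c⁻¹ : ℂ) else 0)
      (fun x => if x ∈ torus g₀ then (θ c⁻¹ : ℂ) else 0) (fun x => rfl), hcard]
  ring

section values

variable (hg₀ : NoEigen g₀.1) (θ : torus g₀ →* ℂˣ)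

include hg₀

theorem cusp_ne {a : Fˣ} (h : a⁻¹ ≠ a) (s : F) : cusp θ (sm a s) = 0 := by
  simp [cusp, D_ne θ h s, I_ne hg₀ θ h s]

theorem cusp_scalar {a : Fˣ} (he : a⁻¹ = a) :
    cusp θ (sm a 0) = ((Fintype.card F : ℂ) - 1) * θ (zT g₀ ⟨a, he⟩) := by
  rw [cusp, Pi.sub_apply, D_scalar θ he, I_scalar hg₀ θ he]; ring

theorem cusp_jordan {a : Fˣ} (he : a⁻¹ = a) {s : F} (hs : s ≠ 0) :
    cusp θ (sm a s) = -(θ (zT g₀ ⟨a, he⟩) : ℂ) := by
  rw [cusp, Pi.sub_apply, D_jordan θ he hs, I_jordan hg₀ θ hs, sub_zero]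

theorem cusp_elliptic (c : torus g₀) (hc : ¬ IsScalar c.1.1) :
    cusp θ c.1 = -((θ c : ℂ) + (θ c)⁻¹.val) := by
  rw [cusp, Pi.sub_apply, D_noEigen θ (noEigen_of_mem hg₀ c.2 hc), I_elliptic hg₀ θ c hc, zero_sub,
    map_inv]

theorem cusp_one : cusp θ 1 = (Fintype.card F : ℂ) - 1 := by
  rw [← sm_one, cusp_scalar hg₀ θ inv_one,
    show zT g₀ ⟨1, inv_one⟩ = 1 from Subtype.ext (by rw [zT_coe, sm_one]; rfl), map_one]
  simp

theorem cusp_tw (ν : Fˣ) : (fun g => cusp θ (tw ν g)) = cusp θ :=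
  comp_tw_eq ν (isClassFunction_cusp θ) fun a he s hs => by
    rw [cusp_jordan hg₀ θ he hs, cusp_jordan hg₀ θ he (mul_ne_zero ν.ne_zero hs)]

theorem US_cusp (a : Fˣ) : US (cusp θ) a = 0 := by
  by_cases he : a⁻¹ = a
  · rw [US_const a (cusp_scalar hg₀ θ he) (fun s hs => cusp_jordan hg₀ θ he hs)]; ring
  · rw [US_ne (isClassFunction_cusp θ) he, cusp_ne hg₀ θ he, mul_zero]

theorem inner_R_cusp (α : MulChar F ℂ) : Cfsg.classInner (R α) (cusp θ) = 0 := by
  rw [inner_R α (isClassFunction_cusp θ)]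
  simp [US_cusp hg₀ θ]

end values

/-! ### Inner products -/

/-- The inner product on the centre. -/
noncomputable def S (θ θ' : torus g₀ →* ℂˣ) : ℂ :=
  ∑ a : Z F, (θ (zT g₀ a) : ℂ) * conj (θ' (zT g₀ a) : ℂ)

theorem sum_units_eq_sum_Z (f : Fˣ → ℂ) (h : ∀ a : Fˣ, a⁻¹ ≠ a → f a = 0) :
    ∑ a : Fˣ, f a = ∑ a : Z F, f a.1 := by
  rw [← Finset.sum_subtype (Finset.univ.filter fun a : Fˣ => a⁻¹ = a) (fun a => by simp) f]
  refine (Finset.sum_subset (Finset.subset_univ _) fun a _ ha => ?_).symm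
  exact h a (by simpa using ha)

theorem sum_torus_eq_sum_Z [Fintype (torus g₀)] (f : torus g₀ → ℂ)
    (h : ∀ t : torus g₀, ¬ IsScalar t.1.1 → f t = 0) : ∑ t, f t = ∑ a : Z F, f (zT g₀ a) := by
  classical
  have hinj : Function.Injective (zT g₀) := by
    intro a b e
    have := congrArg (fun t : torus g₀ => t.1.1 0 0) e
    simp at this
    exact Subtype.ext (Units.ext this)
  rw [← Finset.sum_image (f := f) (fun a _ b _ e => hinj e)]
  refine (Finset.sum_subset (Finset.subset_univ _) fun t _ ht => ?_).symm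
  refine h t fun hs => ht ?_
  obtain ⟨a, ha, e⟩ := exists_sm_scalar hs
  exact Finset.mem_image.2 ⟨⟨a, ha⟩, Finset.mem_univ _, Subtype.ext e.symm⟩

theorem inner_D_D (θ θ' : torus g₀ →* ℂˣ) :
    Cfsg.classInner (D θ) (D θ') = (Fintype.card F : ℂ) * S θ θ' := by
  have hE : Cfsg.IsClassFunction (Matrix.SpecialLinearGroup (Fin 2) F)
      (fun g => conj (R (1 : MulChar F ℂ) g - 2) * D θ' g) := fun g h => by
    simp [isClassFunction_R _ g h, isClassFunction_D θ' g h]
  rw [show D θ = fun g => (R (1 : MulChar F ℂ) g - 2) * R (omega θ) g from rfl,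
    classInner_mul_left, inner_R _ hE, sum_units_eq_sum_Z _ (fun a h => by
      rw [US_ne hE h]
      simp only [D_ne θ' h 0, mul_zero, map_zero])]
  rw [Finset.sum_congr rfl (g := fun a : Z F => ((Fintype.card F : ℂ) ^ 2 * ((Fintype.card F : ℂ) - 1)) *
    ((θ (zT g₀ a) : ℂ) * conj (θ' (zT g₀ a) : ℂ))) (fun a _ => by
      rw [US_const a.1 rfl (fun s hs => by rw [D_jordan θ' a.2 hs, R_jordan _ a.2 hs]),
        omega_spec θ a.2, R_scalar _ a.2, D_scalar θ' a.2]
      simp only [MulChar.one_apply_coe, map_add, map_sub, map_mul, map_neg, map_pow, map_natCast,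
        map_one, map_ofNat, mul_one]
      ring), ← Finset.mul_sum, S]
  have hq : (Fintype.card F : ℂ) ≠ 0 := Nat.cast_ne_zero.2 Fintype.card_ne_zero
  have h1 : (Fintype.card F : ℂ) - 1 ≠ 0 :=
    sub_ne_zero.2 (by exact_mod_cast (Fintype.one_lt_card (α := F)).ne')
  field_simp

theorem inner_I_D (hg₀ : NoEigen g₀.1) (θ θ' : torus g₀ →* ℂˣ) :
    Cfsg.classInner (I θ) (D θ') = ((Fintype.card F : ℂ) - 1) * S θ θ' := by
  classical
  haveI : Fintype (torus g₀) := Fintype.ofFinite _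
  rw [I, classInner_indFun_left _ _ (isClassFunction_D θ'), Cfsg.classInner, card_torus' hg₀,
    sum_torus_eq_sum_Z _ (fun t ht => by simp [D_noEigen θ' (noEigen_of_mem hg₀ t.2 ht)])]
  rw [Finset.sum_congr rfl (g := fun a : Z F => ((Fintype.card F : ℂ) ^ 2 - 1) *
    ((θ (zT g₀ a) : ℂ) * conj (θ' (zT g₀ a) : ℂ))) (fun a _ => by
      rw [zT_coe, D_scalar θ' a.2]
      simp only [map_mul, map_sub, map_pow, map_natCast, map_one, Subtype.coe_eta]
      ring), ← Finset.mul_sum, S]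
  have h1 := q_add_one_ne_zero (F := F)
  field_simp
  ring

open scoped Classical in
theorem inner_I_I (hg₀ : NoEigen g₀.1) (θ θ' : torus g₀ →* ℂˣ) :
    Cfsg.classInner (I θ) (I θ') = (if θ = θ' then 1 else 0) + (if θ = θ'⁻¹ then 1 else 0) +
      ((Fintype.card F : ℂ) - 2) * S θ θ' := by
  haveI : Fintype (torus g₀) := Fintype.ofFinite _
  rw [show I θ = Cfsg.indFun (torus g₀) (fun t => (θ t : ℂ)) from rfl,
    classInner_indFun_left _ _ (χ := I θ') (isClassFunction_indFun _ _), Cfsg.classInner,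
    card_torus' hg₀,
    Finset.sum_congr rfl (g := fun t : torus g₀ => (θ t : ℂ) * conj (θ' t : ℂ) +
      (θ t : ℂ) * conj ((θ'⁻¹) t : ℂ) + (if IsScalar t.1.1 then
        ((Fintype.card F : ℂ) ^ 2 - (Fintype.card F : ℂ) - 2) * ((θ t : ℂ) * conj (θ' t : ℂ))
        else 0)) (fun t _ => ?_)]
  · rw [Finset.sum_add_distrib, Finset.sum_add_distrib, sum_hom_mul_conj, sum_hom_mul_conj,
      sum_torus_eq_sum_Z _ (fun t ht => if_neg ht)]
    simp only [card_torus' hg₀]
    rw [Finset.sum_congr rfl (fun a _ => if_pos (show IsScalar (zT g₀ a).1.1 from isScalar_sm a.2)),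
      ← Finset.mul_sum, S]
    have h1 := q_add_one_ne_zero (F := F)
    split_ifs <;> field_simp <;> ring
  · rw [MonoidHom.inv_apply, ← map_inv θ']
    by_cases hs : IsScalar t.1.1
    · rw [if_pos hs, inv_eq_self_of_scalar hs]
      obtain ⟨a, ha, e⟩ := exists_sm_scalar hs
      have ht : t = zT g₀ ⟨a, ha⟩ := Subtype.ext e
      subst ht
      show (θ _ : ℂ) * conj (I θ' (sm a 0)) = _
      rw [I_scalar hg₀ θ' ha]
      simp only [map_mul, map_sub, map_natCast, map_one]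
      ring
    · rw [if_neg hs, add_zero]
      show (θ t : ℂ) * conj (I θ' t.1) = _
      rw [I_elliptic hg₀ θ' t hs, map_add]
      ring

open scoped Classical in
theorem inner_cusp (hg₀ : NoEigen g₀.1) (θ θ' : torus g₀ →* ℂˣ) :
    Cfsg.classInner (cusp θ) (cusp θ') =
      (if θ = θ' then 1 else 0) + (if θ = θ'⁻¹ then 1 else 0) := by
  have hswap : Cfsg.classInner (D θ) (I θ') = ((Fintype.card F : ℂ) - 1) * S θ θ' := by
    rw [← classInner_conj_symm (I θ') (D θ), inner_I_D hg₀ θ' θ]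
    simp only [S, map_mul, map_sub, map_natCast, map_one, map_sum, Complex.conj_conj]
    congr 1
    exact Finset.sum_congr rfl fun a _ => mul_comm _ _
  simp only [cusp, classInner_sub_left, classInner_sub_right, inner_D_D, inner_I_D hg₀ θ θ',
    inner_I_I hg₀ θ θ', hswap]
  ring

theorem inner_D_const (θ : torus g₀ →* ℂˣ) : Cfsg.classInner (D θ) (fun _ => 1) = 0 := by
  have hE : Cfsg.IsClassFunction (Matrix.SpecialLinearGroup (Fin 2) F)
      (fun g => conj (R (1 : MulChar F ℂ) g - 2) * (1 : ℂ)) := fun g h => by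
    simp [isClassFunction_R _ g h]
  rw [show D θ = fun g => (R (1 : MulChar F ℂ) g - 2) * R (omega θ) g from rfl,
    classInner_mul_left, inner_R _ hE]
  refine mul_eq_zero_of_right _ (Finset.sum_eq_zero fun a _ => ?_)
  by_cases he : a⁻¹ = a
  · rw [US_const a rfl (fun s hs => by rw [R_jordan _ he hs]), R_scalar _ he]
    simp only [MulChar.one_apply_coe, map_add, map_mul, map_sub, map_natCast, map_one, map_ofNat,
      mul_one]
    ring
  · rw [US_ne hE he, R_sm_ne _ he]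
    simp only [MulChar.one_apply_coe, map_mul, map_sub, map_add, map_natCast, map_one, map_ofNat]
    ring

open scoped Classical in
theorem inner_cusp_const (hg₀ : NoEigen g₀.1) (θ : torus g₀ →* ℂˣ) :
    Cfsg.classInner (cusp θ) (fun _ => 1) = -(if θ = 1 then 1 else 0) := by
  haveI : Fintype (torus g₀) := Fintype.ofFinite _
  rw [cusp, classInner_sub_left, inner_D_const, I, classInner_indFun_left _ _ isClassFunction_const,
    zero_sub, Cfsg.classInner]
  congr 1
  have h := sum_hom_mul_conj θ 1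
  simp only [MonoidHom.one_apply, Units.val_one, map_one] at h ⊢
  rw [h]
  split_ifs
  · rw [inv_mul_cancel₀ (Nat.cast_ne_zero.2 Nat.card_pos.ne')]
  · rw [mul_zero]

section irreducible

variable (hg₀ : NoEigen g₀.1)

include hg₀

omit [DecidableEq F] in
theorem isCyclic' : IsCyclic (torus g₀) := isCyclic_torus hg₀

omit [DecidableEq F] in
theorem sq_hom_eq_one_iff (θ : torus g₀ →* ℂˣ) : θ ^ 2 = 1 ↔ θ = θ⁻¹ := by
  rw [pow_two]; exact mul_eq_one_iff_eq_inv

theorem cusp_irr {θ : torus g₀ →* ℂˣ} (h : θ ^ 2 ≠ 1) :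
    Cfsg.IsIrrCharacter (Matrix.SpecialLinearGroup (Fin 2) F) (cusp θ) := by
  classical
  rw [Ne, sq_hom_eq_one_iff hg₀] at h
  refine isIrr_of_norm_one (isGen_cusp θ) ?_ (k := Fintype.card F - 1) ?_ ?_
  · rw [inner_cusp hg₀, if_pos rfl, if_neg h, add_zero]
  · rw [cusp_one hg₀, Nat.cast_sub Fintype.card_pos, Nat.cast_one]
  · have := Fintype.one_lt_card (α := F); omega

omit [Fintype F] [DecidableEq F] hg₀ in
theorem hom_inv_inv (θ : torus g₀ →* ℂˣ) : θ⁻¹⁻¹ = θ := MonoidHom.ext fun t => by simp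

theorem cusp_eq_iff (θ θ' : torus g₀ →* ℂˣ) : cusp θ = cusp θ' ↔ θ' = θ ∨ θ' = θ⁻¹ := by
  classical
  refine ⟨fun e => ?_, fun h => ?_⟩
  · by_contra hc
    rw [not_or] at hc
    have h1 := inner_cusp hg₀ θ θ'
    rw [if_neg (fun h => hc.1 h.symm), if_neg (fun h => hc.2 (by rw [h, hom_inv_inv])), add_zero,
      ← e, inner_cusp hg₀, if_pos rfl] at h1
    split_ifs at h1 <;> norm_num at h1
  · refine sub_eq_zero.1 (classInner_self_eq_zero ?_)
    simp only [classInner_sub_left, classInner_sub_right, inner_cusp hg₀]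
    rcases h with rfl | rfl
    · simp
    · rw [hom_inv_inv]
      by_cases h : θ = θ⁻¹
      · rw [← h]; simp
      · simp [h, Ne.symm h]

end irreducible

end Cfsg.Agent.SL2Cuspidal
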