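/-
Counting irreducible characters of degree prime to a prime.
-/
import Cfsg.Agent.Lib.Char.ItoPSolvable
import Cfsg.Agent.Lib.Char.Complete
import Cfsg.Agent.Lib.Char.Degree

set_option autoImplicit false
set_option linter.style.haveILetI false
set_option linter.unusedSectionVars false

namespace Cfsg.Agent.SL2McKay

universe u

variable {G : Type u} [Group G] [Finite G]

/-- The number of irreducible characters of degree prime to `ℓ`. -/
noncomputable def countPrime (ℓ : ℕ) (G : Type u) [Group G] : ℕ :=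
  Nat.card {χ : Cfsg.IrrCharacter G // ¬ ℓ ∣ Cfsg.charDegree (χ : G → ℂ)}

theorem deg_of_val (χ : Cfsg.IrrCharacter G) {n : ℕ} (h : (χ : G → ℂ) 1 = (n : ℂ)) :
    Cfsg.charDegree (χ : G → ℂ) = n := by
  rw [Cfsg.Agent.CharX.irr_deg, Nat.cast_inj] at h
  exact h

theorem count_of_all (ℓ : ℕ) (h : ∀ χ : Cfsg.IrrCharacter G, ¬ ℓ ∣ Cfsg.charDegree (χ : G → ℂ)) :
    countPrime ℓ G = Nat.card (ConjClasses G) := by
  rw [countPrime, Nat.card_congr (Equiv.subtypeUnivEquiv h), Char.card_irrCharacter]

theorem count_of_abelian_normal {ℓ : ℕ} (A : Subgroup G) [A.Normal] (hA : IsMulCommutative A)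
    (hℓ : ¬ ℓ ∣ A.index) : countPrime ℓ G = Nat.card (ConjClasses G) := by
  haveI := Fintype.ofFinite G
  exact count_of_all ℓ fun χ h => hℓ (h.trans (Char.Ito.degree_dvd_index A hA χ))

theorem conjClasses_congr {H : Type u} [Group H] (e : G ≃* H) :
    Nat.card (ConjClasses G) = Nat.card (ConjClasses H) :=
  Nat.card_congr
    { toFun := ConjClasses.map e.toMonoidHom
      invFun := ConjClasses.map e.symm.toMonoidHom
      left_inv := fun c => by
        obtain ⟨g, rfl⟩ := ConjClasses.mk_surjective c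
        exact congrArg ConjClasses.mk (e.symm_apply_apply g)
      right_inv := fun c => by
        obtain ⟨g, rfl⟩ := ConjClasses.mk_surjective c
        exact congrArg ConjClasses.mk (e.apply_symm_apply g) }

theorem countPrime_congr {H : Type u} [Group H] [Finite H] (e : G ≃* H) (ℓ : ℕ) :
    countPrime ℓ G = countPrime ℓ H := by
  let eI : Cfsg.IrrCharacter G ≃ Cfsg.IrrCharacter H :=
    { toFun := fun χ => ⟨fun h => (χ : G → ℂ) (e.symm h),
        Char.IsIrrCharacter.comp χ.2 e.symm.toMonoidHom e.symm.surjective⟩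
      invFun := fun χ => ⟨fun g => (χ : H → ℂ) (e g),
        Char.IsIrrCharacter.comp χ.2 e.toMonoidHom e.surjective⟩
      left_inv := fun χ => Subtype.ext (funext fun g => congrArg (χ : G → ℂ) (e.symm_apply_apply g))
      right_inv := fun χ => Subtype.ext (funext fun g => congrArg (χ : H → ℂ) (e.apply_symm_apply g)) }
  refine Nat.card_congr (eI.subtypeEquiv fun χ => ?_)
  show _ ↔ ¬ ℓ ∣ Cfsg.charDegree (fun h => (χ : G → ℂ) (e.symm h))
  rw [show Cfsg.charDegree (fun h => (χ : G → ℂ) (e.symm h)) = Cfsg.charDegree (χ : G → ℂ) by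
    simp only [Cfsg.charDegree, map_one]]

theorem card_linear_filter [Fintype (Cfsg.IrrCharacter G)] :
    (Finset.univ.filter fun χ : Cfsg.IrrCharacter G => Cfsg.charDegree (χ : G → ℂ) = 1).card =
      (commutator G).index := by
  rw [← Char.card_linear (G := G), ← Fintype.card_subtype, ← Nat.card_eq_fintype_card]
  refine Nat.card_congr (Equiv.subtypeEquivRight fun χ => ?_)
  rw [Cfsg.Agent.CharX.irr_deg, Nat.cast_eq_one]

/-- An abelian normal subgroup of index two: the odd degrees are the linear ones. -/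
theorem count_two_of_index_two (A : Subgroup G) [A.Normal] (hA : IsMulCommutative A) (hi : A.index = 2)
    {k m : ℕ} (hk : Nat.card (ConjClasses G) = k) (hm : Nat.card G = m) (h : 4 * k = m + 12) :
    countPrime 2 G = 4 := by
  classical
  haveI := Fintype.ofFinite G
  haveI : Fintype (Cfsg.IrrCharacter G) := Fintype.ofFinite _
  have hd : ∀ χ : Cfsg.IrrCharacter G, Cfsg.charDegree (χ : G → ℂ) = 1 ∨ Cfsg.charDegree (χ : G → ℂ) = 2 :=
    fun χ => (Nat.dvd_prime Nat.prime_two).1 (hi ▸ Char.Ito.degree_dvd_index A hA χ)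
  have hs := Cfsg.Agent.CharX.sum_deg_sq (G := G)
  rw [Finset.sum_congr rfl (g := fun χ : Cfsg.IrrCharacter G =>
    (if Cfsg.charDegree (χ : G → ℂ) = 1 then 1 else 0) + (if ¬ Cfsg.charDegree (χ : G → ℂ) = 1 then 4 else 0))
    (fun χ _ => by rcases hd χ with e | e <;> rw [e] <;> norm_num), Finset.sum_add_distrib,
    Finset.sum_boole, ← Finset.sum_filter, Finset.sum_const, smul_eq_mul, Nat.cast_id, hm] at hs
  have hc := Finset.card_filter_add_card_filter_not
    (s := (Finset.univ : Finset (Cfsg.IrrCharacter G))) (fun χ => Cfsg.charDegree (χ : G → ℂ) = 1)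
  rw [Finset.card_univ, ← Nat.card_eq_fintype_card, Char.card_irrCharacter, hk] at hc
  rw [countPrime, Nat.card_eq_fintype_card, Fintype.card_subtype, Finset.filter_congr
    (q := fun χ : Cfsg.IrrCharacter G => Cfsg.charDegree (χ : G → ℂ) = 1)
    (fun χ _ => by rcases hd χ with e | e <;> rw [e] <;> simp)]
  omega

/-- Order 24 with abelianization of order three. -/
theorem count_two_tetra (hG : Nat.card G = 24) (hL : (commutator G).index = 3) :
    countPrime 2 G = 4 := by
  classical
  haveI : Fintype (Cfsg.IrrCharacter G) := Fintype.ofFinite _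
  have hs := Cfsg.Agent.CharX.sum_deg_sq (G := G)
  have hd : ∀ χ : Cfsg.IrrCharacter G, Cfsg.charDegree (χ : G → ℂ) = 1 ∨ Cfsg.charDegree (χ : G → ℂ) = 2 ∨
      Cfsg.charDegree (χ : G → ℂ) = 3 ∨ Cfsg.charDegree (χ : G → ℂ) = 4 := by
    intro χ
    have h1 : Cfsg.charDegree (χ : G → ℂ) ^ 2 ≤ 24 := by
      rw [← hG, ← hs]
      exact Finset.single_le_sum (f := fun ψ : Cfsg.IrrCharacter G => Cfsg.charDegree (ψ : G → ℂ) ^ 2)
        (fun _ _ => Nat.zero_le _) (Finset.mem_univ χ)
    have h2 := Cfsg.Agent.CharX.irr_deg_pos χ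
    rcases Nat.lt_or_ge (Cfsg.charDegree (χ : G → ℂ)) 5 with h3 | h3
    · omega
    · have := Nat.pow_le_pow_left h3 2
      omega
  rw [Finset.sum_congr rfl (g := fun χ : Cfsg.IrrCharacter G =>
    (if Cfsg.charDegree (χ : G → ℂ) = 1 then 1 else 0) + (if Cfsg.charDegree (χ : G → ℂ) = 2 then 4 else 0) +
      (if Cfsg.charDegree (χ : G → ℂ) = 3 then 9 else 0) + (if Cfsg.charDegree (χ : G → ℂ) = 4 then 16 else 0))
    (fun χ _ => by rcases hd χ with e | e | e | e <;> rw [e] <;> norm_num), Finset.sum_add_distrib,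
    Finset.sum_add_distrib, Finset.sum_add_distrib, ← Finset.sum_filter, ← Finset.sum_filter,
    ← Finset.sum_filter, ← Finset.sum_filter, Finset.sum_const, Finset.sum_const, Finset.sum_const,
    Finset.sum_const, card_linear_filter, hL, hG] at hs
  simp only [smul_eq_mul] at hs
  rw [countPrime, Nat.card_eq_fintype_card, Fintype.card_subtype, Finset.filter_congr
    (q := fun χ : Cfsg.IrrCharacter G => Cfsg.charDegree (χ : G → ℂ) = 1 ∨ Cfsg.charDegree (χ : G → ℂ) = 3)
    (fun χ _ => by rcases hd χ with e | e | e | e <;> rw [e] <;> decide),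
    Finset.filter_or, Finset.card_union_of_disjoint
      (Finset.disjoint_filter.2 fun χ _ e => by omega), card_linear_filter, hL]
  omega

end Cfsg.Agent.SL2McKay
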