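/-
The complete list of irreducible characters of SL_2 over a finite field.
-/
import Cfsg.Agent.Lib.Classical.SL2Cuspidal
import Cfsg.Agent.Lib.Char.Integral

set_option autoImplicit false

namespace Cfsg.Agent.SL2Table

open scoped ComplexConjugate
open Matrix TwoByTwo Cfsg.Agent.Char CharTools SL2Principal SL2Tori SL2Cuspidal

variable {F : Type*} [Field F] [Fintype F] [DecidableEq F]

local notation "SL2" => Matrix.SpecialLinearGroup (Fin 2) F
local notation "IrrSL" => Cfsg.IrrCharacter (Matrix.SpecialLinearGroup (Fin 2) F)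

/-- The trivial character. -/
def oneI : IrrSL := ⟨fun _ => 1, isIrrCharacter_one⟩

/-- The Steinberg character. -/
noncomputable def stI : IrrSL := ⟨St, St_irr⟩

open scoped Classical in
/-- The irreducible principal series. -/
noncomputable def psSet : Finset IrrSL :=
  Finset.univ.filter fun χ => ∃ α : MulChar F ℂ, α ^ 2 ≠ 1 ∧ χ.1 = R α

open scoped Classical in
/-- The irreducible discrete series. -/
noncomputable def dsSet (g₀ : Matrix.SpecialLinearGroup (Fin 2) F) : Finset IrrSL :=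
  Finset.univ.filter fun χ => ∃ θ : torus g₀ →* ℂˣ, θ ^ 2 ≠ 1 ∧ χ.1 = cusp θ

open scoped Classical in
/-- The characters present in every characteristic. -/
noncomputable def core (g₀ : Matrix.SpecialLinearGroup (Fin 2) F) : Finset IrrSL :=
  {oneI, stI} ∪ psSet ∪ dsSet g₀

open scoped Classical in
theorem two_mul_card_psSet [Fintype (MulChar F ℂ)] :
    2 * (psSet (F := F)).card =
      (Finset.univ.filter fun α : MulChar F ℂ => α ^ 2 ≠ 1).card := by
  have hc : ∀ inst : DecidableEq (SL2 → ℂ),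
      (@Finset.image _ _ inst (fun α : MulChar F ℂ => R α)
        (Finset.univ.filter fun α : MulChar F ℂ => α ^ 2 ≠ 1)).card = (psSet (F := F)).card := by
    intro inst
    rw [← Finset.card_image_of_injective (psSet (F := F)) Subtype.val_injective]
    congr 1
    ext φ
    simp only [Finset.mem_image, Finset.mem_filter, Finset.mem_univ, true_and, psSet]
    constructor
    · rintro ⟨α, h, rfl⟩
      exact ⟨⟨R α, (R_irr_iff α).2 h⟩, ⟨α, h, rfl⟩, rfl⟩
    · rintro ⟨χ, ⟨α, h, e⟩, rfl⟩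
      exact ⟨α, h, e.symm⟩
  have h := card_eq_two_mul_image (Finset.univ.filter fun α : MulChar F ℂ => α ^ 2 ≠ 1)
    (fun α => α⁻¹) (fun α => R α) (fun α hα => by
      simp only [Finset.mem_filter, Finset.mem_univ, true_and] at hα ⊢
      refine ⟨fun e => hα ?_, fun e => hα ((sq_eq_one_iff' α).2 e.symm)⟩
      have h := (sq_eq_one_iff' α⁻¹).1 e
      rw [inv_inv] at h
      exact (sq_eq_one_iff' α).2 h.symm)
    (fun α _ β _ => R_eq_iff α β)
  rw [hc] at h
  exact h.symm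

open scoped Classical in
theorem two_mul_card_dsSet {g₀ : SL2} (hg₀ : NoEigen g₀.1) [Fintype (torus g₀ →* ℂˣ)] :
    2 * (dsSet g₀).card = (Finset.univ.filter fun θ : torus g₀ →* ℂˣ => θ ^ 2 ≠ 1).card := by
  have hc : ∀ inst : DecidableEq (SL2 → ℂ),
      (@Finset.image _ _ inst (fun θ : torus g₀ →* ℂˣ => cusp θ)
        (Finset.univ.filter fun θ : torus g₀ →* ℂˣ => θ ^ 2 ≠ 1)).card = (dsSet g₀).card := by
    intro inst
    rw [← Finset.card_image_of_injective (dsSet g₀) Subtype.val_injective]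
    congr 1
    ext φ
    simp only [Finset.mem_image, Finset.mem_filter, Finset.mem_univ, true_and, dsSet]
    constructor
    · rintro ⟨θ, h, rfl⟩
      exact ⟨⟨cusp θ, cusp_irr hg₀ h⟩, ⟨θ, h, rfl⟩, rfl⟩
    · rintro ⟨χ, ⟨θ, h, e⟩, rfl⟩
      exact ⟨θ, h, e.symm⟩
  have h := card_eq_two_mul_image (Finset.univ.filter fun θ : torus g₀ →* ℂˣ => θ ^ 2 ≠ 1)
    (fun θ => θ⁻¹) (fun θ => cusp θ) (fun θ hθ => by
      simp only [Finset.mem_filter, Finset.mem_univ, true_and] at hθ ⊢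
      refine ⟨fun e => hθ ?_, fun e => hθ ((sq_hom_eq_one_iff hg₀ θ).2 e.symm)⟩
      refine MonoidHom.ext fun t => ?_
      have := congrArg (fun f : torus g₀ →* ℂˣ => f t) e
      simpa [inv_pow] using this)
    (fun θ _ θ' _ => cusp_eq_iff hg₀ θ θ')
  rw [hc] at h
  exact h.symm

section core

variable {g₀ : Matrix.SpecialLinearGroup (Fin 2) F} (hg₀ : NoEigen g₀.1)

include hg₀

theorem inner_R_one_one : Cfsg.classInner (R (1 : MulChar F ℂ)) (oneI (F := F)).1 = 1 := by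
  classical
  rw [show (oneI (F := F)).1 = fun _ => 1 from rfl, inner_R_const, if_pos rfl]

theorem not_mem_core {χ : IrrSL} (h1 : Cfsg.classInner (R (1 : MulChar F ℂ)) χ.1 = 0)
    (hps : ∀ α : MulChar F ℂ, α ^ 2 ≠ 1 → Cfsg.classInner (R α) χ.1 = 0)
    (hds : ∀ θ : torus g₀ →* ℂˣ, θ ^ 2 ≠ 1 → Cfsg.classInner (cusp θ) χ.1 = 0) :
    χ ∉ core g₀ := by
  classical
  intro h
  simp only [core, Finset.mem_union, Finset.mem_insert, Finset.mem_singleton, psSet, dsSet,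
    Finset.mem_filter, Finset.mem_univ, true_and] at h
  rcases h with ((rfl | rfl) | ⟨α, ha, e⟩) | ⟨θ, ht, e⟩
  · rw [inner_R_one_one hg₀] at h1; exact one_ne_zero h1
  · rw [show (stI (F := F)).1 = St from rfl, inner_R_St, if_pos rfl] at h1; exact one_ne_zero h1
  · have := hps α ha
    rw [← e, classInner_self_irr χ.2] at this
    exact one_ne_zero this
  · have := hds θ ht
    rw [← e, classInner_self_irr χ.2] at this
    exact one_ne_zero this

open scoped Classical in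
theorem core_facts :
    (core g₀).card = 2 + (psSet (F := F)).card + (dsSet g₀).card ∧
      ∑ χ ∈ core g₀, χ.1 1 ^ 2 = 1 + (Fintype.card F : ℂ) ^ 2 +
        (psSet (F := F)).card * ((Fintype.card F : ℂ) + 1) ^ 2 +
        (dsSet g₀).card * ((Fintype.card F : ℂ) - 1) ^ 2 := by
  have hne : oneI (F := F) ≠ stI := fun e => by
    have h := classInner_self_irr (stI (F := F)).2
    conv_lhs at h => arg 2; rw [← e]
    rw [show Cfsg.classInner (stI (F := F)).1 (oneI (F := F)).1 = 0 from inner_St_const] at h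
    exact zero_ne_one h
  have d1 : Disjoint ({oneI, stI} : Finset IrrSL) psSet := by
    refine Finset.disjoint_left.2 fun χ h h' => ?_
    obtain ⟨α, ha, e⟩ := (Finset.mem_filter.1 h').2
    have hr := classInner_self_irr χ.2
    rw [Finset.mem_insert, Finset.mem_singleton] at h
    have h1 : α ≠ 1 := fun h => ha (by rw [h, one_pow])
    rcases h with rfl | rfl
    · conv_lhs at hr => arg 1; rw [e]
      rw [show (oneI (F := F)).1 = fun _ => 1 from rfl, inner_R_const, if_neg h1] at hr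
      exact zero_ne_one hr
    · conv_lhs at hr => arg 1; rw [e]
      rw [show (stI (F := F)).1 = St from rfl, inner_R_St, if_neg h1] at hr
      exact zero_ne_one hr
  have d2 : Disjoint ({oneI, stI} ∪ psSet : Finset IrrSL) (dsSet g₀) := by
    refine Finset.disjoint_left.2 fun χ h h' => ?_
    obtain ⟨θ, -, e⟩ := (Finset.mem_filter.1 h').2
    rw [Finset.mem_union, Finset.mem_insert, Finset.mem_singleton] at h
    have hz := fun α => (inner_R_cusp hg₀ θ α)
    rw [← e] at hz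
    rcases h with (rfl | rfl) | h
    · exact one_ne_zero ((inner_R_one_one hg₀).symm.trans (hz 1))
    · have h0 := hz 1
      rw [show (stI (F := F)).1 = St from rfl, inner_R_St, if_pos rfl] at h0
      exact one_ne_zero h0
    · obtain ⟨α, -, e'⟩ := (Finset.mem_filter.1 h).2
      have h0 := hz α
      rw [← e', classInner_self_irr χ.2] at h0
      exact one_ne_zero h0
  unfold core
  refine ⟨by rw [Finset.card_union_of_disjoint d2, Finset.card_union_of_disjoint d1,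
    Finset.card_pair hne], ?_⟩
  rw [Finset.sum_union d2, Finset.sum_union d1, Finset.sum_pair hne,
    Finset.sum_congr rfl (g := fun _ => ((Fintype.card F : ℂ) + 1) ^ 2) (s₁ := psSet (F := F))
      (fun χ hχ => by obtain ⟨α, -, e⟩ := (Finset.mem_filter.1 hχ).2; rw [e, R_one]),
    Finset.sum_congr rfl (g := fun _ => ((Fintype.card F : ℂ) - 1) ^ 2) (s₁ := dsSet g₀)
      (fun χ hχ => by obtain ⟨θ, -, e⟩ := (Finset.mem_filter.1 hχ).2; rw [e, cusp_one hg₀]),
    Finset.sum_const, Finset.sum_const, nsmul_eq_mul, nsmul_eq_mul,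
    show (oneI (F := F)).1 1 = 1 from rfl, show (stI (F := F)).1 1 = Fintype.card F from St_one,
    one_pow]

theorem card_sl_cast :
    (Nat.card SL2 : ℂ) = (Fintype.card F : ℂ) * ((Fintype.card F : ℂ) ^ 2 - 1) := card_sl'

/-- Even characteristic: the core is everything. -/
theorem classify_even (h2 : Even (Fintype.card F)) :
    2 * (psSet (F := F)).card = Fintype.card F - 2 ∧ 2 * (dsSet g₀).card = Fintype.card F ∧
      ∀ χ : IrrSL, χ ∈ core g₀ := by
  classical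
  haveI := isCyclic' hg₀
  haveI : Fintype (MulChar F ℂ) := Fintype.ofFinite _
  haveI : Fintype (torus g₀ →* ℂˣ) := Fintype.ofFinite _
  have hp : 2 * (psSet (F := F)).card = Fintype.card F - 2 :=
    two_mul_card_psSet.trans (by convert card_mulChar_sq_ne_one_even h2 using 3)
  have hT : Nat.card (torus g₀) = Fintype.card F + 1 := by
    rw [card_torus hg₀, Nat.card_eq_fintype_card]
  have hd : 2 * (dsSet g₀).card = Fintype.card F := by
    have h := card_sq_ne_one_odd (G := torus g₀) (by rw [hT]; exact h2.add_one)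
    rw [hT, Nat.add_sub_cancel] at h
    refine (two_mul_card_dsSet hg₀).trans ?_
    convert h using 3
  refine ⟨hp, hd, mem_of_sum_sq _ ?_⟩
  rw [(core_facts hg₀).2, card_sl_cast hg₀]
  have hq2 : 2 ≤ Fintype.card F := Fintype.one_lt_card
  have hp' : 2 * ((psSet (F := F)).card : ℂ) + 2 = Fintype.card F := by
    exact_mod_cast (by omega : 2 * (psSet (F := F)).card + 2 = Fintype.card F)
  have hd' : 2 * ((dsSet g₀).card : ℂ) = Fintype.card F := by exact_mod_cast hd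
  linear_combination (((Fintype.card F : ℂ) + 1) ^ 2 / 2) * hp' +
    (((Fintype.card F : ℂ) - 1) ^ 2 / 2) * hd'

end core

/-- A class function with constant values on the non-trivial unipotent elements. -/
theorem const_unipotent {f : SL2 → ℂ}
    (hf : Cfsg.IsClassFunction (Matrix.SpecialLinearGroup (Fin 2) F) f) {ν : Fˣ}
    (hcls : ∀ s : F, s ≠ 0 → ∃ c : Fˣ, s = (c : F) * c ∨ s = (c : F) * c * ν)
    (hinv : (fun g => f (tw ν g)) = f) {s : F} (hs : s ≠ 0) :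
    f (sm 1 s) = f (sm 1 1) := by
  obtain ⟨c, e | e⟩ := hcls s hs
  · have h := isClassFunction_iff.1 hf _ _ (isConj_sm_sq 1 (1 : F) c)
    rw [mul_one] at h
    rw [e, ← h]
  · rw [e, ← isClassFunction_iff.1 hf _ _ (isConj_sm_sq 1 (ν : F) c)]
    have := congrFun hinv (sm 1 1)
    rwa [tw_sm, mul_one] at this

theorem pair_tw (τ : SL2 ≃* SL2) (μ ν : IrrSL) (hne : μ ≠ ν)
    (hsum : ∀ g, μ.1 (τ g) + ν.1 (τ g) = μ.1 g + ν.1 g) (hμ : (fun g => μ.1 (τ g)) ≠ μ.1) :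
    (fun g => μ.1 (τ g)) = ν.1 ∧ (fun g => ν.1 (τ g)) = μ.1 := by
  have hne' : μ.1 ≠ ν.1 := fun e => hne (Subtype.ext e)
  have hS : (fun g => (μ.1 + ν.1) (τ g)) = μ.1 + ν.1 := funext hsum
  have h : (fun g => μ.1 (τ g)) = ν.1 := by
    by_contra hν
    have h1 : Cfsg.classInner (fun g => μ.1 (τ g)) (fun g => (μ.1 + ν.1) (τ g)) = 1 := by
      rw [classInner_comp τ μ.1 (μ.1 + ν.1), classInner_add_right, classInner_self_irr μ.2,
        classInner_irr_of_ne μ.2 ν.2 hne', add_zero]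
    rw [hS, classInner_add_right, classInner_irr_of_ne (irr_comp τ μ.2) μ.2 hμ,
      classInner_irr_of_ne (irr_comp τ μ.2) ν.2 hν, add_zero] at h1
    exact zero_ne_one h1
  refine ⟨h, funext fun g => ?_⟩
  have h1 := hsum g
  have h2 := congrFun h g
  beta_reduce at h2
  linear_combination h1 - h2

/-- A linear character that is trivial on the upper unipotent group is trivial on the torus. -/
theorem linear_torus (f : SL2 →* ℂˣ) (hu : ∀ s : F, f (sm 1 s) = 1) (a : Fˣ) : f (sm a 0) = 1 := by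
  let w : SL2 := ⟨!![0, 1; -1, 0], by simp [det_fin_two_of]⟩
  have hW : ∀ b : Fˣ, ∃ W : SL2, W.1 = !![0, (b : F); -((b⁻¹ : Fˣ) : F), 0] ∧ f W = 1 := by
    intro b
    refine ⟨sm 1 (b : F) * (w * sm 1 ((b⁻¹ : Fˣ) : F) * w⁻¹) * sm 1 (b : F), ?_, ?_⟩
    · show (sm 1 (b : F)).1 * (w.1 * (sm 1 ((b⁻¹ : Fˣ) : F)).1 * w.1.adjugate) *
        (sm 1 (b : F)).1 = _
      ext i j
      fin_cases i <;> fin_cases j <;>
        simp [w, adjugate_fin_two, Matrix.mul_apply, Fin.sum_univ_two]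
    · rw [map_mul, map_mul, map_mul, map_mul, hu, hu, map_inv]
      simp
  obtain ⟨A, hA, fA⟩ := hW a
  obtain ⟨B, hB, fB⟩ := hW (-1)
  have e : sm a 0 = A * B := Subtype.ext (by
    show _ = A.1 * B.1
    rw [hA, hB]
    ext i j; fin_cases i <;> fin_cases j <;> simp [Matrix.mul_apply, Fin.sum_univ_two])
  rw [e, map_mul, fA, fB, one_mul]

/-- The characters of SL_2 in odd characteristic. -/
structure OddData (g₀ : Matrix.SpecialLinearGroup (Fin 2) F) (ν : Fˣ) where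
  α₀ : MulChar F ℂ
  θ₀ : torus g₀ →* ℂˣ
  ξ₁ : IrrSL
  ξ₂ : IrrSL
  η₁ : IrrSL
  η₂ : IrrSL
  α₀_ne : α₀ ≠ 1
  α₀_sq : α₀ ^ 2 = 1
  α₀_uniq : ∀ α : MulChar F ℂ, α ^ 2 = 1 → α = 1 ∨ α = α₀
  α₀_val : ∀ a : F, a ≠ 0 → (IsSquare a → α₀ a = 1) ∧ (¬ IsSquare a → α₀ a = -1)
  θ₀_val : ∀ c : torus g₀, (c ^ ((Fintype.card F + 1) / 2) = 1 → (θ₀ c : ℂ) = 1) ∧
    (c ^ ((Fintype.card F + 1) / 2) ≠ 1 → (θ₀ c : ℂ) = -1)
  ξ_ne : ξ₁ ≠ ξ₂
  η_ne : η₁ ≠ η₂
  ξ_sum : R α₀ = ξ₁.1 + ξ₂.1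
  η_sum : cusp θ₀ = η₁.1 + η₂.1
  ξ_tw : (fun g => ξ₁.1 (tw ν g)) = ξ₂.1
  ξ_tw' : (fun g => ξ₂.1 (tw ν g)) = ξ₁.1
  η_tw : (fun g => η₁.1 (tw ν g)) = η₂.1
  η_tw' : (fun g => η₂.1 (tw ν g)) = η₁.1
  ξ₁_one : ξ₁.1 1 = (((Fintype.card F + 1) / 2 : ℕ) : ℂ)
  ξ₂_one : ξ₂.1 1 = (((Fintype.card F + 1) / 2 : ℕ) : ℂ)
  η₁_one : η₁.1 1 = (((Fintype.card F - 1) / 2 : ℕ) : ℂ)
  η₂_one : η₂.1 1 = (((Fintype.card F - 1) / 2 : ℕ) : ℂ)
  ξ_US : ∀ a : Fˣ, US ξ₁.1 a = (Fintype.card F : ℂ) * α₀ (a : F) ∧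
    US ξ₂.1 a = (Fintype.card F : ℂ) * α₀ (a : F)
  η_US : ∀ a : Fˣ, US η₁.1 a = 0 ∧ US η₂.1 a = 0
  card_ps : 2 * (psSet (F := F)).card = Fintype.card F - 3
  card_ds : 2 * (dsSet g₀).card = Fintype.card F - 1
  complete : ∀ χ : IrrSL, χ ∈ core g₀ ∨ χ = ξ₁ ∨ χ = ξ₂ ∨ χ = η₁ ∨ χ = η₂
  card_classes : Nat.card (ConjClasses SL2) = Fintype.card F + 4

theorem ringChar_ne_two (hodd : Odd (Fintype.card F)) : ringChar F ≠ 2 := fun h => by
  have := FiniteField.even_card_of_char_two h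
  rw [Nat.odd_iff] at hodd
  omega

theorem exists_classes (hodd : Odd (Fintype.card F)) :
    ∃ ν : Fˣ, ¬ IsSquare (ν : F) ∧
      ∀ s : F, s ≠ 0 → ∃ c : Fˣ, s = (c : F) * c ∨ s = (c : F) * c * ν := by
  have h2 := ringChar_ne_two hodd
  obtain ⟨n, hn⟩ := FiniteField.exists_nonsquare h2
  have hn0 : n ≠ 0 := fun e => hn (e ▸ IsSquare.zero)
  refine ⟨Units.mk0 n hn0, hn, fun s hs => ?_⟩
  by_cases h : IsSquare s
  · obtain ⟨c, rfl⟩ := h
    exact ⟨Units.mk0 c (left_ne_zero_of_mul hs), Or.inl rfl⟩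
  · have hsn : IsSquare (s / n) := by
      rw [FiniteField.isSquare_iff h2 (div_ne_zero hs hn0), div_pow]
      rw [FiniteField.isSquare_iff h2 hs] at h
      rw [FiniteField.isSquare_iff h2 hn0] at hn
      rw [(FiniteField.pow_dichotomy h2 hs).resolve_left h,
        (FiniteField.pow_dichotomy h2 hn0).resolve_left hn, div_self (neg_ne_zero.2 one_ne_zero)]
    obtain ⟨c, hc⟩ := hsn
    rw [div_eq_iff hn0] at hc
    have hc0 : c ≠ 0 := fun e => hs (by rw [hc, e, zero_mul, zero_mul])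
    exact ⟨Units.mk0 c hc0, Or.inr hc⟩

open scoped Classical in
theorem exists_oddData (hodd : Odd (Fintype.card F)) {g₀ : SL2} (hg₀ : NoEigen g₀.1) {ν : Fˣ}
    (hcls : ∀ s : F, s ≠ 0 → ∃ c : Fˣ, s = (c : F) * c ∨ s = (c : F) * c * ν) :
    Nonempty (OddData g₀ ν) := by
  haveI := isCyclic' hg₀
  haveI : Fintype (MulChar F ℂ) := Fintype.ofFinite _
  haveI : Fintype (torus g₀ →* ℂˣ) := Fintype.ofFinite _
  have hq := Fintype.one_lt_card (α := F)
  obtain ⟨m, hm⟩ := hodd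
  have hodd : Odd (Fintype.card F) := ⟨m, hm⟩
  have hU : Nat.card Fˣ = Fintype.card F - 1 := by rw [Nat.card_units, Nat.card_eq_fintype_card]
  have hT : Nat.card (torus g₀) = Fintype.card F + 1 := by
    rw [card_torus hg₀, Nat.card_eq_fintype_card]
  -- the sign characters
  obtain ⟨f₀, f0ne, f0sq, f0uniq, f0val⟩ := exists_sign (G := Fˣ) (by
    rw [hU]; exact ⟨m, by omega⟩)
  let α₀ : MulChar F ℂ := MulChar.ofUnitHom f₀
  have hαu : α₀.toUnitHom = f₀ := MonoidHom.ext fun a => Units.ext (by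
    rw [MulChar.coe_toUnitHom, MulChar.ofUnitHom_coe])
  have hsq : α₀ ^ 2 = 1 := by rw [← sq_hom_iff, hαu]; exact f0sq
  have hinv : α₀⁻¹ = α₀ := ((sq_eq_one_iff' α₀).1 hsq).symm
  have hne : α₀ ≠ 1 := fun e => f0ne (by
    rw [← hαu, e]
    exact MonoidHom.ext fun a => Units.ext (by rw [MulChar.coe_toUnitHom, MulChar.one_apply_coe]; rfl))
  have huniq : ∀ α : MulChar F ℂ, α ^ 2 = 1 → α = 1 ∨ α = α₀ := by
    intro α h
    rcases f0uniq _ ((sq_hom_iff α).2 h) with e | e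
    · exact Or.inl (MulChar.ext fun a => by
        rw [← MulChar.coe_toUnitHom, e, MulChar.one_apply_coe]; rfl)
    · exact Or.inr (MulChar.ext fun a => by
        rw [← MulChar.coe_toUnitHom, e, MulChar.ofUnitHom_coe])
  have hval : ∀ a : F, a ≠ 0 → (IsSquare a → α₀ a = 1) ∧ (¬ IsSquare a → α₀ a = -1) := by
    intro a ha
    have h := f0val (Units.mk0 a ha)
    rw [hU, show (Fintype.card F - 1) / 2 = Fintype.card F / 2 by omega, ← MulChar.ofUnitHom_coe,
      Units.val_mk0] at h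
    rw [FiniteField.isSquare_iff (ringChar_ne_two hodd) ha]
    refine ⟨fun e => h.1 (Units.ext (by simpa using e)), fun e => h.2 fun e' => e ?_⟩
    simpa using congrArg Units.val e'
  obtain ⟨θ₀, t0ne, t0sq, -, t0val⟩ := exists_sign (G := torus g₀) (by
    rw [hT]; exact ⟨m + 1, by omega⟩)
  have t0inv : θ₀ = θ₀⁻¹ := (sq_hom_eq_one_iff hg₀ θ₀).1 t0sq
  -- splitting of the principal series
  obtain ⟨ξ₁, ξ₂, hξne, hξ⟩ := norm_two_char (isCharacter_R α₀) (by
    rw [inner_R_R, if_pos rfl, hinv, if_pos rfl]; norm_num)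
  have hξne' : ξ₁.1 ≠ ξ₂.1 := fun e => hξne (Subtype.ext e)
  have hRξ : ∀ β, Cfsg.classInner (R β) ξ₁.1 = (if β = α₀ then 1 else 0) ∧
      Cfsg.classInner (R β) ξ₂.1 = (if β = α₀ then 1 else 0) := by
    intro β
    by_cases hβ : β = α₀
    · subst hβ
      rw [if_pos rfl, hξ, classInner_add_left, classInner_add_left, classInner_self_irr ξ₁.2,
        classInner_self_irr ξ₂.2, classInner_irr_of_ne ξ₁.2 ξ₂.2 hξne',
        classInner_irr_of_ne ξ₂.2 ξ₁.2 hξne'.symm]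
      simp
    · rw [if_neg hβ]
      obtain ⟨n₁, h₁⟩ := IsCharacter.exists_classInner_nat (isCharacter_R β)
        (IsIrrCharacter.isCharacter ξ₁.2)
      obtain ⟨n₂, h₂⟩ := IsCharacter.exists_classInner_nat (isCharacter_R β)
        (IsIrrCharacter.isCharacter ξ₂.2)
      have h := inner_R_R β α₀
      rw [hinv, if_neg hβ, hξ, classInner_add_right, h₁, h₂, add_zero, ← Nat.cast_add,
        Nat.cast_eq_zero] at h
      rw [h₁, h₂, show n₁ = 0 by omega, show n₂ = 0 by omega]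
      simp
  have hqc : (Fintype.card F : ℂ) ≠ 0 := Nat.cast_ne_zero.2 Fintype.card_ne_zero
  have hq1 : (Fintype.card F : ℂ) - 1 ≠ 0 :=
    sub_ne_zero.2 (by exact_mod_cast hq.ne')
  have hUS : ∀ ξ : IrrSL, (∀ β, Cfsg.classInner (R β) ξ.1 = if β = α₀ then 1 else 0) →
      ∀ a : Fˣ, US ξ.1 a = (Fintype.card F : ℂ) * α₀ (a : F) := by
    intro ξ h
    refine US_eq_of_inner (IsCharacter.isClassFunction (IsIrrCharacter.isCharacter ξ.2)) _ fun β => ?_
    rw [h β, Finset.sum_congr rfl (g := fun a : Fˣ => (Fintype.card F : ℂ) *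
      (β (a : F) * conj (α₀ (a : F)))) (fun a _ => by rw [map_mul, map_natCast]; ring),
      ← Finset.mul_sum, mulChar_sum]
    split_ifs <;> field_simp
    simp
  have hUS₁ := hUS ξ₁ fun β => (hRξ β).1
  have hUS₂ := hUS ξ₂ fun β => (hRξ β).2
  have hsumξ : ∀ g, ξ₁.1 (tw ν g) + ξ₂.1 (tw ν g) = ξ₁.1 g + ξ₂.1 g := by
    intro g
    have := congrFun (R_tw ν α₀) g
    simp only [hξ, Pi.add_apply] at this
    exact this
  obtain ⟨d₁, hd₁0, hd₁⟩ := IsIrrCharacter.exists_degree ξ₁.2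
  obtain ⟨d₂, hd₂0, hd₂⟩ := IsIrrCharacter.exists_degree ξ₂.2
  have hdd : d₁ + d₂ = Fintype.card F + 1 := by
    have h := congrFun hξ 1
    rw [R_one, Pi.add_apply, hd₁, hd₂] at h
    exact_mod_cast h.symm
  have hlin : ∀ ξ : IrrSL, (∀ a : Fˣ, US ξ.1 a = (Fintype.card F : ℂ) * α₀ (a : F)) →
      (fun g => ξ.1 (tw ν g)) = ξ.1 → ξ.1 1 ≠ 1 := by
    intro ξ hu hinvξ h1
    have hcf := IsCharacter.isClassFunction (IsIrrCharacter.isCharacter ξ.2)
    obtain ⟨f, hf⟩ := exists_hom_of_degree_one (IsIrrCharacter.isCharacter ξ.2) h1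
    have hc : ξ.1 (sm 1 1) = 1 := by
      have := hu 1
      rw [US_const 1 (show ξ.1 (sm 1 0) = 1 by rw [sm_one, h1])
        (fun s hs => const_unipotent hcf hcls hinvξ hs), Units.val_one, map_one, mul_one] at this
      exact mul_left_cancel₀ hq1 (by linear_combination this)
    have hu1 : ∀ s : F, f (sm 1 s) = 1 := fun s => by
      apply Units.ext
      rw [Units.val_one]
      have e := congrFun hf (sm 1 s)
      rw [← e]
      by_cases hs : s = 0
      · rw [hs, sm_one, h1]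
      · rw [const_unipotent hcf hcls hinvξ hs, hc]
    refine hne (MulChar.ext fun a => ?_)
    have := hu a
    rw [US, Finset.sum_congr rfl (g := fun _ => (1 : ℂ)) (fun s _ => by
      have e : sm a s = sm a 0 * sm 1 (s * ((a⁻¹ : Fˣ) : F)) := by
        rw [sm_mul, mul_one, zero_mul, add_zero, mul_comm s, Units.mul_inv_cancel_left]
      rw [congrFun hf (sm a s), e, map_mul, linear_torus f hu1 a, hu1, mul_one, Units.val_one])] at this
    rw [MulChar.one_apply_coe]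
    simp only [Finset.sum_const, Finset.card_univ, nsmul_eq_mul] at this
    exact (mul_left_cancel₀ hqc this).symm
  have hnotinv : (fun g => ξ₁.1 (tw ν g)) ≠ ξ₁.1 := by
    intro h
    have h' : (fun g => ξ₂.1 (tw ν g)) = ξ₂.1 := funext fun g => by
      have a := hsumξ g
      have b := congrFun h g
      beta_reduce at b
      linear_combination a - b
    have hcf := IsCharacter.isClassFunction (IsIrrCharacter.isCharacter ξ₁.2)
    have hc := hUS₁ 1
    rw [US_const 1 (show ξ₁.1 (sm 1 0) = d₁ by rw [sm_one, hd₁])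
      (fun s hs => const_unipotent hcf hcls h hs), Units.val_one, map_one, mul_one] at hc
    have hint := IsCharacter.isIntegral (IsIrrCharacter.isCharacter ξ₁.2) (sm 1 1)
    have hle : d₁ ≤ Fintype.card F := by omega
    have e : ξ₁.1 (sm 1 1) =
        ((Fintype.card F - d₁ : ℕ) : ℂ) / ((Fintype.card F - 1 : ℕ) : ℂ) := by
      rw [Nat.cast_sub hle, Nat.cast_sub Fintype.card_pos, Nat.cast_one, eq_div_iff hq1]
      linear_combination hc
    rw [e] at hint
    obtain ⟨k, hk⟩ := dvd_of_isIntegral_div (by omega) hint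
    rcases k with _ | _ | k
    · refine hlin ξ₂ hUS₂ h' ?_
      rw [hd₂, show d₂ = 1 by omega, Nat.cast_one]
    · refine hlin ξ₁ hUS₁ h ?_
      rw [hd₁, show d₁ = 1 by omega, Nat.cast_one]
    · have : (Fintype.card F - 1) * 2 ≤ Fintype.card F - d₁ := by
        rw [hk]; exact Nat.mul_le_mul_left _ (by omega)
      omega
  obtain ⟨hξtw, hξtw'⟩ := pair_tw (tw ν) ξ₁ ξ₂ hξne hsumξ hnotinv
  have hd12 : d₁ = d₂ := by
    have := congrFun hξtw 1
    simp only [map_one, hd₁, hd₂] at this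
    exact_mod_cast this
  have hξ₁d : ξ₁.1 1 = (((Fintype.card F + 1) / 2 : ℕ) : ℂ) := by
    rw [hd₁, show d₁ = (Fintype.card F + 1) / 2 by omega]
  have hξ₂d : ξ₂.1 1 = (((Fintype.card F + 1) / 2 : ℕ) : ℂ) := by
    rw [hd₂, show d₂ = (Fintype.card F + 1) / 2 by omega]
  have hdsξ : ∀ θ : torus g₀ →* ℂˣ, Cfsg.classInner (cusp θ) ξ₁.1 = 0 ∧
      Cfsg.classInner (cusp θ) ξ₂.1 = 0 := by
    intro θ
    have h1 : Cfsg.classInner (cusp θ) ξ₁.1 = Cfsg.classInner (cusp θ) ξ₂.1 := by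
      rw [← classInner_comp (tw ν) (cusp θ) ξ₁.1, cusp_tw hg₀ θ ν, hξtw]
    have h2 : Cfsg.classInner (cusp θ) ξ₁.1 + Cfsg.classInner (cusp θ) ξ₂.1 = 0 := by
      rw [← classInner_add_right, ← hξ, ← classInner_conj_symm (R α₀) (cusp θ),
        inner_R_cusp hg₀ θ α₀, map_zero]
    rw [← h1] at h2
    have h3 : Cfsg.classInner (cusp θ) ξ₁.1 = 0 := by linear_combination h2 / 2
    exact ⟨h3, h1 ▸ h3⟩
  have hα1 : (1 : MulChar F ℂ) ≠ α₀ := hne.symm
  have hps0 : ∀ α : MulChar F ℂ, α ^ 2 ≠ 1 → α ≠ α₀ := fun α h e => h (e ▸ hsq)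
  have hξcore : ξ₁ ∉ core g₀ ∧ ξ₂ ∉ core g₀ :=
    ⟨not_mem_core hg₀ ((hRξ 1).1.trans (if_neg hα1))
        (fun α h => (hRξ α).1.trans (if_neg (hps0 α h))) (fun θ _ => (hdsξ θ).1),
      not_mem_core hg₀ ((hRξ 1).2.trans (if_neg hα1))
        (fun α h => (hRξ α).2.trans (if_neg (hps0 α h))) (fun θ _ => (hdsξ θ).2)⟩
  -- splitting of the discrete series
  obtain ⟨μ, μ', s, t, hμne, hs, ht, hμ⟩ := norm_two_gen (isGen_cusp θ₀) (by
    rw [inner_cusp hg₀, if_pos rfl, if_pos t0inv]; norm_num)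
  have hμne' : μ.1 ≠ μ'.1 := fun e => hμne (Subtype.ext e)
  have hcoef : Cfsg.classInner (cusp θ₀) μ.1 ≠ 0 ∧ Cfsg.classInner (cusp θ₀) μ'.1 ≠ 0 := by
    rw [hμ, classInner_add_left, classInner_add_left, classInner_smul_left, classInner_smul_left,
      classInner_smul_left, classInner_smul_left, classInner_self_irr μ.2,
      classInner_self_irr μ'.2, classInner_irr_of_ne μ'.2 μ.2 hμne'.symm,
      classInner_irr_of_ne μ.2 μ'.2 hμne']
    rcases hs with rfl | rfl <;> rcases ht with rfl | rfl <;> simp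
  have horth : ∀ ψ : IrrSL, Cfsg.classInner (cusp θ₀) ψ.1 = 0 →
      Cfsg.classInner ψ.1 μ.1 = 0 ∧ Cfsg.classInner ψ.1 μ'.1 = 0 := fun ψ h =>
    ⟨classInner_irr_of_ne ψ.2 μ.2 fun e => hcoef.1 (e ▸ h),
      classInner_irr_of_ne ψ.2 μ'.2 fun e => hcoef.2 (e ▸ h)⟩
  have hc1 : Cfsg.classInner (cusp θ₀) (fun _ => 1) = 0 := by
    rw [inner_cusp_const hg₀, if_neg t0ne, neg_zero]
  have hcR : ∀ α, Cfsg.classInner (cusp θ₀) (R α) = 0 := fun α => by
    rw [← classInner_conj_symm (R α) (cusp θ₀), inner_R_cusp hg₀ θ₀ α, map_zero]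
  have hRμ : ∀ α, Cfsg.classInner (R α) μ.1 = 0 ∧ Cfsg.classInner (R α) μ'.1 = 0 := by
    intro α
    by_cases hα : α ^ 2 = 1
    · rcases huniq α hα with rfl | rfl
      · have a := horth oneI hc1
        have b := horth stI (by
          show Cfsg.classInner (cusp θ₀) (R (1 : MulChar F ℂ) - fun _ => 1) = 0
          rw [classInner_sub_right, hcR, hc1, sub_self])
        rw [show R (1 : MulChar F ℂ) = (oneI (F := F)).1 + (stI (F := F)).1 from
          (add_sub_cancel _ _).symm, classInner_add_left, classInner_add_left, a.1, a.2, b.1, b.2,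
          add_zero]
        exact ⟨rfl, rfl⟩
      · have a := horth ξ₁ (hdsξ θ₀).1
        have b := horth ξ₂ (hdsξ θ₀).2
        rw [hξ, classInner_add_left, classInner_add_left, a.1, a.2, b.1, b.2, add_zero]
        exact ⟨rfl, rfl⟩
    · exact horth ⟨R α, (R_irr_iff α).2 hα⟩ (hcR α)
  have hdsμ : ∀ θ : torus g₀ →* ℂˣ, θ ^ 2 ≠ 1 →
      Cfsg.classInner (cusp θ) μ.1 = 0 ∧ Cfsg.classInner (cusp θ) μ'.1 = 0 := by
    intro θ h
    refine horth ⟨cusp θ, cusp_irr hg₀ h⟩ ?_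
    have h1 : θ₀ ≠ θ := fun e => h (e ▸ t0sq)
    rw [inner_cusp hg₀, if_neg h1, if_neg (fun e => h1 (by
      rw [← hom_inv_inv θ, ← e]; exact t0inv)), add_zero]
  have hμcore : μ ∉ core g₀ ∧ μ' ∉ core g₀ :=
    ⟨not_mem_core hg₀ (hRμ 1).1 (fun α _ => (hRμ α).1) (fun θ h => (hdsμ θ h).1),
      not_mem_core hg₀ (hRμ 1).2 (fun α _ => (hRμ α).2) (fun θ h => (hdsμ θ h).2)⟩
  have hμξ : ∀ ξ : IrrSL, Cfsg.classInner (cusp θ₀) ξ.1 = 0 → ξ ≠ μ ∧ ξ ≠ μ' := fun ξ h =>
    ⟨fun e => hcoef.1 (e ▸ h), fun e => hcoef.2 (e ▸ h)⟩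
  obtain ⟨x11, x12⟩ := hμξ ξ₁ (hdsξ θ₀).1
  obtain ⟨x21, x22⟩ := hμξ ξ₂ (hdsξ θ₀).2
  have hp : 2 * (psSet (F := F)).card = Fintype.card F - 3 :=
    two_mul_card_psSet.trans (by convert card_mulChar_sq_ne_one_odd hodd using 3)
  have hd : 2 * (dsSet g₀).card = Fintype.card F - 1 := by
    have h := card_sq_ne_one_even (G := torus g₀) (by rw [hT]; exact ⟨m + 1, by omega⟩)
    rw [hT, show Fintype.card F + 1 - 2 = Fintype.card F - 1 by omega] at h
    refine (two_mul_card_dsSet hg₀).trans ?_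
    convert h using 3
  have hdisj : Disjoint (core g₀) ({ξ₁, ξ₂, μ, μ'} : Finset IrrSL) := by
    refine Finset.disjoint_left.2 fun χ h h' => ?_
    simp only [Finset.mem_insert, Finset.mem_singleton] at h'
    rcases h' with rfl | rfl | rfl | rfl
    exacts [hξcore.1 h, hξcore.2 h, hμcore.1 h, hμcore.2 h]
  obtain ⟨e₁, he₁0, he₁⟩ := IsIrrCharacter.exists_degree μ.2
  obtain ⟨e₂, he₂0, he₂⟩ := IsIrrCharacter.exists_degree μ'.2
  have hfour : ∑ χ ∈ ({ξ₁, ξ₂, μ, μ'} : Finset IrrSL), χ.1 1 ^ 2 =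
      (d₁ : ℂ) ^ 2 + (d₂ : ℂ) ^ 2 + (e₁ : ℂ) ^ 2 + (e₂ : ℂ) ^ 2 := by
    rw [Finset.sum_insert (by simp [hξne, x11, x12]), Finset.sum_insert (by simp [x21, x22]),
      Finset.sum_pair hμne, hd₁, hd₂, he₁, he₂]
    ring
  have hall : ∑ χ ∈ core g₀ ∪ {ξ₁, ξ₂, μ, μ'}, χ.1 1 ^ 2 + (((2 * m) ^ 2 : ℕ) : ℂ) / 2 =
      (Nat.card SL2 : ℂ) + ((e₁ : ℂ) ^ 2 + (e₂ : ℂ) ^ 2) := by
    rw [Finset.sum_union hdisj, hfour, (core_facts hg₀).2, card_sl_cast hg₀]
    have hp' : ((psSet (F := F)).card : ℂ) + 1 = m := by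
      exact_mod_cast (by omega : (psSet (F := F)).card + 1 = m)
    have hd' : ((dsSet g₀).card : ℂ) = m := by
      exact_mod_cast (by omega : (dsSet g₀).card = m)
    have h12 : (d₁ : ℂ) = m + 1 ∧ (d₂ : ℂ) = m + 1 := by
      refine ⟨?_, ?_⟩
      · exact_mod_cast (by omega : d₁ = m + 1)
      · exact_mod_cast (by omega : d₂ = m + 1)
    rw [h12.1, h12.2, hd', hm, show ((psSet (F := F)).card : ℂ) = m - 1 by linear_combination hp']
    push_cast
    ring
  have hdeg := fun ψ : IrrSL => IsIrrCharacter.exists_degree ψ.2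
  choose dg _ hdg using hdeg
  have hineq : 2 * (e₁ ^ 2 + e₂ ^ 2) ≤ (2 * m) ^ 2 := by
    have hle : ∑ χ ∈ core g₀ ∪ {ξ₁, ξ₂, μ, μ'}, dg χ ^ 2 ≤ ∑ χ, dg χ ^ 2 :=
      Finset.sum_le_sum_of_subset (Finset.subset_univ _)
    have hG : ((∑ χ, dg χ ^ 2 : ℕ) : ℂ) = Nat.card SL2 := by
      push_cast
      rw [← sum_sq_degree]
      simp only [hdg]
    have hH : ((2 * ∑ χ ∈ core g₀ ∪ {ξ₁, ξ₂, μ, μ'}, dg χ ^ 2 + (2 * m) ^ 2 : ℕ) : ℂ) =
        ((2 * (∑ χ, dg χ ^ 2) + 2 * (e₁ ^ 2 + e₂ ^ 2) : ℕ) : ℂ) := by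
      simp only [hdg] at hall
      push_cast at hall hG ⊢
      rw [hG]
      linear_combination 2 * hall
    have := Nat.cast_injective hH
    omega
  have hlin2 : s * (e₁ : ℤ) + t * (e₂ : ℤ) = 2 * m := by
    have h := congrFun hμ 1
    rw [cusp_one hg₀, Pi.add_apply, Pi.smul_apply, Pi.smul_apply, he₁, he₂, smul_eq_mul,
      smul_eq_mul, hm] at h
    push_cast at h
    have : ((s * (e₁ : ℤ) + t * (e₂ : ℤ) : ℤ) : ℂ) = ((2 * (m : ℤ) : ℤ) : ℂ) := by
      push_cast; linear_combination -h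
    exact_mod_cast this
  have hst : s = 1 ∧ t = 1 ∧ e₁ = m ∧ e₂ = m := by
    have hi : 2 * ((e₁ : ℤ) ^ 2 + (e₂ : ℤ) ^ 2) ≤ (2 * (m : ℤ)) ^ 2 := by exact_mod_cast hineq
    have h1 : 0 < (e₁ : ℤ) := by omega
    have h2 : 0 < (e₂ : ℤ) := by omega
    rcases hs with rfl | rfl <;> rcases ht with rfl | rfl
    · have h0 : ((e₁ : ℤ) - e₂) ^ 2 = 0 := le_antisymm (by nlinarith) (sq_nonneg _)
      have := sub_eq_zero.1 ((pow_eq_zero_iff two_ne_zero).1 h0)
      omega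
    · exfalso; nlinarith
    · exfalso; nlinarith
    · exfalso; omega
  obtain ⟨rfl, rfl, he₁m, he₂m⟩ := hst
  simp only [Int.cast_one, one_smul] at hμ
  have hμ₁d : μ.1 1 = (((Fintype.card F - 1) / 2 : ℕ) : ℂ) := by
    rw [he₁, show e₁ = (Fintype.card F - 1) / 2 by omega]
  have hμ₂d : μ'.1 1 = (((Fintype.card F - 1) / 2 : ℕ) : ℂ) := by
    rw [he₂, show e₂ = (Fintype.card F - 1) / 2 by omega]
  have hUSμ : ∀ ψ : IrrSL, (∀ α, Cfsg.classInner (R α) ψ.1 = 0) → ∀ a : Fˣ, US ψ.1 a = 0 := by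
    intro ψ h
    refine US_eq_of_inner (IsCharacter.isClassFunction (IsIrrCharacter.isCharacter ψ.2)) _ fun α => ?_
    simp [h α]
  have hUS₁' := hUSμ μ fun α => (hRμ α).1
  have hsumμ : ∀ g, μ.1 (tw ν g) + μ'.1 (tw ν g) = μ.1 g + μ'.1 g := by
    intro g
    have := congrFun (cusp_tw hg₀ θ₀ ν) g
    simp only [hμ, Pi.add_apply] at this
    exact this
  have hμnot : (fun g => μ.1 (tw ν g)) ≠ μ.1 := by
    intro h
    have hcf := IsCharacter.isClassFunction (IsIrrCharacter.isCharacter μ.2)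
    have hc := hUS₁' 1
    rw [US_const 1 (show μ.1 (sm 1 0) = e₁ by rw [sm_one, he₁])
      (fun s hs => const_unipotent hcf hcls h hs)] at hc
    have hint := (IsCharacter.isIntegral (IsIrrCharacter.isCharacter μ.2) (sm 1 1)).neg
    have e : -μ.1 (sm 1 1) = (e₁ : ℂ) / ((Fintype.card F - 1 : ℕ) : ℂ) := by
      rw [Nat.cast_sub Fintype.card_pos, Nat.cast_one, eq_div_iff hq1]
      linear_combination -hc
    rw [e] at hint
    have := Nat.le_of_dvd he₁0 (dvd_of_isIntegral_div (by omega) hint)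
    omega
  obtain ⟨hμtw, hμtw'⟩ := pair_tw (tw ν) μ μ' hμne hsumμ hμnot
  have hsum : ∑ χ ∈ core g₀ ∪ {ξ₁, ξ₂, μ, μ'}, χ.1 1 ^ 2 = (Nat.card SL2 : ℂ) := by
    rw [he₁m, he₂m] at hall
    push_cast at hall
    linear_combination hall
  have hcompl := mem_of_sum_sq _ hsum
  refine ⟨⟨α₀, θ₀, ξ₁, ξ₂, μ, μ', hne, hsq, huniq, hval, fun c => ?_, hξne, hμne, hξ, hμ, hξtw,
    hξtw', hμtw, hμtw', hξ₁d, hξ₂d, hμ₁d, hμ₂d, fun a => ⟨hUS₁ a, hUS₂ a⟩,
    fun a => ⟨hUS₁' a, hUSμ μ' (fun α => (hRμ α).2) a⟩, hp, hd, fun χ => ?_, ?_⟩⟩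
  · have := t0val c
    rwa [hT] at this
  · have := hcompl χ
    simpa only [Finset.mem_union, Finset.mem_insert, Finset.mem_singleton] using this
  · rw [card_conjClasses_of_sum_sq _ hsum, Finset.card_union_of_disjoint hdisj, (core_facts hg₀).1,
      Finset.card_insert_of_notMem (by simp [hξne, x11, x12]),
      Finset.card_insert_of_notMem (by simp [x21, x22]), Finset.card_pair hμne]
    omega

end Cfsg.Agent.SL2Table
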