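/-
Values and degrees in the character table of SL_2.
-/
import Cfsg.Agent.Lib.Classical.SL2Table

set_option autoImplicit false

namespace Cfsg.Agent.SL2TableValues

open scoped ComplexConjugate
open Matrix TwoByTwo Cfsg.Agent.Char CharTools SL2Principal SL2Tori SL2Cuspidal SL2Table

variable {F : Type*} [Field F] [Fintype F]

local notation "SL2" => Matrix.SpecialLinearGroup (Fin 2) F
local notation "IrrSL" => Cfsg.IrrCharacter (Matrix.SpecialLinearGroup (Fin 2) F)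

theorem deg_add : (Fintype.card F : ℂ) + 1 = ((Fintype.card F + 1 : ℕ) : ℂ) := by push_cast; rfl

theorem deg_sub : (Fintype.card F : ℂ) - 1 = ((Fintype.card F - 1 : ℕ) : ℂ) := by
  rw [Nat.cast_sub Fintype.card_pos, Nat.cast_one]

theorem deg_one : (1 : ℂ) = ((1 : ℕ) : ℂ) := Nat.cast_one.symm

theorem card_Z [DecidableEq F] (hodd : Odd (Fintype.card F)) : Fintype.card (Z F) = 2 := by
  have h2 := Ring.two_ne_zero (ringChar_ne_two hodd)
  have h1 : (1 : Fˣ) ≠ -1 := fun e => h2 (by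
    have := congrArg Units.val e
    simp at this
    linear_combination this)
  rw [Fintype.card_subtype, show (Finset.univ.filter fun a : Fˣ => a⁻¹ = a) = {1, -1} by
    ext a; simp [inv_eq_self_iff], Finset.card_pair h1]

theorem sum_U [DecidableEq F] (χ : SL2 → ℂ) :
    (∑ g : SL2, if g.1 1 0 = 0 ∧ g.1 0 0 = 1 ∧ g.1 1 1 = 1 then χ g else 0) = US χ 1 := by
  rw [← Finset.sum_filter]
  refine Finset.sum_bij' (fun g _ => g.1 0 1) (fun s _ => sm 1 s)
    (fun g _ => Finset.mem_univ _) (fun s _ => by simp) ?_ (fun s _ => by simp) ?_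
  · intro g hg
    obtain ⟨h10, h00, h11⟩ := (Finset.mem_filter.1 hg).2
    exact Subtype.ext (by ext i j; fin_cases i <;> fin_cases j <;> simp [h10, h00, h11])
  · intro g hg
    obtain ⟨h10, h00, h11⟩ := (Finset.mem_filter.1 hg).2
    exact congrArg χ (Subtype.ext (by
      ext i j; fin_cases i <;> fin_cases j <;> simp [h10, h00, h11]))

theorem exists_sm_diag {g : SL2} (h01 : g.1 0 1 = 0) (h10 : g.1 1 0 = 0)
    (h : g.1 0 0 ^ 2 ≠ 1) :
    ∃ a : Fˣ, a⁻¹ ≠ a ∧ (a : F) = g.1 0 0 ∧ g = sm a 0 := by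
  have hd := g.det_coe
  rw [det_fin_two, h01, h10, mul_zero, sub_zero] at hd
  have h00 : g.1 0 0 ≠ 0 := fun e => by simp [e] at hd
  refine ⟨Units.mk0 _ h00, fun e => h ?_, rfl, Subtype.ext ?_⟩
  · have := congrArg Units.val (inv_eq_iff_mul_eq_one.1 e)
    simpa [pow_two] using this
  · ext i j; fin_cases i <;> fin_cases j <;> simp [h01, h10, eq_inv_of_mul_eq_one_right hd]

variable [DecidableEq F]

theorem cusp_at_elliptic {g₀ : SL2} (hg₀ : NoEigen g₀.1) (θ : torus g₀ →* ℂˣ) {g : SL2}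
    (hg : NoEigen g.1) :
    ∃ c : torus g₀, ¬ IsScalar c.1.1 ∧ IsConj g c.1 := by
  obtain ⟨x, hx⟩ := exists_conj_mem hg₀ hg
  refine ⟨⟨_, hx⟩, ?_, isConj_iff.2 ⟨x, rfl⟩⟩
  exact not_scalar (noEigen_of_trace hg (trace_conj x g).symm)

section odd

variable {g₀ : Matrix.SpecialLinearGroup (Fin 2) F} {ν : Fˣ} (d : OddData g₀ ν)

theorem cases_odd (hg₀ : NoEigen g₀.1) {χ : SL2 → ℂ} (hχ : Cfsg.IsIrrCharacter SL2 χ) :
    (χ 1 = ((1 : ℕ) : ℂ) ∧ χ = fun _ => 1) ∨ (χ 1 = (Fintype.card F : ℂ) ∧ χ = St) ∨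
    (χ 1 = ((Fintype.card F + 1 : ℕ) : ℂ) ∧ ∃ α : MulChar F ℂ, α ^ 2 ≠ 1 ∧ χ = R α) ∨
    (χ 1 = ((Fintype.card F - 1 : ℕ) : ℂ) ∧ ∃ θ : torus g₀ →* ℂˣ, θ ^ 2 ≠ 1 ∧ χ = cusp θ) ∨
    (χ 1 = (((Fintype.card F + 1) / 2 : ℕ) : ℂ) ∧ (χ = d.ξ₁.1 ∨ χ = d.ξ₂.1)) ∨
    (χ 1 = (((Fintype.card F - 1) / 2 : ℕ) : ℂ) ∧ (χ = d.η₁.1 ∨ χ = d.η₂.1)) := by
  classical
  rcases d.complete ⟨χ, hχ⟩ with h | h | h | h | h
  · simp only [core, Finset.mem_union, Finset.mem_insert, Finset.mem_singleton, psSet, dsSet,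
      Finset.mem_filter, Finset.mem_univ, true_and] at h
    rcases h with ((h | h) | ⟨α, ha, e⟩) | ⟨θ, ht, e⟩
    · have e : χ = fun _ => 1 := congrArg Subtype.val h
      exact Or.inl ⟨by rw [e, Nat.cast_one], e⟩
    · have e : χ = St := congrArg Subtype.val h
      exact Or.inr (Or.inl ⟨by rw [e, St_one], e⟩)
    · exact Or.inr (Or.inr (Or.inl ⟨by rw [show χ = R α from e, R_one, deg_add], α, ha, e⟩))
    · exact Or.inr (Or.inr (Or.inr (Or.inl
        ⟨by rw [show χ = cusp θ from e, cusp_one hg₀, deg_sub], θ, ht, e⟩)))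
  · have e : χ = d.ξ₁.1 := congrArg Subtype.val h
    exact Or.inr (Or.inr (Or.inr (Or.inr (Or.inl ⟨e ▸ d.ξ₁_one, Or.inl e⟩))))
  · have e : χ = d.ξ₂.1 := congrArg Subtype.val h
    exact Or.inr (Or.inr (Or.inr (Or.inr (Or.inl ⟨e ▸ d.ξ₂_one, Or.inr e⟩))))
  · have e : χ = d.η₁.1 := congrArg Subtype.val h
    exact Or.inr (Or.inr (Or.inr (Or.inr (Or.inr ⟨e ▸ d.η₁_one, Or.inl e⟩))))
  · have e : χ = d.η₂.1 := congrArg Subtype.val h
    exact Or.inr (Or.inr (Or.inr (Or.inr (Or.inr ⟨e ▸ d.η₂_one, Or.inr e⟩))))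

theorem cf (χ : IrrSL) : Cfsg.IsClassFunction SL2 χ.1 :=
  IsCharacter.isClassFunction (IsIrrCharacter.isCharacter χ.2)

include d

theorem ξ_diag {a : Fˣ} (h : a⁻¹ ≠ a) (s : F) :
    d.ξ₁.1 (sm a s) = d.α₀ (a : F) ∧ d.ξ₂.1 (sm a s) = d.α₀ (a : F) := by
  have hq : (Fintype.card F : ℂ) ≠ 0 := Nat.cast_ne_zero.2 Fintype.card_ne_zero
  obtain ⟨h1, h2⟩ := d.ξ_US a
  rw [US_ne (cf _) h] at h1 h2
  rw [← isClassFunction_iff.1 (cf _) _ _ (isConj_sm h s),
    ← isClassFunction_iff.1 (cf d.ξ₂) _ _ (isConj_sm h s)]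
  exact ⟨mul_left_cancel₀ hq h1, mul_left_cancel₀ hq h2⟩

theorem η_diag {a : Fˣ} (h : a⁻¹ ≠ a) (s : F) :
    d.η₁.1 (sm a s) = 0 ∧ d.η₂.1 (sm a s) = 0 := by
  have hq : (Fintype.card F : ℂ) ≠ 0 := Nat.cast_ne_zero.2 Fintype.card_ne_zero
  obtain ⟨h1, h2⟩ := d.η_US a
  rw [US_ne (cf _) h] at h1 h2
  rw [← isClassFunction_iff.1 (cf _) _ _ (isConj_sm h s),
    ← isClassFunction_iff.1 (cf d.η₂) _ _ (isConj_sm h s)]
  exact ⟨(mul_eq_zero.1 h1).resolve_left hq, (mul_eq_zero.1 h2).resolve_left hq⟩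

theorem ξ_elliptic {g : SL2} (hg : NoEigen g.1) : d.ξ₁.1 g = 0 ∧ d.ξ₂.1 g = 0 := by
  have h := congrFun d.ξ_sum g
  rw [R_noEigen _ hg, Pi.add_apply, ← congrFun d.ξ_tw g] at h
  have e := congrFun d.ξ_tw g
  beta_reduce at e h
  rw [tw_eq_noEigen ν (cf _) hg] at e h
  have h0 : d.ξ₁.1 g = 0 := by linear_combination -h / 2
  exact ⟨h0, e ▸ h0⟩

theorem η_elliptic (hg₀ : NoEigen g₀.1) {g : SL2} (c : torus g₀) (hc : ¬ IsScalar c.1.1)
    (hgc : IsConj g c.1) : d.η₁.1 g = -(d.θ₀ c : ℂ) ∧ d.η₂.1 g = -(d.θ₀ c : ℂ) := by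
  rw [isClassFunction_iff.1 (cf d.η₁) _ _ hgc, isClassFunction_iff.1 (cf d.η₂) _ _ hgc]
  have hn := noEigen_of_mem hg₀ c.2 hc
  have h := congrFun d.η_sum c.1
  rw [cusp_elliptic hg₀ d.θ₀ c hc, Pi.add_apply, ← congrFun d.η_tw c.1] at h
  have e := congrFun d.η_tw c.1
  beta_reduce at e h
  rw [tw_eq_noEigen ν (cf _) hn] at e h
  have hinv : ((d.θ₀ c)⁻¹ : ℂˣ).val = (d.θ₀ c : ℂ) := by
    rcases em (c ^ ((Fintype.card F + 1) / 2) = 1) with h' | h'
    · rw [Units.val_inv_eq_inv_val, (d.θ₀_val c).1 h', inv_one]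
    · rw [Units.val_inv_eq_inv_val, (d.θ₀_val c).2 h', inv_neg, inv_one]
  rw [hinv] at h
  have h0 : d.η₁.1 c.1 = -(d.θ₀ c : ℂ) := by linear_combination -h / 2
  exact ⟨h0, e ▸ h0⟩

theorem ξ_sum_u : d.ξ₁.1 (sm 1 1) + d.ξ₂.1 (sm 1 1) = 1 := by
  have h := congrFun d.ξ_sum (sm 1 1)
  rw [R_jordan _ inv_one one_ne_zero, Units.val_one, map_one, Pi.add_apply] at h
  exact h.symm

theorem η_sum_u (hg₀ : NoEigen g₀.1) : d.η₁.1 (sm 1 1) + d.η₂.1 (sm 1 1) = -1 := by
  have h := congrFun d.η_sum (sm 1 1)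
  rw [cusp_jordan hg₀ _ inv_one one_ne_zero, Pi.add_apply,
    show zT g₀ ⟨1, inv_one⟩ = 1 from Subtype.ext (by rw [zT_coe, sm_one]; rfl), map_one,
    Units.val_one] at h
  exact h.symm

omit d

/-- Two irreducible characters exchanged by an outer diagonal automorphism. -/
theorem pair_sq (hodd : Odd (Fintype.card F))
    (hcls : ∀ s : F, s ≠ 0 → ∃ c : Fˣ, s = (c : F) * c ∨ s = (c : F) * c * ν)
    {μ μ' : IrrSL} (hne : μ ≠ μ') (h1 : (fun g => μ.1 (tw ν g)) = μ'.1)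
    (h2 : (fun g => μ'.1 (tw ν g)) = μ.1) :
    (μ.1 (sm 1 1) - μ'.1 (sm 1 1)) ^ 2 =
      (-1 : ℂ) ^ ((Fintype.card F - 1) / 2) * (Fintype.card F : ℂ) := by
  classical
  set D : SL2 → ℂ := μ.1 - μ'.1 with hD
  set δ := μ.1 (sm 1 1) - μ'.1 (sm 1 1) with hδ
  have hDδ : D (sm 1 1) = δ := rfl
  have hcf : Cfsg.IsClassFunction SL2 D := IsClassFunction.sub (cf _) (cf _)
  have hDtw : ∀ g, D (tw ν g) = -D g := fun g => by
    have a := congrFun h1 g
    have b := congrFun h2 g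
    simp only [hD, Pi.sub_apply] at a b ⊢
    rw [a, b]; ring
  have hfix : ∀ g, tw ν g = g → D g = 0 := fun g hg => by
    have := hDtw g
    rw [hg] at this
    linear_combination this / 2
  have hD0 : ∀ a : Fˣ, D (sm a 0) = 0 := fun a => hfix _ (by rw [tw_sm, mul_zero])
  have hDne : ∀ (a : Fˣ) (s : F), a⁻¹ ≠ a → D (sm a s) = 0 := fun a s h => by
    rw [← isClassFunction_iff.1 hcf _ _ (isConj_sm h s), hD0]
  have hDell : ∀ g : SL2, NoEigen g.1 → D g = 0 := fun g hg => by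
    have := hDtw g
    rw [tw_eq_noEigen ν hcf hg] at this
    linear_combination this / 2
  have hU : ∀ t : F, t ≠ 0 → D (sm 1 t) = δ ∨ D (sm 1 t) = -δ := by
    intro t ht
    obtain ⟨c, e | e⟩ := hcls t ht
    · left
      have h := isClassFunction_iff.1 hcf _ _ (isConj_sm_sq 1 (1 : F) c)
      rw [mul_one, ← e] at h
      rw [← h]; rfl
    · right
      have h := isClassFunction_iff.1 hcf _ _ (isConj_sm_sq 1 (ν : F) c)
      rw [← e] at h
      have h' := hDtw (sm 1 1)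
      rw [tw_sm, mul_one] at h'
      rw [← h, h']; rfl
  have hJ : ∀ a : Fˣ, a⁻¹ = a → ∀ s : F, s ≠ 0 → D (sm a s) * conj (D (sm a s)) = δ * conj δ := by
    intro a ha s hs
    have hz := sm_zero_mem_center (F := F) ha
    have hd1 : μ'.1 1 = μ.1 1 := by rw [← congrFun h1 1]; simp
    have hd2 : μ'.1 (sm a 0) = μ.1 (sm a 0) := by rw [← congrFun h1 (sm a 0), tw_sm, mul_zero]
    set lam := μ.1 (sm a 0) / μ.1 1 with hlam
    have hsplit : sm a s = sm a 0 * sm 1 (((a⁻¹ : Fˣ) : F) * s) := by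
      rw [sm_mul, mul_one, zero_mul, add_zero, Units.mul_inv_cancel_left]
    have hDs : D (sm a s) = lam * D (sm 1 (((a⁻¹ : Fˣ) : F) * s)) := by
      rw [hsplit]
      simp only [hD, Pi.sub_apply]
      rw [irr_central_mul μ.2 hz, irr_central_mul μ'.2 hz, hd1, hd2, ← hlam]
      ring
    have hl2 : lam = 1 ∨ lam = -1 := by
      have h := irr_central_mul μ.2 hz (sm a 0)
      rw [sm_mul, show a * a = 1 from inv_eq_iff_mul_eq_one.1 ha, mul_zero, zero_mul, add_zero,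
        sm_one, ← hlam] at h
      refine mul_self_eq_one_iff.1 (mul_right_cancel₀ (IsIrrCharacter.one_ne_zero μ.2) ?_)
      rw [one_mul]
      calc lam * lam * μ.1 1 = lam * μ.1 (sm a 0) := by
            rw [mul_assoc, hlam, div_mul_cancel₀ _ (IsIrrCharacter.one_ne_zero μ.2)]
        _ = μ.1 1 := h.symm
    rcases hU _ (mul_ne_zero (Units.ne_zero _) hs) with e | e <;> rcases hl2 with e' | e' <;>
      rw [hDs, e, e'] <;> simp
  set h : SL2 → ℂ := fun g => D g * conj (D g) with hh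
  have hhcf : Cfsg.IsClassFunction SL2 h := fun g k => by simp [hh, hcf g k]
  have hin : Cfsg.classInner (R (1 : MulChar F ℂ)) h = 2 := by
    have e : Cfsg.classInner (R (1 : MulChar F ℂ)) h = Cfsg.classInner D D := by
      simp only [Cfsg.classInner]
      congr 1
      refine Finset.sum_congr rfl fun g _ => ?_
      simp only [hh, map_mul, Complex.conj_conj]
      rcases noEigen_or_conj g with hg | ⟨a, s, hg⟩
      · rw [hDell g hg]; simp
      rw [← isClassFunction_iff.1 hcf _ _ hg,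
        ← isClassFunction_iff.1 (isClassFunction_R _) _ _ hg]
      by_cases ha : a⁻¹ = a
      · by_cases hs : s = 0
        · rw [hs, hD0]; simp
        · rw [R_jordan _ ha hs, MulChar.one_apply_coe]; ring
      · rw [hDne a s ha]; simp
    have hne' : μ.1 ≠ μ'.1 := fun e => hne (Subtype.ext e)
    rw [e, hD, classInner_sub_left, classInner_sub_right, classInner_sub_right,
      classInner_self_irr μ.2, classInner_self_irr μ'.2, classInner_irr_of_ne μ.2 μ'.2 hne',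
      classInner_irr_of_ne μ'.2 μ.2 hne'.symm]
    norm_num
  have hP : δ * conj δ = (Fintype.card F : ℂ) := by
    rw [inner_R _ hhcf, sum_units_eq_sum_Z _ (fun a ha => by
        rw [US_ne hhcf ha]; simp [hh, hD0]),
      Finset.sum_congr rfl (g := fun _ => ((Fintype.card F : ℂ) - 1) * (δ * conj δ)) (fun a _ => by
        rw [US_const a.1 (show h (sm a.1 0) = 0 by simp [hh, hD0])
          (fun s hs => show h (sm a.1 s) = δ * conj δ from hJ a.1 a.2 s hs)]
        simp [mul_comm]),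
      Finset.sum_const, Finset.card_univ, card_Z hodd, nsmul_eq_mul] at hin
    have hq : (Fintype.card F : ℂ) ≠ 0 := Nat.cast_ne_zero.2 Fintype.card_ne_zero
    have hq1 : (Fintype.card F : ℂ) - 1 ≠ 0 :=
      sub_ne_zero.2 (by exact_mod_cast (Fintype.one_lt_card (α := F)).ne')
    field_simp at hin
    push_cast at hin
    linear_combination hin / 2
  have hconj : conj δ = D (sm 1 (-1)) := by
    have e : (sm 1 (1 : F))⁻¹ = sm 1 (-1) := inv_eq_of_mul_eq_one_right (by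
      rw [sm_mul]; simp [sm_one])
    simp only [hD, Pi.sub_apply, hδ, ← e, map_sub]
    rw [IsCharacter.inv (IsIrrCharacter.isCharacter μ.2),
      IsCharacter.inv (IsIrrCharacter.isCharacter μ'.2)]
  have h2' := ringChar_ne_two hodd
  have hk : (Fintype.card F - 1) / 2 = Fintype.card F / 2 := by
    rw [Nat.odd_iff] at hodd; omega
  rcases hU (-1) (neg_ne_zero.2 one_ne_zero) with e | e
  · by_cases hδ0 : δ = 0
    · rw [hδ0, zero_mul] at hP
      exact absurd hP.symm (Nat.cast_ne_zero.2 Fintype.card_ne_zero)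
    have hsq : IsSquare (-1 : F) := by
      by_contra hns
      obtain ⟨c, hc | hc⟩ := hcls (-1) (neg_ne_zero.2 one_ne_zero)
      · exact hns ⟨_, hc⟩
      · have h := isClassFunction_iff.1 hcf _ _ (isConj_sm_sq 1 (ν : F) c)
        have h' := hDtw (sm 1 1)
        rw [tw_sm, mul_one] at h'
        rw [← hc, h', e, hDδ] at h
        exact hδ0 (by linear_combination -h / 2)
    rw [FiniteField.isSquare_iff h2' (neg_ne_zero.2 one_ne_zero)] at hsq
    have hev : Even ((Fintype.card F - 1) / 2) := by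
      rw [hk]
      exact (neg_one_pow_eq_one_iff_even (R := F) (Ring.neg_one_ne_one_of_char_ne_two h2')).1 hsq
    rw [hev.neg_one_pow, one_mul, ← hP, hconj, e, pow_two]
  · by_cases hδ0 : δ = 0
    · rw [hδ0, zero_mul] at hP
      exact absurd hP.symm (Nat.cast_ne_zero.2 Fintype.card_ne_zero)
    have hns : ¬ IsSquare (-1 : F) := by
      rintro ⟨c, hc⟩
      have hc0 : c ≠ 0 := fun h => by simp [h] at hc
      have h := isClassFunction_iff.1 hcf _ _ (isConj_sm_sq 1 (1 : F) (Units.mk0 c hc0))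
      rw [mul_one, Units.val_mk0, ← hc, e, hDδ] at h
      exact hδ0 (by linear_combination h / 2)
    rw [FiniteField.isSquare_iff h2' (neg_ne_zero.2 one_ne_zero)] at hns
    have hod : Odd ((Fintype.card F - 1) / 2) := by
      rw [hk]
      exact Nat.not_even_iff_odd.1 fun h => hns h.neg_one_pow
    rw [hod.neg_one_pow, ← hP, hconj, e]
    ring

end odd

theorem cases_even {g₀ : SL2} (hg₀ : NoEigen g₀.1) (h2 : Even (Fintype.card F)) {χ : SL2 → ℂ}
    (hχ : Cfsg.IsIrrCharacter SL2 χ) :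
    (χ 1 = ((1 : ℕ) : ℂ) ∧ χ = fun _ => 1) ∨ (χ 1 = (Fintype.card F : ℂ) ∧ χ = St) ∨
    (χ 1 = ((Fintype.card F + 1 : ℕ) : ℂ) ∧ ∃ α : MulChar F ℂ, α ^ 2 ≠ 1 ∧ χ = R α) ∨
    (χ 1 = ((Fintype.card F - 1 : ℕ) : ℂ) ∧ ∃ θ : torus g₀ →* ℂˣ, θ ^ 2 ≠ 1 ∧ χ = cusp θ) := by
  classical
  have h := (classify_even hg₀ h2).2.2 ⟨χ, hχ⟩
  simp only [core, Finset.mem_union, Finset.mem_insert, Finset.mem_singleton, psSet, dsSet,
    Finset.mem_filter, Finset.mem_univ, true_and] at h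
  rcases h with ((h | h) | ⟨α, ha, e⟩) | ⟨θ, ht, e⟩
  · have e : χ = fun _ => 1 := congrArg Subtype.val h
    exact Or.inl ⟨by rw [e, Nat.cast_one], e⟩
  · have e : χ = St := congrArg Subtype.val h
    exact Or.inr (Or.inl ⟨by rw [e, St_one], e⟩)
  · exact Or.inr (Or.inr (Or.inl ⟨by rw [show χ = R α from e, R_one, deg_add], α, ha, e⟩))
  · exact Or.inr (Or.inr (Or.inr ⟨by rw [show χ = cusp θ from e, cusp_one hg₀, deg_sub], θ, ht, e⟩))

/-- The characters of degree `q`, `q + 1` and `q - 1`, in every characteristic. -/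
theorem by_degree {g₀ : SL2} (hg₀ : NoEigen g₀.1) {χ : SL2 → ℂ}
    (hχ : Cfsg.IsIrrCharacter SL2 χ) :
    (χ 1 = (Fintype.card F : ℂ) → χ = St) ∧
    (χ 1 = (Fintype.card F : ℂ) + 1 → ∃ α : MulChar F ℂ, α ^ 2 ≠ 1 ∧ χ = R α) ∧
    (4 ≤ Fintype.card F → χ 1 = (Fintype.card F : ℂ) - 1 →
      ∃ θ : torus g₀ →* ℂˣ, θ ^ 2 ≠ 1 ∧ χ = cusp θ) := by
  have hq := Fintype.one_lt_card (α := F)
  rcases Nat.even_or_odd (Fintype.card F) with h2 | hodd
  · rcases cases_even hg₀ h2 hχ with ⟨hd, e⟩ | ⟨hd, e⟩ | ⟨hd, e⟩ | ⟨hd, e⟩ <;>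
      refine ⟨fun h => ?_, fun h => ?_, fun hq4 h => ?_⟩ <;>
      first
        | exact e
        | (exfalso
           try simp only [deg_add, deg_sub] at h
           rw [hd, Nat.cast_inj] at h
           omega)
  · obtain ⟨ν, -, hcls⟩ := exists_classes hodd
    obtain ⟨d⟩ := exists_oddData hodd hg₀ hcls
    rcases cases_odd d hg₀ hχ with
      ⟨hd, e⟩ | ⟨hd, e⟩ | ⟨hd, e⟩ | ⟨hd, e⟩ | ⟨hd, e⟩ | ⟨hd, e⟩ <;>
      refine ⟨fun h => ?_, fun h => ?_, fun hq4 h => ?_⟩ <;>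
      first
        | exact e
        | (exfalso
           try simp only [deg_add, deg_sub] at h
           rw [hd, Nat.cast_inj] at h
           rw [Nat.odd_iff] at hodd
           omega)

theorem cusp_q_three {g₀ : SL2} (hg₀ : NoEigen g₀.1) (hq3 : Fintype.card F = 3)
    {θ : torus g₀ →* ℂˣ} (hθ : θ ^ 2 ≠ 1) {c : torus g₀} (hc : ¬ IsScalar c.1.1) :
    (θ c : ℂ) + (θ c)⁻¹.val = 0 := by
  haveI := isCyclic' hg₀
  haveI : Fact (Nat.Prime 2) := ⟨Nat.prime_two⟩
  have hT : Nat.card (torus g₀) = 4 := by rw [card_torus hg₀, Nat.card_eq_fintype_card, hq3]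
  have h4 : c ^ 4 = 1 := hT ▸ pow_card_eq_one'
  have hc2 : ¬ c ^ (2 ^ 1) = 1 := fun e => by
    rw [pow_one, pow_two] at e
    refine SL2Tori.inv_ne_self (noEigen_of_mem hg₀ c.2 hc) ?_
    have := congrArg Subtype.val (inv_eq_of_mul_eq_one_right e)
    simpa using this
  have hord : orderOf c = 4 := orderOf_eq_prime_pow hc2 (by simpa using h4)
  have hgen : Subgroup.zpowers c = ⊤ :=
    Subgroup.eq_top_of_card_eq _ (by rw [Nat.card_zpowers, hord, hT])
  have hne : θ c ^ 2 ≠ 1 := fun e => hθ ((MonoidHom.eq_iff_eq_on_generator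
    (fun x => hgen ▸ Subgroup.mem_top x) _ _).2 (by simpa using e))
  have h4' : ((θ c : ℂ) ^ 2) * ((θ c : ℂ) ^ 2) = 1 := by
    rw [← pow_add, ← Units.val_pow_eq_pow_val, ← map_pow, h4, map_one, Units.val_one]
  have hm := (mul_self_eq_one_iff.1 h4').resolve_left fun e => hne (Units.ext (by simpa using e))
  rw [Units.val_inv_eq_inv_val]
  field_simp
  linear_combination hm

theorem exists_theta {g₀ : SL2} (hg₀ : NoEigen g₀.1) : ∃ θ : torus g₀ →* ℂˣ, θ ^ 2 ≠ 1 := by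
  haveI := isCyclic' hg₀
  have hs := not_scalar hg₀
  have hne : (⟨g₀, (mem_torus g₀).2 rfl⟩ : torus g₀) ^ 2 ≠ 1 := fun e => by
    rw [pow_two] at e
    refine SL2Tori.inv_ne_self hg₀ ?_
    have := congrArg Subtype.val (inv_eq_of_mul_eq_one_right e)
    simpa using this
  obtain ⟨θ, hθ⟩ := exists_hom_ne hne
  exact ⟨θ, fun e => hθ (by
    rw [map_pow]; simpa using congrArg (fun f : torus g₀ →* ℂˣ => f ⟨g₀, (mem_torus g₀).2 rfl⟩) e)⟩

theorem isScalar_of_mem_center {g : SL2}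
    (hg : g ∈ Subgroup.center (Matrix.SpecialLinearGroup (Fin 2) F)) : IsScalar g.1 := by
  have h1 := congrArg Subtype.val (Subgroup.mem_center_iff.1 hg (sm 1 1))
  have h2 : (!![1, 0; 1, 1] : Matrix (Fin 2) (Fin 2) F) * g.1 = g.1 * !![1, 0; 1, 1] :=
    congrArg Subtype.val (Subgroup.mem_center_iff.1 hg
      ⟨!![1, 0; 1, 1], by simp [det_fin_two_of]⟩)
  have a := congrFun (congrFun h1 0) 0
  have b := congrFun (congrFun h1 0) 1
  have c := congrFun (congrFun h2 0) 0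
  simp [Matrix.mul_apply, Fin.sum_univ_two] at a b c
  exact ⟨c, a, by linear_combination -b⟩

theorem eq_torus (C : Subgroup (Matrix.SpecialLinearGroup (Fin 2) F)) (hC : IsCyclic C)
    (hcard : Nat.card C = Fintype.card F + 1) : ∃ g₀ : SL2, NoEigen g₀.1 ∧ C = torus g₀ := by
  classical
  obtain ⟨⟨c₀, hc₀⟩, hgen⟩ := hC.exists_generator
  have hord : orderOf c₀ = Fintype.card F + 1 := by
    rw [← hcard, ← orderOf_eq_card_of_forall_mem_zpowers hgen, Subgroup.orderOf_mk]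
  have hq := Fintype.one_lt_card (α := F)
  have hsm : ∀ (a : Fˣ) (s : F) (k : ℕ), sm a (0 : F) ^ k = sm (a ^ k) 0 := by
    intro a s k
    induction k with
    | zero => simp [sm_one]
    | succ k ih => rw [pow_succ, ih, sm_mul, pow_succ, mul_zero, zero_mul, add_zero]
  have hne : NoEigen c₀.1 := by
    refine (noEigen_or_conj c₀).resolve_right ?_
    rintro ⟨a, s, h⟩
    obtain ⟨x, hx⟩ := isConj_iff.1 h
    have key : ∀ n : ℕ, sm a s ^ n = 1 → Fintype.card F + 1 ∣ n := fun n hn => by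
      rw [← hord]
      refine orderOf_dvd_of_pow_eq_one ?_
      rw [← hx, conj_pow, hn, mul_one, mul_inv_cancel]
    by_cases he : a⁻¹ = a
    · have hsq : sm a s * sm a s = sm 1 ((a : F) * s + s * (a⁻¹ : Fˣ)) := by
        rw [sm_mul, inv_eq_iff_mul_eq_one.1 he]
      have hpow : ∀ (t : F) (k : ℕ), sm (1 : Fˣ) t ^ k = sm 1 ((k : F) * t) := by
        intro t k
        induction k with
        | zero => simp [sm_one]
        | succ k ih =>
          rw [pow_succ, ih, sm_mul, mul_one, inv_one, Units.val_one, one_mul, mul_one]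
          congr 1
          push_cast
          ring
      have h2q : sm a s ^ (2 * Fintype.card F) = 1 := by
        rw [pow_mul, pow_two, hsq, hpow, FiniteField.cast_card_eq_zero, zero_mul, sm_one]
      have h := Nat.dvd_sub (dvd_mul_left (Fintype.card F + 1) 2) (key _ h2q)
      rw [show 2 * (Fintype.card F + 1) - 2 * Fintype.card F = 2 by omega] at h
      have := Nat.le_of_dvd two_pos h
      omega
    · have h1 : sm a s ^ (Fintype.card F - 1) = 1 := by
        obtain ⟨y, hy⟩ := isConj_iff.1 (isConj_sm he s)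
        rw [← hy, conj_pow, hsm a s, show a ^ (Fintype.card F - 1) = 1 by
          rw [← Fintype.card_units]; exact pow_card_eq_one, sm_one, mul_one, mul_inv_cancel]
      have := Nat.le_of_dvd (by omega) (key _ h1)
      omega
  refine ⟨c₀, hne, Subgroup.eq_of_le_of_card_ge (fun y hy => ?_) ?_⟩
  · obtain ⟨k, hk⟩ := hgen ⟨y, hy⟩
    have hk' : c₀ ^ k = y := by simpa using congrArg Subtype.val hk
    exact hk' ▸ zpow_mem ((mem_torus c₀).2 rfl) k
  · rw [card_torus hne, hcard, Nat.card_eq_fintype_card]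

end Cfsg.Agent.SL2TableValues
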