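/-
Irreducible characters of SL_2(q), q odd, of degree prime to a prime.
-/
import Cfsg.Agent.Lib.Classical.SL2TableValues
import Cfsg.Agent.Lib.Classical.SL2McKayTools

set_option autoImplicit false
set_option linter.style.haveILetI false
set_option linter.unusedSectionVars false

namespace Cfsg.Agent.SL2McKay

open Matrix SL2Tori SL2Table SL2Principal SL2Cuspidal

variable {F : Type*} [Field F] [Fintype F] [DecidableEq F]

local notation "SL2" => Matrix.SpecialLinearGroup (Fin 2) F
local notation "IrrSL" => Cfsg.IrrCharacter (Matrix.SpecialLinearGroup (Fin 2) F)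

open scoped Classical in
theorem card_filter_degree {g₀ : SL2} (hg₀ : NoEigen g₀.1) {ν : Fˣ} (d : OddData g₀ ν)
    (hodd : Odd (Fintype.card F)) (P : ℕ → Prop) :
    Nat.card {χ : IrrSL // P (Cfsg.charDegree (χ : SL2 → ℂ))} =
      (if P 1 then 1 else 0) + (if P (Fintype.card F) then 1 else 0) +
      (psSet (F := F)).card * (if P (Fintype.card F + 1) then 1 else 0) +
      (dsSet g₀).card * (if P (Fintype.card F - 1) then 1 else 0) +
      2 * (if P ((Fintype.card F + 1) / 2) then 1 else 0) +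
      2 * (if P ((Fintype.card F - 1) / 2) then 1 else 0) := by
  haveI : Fintype IrrSL := Fintype.ofFinite _
  let deg : IrrSL → ℕ := fun χ => Cfsg.charDegree (χ : SL2 → ℂ)
  let s : Multiset IrrSL := oneI ::ₘ stI ::ₘ d.ξ₁ ::ₘ d.ξ₂ ::ₘ d.η₁ ::ₘ d.η₂ ::ₘ
    ((psSet (F := F)).val + (dsSet g₀).val)
  have hall : ∀ χ : IrrSL, χ ∈ s := by
    intro χ
    simp only [s, Multiset.mem_cons, Multiset.mem_add, Finset.mem_val]
    rcases d.complete χ with h | h | h | h | h
    · simp only [core, Finset.mem_union, Finset.mem_insert, Finset.mem_singleton] at h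
      tauto
    all_goals tauto
  have hq := Fintype.one_lt_card (α := F)
  have hqm := Nat.odd_iff.1 hodd
  have hcard : Fintype.card IrrSL = Fintype.card F + 4 := by
    rw [← Nat.card_eq_fintype_card, Char.card_irrCharacter, d.card_classes]
  have hps := d.card_ps
  have hds := d.card_ds
  have hseq : (Finset.univ : Finset IrrSL).val = s := by
    refine Multiset.eq_of_le_of_card_le
      ((Multiset.le_iff_subset Finset.univ.nodup).2 fun χ _ => hall χ) ?_
    simp only [s, Multiset.card_cons, Multiset.card_add, Finset.card_val, Finset.card_univ, hcard]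
    omega
  have h1 : deg oneI = 1 := deg_of_val oneI (Nat.cast_one (R := ℂ)).symm
  have h2 : deg stI = Fintype.card F := deg_of_val stI (St_one (F := F))
  have h3 : ∀ χ ∈ psSet (F := F), deg χ = Fintype.card F + 1 := fun χ hχ => by
    obtain ⟨α, -, e⟩ := (Finset.mem_filter.1 hχ).2
    refine deg_of_val χ ?_
    rw [e, R_one, Nat.cast_add, Nat.cast_one]
  have h4 : ∀ χ ∈ dsSet g₀, deg χ = Fintype.card F - 1 := fun χ hχ => by
    obtain ⟨θ, -, e⟩ := (Finset.mem_filter.1 hχ).2
    refine deg_of_val χ ?_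
    rw [e, cusp_one hg₀, Nat.cast_sub hq.le, Nat.cast_one]
  have hmap : s.map deg = 1 ::ₘ Fintype.card F ::ₘ (Fintype.card F + 1) / 2 ::ₘ (Fintype.card F + 1) / 2 ::ₘ
      (Fintype.card F - 1) / 2 ::ₘ (Fintype.card F - 1) / 2 ::ₘ
      (Multiset.replicate (psSet (F := F)).card (Fintype.card F + 1) +
        Multiset.replicate (dsSet g₀).card (Fintype.card F - 1)) := by
    simp only [s, Multiset.map_cons, Multiset.map_add]
    rw [h1, h2, show deg d.ξ₁ = _ from deg_of_val _ d.ξ₁_one, show deg d.ξ₂ = _ from deg_of_val _ d.ξ₂_one,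
      show deg d.η₁ = _ from deg_of_val _ d.η₁_one, show deg d.η₂ = _ from deg_of_val _ d.η₂_one,
      Multiset.map_congr rfl (fun χ hχ => h3 χ hχ), Multiset.map_congr rfl (fun χ hχ => h4 χ hχ),
      Multiset.map_const', Multiset.map_const', Finset.card_val, Finset.card_val]
  rw [Nat.card_eq_fintype_card, Fintype.card_subtype, ← Finset.card_val, Finset.filter_val,
    ← Multiset.countP_eq_card_filter, hseq,
    show Multiset.countP (fun χ : IrrSL => P (Cfsg.charDegree (χ : SL2 → ℂ))) s = Multiset.countP P (s.map deg) by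
      rw [Multiset.countP_map, Multiset.countP_eq_card_filter], hmap]
  simp only [Multiset.countP_cons, Multiset.countP_add]
  have hrep : ∀ (k a : ℕ), Multiset.countP P (Multiset.replicate k a) = k * (if P a then 1 else 0) := by
    intro k a
    induction k with
    | zero => simp
    | succ k ih =>
      rw [Multiset.replicate_succ, Multiset.countP_cons, ih]
      split_ifs with h <;> ring
  rw [hrep, hrep]
  ring

/-- The count for each prime. -/
theorem countPrime_sl (hodd : Odd (Fintype.card F)) (ℓ : ℕ) [hl : Fact ℓ.Prime] :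
    (ℓ ∣ Fintype.card F → countPrime ℓ SL2 = Fintype.card F + 3) ∧
    (ℓ ≠ 2 → ℓ ∣ Fintype.card F - 1 → 2 * countPrime ℓ SL2 = Fintype.card F + 5) ∧
    (ℓ ≠ 2 → ℓ ∣ Fintype.card F + 1 → 2 * countPrime ℓ SL2 = Fintype.card F + 7) ∧
    (ℓ = 2 → countPrime ℓ SL2 = 4) ∧
    (¬ ℓ ∣ Nat.card SL2 → countPrime ℓ SL2 = Nat.card (ConjClasses SL2)) := by
  classical
  obtain ⟨g₀, hg₀⟩ := exists_noEigen (F := F)
  obtain ⟨ν, -, hcls⟩ := exists_classes hodd
  obtain ⟨d⟩ := exists_oddData hodd hg₀ hcls
  have hq := Fintype.one_lt_card (α := F)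
  have hqm := Nat.odd_iff.1 hodd
  have key := card_filter_degree hg₀ d hodd fun a => ¬ ℓ ∣ a
  have hps := d.card_ps
  have hds := d.card_ds
  have hh1 : (Fintype.card F + 1) / 2 ∣ Fintype.card F + 1 := Nat.div_dvd_of_dvd (by omega)
  have hh2 : (Fintype.card F - 1) / 2 ∣ Fintype.card F - 1 := Nat.div_dvd_of_dvd (by omega)
  have n1 : ¬ ℓ ∣ 1 := hl.out.not_dvd_one
  refine ⟨fun hd => ?_, fun h2 hd => ?_, fun h2 hd => ?_, fun h2 => ?_, fun hd => ?_⟩
  · have a : ¬ ℓ ∣ Fintype.card F + 1 := fun h => n1 ((Nat.dvd_add_right hd).1 h)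
    have b : ¬ ℓ ∣ Fintype.card F - 1 := fun h => n1 (by
      have := Nat.dvd_sub hd h
      rwa [Nat.sub_sub_self hq.le] at this)
    rw [if_pos n1, if_neg (not_not.2 hd), if_pos a, if_pos b, if_pos fun h => a (h.trans hh1),
      if_pos fun h => b (h.trans hh2)] at key
    unfold countPrime
    omega
  · have hl2 : ℓ.Coprime 2 := (Nat.coprime_primes hl.out Nat.prime_two).2 h2
    have hd' : ℓ ∣ (Fintype.card F - 1) / 2 := hl2.dvd_of_dvd_mul_left (m := 2)
      (by rwa [show 2 * ((Fintype.card F - 1) / 2) = Fintype.card F - 1 by omega])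
    have a : ¬ ℓ ∣ Fintype.card F + 1 := fun h => h2 ((Nat.prime_dvd_prime_iff_eq hl.out Nat.prime_two).1 (by
      have := Nat.dvd_sub h hd
      rwa [show Fintype.card F + 1 - (Fintype.card F - 1) = 2 by omega] at this))
    have b : ¬ ℓ ∣ Fintype.card F := fun h => n1 (by
      have := Nat.dvd_sub h hd
      rwa [Nat.sub_sub_self hq.le] at this)
    rw [if_pos n1, if_pos b, if_pos a, if_neg (not_not.2 hd), if_pos fun h => a (h.trans hh1),
      if_neg (not_not.2 hd')] at key
    unfold countPrime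
    omega
  · have hl2 : ℓ.Coprime 2 := (Nat.coprime_primes hl.out Nat.prime_two).2 h2
    have hd' : ℓ ∣ (Fintype.card F + 1) / 2 := hl2.dvd_of_dvd_mul_left (m := 2)
      (by rwa [show 2 * ((Fintype.card F + 1) / 2) = Fintype.card F + 1 by omega])
    have a : ¬ ℓ ∣ Fintype.card F - 1 := fun h => h2 ((Nat.prime_dvd_prime_iff_eq hl.out Nat.prime_two).1 (by
      have := Nat.dvd_sub hd h
      rwa [show Fintype.card F + 1 - (Fintype.card F - 1) = 2 by omega] at this))
    have b : ¬ ℓ ∣ Fintype.card F := fun h => n1 ((Nat.dvd_add_right h).1 hd)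
    rw [if_pos n1, if_pos b, if_neg (not_not.2 hd), if_pos a, if_neg (not_not.2 hd'),
      if_pos fun h => a (h.trans hh2)] at key
    unfold countPrime
    omega
  · subst h2
    rw [if_pos n1, if_pos (by omega : ¬ 2 ∣ Fintype.card F), if_neg (by omega : ¬ ¬ 2 ∣ Fintype.card F + 1),
      if_neg (by omega : ¬ ¬ 2 ∣ Fintype.card F - 1)] at key
    unfold countPrime
    rcases (show Fintype.card F % 4 = 1 ∨ Fintype.card F % 4 = 3 by omega) with h | h
    · rw [if_pos (by omega : ¬ 2 ∣ (Fintype.card F + 1) / 2),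
        if_neg (by omega : ¬ ¬ 2 ∣ (Fintype.card F - 1) / 2)] at key
      omega
    · rw [if_neg (by omega : ¬ ¬ 2 ∣ (Fintype.card F + 1) / 2),
        if_pos (by omega : ¬ 2 ∣ (Fintype.card F - 1) / 2)] at key
      omega
  · exact count_of_all ℓ fun χ h => hd (h.trans (Cfsg.Agent.CharX.irr_deg_dvd_card χ))

end Cfsg.Agent.SL2McKay
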