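/-
Centralisers and normalisers of the Sylow subgroups of SL_2(q), q odd.
-/
import Cfsg.Agent.Lib.Classical.SL2Tori
import Cfsg.Agent.Lib.Classical.SL2BorelTorus
import Cfsg.Agent.Lib.Classical.PSL2Involutions
import Mathlib.GroupTheory.Sylow

set_option autoImplicit false

namespace Cfsg.Agent.SL2SylowNormalizer

open TwoByTwo
open scoped Pointwise

section generic

variable {G : Type*} [Group G]

theorem card_centralizer_map (e : G ≃* G) (H : Subgroup G) :
    Nat.card (Subgroup.centralizer ((H.map e.toMonoidHom : Subgroup G) : Set G)) =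
        Nat.card (Subgroup.centralizer (H : Set G)) ∧
      (IsCyclic (Subgroup.centralizer (H : Set G)) →
        IsCyclic (Subgroup.centralizer ((H.map e.toMonoidHom : Subgroup G) : Set G))) := by
  have heq : Subgroup.centralizer ((H.map e.toMonoidHom : Subgroup G) : Set G) =
      (Subgroup.centralizer (H : Set G)).map e.toMonoidHom := by
    ext y
    rw [Subgroup.mem_map_equiv, Subgroup.mem_centralizer_iff, Subgroup.mem_centralizer_iff]
    constructor
    · intro h x hx
      apply e.injective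
      rw [map_mul, map_mul, e.apply_symm_apply]
      exact h (e x) (Subgroup.mem_map_of_mem e.toMonoidHom hx)
    · intro h x hx
      obtain ⟨z, hz, rfl⟩ := Subgroup.mem_map.1 hx
      apply e.symm.injective
      show e.symm (e z * y) = e.symm (y * e z)
      rw [map_mul, map_mul, e.symm_apply_apply]
      exact h z hz
  rw [heq]
  refine ⟨(Nat.card_congr (Subgroup.equivMapOfInjective _ _ e.injective).toEquiv).symm, fun h => ?_⟩
  exact isCyclic_of_surjective
    (Subgroup.equivMapOfInjective (Subgroup.centralizer (H : Set G)) e.toMonoidHom e.injective).toMonoidHom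
    (Subgroup.equivMapOfInjective (Subgroup.centralizer (H : Set G)) e.toMonoidHom e.injective).surjective

theorem sylow_conj_eq [Finite G] {ℓ : ℕ} [Fact ℓ.Prime] (P₀ P : Sylow ℓ G) :
    ∃ g : G, (P : Subgroup G) = (P₀ : Subgroup G).map (MulAut.conj g).toMonoidHom := by
  obtain ⟨g, hg⟩ := MulAction.exists_smul_eq G P₀ P
  exact ⟨g, by rw [← hg, Sylow.coe_subgroup_smul]; rfl⟩

/-- A `ℓ`-element commuting with a Sylow subgroup lies in it. -/
theorem mem_sylow_of_commute [Finite G] {ℓ : ℕ} [Fact ℓ.Prime] (P : Sylow ℓ G) {z : G}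
    (hz : ∃ k, z ^ ℓ ^ k = 1) (hc : ∀ y ∈ (P : Subgroup G), Commute z y) :
    z ∈ (P : Subgroup G) := by
  have hZ : IsPGroup ℓ (Subgroup.zpowers z) := by
    rintro ⟨y, hy⟩
    obtain ⟨k, hk⟩ := hz
    obtain ⟨i, rfl⟩ := Subgroup.mem_zpowers_iff.1 hy
    refine ⟨k, Subtype.ext ?_⟩
    show (z ^ i) ^ ℓ ^ k = 1
    rw [← zpow_natCast, ← zpow_mul, mul_comm, zpow_mul, zpow_natCast, hk, one_zpow]
  have hle : (P : Subgroup G) ≤ Subgroup.normalizer ((Subgroup.zpowers z : Subgroup G) : Set G) := by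
    refine le_trans ?_ (Subgroup.centralizer_le_normalizer _)
    intro y hy
    rw [Subgroup.mem_centralizer_iff]
    rintro x hx
    obtain ⟨i, rfl⟩ := Subgroup.mem_zpowers_iff.1 hx
    exact (hc y hy).zpow_left i
  have hsup := P.is_maximal' (IsPGroup.to_sup_of_normal_right' P.isPGroup' hZ hle) le_sup_left
  rw [← hsup]
  exact Subgroup.mem_sup_right (Subgroup.mem_zpowers z)

/-- Sylow subgroups inside a self-centralising abelian subgroup. -/
theorem sylow_in_torus [Finite G] (ℓ : ℕ) [Fact ℓ.Prime] (T : Subgroup G) (hℓ : ℓ ∣ Nat.card T)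
    (hidx : ¬ ℓ ∣ T.index) (hcomm : ∀ s ∈ T, ∀ t ∈ T, s * t = t * s)
    (hcent : ∀ x ∈ T, orderOf x = ℓ → Subgroup.centralizer ({x} : Set G) = T) (P : Sylow ℓ G) :
    Nat.card (Subgroup.centralizer ((P : Subgroup G) : Set G)) = Nat.card T ∧
    (IsCyclic T → IsCyclic (Subgroup.centralizer ((P : Subgroup G) : Set G))) ∧
    Nat.card (Subgroup.normalizer ((P : Subgroup G) : Set G)) =
      Nat.card (Subgroup.normalizer (T : Set G)) := by
  obtain ⟨P₀, hP₀⟩ : ∃ P₀ : Sylow ℓ G, (P₀ : Subgroup G) ≤ T := by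
    obtain ⟨Q⟩ := (inferInstance : Nonempty (Sylow ℓ T))
    refine ⟨Sylow.ofCard ((Q : Subgroup T).map T.subtype) ?_, ?_⟩
    · rw [Subgroup.card_map_of_injective T.subtype_injective, Q.card_eq_multiplicity,
        ← Subgroup.card_mul_index T, Nat.factorization_mul Nat.card_pos.ne'
          (by intro h; exact hidx (h ▸ dvd_zero ℓ)), Finsupp.add_apply,
        Nat.factorization_eq_zero_of_not_dvd hidx, add_zero]
    · exact Subgroup.map_subtype_le _
  have hdvd : ℓ ∣ Nat.card (P₀ : Subgroup G) :=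
    P₀.dvd_card_of_dvd_card (hℓ.trans (Subgroup.card_subgroup_dvd_card T))
  obtain ⟨x, hx⟩ := exists_prime_orderOf_dvd_card' (G := (P₀ : Subgroup G)) ℓ hdvd
  have hxo : orderOf x.1 = ℓ := by rw [Subgroup.orderOf_coe, hx]
  have hC : Subgroup.centralizer ((P₀ : Subgroup G) : Set G) = T := by
    refine le_antisymm ?_ fun t ht => Subgroup.mem_centralizer_iff.2 fun y hy => hcomm y (hP₀ hy) t ht
    intro y hy
    rw [← hcent x.1 (hP₀ x.2) hxo]
    exact Subgroup.mem_centralizer_singleton_iff.2 (Subgroup.mem_centralizer_iff.1 hy x.1 x.2).symm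
  have hN : Subgroup.normalizer ((P₀ : Subgroup G) : Set G) = Subgroup.normalizer (T : Set G) := by
    refine le_antisymm ?_ ?_
    · intro n hn
      rw [Subgroup.mem_normalizer_iff] at hn ⊢
      have key : ∀ t, t ∈ Subgroup.centralizer ((P₀ : Subgroup G) : Set G) ↔
          n * t * n⁻¹ ∈ Subgroup.centralizer ((P₀ : Subgroup G) : Set G) := by
        intro t
        rw [Subgroup.mem_centralizer_iff, Subgroup.mem_centralizer_iff]
        constructor
        · intro h y (hy : y ∈ (P₀ : Subgroup G))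
          have h2 : n⁻¹ * y * n ∈ (P₀ : Subgroup G) :=
            (hn _).2 (by simpa [mul_assoc] using hy)
          have h3 := h _ h2
          calc y * (n * t * n⁻¹) = n * ((n⁻¹ * y * n) * t) * n⁻¹ := by group
            _ = n * t * n⁻¹ * y := by rw [h3]; group
        · intro h y hy
          have h3 := h _ ((hn y).1 hy)
          calc y * t = n⁻¹ * ((n * y * n⁻¹) * (n * t * n⁻¹)) * n := by group
            _ = t * y := by rw [h3]; group
      rw [hC] at key
      exact key
    · intro n hn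
      rw [Subgroup.mem_normalizer_iff] at hn
      have key : ∀ m : G, (∀ h, h ∈ T ↔ m * h * m⁻¹ ∈ T) → ∀ y ∈ (P₀ : Subgroup G),
          m * y * m⁻¹ ∈ (P₀ : Subgroup G) := by
        intro m hm y hy
        refine mem_sylow_of_commute P₀ ?_ fun z hz => hcomm _ ((hm y).1 (hP₀ hy)) z (hP₀ hz)
        obtain ⟨k, hk⟩ := P₀.isPGroup' ⟨y, hy⟩
        refine ⟨k, ?_⟩
        rw [conj_pow, show y ^ ℓ ^ k = 1 from congrArg Subtype.val hk, mul_one, mul_inv_cancel]
      rw [Subgroup.mem_normalizer_iff]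
      refine fun y => ⟨key n hn y, fun hy => ?_⟩
      have := key n⁻¹ (fun h => by
        have e := hn (n⁻¹ * h * n⁻¹⁻¹)
        simp [mul_assoc] at e
        simpa [mul_assoc] using e.symm) _ hy
      simpa [mul_assoc] using this
  obtain ⟨g, hg⟩ := sylow_conj_eq P₀ P
  obtain ⟨h1, h2⟩ := card_centralizer_map (MulAut.conj g) (P₀ : Subgroup G)
  rw [hC] at h1 h2
  refine ⟨by rw [hg, h1], fun hc => by rw [hg]; exact h2 hc, ?_⟩
  have e1 : Nat.card (Sylow ℓ G) =
      (Subgroup.normalizer ((P : Subgroup G) : Set G)).index := Sylow.card_eq_index_normalizer P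
  have e2 : Nat.card (Sylow ℓ G) =
      (Subgroup.normalizer ((P₀ : Subgroup G) : Set G)).index := Sylow.card_eq_index_normalizer P₀
  have k1 := Subgroup.card_mul_index (Subgroup.normalizer ((P : Subgroup G) : Set G))
  have k2 := Subgroup.card_mul_index (Subgroup.normalizer ((P₀ : Subgroup G) : Set G))
  rw [← hN]
  have hpos : 0 < Nat.card (Sylow ℓ G) := Nat.card_pos
  rw [← e1] at k1
  rw [← e2] at k2
  exact Nat.eq_of_mul_eq_mul_right hpos (k1.trans k2.symm)

end generic

variable {F : Type*} [Field F]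

local notation "SL2" => Matrix.SpecialLinearGroup (Fin 2) F

theorem mul_self_of_scalar {x : SL2} (h : IsScalar x.1) : x * x = 1 := by
  apply Subtype.ext
  show x.1 * x.1 = 1
  rcases SL2Tori.val_eq_pm_one h with e | e <;> rw [e] <;> simp

theorem not_scalar_of_prime_order {ℓ : ℕ} (hℓ : ℓ.Prime) (hne : ℓ ≠ 2) {x : SL2}
    (hx : orderOf x = ℓ) : ¬ IsScalar x.1 := by
  intro h
  have h2 : orderOf x ∣ 2 := orderOf_dvd_of_pow_eq_one (by rw [pow_two, mul_self_of_scalar h])
  rw [hx] at h2
  exact hne ((Nat.prime_dvd_prime_iff_eq hℓ Nat.prime_two).1 h2)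

theorem not_dvd_index [Finite F] {T : Subgroup SL2} {ℓ : ℕ} (hℓ : ℓ.Prime)
    {a b : ℕ} (hT : Nat.card T = a) (hsl : Nat.card F ^ 2 - 1 = a * b) (ha : 0 < a)
    (h1 : ¬ ℓ ∣ Nat.card F) (h2 : ¬ ℓ ∣ b) : ¬ ℓ ∣ T.index := by
  have h := Subgroup.card_mul_index T
  rw [hT, card_sl_two, hsl, mul_left_comm] at h
  rw [Nat.eq_of_mul_eq_mul_left ha h, hℓ.dvd_mul]
  tauto

theorem odd_sylow [Fintype F] (hodd : Odd (Fintype.card F)) (ℓ : ℕ) [Fact ℓ.Prime] (hℓ : ℓ ≠ 2)
    (P : Sylow ℓ SL2) :
    (ℓ ∣ Fintype.card F - 1 →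
      Nat.card (Subgroup.centralizer ((P : Subgroup SL2) : Set SL2)) = Fintype.card F - 1 ∧
      IsCyclic (Subgroup.centralizer ((P : Subgroup SL2) : Set SL2)) ∧
      Nat.card (Subgroup.normalizer ((P : Subgroup SL2) : Set SL2)) = 2 * (Fintype.card F - 1)) ∧
    (ℓ ∣ Fintype.card F + 1 →
      Nat.card (Subgroup.centralizer ((P : Subgroup SL2) : Set SL2)) = Fintype.card F + 1 ∧
      IsCyclic (Subgroup.centralizer ((P : Subgroup SL2) : Set SL2)) ∧
      Nat.card (Subgroup.normalizer ((P : Subgroup SL2) : Set SL2)) = 2 * (Fintype.card F + 1)) := by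
  classical
  have hp := (Fact.out : ℓ.Prime)
  have hq : 1 < Fintype.card F := Fintype.one_lt_card
  have hsq : Nat.card F ^ 2 - 1 = (Fintype.card F + 1) * (Fintype.card F - 1) := by
    rw [Nat.card_eq_fintype_card]; simpa using Nat.sq_sub_sq (Fintype.card F) 1
  have h2 : ¬ ℓ ∣ 2 := fun h => hℓ ((Nat.prime_dvd_prime_iff_eq hp Nat.prime_two).1 h)
  constructor
  · intro hd
    have hnq : ¬ ℓ ∣ Nat.card F := fun h => by
      rw [Nat.card_eq_fintype_card] at h
      have := Nat.dvd_sub h hd
      rw [Nat.sub_sub_self (by omega)] at this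
      exact hp.not_dvd_one this
    have hnp : ¬ ℓ ∣ Fintype.card F + 1 := fun h => h2 (by
      have := Nat.dvd_sub h hd
      rwa [show Fintype.card F + 1 - (Fintype.card F - 1) = 2 by omega] at this)
    obtain ⟨u, hu⟩ := exists_prime_orderOf_dvd_card (G := Fˣ) ℓ (by rwa [Fintype.card_units])
    let d : SL2 := SL2BorelTorus.mono (u, false)
    have hd0 : d.1 0 0 = (u : F) := rfl
    have hda : d.1 0 0 ^ 2 ≠ 1 := by
      rw [hd0]
      intro e
      have h' : orderOf u ∣ 2 := orderOf_dvd_of_pow_eq_one (Units.ext (by simpa using e))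
      rw [hu] at h'
      exact h2 h'
    have hmem := SL2BorelTorus.mem_centralizer_diag d rfl rfl hda
    obtain ⟨hN, -⟩ := SL2BorelTorus.normalizer_diag_counts hodd d rfl rfl hda
    let e : Fˣ →* SL2Tori.torus d :=
      MonoidHom.mk' (fun a => ⟨SL2BorelTorus.mono (a, false), (hmem _).2 ⟨rfl, rfl⟩⟩) fun a b => by
        apply Subtype.ext; apply Subtype.ext
        show _ = (SL2BorelTorus.mono (a, false)).1 * (SL2BorelTorus.mono (b, false)).1
        ext i j
        fin_cases i <;> fin_cases j <;>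
          simp [SL2BorelTorus.mono, Matrix.mul_apply, Fin.sum_univ_two, mul_comm]
    have he : Function.Bijective e := by
      refine ⟨fun a b h => ?_, fun x => ?_⟩
      · have h' : (e a).1 = (e b).1 := congrArg _ h
        have h'' : SL2BorelTorus.mono (a, false) = SL2BorelTorus.mono (b, false) := h'
        exact congrArg Prod.fst (SL2BorelTorus.mono_injective h'')
      · obtain ⟨⟨a, i⟩, hp'⟩ := SL2BorelTorus.mem_range_mono x.1 (Or.inl ((hmem x.1).1 x.2))
        cases i
        · exact ⟨a, Subtype.ext hp'⟩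
        · have h01 := ((hmem x.1).1 x.2).1
          rw [← hp'] at h01
          simp [SL2BorelTorus.mono] at h01
    have hT : Nat.card (SL2Tori.torus d) = Fintype.card F - 1 := by
      rw [← Nat.card_eq_of_bijective e he, Nat.card_eq_fintype_card, Fintype.card_units]
    have hns : ¬ IsScalar d.1 := fun h => hda (by
      have this : (d.1 * d.1) 0 0 = 1 := by
        rw [show d.1 * d.1 = (d * d).1 from rfl, mul_self_of_scalar h]; rfl
      simpa [Matrix.mul_apply, Fin.sum_univ_two, d, SL2BorelTorus.mono, pow_two] using this)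
    obtain ⟨r1, r2, r3⟩ := sylow_in_torus ℓ (SL2Tori.torus d) (hT ▸ hd)
      (not_dvd_index hp hT (hsq.trans (mul_comm _ _)) (by omega) hnq hnp)
      (SL2Tori.torus_comm hns)
      (fun x hx ho => SL2Tori.torus_eq hns hx (not_scalar_of_prime_order hp hℓ ho)) P
    exact ⟨r1.trans hT, r2 (isCyclic_of_surjective e he.2), r3.trans hN⟩
  · intro hd
    have hnq : ¬ ℓ ∣ Nat.card F := fun h => by
      rw [Nat.card_eq_fintype_card] at h
      exact hp.not_dvd_one ((Nat.dvd_add_right h).1 hd)
    have hnp : ¬ ℓ ∣ Fintype.card F - 1 := fun h => h2 (by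
      have := Nat.dvd_sub hd h
      rwa [show Fintype.card F + 1 - (Fintype.card F - 1) = 2 by omega] at this)
    obtain ⟨g, hg⟩ := SL2Tori.exists_noEigen (F := F)
    have hT : Nat.card (SL2Tori.torus g) = Fintype.card F + 1 := by
      rw [SL2Tori.card_torus hg, Nat.card_eq_fintype_card]
    obtain ⟨r1, r2, r3⟩ := sylow_in_torus ℓ (SL2Tori.torus g) (hT ▸ hd)
      (not_dvd_index hp hT hsq (by omega) hnq hnp) (SL2Tori.torus_comm (SL2Tori.not_scalar hg))
      (fun x hx ho =>
        SL2Tori.torus_eq (SL2Tori.not_scalar hg) hx (not_scalar_of_prime_order hp hℓ ho)) P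
    exact ⟨r1.trans hT, r2 (SL2Tori.isCyclic_torus hg),
      r3.trans (by rw [SL2Tori.card_normalizer hg, Nat.card_eq_fintype_card])⟩

section two

open SL2Inv PSL2Inv

theorem not_scalar_w (h2 : (2 : F) ≠ 0) : ¬ IsScalar (w : SL2).1 := fun h => by
  have := (ne_of_trace_zero h2 (trace_w (F := F)))
  rcases SL2Tori.val_eq_pm_one h with e | e
  · exact this.1 (Subtype.ext e)
  · exact this.2 (Subtype.ext (e.trans coe_negOne.symm))

theorem torus_w : SL2Tori.torus (w : SL2) = (C : Subgroup SL2) := rfl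

theorem C_comm (h2 : (2 : F) ≠ 0) {a b : SL2} (ha : a ∈ (C : Subgroup SL2))
    (hb : b ∈ (C : Subgroup SL2)) : a * b = b * a :=
  SL2Tori.torus_comm (not_scalar_w h2) a ha b hb

theorem mem_D_iff_C_or_anti {j : SL2} (hj : Anti j) {x : SL2} (hx : x ∈ (D : Subgroup SL2)) :
    x ∈ (C : Subgroup SL2) ∨ Anti x := by
  rcases D_dichotomy hj hx with h | h
  · exact Or.inl h
  · refine Or.inr ?_
    have := hj.mul_C h
    rwa [mul_inv_cancel_left] at this

/-- A Sylow 2-subgroup inside the normaliser of the torus through `w`. -/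
theorem exists_sylow_le_D [Fintype F] (hodd : Odd (Fintype.card F)) :
    ∃ S : Sylow 2 SL2, (S : Subgroup SL2) ≤ D ∧
      ¬ ((S : Subgroup SL2) ≤ (C : Subgroup SL2)) ∧
      ∃ a : ℕ, 2 ≤ a ∧ Nat.card (S : Subgroup SL2) = 2 * 2 ^ a ∧
        Nat.card ((S : Subgroup SL2) ⊓ (C : Subgroup SL2) : Subgroup SL2) = 2 ^ a ∧
        ((Fintype.card F % 8 = 1 ∨ Fintype.card F % 8 = 7) → 3 ≤ a) ∧
        ((Fintype.card F % 8 = 3 ∨ Fintype.card F % 8 = 5) → a = 2) := by
  classical
  have h2 := SL2BorelTorus.two_ne_zero_of_odd_card hodd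
  obtain ⟨j, hj⟩ := exists_anti (F := F) h2
  have hq := Fintype.one_lt_card (α := F)
  have hC := card_C (F := F) h2
  have hD := card_D (F := F) h2
  rw [Nat.card_eq_fintype_card (α := F)] at hC
  have hqm : Fintype.card F % 2 = 1 := Nat.odd_iff.1 hodd
  obtain ⟨ε, hε, hC'⟩ : ∃ ε : ℕ, ε % 4 = 2 ∧
      Fintype.card F ^ 2 - 1 = Nat.card (C : Subgroup SL2) * ε := by
    have hsq : Fintype.card F ^ 2 - 1 = (Fintype.card F + 1) * (Fintype.card F - 1) := by
      simpa using Nat.sq_sub_sq (Fintype.card F) 1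
    by_cases h4 : Fintype.card F % 4 = 1
    · exact ⟨Fintype.card F + 1, by omega, by rw [hC, if_pos h4, hsq, mul_comm]⟩
    · exact ⟨Fintype.card F - 1, by omega, by rw [hC, if_neg h4, hsq]⟩
  have hSL : Nat.card SL2 = Fintype.card F * (Nat.card (C : Subgroup SL2) * ε) := by
    rw [card_sl_two, Nat.card_eq_fintype_card (α := F), hC']
  have hfac : (Nat.card SL2).factorization 2 = (Nat.card (C : Subgroup SL2)).factorization 2 + 1 := by
    have hε2 : ε.factorization 2 = 1 := by
      rw [show ε = 2 * (ε / 2) by omega, Nat.factorization_mul (by norm_num) (by omega),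
        Finsupp.add_apply, Nat.prime_two.factorization_self,
        Nat.factorization_eq_zero_of_not_dvd (by omega)]
    have hq2 : (Fintype.card F).factorization 2 = 0 :=
      Nat.factorization_eq_zero_of_not_dvd (by omega)
    rw [hSL, Nat.factorization_mul (by omega) (mul_ne_zero Nat.card_pos.ne' (by omega)),
      Nat.factorization_mul Nat.card_pos.ne' (by omega), Finsupp.add_apply, Finsupp.add_apply,
      hε2, hq2, zero_add]
  set a := (Nat.card (C : Subgroup SL2)).factorization 2 with ha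
  obtain ⟨Q⟩ := (inferInstance : Nonempty (Sylow 2 (D : Subgroup SL2)))
  have hQ : Nat.card ((Q : Subgroup (D : Subgroup SL2)).map (D : Subgroup SL2).subtype) =
      2 ^ (Nat.card SL2).factorization 2 := by
    rw [Subgroup.card_map_of_injective (D : Subgroup SL2).subtype_injective, Q.card_eq_multiplicity,
      hD, hfac, Nat.factorization_mul two_ne_zero Nat.card_pos.ne', Finsupp.add_apply,
      Nat.prime_two.factorization_self, add_comm]
  let S := Sylow.ofCard _ hQ
  have hS : Nat.card (S : Subgroup SL2) = 2 * 2 ^ a := by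
    rw [S.card_eq_multiplicity, hfac, pow_succ']
  have hle : (S : Subgroup SL2) ≤ D := Subgroup.map_subtype_le _
  have hnle : ¬ ((S : Subgroup SL2) ≤ (C : Subgroup SL2)) := by
    intro h
    have hd := Subgroup.card_dvd_of_le h
    rw [hS, ← pow_succ'] at hd
    have := (Nat.prime_two.pow_dvd_iff_le_factorization Nat.card_pos.ne').1 hd
    omega
  have hinf : Nat.card ((S : Subgroup SL2) ⊓ (C : Subgroup SL2) : Subgroup SL2) = 2 ^ a := by
    obtain ⟨y, hyS, hyC⟩ := SetLike.not_le_iff_exists.1 hnle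
    have hya : Anti y := (mem_D_iff_C_or_anti hj (hle hyS)).resolve_left hyC
    let K := ((S : Subgroup SL2) ⊓ (C : Subgroup SL2) : Subgroup SL2)
    let f : K × Bool → (S : Subgroup SL2) := fun z =>
      ⟨cond z.2 (y * z.1.1) z.1.1, by
        cases z.2
        · exact z.1.2.1
        · exact mul_mem hyS z.1.2.1⟩
    have hf : Function.Bijective f := by
      refine ⟨?_, fun x => ?_⟩
      · rintro ⟨z, i⟩ ⟨z', i'⟩ h
        have h' := congrArg Subtype.val h
        cases i <;> cases i' <;> simp [f] at h'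
        · rw [h']
        · exact absurd (((C : Subgroup SL2).mul_mem_cancel_right z'.2.2).1 (h' ▸ z.2.2)) hyC
        · exact absurd (((C : Subgroup SL2).mul_mem_cancel_right z.2.2).1 (h' ▸ z'.2.2)) hyC
        · rw [h']
      · rcases mem_D_iff_C_or_anti hj (hle x.2) with h | h
        · exact ⟨(⟨x.1, x.2, h⟩, false), rfl⟩
        · exact ⟨(⟨y⁻¹ * x.1, (S : Subgroup SL2).mul_mem ((S : Subgroup SL2).inv_mem hyS) x.2, hya.mem_C_of h⟩, true),
            Subtype.ext (mul_inv_cancel_left y x.1)⟩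
    have hk := Nat.card_eq_of_bijective f hf
    rw [Nat.card_prod, Nat.card_eq_fintype_card (α := Bool), Fintype.card_bool, hS] at hk
    show Nat.card K = 2 ^ a
    omega
  have hbound : ∀ k, 2 ^ k ∣ Nat.card (C : Subgroup SL2) ↔ k ≤ a := fun k =>
    Nat.prime_two.pow_dvd_iff_le_factorization Nat.card_pos.ne'
  refine ⟨S, hle, hnle, a, (hbound 2).1 ?_, hS, hinf, fun h => (hbound 3).1 ?_, fun h => ?_⟩
  · rw [hC]; split_ifs <;> omega
  · rw [hC]; split_ifs <;> omega
  · have h4 : 2 ≤ a := (hbound 2).1 (by rw [hC]; split_ifs <;> omega)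
    by_contra hne
    have := (hbound 3).2 (by omega)
    rw [hC] at this
    split_ifs at this <;> omega

theorem eq_pm_of_sq_negOne (h2 : (2 : F) ≠ 0) {x : SL2} (hx : x ∈ (C : Subgroup SL2))
    (ht : x.1.trace = 0) : x = w ∨ x = negOne * w := by
  have hxw := C_comm h2 hx w_mem_C
  have hsq : (x * (w : SL2)⁻¹) * (x * (w : SL2)⁻¹) = 1 := by
    calc (x * (w : SL2)⁻¹) * (x * (w : SL2)⁻¹) = x * x * ((w : SL2) * w)⁻¹ := by
          rw [mul_inv_rev]
          have : Commute (w : SL2)⁻¹ x := (show Commute (w : SL2) x from hxw.symm).inv_left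
          calc x * (w : SL2)⁻¹ * (x * (w : SL2)⁻¹) = x * ((w : SL2)⁻¹ * x) * (w : SL2)⁻¹ := by group
            _ = x * x * ((w : SL2)⁻¹ * (w : SL2)⁻¹) := by rw [this.eq]; group
      _ = 1 := by rw [(mul_self_eq_negOne_iff x).2 ht, w_mul_self, mul_inv_cancel]
  rcases eq_or_eq_negOne_of_mul_self h2 hsq with h | h
  · exact Or.inl (mul_inv_eq_one.1 h)
  · exact Or.inr (mul_inv_eq_iff_eq_mul.1 h)

theorem centralizer_two [Fintype F] (hodd : Odd (Fintype.card F)) (S : Sylow 2 SL2)
    (hle : (S : Subgroup SL2) ≤ D) (hnle : ¬ ((S : Subgroup SL2) ≤ (C : Subgroup SL2))) {a : ℕ}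
    (ha : 2 ≤ a) (hinf : Nat.card ((S : Subgroup SL2) ⊓ (C : Subgroup SL2) : Subgroup SL2) = 2 ^ a) :
    Subgroup.centralizer ((S : Subgroup SL2) : Set SL2) = Subgroup.center SL2 := by
  classical
  have h2 := SL2BorelTorus.two_ne_zero_of_odd_card hodd
  obtain ⟨j, hj⟩ := exists_anti (F := F) h2
  obtain ⟨y, hyS, hyC⟩ := SetLike.not_le_iff_exists.1 hnle
  have hya : Anti y := (mem_D_iff_C_or_anti hj (hle hyS)).resolve_left hyC
  obtain ⟨z, hz, hzs⟩ : ∃ z ∈ ((S : Subgroup SL2) ⊓ (C : Subgroup SL2) : Subgroup SL2),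
      ¬ IsScalar z.1 := by
    by_contra hcon
    simp only [not_exists, not_and, not_not] at hcon
    have h4 : 4 ≤ 2 ^ a := by
      calc 4 = 2 ^ 2 := rfl
        _ ≤ 2 ^ a := Nat.pow_le_pow_right two_pos ha
    have hsub : Nat.card ((S : Subgroup SL2) ⊓ (C : Subgroup SL2) : Subgroup SL2) ≤
        Nat.card ({1, negOne} : Set SL2) := by
      refine Nat.card_mono (Set.toFinite _) fun x hx => ?_
      rcases SL2Tori.val_eq_pm_one (hcon x hx) with e | e
      · exact Or.inl (Subtype.ext e)
      · exact Or.inr (Subtype.ext (e.trans coe_negOne.symm))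
    rw [hinf, Nat.card_coe_set_eq, Set.ncard_pair (negOne_ne_one h2).symm] at hsub
    omega
  refine le_antisymm (fun x hx => ?_) (Subgroup.center_le_centralizer _)
  rw [Subgroup.mem_centralizer_iff] at hx
  have hxC : x ∈ (C : Subgroup SL2) := by
    have h1 : x ∈ SL2Tori.torus z := Subgroup.mem_centralizer_singleton_iff.2 (hx z hz.1).symm
    rwa [SL2Tori.torus_eq (not_scalar_w h2) hz.2 hzs, torus_w] at h1
  have h1 := hya.conj_C hxC
  rw [hx y hyS, mul_inv_cancel_right, eq_inv_iff_mul_eq_one] at h1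
  exact mem_center_iff.2 (eq_or_eq_negOne_of_mul_self h2 h1)

theorem normalizer_two_large [Fintype F] (hodd : Odd (Fintype.card F)) (S : Sylow 2 SL2)
    (hle : (S : Subgroup SL2) ≤ D) (hnle : ¬ ((S : Subgroup SL2) ≤ (C : Subgroup SL2))) {a : ℕ}
    (ha : 3 ≤ a) (hinf : Nat.card ((S : Subgroup SL2) ⊓ (C : Subgroup SL2) : Subgroup SL2) = 2 ^ a) :
    Subgroup.normalizer ((S : Subgroup SL2) : Set SL2) = (S : Subgroup SL2) := by
  classical
  have h2 := SL2BorelTorus.two_ne_zero_of_odd_card hodd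
  obtain ⟨j, hj⟩ := exists_anti (F := F) h2
  obtain ⟨y, hyS, hyC⟩ := SetLike.not_le_iff_exists.1 hnle
  have hya : Anti y := (mem_D_iff_C_or_anti hj (hle hyS)).resolve_left hyC
  obtain ⟨z, hz⟩ : ∃ z : ((S : Subgroup SL2) ⊓ (C : Subgroup SL2) : Subgroup SL2),
      orderOf z = 2 ^ a := by
    haveI := isCyclic_C (F := F) h2
    haveI : IsCyclic ((S : Subgroup SL2) ⊓ (C : Subgroup SL2) : Subgroup SL2) :=
      isCyclic_of_injective (Subgroup.inclusion inf_le_right) (Subgroup.inclusion_injective inf_le_right)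
    exact hinf ▸ IsCyclic.exists_ofOrder_eq_natCard
  have h8 : 8 ≤ orderOf z.1 := by
    rw [Subgroup.orderOf_coe, hz]
    calc 8 = 2 ^ 3 := rfl
      _ ≤ 2 ^ a := Nat.pow_le_pow_right two_pos ha
  have key : ∀ n ∈ Subgroup.normalizer ((S : Subgroup SL2) : Set SL2),
      n ∈ (C : Subgroup SL2) → n ∈ (S : Subgroup SL2) := by
    intro n hn hnC
    have h1 := (Subgroup.mem_normalizer_iff.1 hn y).1 hyS
    have h3 : y * n⁻¹ = n * y := by
      have h := hya.conj_C (inv_mem hnC)
      rwa [inv_inv, mul_inv_eq_iff_eq_mul] at h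
    rw [mul_assoc, h3, ← mul_assoc] at h1
    have hsq : n * n ∈ (S : Subgroup SL2) := (mul_mem_cancel_right hyS).1 h1
    obtain ⟨k, hk⟩ := S.isPGroup' ⟨n * n, hsq⟩
    have hn2 : n ^ 2 ^ (k + 1) = 1 := by
      rw [pow_succ', pow_mul, pow_two]
      exact congrArg Subtype.val hk
    have hZ : IsPGroup 2 (Subgroup.zpowers n) := by
      rintro ⟨x, hx⟩
      obtain ⟨i, rfl⟩ := Subgroup.mem_zpowers_iff.1 hx
      refine ⟨k + 1, Subtype.ext ?_⟩
      show (n ^ i) ^ 2 ^ (k + 1) = 1
      rw [← zpow_natCast, ← zpow_mul, mul_comm, zpow_mul, zpow_natCast, hn2, one_zpow]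
    have hsup := S.is_maximal' (IsPGroup.to_sup_of_normal_left' S.isPGroup' hZ
      ((Subgroup.zpowers_le).2 hn)) le_sup_left
    rw [← hsup]
    exact Subgroup.mem_sup_right (Subgroup.mem_zpowers n)
  refine le_antisymm (fun n hn => ?_) Subgroup.le_normalizer
  have hz' : n * z.1 * n⁻¹ ∈ (C : Subgroup SL2) := by
    rcases mem_D_iff_C_or_anti hj (hle ((Subgroup.mem_normalizer_iff.1 hn z.1).1 z.2.1)) with h | h
    · exact h
    · exfalso
      have h4 : orderOf (n * z.1 * n⁻¹) ∣ 4 := by
        refine orderOf_dvd_of_pow_eq_one ?_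
        rw [show (4 : ℕ) = 2 * 2 from rfl, pow_mul, pow_two (n * z.1 * n⁻¹),
          (mul_self_eq_negOne_iff _).2 h.1, pow_two, negOne_mul_self]
      rw [← MulAut.conj_apply, MulEquiv.orderOf_eq] at h4
      have := Nat.le_of_dvd (by norm_num) h4
      omega
  have hzs : ¬ IsScalar z.1.1 := fun h => by
    have := Nat.le_of_dvd two_pos (orderOf_dvd_of_pow_eq_one
      (show z.1 ^ 2 = 1 by rw [pow_two, mul_self_of_scalar h]))
    omega
  have hzs' : ¬ IsScalar (n * z.1 * n⁻¹).1 := fun h => by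
    have h' := mul_self_of_scalar h
    have : z.1 * z.1 = 1 := by
      apply (MulAut.conj n).injective
      simpa [MulAut.conj_apply, mul_assoc] using h'
    have := Nat.le_of_dvd two_pos (orderOf_dvd_of_pow_eq_one (show z.1 ^ 2 = 1 by rw [pow_two, this]))
    omega
  -- `n` normalises the torus, hence sends `w` to `±w`
  have hwz : (w : SL2) * z.1 = z.1 * w := C_comm h2 w_mem_C z.2.2
  have hnw : n * w * n⁻¹ ∈ (C : Subgroup SL2) := by
    have hmem : n * w * n⁻¹ ∈ SL2Tori.torus (n * z.1 * n⁻¹) := by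
      rw [Subgroup.mem_centralizer_singleton_iff]
      calc n * w * n⁻¹ * (n * z.1 * n⁻¹) = n * (w * z.1) * n⁻¹ := by group
        _ = n * z.1 * n⁻¹ * (n * w * n⁻¹) := by rw [hwz]; group
    rwa [SL2Tori.torus_eq (not_scalar_w h2) hz' hzs', torus_w] at hmem
  have hnD : n ∈ (D : Subgroup SL2) := by
    rw [mem_D]
    rcases eq_pm_of_sq_negOne h2 hnw (by rw [SL2Tori.trace_conj, trace_w]) with h | h
    · exact Or.inl (mul_inv_eq_iff_eq_mul.1 h)
    · exact Or.inr ((mul_inv_eq_iff_eq_mul.1 h).trans (mul_assoc _ _ _))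
  rcases mem_D_iff_C_or_anti hj hnD with h | h
  · exact key n hn h
  · have hmem := key (y⁻¹ * n) (mul_mem (inv_mem (Subgroup.le_normalizer hyS)) hn) (hya.mem_C_of h)
    have := mul_mem hyS hmem
    rwa [mul_inv_cancel_left] at this

theorem normalizer_two_small [Fintype F] (hodd : Odd (Fintype.card F)) (S : Sylow 2 SL2)
    (hle : (S : Subgroup SL2) ≤ D) (hnle : ¬ ((S : Subgroup SL2) ≤ (C : Subgroup SL2)))
    (hcard : Nat.card (S : Subgroup SL2) = 8)
    (hinf : Nat.card ((S : Subgroup SL2) ⊓ (C : Subgroup SL2) : Subgroup SL2) = 4) :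
    Nat.card (Subgroup.normalizer ((S : Subgroup SL2) : Set SL2)) = 3 * Nat.card (S : Subgroup SL2) := by
  classical
  have h2 := SL2BorelTorus.two_ne_zero_of_odd_card hodd
  obtain ⟨j, hj⟩ := exists_anti (F := F) h2
  obtain ⟨y, hyS, hyC⟩ := SetLike.not_le_iff_exists.1 hnle
  have hya : Anti y := (mem_D_iff_C_or_anti hj (hle hyS)).resolve_left hyC
  have hword : Subgroup.zpowers (w : SL2) = ((S : Subgroup SL2) ⊓ (C : Subgroup SL2)) := by
    have hne : ∃ z ∈ ((S : Subgroup SL2) ⊓ (C : Subgroup SL2) : Subgroup SL2), z.1.trace = 0 := by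
      haveI := isCyclic_C (F := F) h2
      haveI : IsCyclic ((S : Subgroup SL2) ⊓ (C : Subgroup SL2) : Subgroup SL2) :=
        isCyclic_of_injective (Subgroup.inclusion inf_le_right)
          (Subgroup.inclusion_injective inf_le_right)
      obtain ⟨z, hz⟩ := IsCyclic.exists_ofOrder_eq_natCard
        (α := ((S : Subgroup SL2) ⊓ (C : Subgroup SL2) : Subgroup SL2))
      rw [hinf] at hz
      refine ⟨z.1, z.2, (mul_self_eq_negOne_iff z.1).1 ?_⟩
      have h4 : (z.1 * z.1) * (z.1 * z.1) = 1 := by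
        have := congrArg Subtype.val (hz ▸ pow_orderOf_eq_one z)
        simpa [pow_succ, mul_assoc] using this
      refine (eq_or_eq_negOne_of_mul_self h2 h4).resolve_left fun h => ?_
      have h' : z ^ 2 = 1 := Subtype.ext (by rw [SubmonoidClass.coe_pow, pow_two]; exact h)
      have := orderOf_dvd_of_pow_eq_one h'
      rw [hz] at this
      exact absurd this (by norm_num)
    obtain ⟨z, hz, htz⟩ := hne
    have hwS : (w : SL2) ∈ (S : Subgroup SL2) := by
      rcases eq_pm_of_sq_negOne h2 hz.2 htz with h | h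
      · exact h ▸ hz.1
      · have hzz : z * z * z = (w : SL2) := by
          rw [(mul_self_eq_negOne_iff z).2 htz, h, ← mul_assoc, negOne_mul_self, one_mul]
        exact hzz ▸ mul_mem (mul_mem hz.1 hz.1) hz.1
    refine Subgroup.eq_of_le_of_card_ge (Subgroup.zpowers_le.2 ⟨hwS, w_mem_C⟩) ?_
    rw [hinf, Nat.card_zpowers]
    refine (orderOf_eq_prime_pow (p := 2) (n := 1) ?_ ?_).ge
    · rw [pow_one, pow_two, w_mul_self]; exact negOne_ne_one h2
    · rw [show 2 ^ (1 + 1) = 2 * 2 from rfl, pow_mul, pow_two (w : SL2), w_mul_self, pow_two,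
        negOne_mul_self]
  have hwS : (w : SL2) ∈ (S : Subgroup SL2) := (hword ▸ Subgroup.mem_zpowers (w : SL2) : _).1
  have hgen : (S : Subgroup SL2) = Subgroup.closure {(w : SL2), y} := by
    refine le_antisymm (fun x hx => ?_) ((Subgroup.closure_le _).2 (by
      rintro x (rfl | rfl)
      · exact hwS
      · exact hyS))
    have hzle : Subgroup.zpowers (w : SL2) ≤ Subgroup.closure {(w : SL2), y} :=
      Subgroup.zpowers_le.2 (Subgroup.subset_closure (Or.inl rfl))
    rcases mem_D_iff_C_or_anti hj (hle hx) with h | h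
    · exact hzle (by rw [hword]; exact ⟨hx, h⟩)
    · have h1 : y⁻¹ * x ∈ Subgroup.closure {(w : SL2), y} :=
        hzle (by rw [hword]; exact ⟨(S : Subgroup SL2).mul_mem ((S : Subgroup SL2).inv_mem hyS) hx, hya.mem_C_of h⟩)
      have := mul_mem (Subgroup.subset_closure (k := {(w : SL2), y}) (Or.inr rfl)) h1
      rwa [mul_inv_cancel_left] at this
  obtain ⟨u, hu3, huw, -, huy⟩ := hya.exists_cycle h2
  have huN : u ∈ Subgroup.normalizer ((S : Subgroup SL2) : Set SL2) := by
    have hsub : (S : Subgroup SL2).map (MulAut.conj u).toMonoidHom ≤ (S : Subgroup SL2) := by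
      rw [Subgroup.map_le_iff_le_comap]
      conv_lhs => rw [hgen]
      rw [Subgroup.closure_le]
      rintro x (rfl | rfl)
      · show u * w * u⁻¹ ∈ (S : Subgroup SL2)
        rw [huw]
        exact mul_mem hwS hyS
      · show u * x * u⁻¹ ∈ (S : Subgroup SL2)
        rw [huy]
        exact hwS
    exact FourGroup.mem_normalizer_of_map (Subgroup.eq_of_le_of_card_ge hsub
      (by rw [Subgroup.card_map_of_injective (MulAut.conj u).injective]))
  have h3 : 3 ∣ Nat.card (Subgroup.normalizer ((S : Subgroup SL2) : Set SL2)) := by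
    have hu1 : u ≠ 1 := fun e => by
      rw [e, one_mul, inv_one, mul_one] at huy
      exact hyC (huy ▸ w_mem_C)
    haveI : Fact (Nat.Prime 3) := ⟨Nat.prime_three⟩
    have ho : orderOf (⟨u, huN⟩ : Subgroup.normalizer ((S : Subgroup SL2) : Set SL2)) = 3 := by
      rw [← Subgroup.orderOf_coe]; exact orderOf_eq_prime hu3 hu1
    exact ho ▸ orderOf_dvd_natCard _
  -- at most 48 elements
  have hbound : Nat.card (Subgroup.normalizer ((S : Subgroup SL2) : Set SL2)) ≤ 48 := by
    let N := Subgroup.normalizer ((S : Subgroup SL2) : Set SL2)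
    let Sset : Finset SL2 := Finset.univ.filter fun x => x ∈ (S : Subgroup SL2)
    let A : Finset SL2 := Sset \ {1, negOne}
    let f : N → SL2 × SL2 := fun n => (n.1 * w * n.1⁻¹, n.1 * y * n.1⁻¹)
    let B : Finset (SL2 × SL2) := (A ×ˢ A).filter fun p => p.2 ≠ p.1 ∧ p.2 ≠ negOne * p.1
    have hSc : Sset.card = 8 := by
      rw [← hcard, Nat.card_eq_fintype_card, Fintype.card_subtype]
    have hA : A.card = 6 := by
      rw [Finset.card_sdiff_of_subset, hSc, Finset.card_pair (negOne_ne_one h2).symm]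
      intro x hx
      simp only [Finset.mem_insert, Finset.mem_singleton] at hx
      simp only [Sset, Finset.mem_filter, Finset.mem_univ, true_and]
      rcases hx with rfl | rfl
      · exact one_mem _
      · rw [← w_mul_self]; exact mul_mem hwS hwS
    have hnA : ∀ x : SL2, x.1.trace = 0 → x ∈ (S : Subgroup SL2) → x ∈ A := fun x ht hx => by
      simp only [A, Sset, Finset.mem_sdiff, Finset.mem_filter, Finset.mem_univ, true_and,
        Finset.mem_insert, Finset.mem_singleton, not_or]
      exact ⟨hx, (ne_of_trace_zero h2 ht).1, (ne_of_trace_zero h2 ht).2⟩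
    have hB : B.card ≤ 24 := by
      have hfib : ∀ b ∈ A, (B.filter fun p => p.1 = b).card ≤ 4 := by
        intro b hb
        have hb1 := Finset.mem_sdiff.1 hb
        have hbneg : negOne * b ∈ A := by
          simp only [A, Sset, Finset.mem_sdiff, Finset.mem_filter, Finset.mem_univ, true_and,
            Finset.mem_insert, Finset.mem_singleton, not_or] at hb ⊢
          refine ⟨mul_mem (w_mul_self (F := F) ▸ mul_mem hwS hwS) hb.1, fun e => hb.2.2 ?_,
            fun e => hb.2.1 ?_⟩
          · have := congrArg (fun t => (negOne : SL2) * t) e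
            simpa [← mul_assoc, negOne_mul_self] using this
          · exact mul_eq_left.1 e
        have hne : b ≠ negOne * b := fun e => negOne_ne_one h2 (mul_eq_right.1 e.symm)
        calc (B.filter fun p => p.1 = b).card ≤ ((A \ {b, negOne * b}).image fun c => (b, c)).card := by
              refine Finset.card_le_card fun p hp => ?_
              simp only [B, Finset.mem_filter, Finset.mem_product] at hp
              obtain ⟨⟨⟨-, hp2⟩, hn1, hn2⟩, rfl⟩ := hp
              refine Finset.mem_image.2 ⟨p.2, Finset.mem_sdiff.2 ⟨hp2, ?_⟩, rfl⟩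
              simp only [Finset.mem_insert, Finset.mem_singleton, not_or]
              exact ⟨hn1, hn2⟩
          _ ≤ (A \ {b, negOne * b}).card := Finset.card_image_le
          _ = 4 := by
              rw [Finset.card_sdiff_of_subset, hA, Finset.card_pair hne]
              intro x hx
              simp only [Finset.mem_insert, Finset.mem_singleton] at hx
              rcases hx with rfl | rfl
              · exact hb
              · exact hbneg
      calc B.card = ∑ b ∈ A, (B.filter fun p => p.1 = b).card :=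
            Finset.card_eq_sum_card_fiberwise fun p hp =>
              (Finset.mem_product.1 (Finset.mem_filter.1 hp).1).1
        _ ≤ ∑ _b ∈ A, 4 := Finset.sum_le_sum hfib
        _ = 24 := by rw [Finset.sum_const, hA, smul_eq_mul]
    have hf : ∀ n ∈ (Finset.univ : Finset N), f n ∈ B := by
      intro n _
      have hw' := (Subgroup.mem_normalizer_iff.1 n.2 w).1 hwS
      have hy' := (Subgroup.mem_normalizer_iff.1 n.2 y).1 hyS
      refine Finset.mem_filter.2 ⟨Finset.mem_product.2
        ⟨hnA _ (by rw [SL2Tori.trace_conj, trace_w]) hw',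
          hnA _ (by rw [SL2Tori.trace_conj, hya.1]) hy'⟩, ?_, ?_⟩
      · intro e
        exact hyC ((mul_left_cancel (mul_right_cancel e)) ▸ w_mem_C)
      · intro e
        have e0 : n.1 * y * n.1⁻¹ = negOne * (n.1 * w * n.1⁻¹) := e
        have e' : n.1 * y * n.1⁻¹ = n.1 * (negOne * w) * n.1⁻¹ := by
          rw [← mul_assoc n.1 negOne, ← negOne_comm n.1]
          simpa [mul_assoc] using e0
        exact hyC ((mul_left_cancel (mul_right_cancel e')) ▸ mul_mem negOne_mem_C w_mem_C)
    have hfib2 : ∀ b ∈ B, (Finset.univ.filter fun n => f n = b).card ≤ 2 := by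
      intro b _
      by_cases hne : ∃ n, f n = b
      · obtain ⟨n₀, rfl⟩ := hne
        refine le_trans (Finset.card_le_card_of_injOn (fun n => n₀.1⁻¹ * n.1) (t := {1, negOne}) ?_ ?_)
          Finset.card_le_two
        · intro n hn
          simp only [Finset.coe_filter, Finset.mem_univ, true_and, Set.mem_ofPred_eq, f,
            Prod.mk.injEq] at hn
          have hc : n₀.1⁻¹ * n.1 ∈ (C : Subgroup SL2) := by
            rw [mem_C]
            calc n₀.1⁻¹ * n.1 * w = n₀.1⁻¹ * (n.1 * w * n.1⁻¹) * n.1 := by group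
              _ = w * (n₀.1⁻¹ * n.1) := by rw [hn.1]; group
          have hcy : y * (n₀.1⁻¹ * n.1) * y⁻¹ = n₀.1⁻¹ * n.1 := by
            rw [mul_inv_eq_iff_eq_mul]
            calc y * (n₀.1⁻¹ * n.1) = n₀.1⁻¹ * (n₀.1 * y * n₀.1⁻¹) * n.1 := by group
              _ = n₀.1⁻¹ * n.1 * y := by rw [← hn.2]; group
          rw [hya.conj_C hc, inv_eq_iff_mul_eq_one] at hcy
          simp only [Finset.coe_insert, Finset.coe_singleton, Set.mem_insert_iff, Set.mem_singleton_iff]
          exact eq_or_eq_negOne_of_mul_self h2 hcy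
        · intro n _ n' _ h
          exact Subtype.ext (mul_left_cancel h)
      · rw [Finset.filter_eq_empty_iff.2 fun n _ hn => hne ⟨n, hn⟩]
        simp
    rw [Nat.card_eq_fintype_card, ← Finset.card_univ, Finset.card_eq_sum_card_fiberwise hf]
    calc ∑ b ∈ B, (Finset.univ.filter fun n => f n = b).card ≤ ∑ _b ∈ B, 2 := Finset.sum_le_sum hfib2
      _ ≤ 48 := by rw [Finset.sum_const, smul_eq_mul]; omega
  obtain ⟨m, hm⟩ : Nat.card (S : Subgroup SL2) ∣
      Nat.card (Subgroup.normalizer ((S : Subgroup SL2) : Set SL2)) :=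
    Subgroup.card_dvd_of_le Subgroup.le_normalizer
  have hnd : ¬ 2 ∣ m := by
    rintro ⟨k, rfl⟩
    have h16 : 2 ^ 4 ∣ Nat.card SL2 :=
      dvd_trans ⟨k, by rw [hm, hcard]; ring⟩
        (Subgroup.card_subgroup_dvd_card (Subgroup.normalizer ((S : Subgroup SL2) : Set SL2)))
    have := (Nat.prime_two.pow_dvd_iff_le_factorization Nat.card_pos.ne').1 h16
    have hS := S.card_eq_multiplicity
    rw [hcard, show (8 : ℕ) = 2 ^ 3 from rfl] at hS
    have := Nat.pow_right_injective (le_refl 2) hS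
    omega
  rw [hm, hcard] at hbound h3 ⊢
  omega

theorem two_sylow [Fintype F] (hodd : Odd (Fintype.card F)) (S : Sylow 2 SL2) :
    Subgroup.centralizer ((S : Subgroup SL2) : Set SL2) = Subgroup.center SL2 ∧
    ((Fintype.card F % 8 = 1 ∨ Fintype.card F % 8 = 7) →
      Subgroup.normalizer ((S : Subgroup SL2) : Set SL2) = (S : Subgroup SL2)) ∧
    ((Fintype.card F % 8 = 3 ∨ Fintype.card F % 8 = 5) →
      Nat.card (Subgroup.normalizer ((S : Subgroup SL2) : Set SL2)) = 3 * Nat.card S) := by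
  obtain ⟨S₀, hle, hnle, a, ha, hcard, hinf, hbig, hsmall⟩ := exists_sylow_le_D (F := F) hodd
  obtain ⟨g, hg⟩ := sylow_conj_eq S₀ S
  have hN : Nat.card (Subgroup.normalizer ((S : Subgroup SL2) : Set SL2)) =
      Nat.card (Subgroup.normalizer ((S₀ : Subgroup SL2) : Set SL2)) := by
    have k1 := Subgroup.card_mul_index (Subgroup.normalizer ((S : Subgroup SL2) : Set SL2))
    have k2 := Subgroup.card_mul_index (Subgroup.normalizer ((S₀ : Subgroup SL2) : Set SL2))
    have e1 : Nat.card (Sylow 2 SL2) = (Subgroup.normalizer ((S : Subgroup SL2) : Set SL2)).index :=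
      Sylow.card_eq_index_normalizer S
    have e2 : Nat.card (Sylow 2 SL2) = (Subgroup.normalizer ((S₀ : Subgroup SL2) : Set SL2)).index :=
      Sylow.card_eq_index_normalizer S₀
    rw [← e1] at k1
    rw [← e2] at k2
    exact Nat.eq_of_mul_eq_mul_right Nat.card_pos (k1.trans k2.symm)
  have hS : Nat.card S = Nat.card (S₀ : Subgroup SL2) := by
    rw [S.card_eq_multiplicity, S₀.card_eq_multiplicity]
  refine ⟨?_, fun h => ?_, fun h => ?_⟩
  · refine (Subgroup.eq_of_le_of_card_ge (Subgroup.center_le_centralizer _) ?_).symm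
    rw [hg, (card_centralizer_map (MulAut.conj g) (S₀ : Subgroup SL2)).1,
      centralizer_two hodd S₀ hle hnle ha hinf]
  · refine (Subgroup.eq_of_le_of_card_ge Subgroup.le_normalizer ?_).symm
    rw [hN, normalizer_two_large hodd S₀ hle hnle (hbig h) hinf, hS]
  · have h' := hsmall h
    subst h'
    rw [hN, normalizer_two_small hodd S₀ hle hnle hcard hinf, hS]

end two

end Cfsg.Agent.SL2SylowNormalizer
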