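/-
Characters of degree prime to `ℓ` of the Sylow normalizers of SL_2(q), q odd.
-/
import Cfsg.Agent.Lib.Classical.SL2SylowNormalizer
import Cfsg.Agent.Lib.Classical.SL2McKayTools
import Cfsg.Agent.Lib.Classical.InvertedTorus
import Cfsg.Agent.Lib.PStable.SL2Basic

set_option autoImplicit false
set_option linter.style.haveILetI false
set_option linter.unusedSectionVars false

namespace Cfsg.Agent.SL2McKay

open Matrix TwoByTwo

universe u

section generic

variable {G : Type u} [Group G] [Finite G] {ℓ : ℕ} [Fact ℓ.Prime]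

theorem normalizer_conj (P P₀ : Sylow ℓ G) :
    Nonempty (Subgroup.normalizer ((P₀ : Subgroup G) : Set G) ≃* Subgroup.normalizer ((P : Subgroup G) : Set G)) := by
  obtain ⟨g, hg⟩ := SL2SylowNormalizer.sylow_conj_eq P₀ P
  rw [hg, ← Subgroup.map_equiv_normalizer_eq]
  exact ⟨Subgroup.equivMapOfInjective _ _ (MulAut.conj g).injective⟩

theorem count_conj (P P₀ : Sylow ℓ G) :
    countPrime ℓ (Subgroup.normalizer ((P : Subgroup G) : Set G)) =
      countPrime ℓ (Subgroup.normalizer ((P₀ : Subgroup G) : Set G)) := by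
  obtain ⟨e⟩ := normalizer_conj P P₀
  exact (countPrime_congr e ℓ).symm

theorem count_sylow_abelian (P : Sylow ℓ G) (hab : ∀ a ∈ (P : Subgroup G), ∀ b ∈ (P : Subgroup G), a * b = b * a) :
    countPrime ℓ (Subgroup.normalizer ((P : Subgroup G) : Set G)) =
      Nat.card (ConjClasses (Subgroup.normalizer ((P : Subgroup G) : Set G))) := by
  haveI : ((P : Subgroup G).subgroupOf (Subgroup.normalizer ((P : Subgroup G) : Set G))).Normal :=
    Subgroup.normal_in_normalizer
  refine count_of_abelian_normal ((P : Subgroup G).subgroupOf _)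
    ⟨⟨fun a b => Subtype.ext (Subtype.ext (hab a.1.1 a.2 b.1.1 b.2))⟩⟩ fun h => P.not_dvd_index (h.trans ?_)
  exact Dvd.intro _ (Subgroup.relIndex_mul_index (Subgroup.le_normalizer (H := (P : Subgroup G))))

theorem exists_sylow_in (T : Subgroup G) (hℓ : ℓ ∣ Nat.card T) (hidx : ¬ ℓ ∣ T.index)
    (hcomm : ∀ s ∈ T, ∀ t ∈ T, s * t = t * s)
    (hcent : ∀ x ∈ T, orderOf x = ℓ → Subgroup.centralizer ({x} : Set G) = T) :
    ∃ P₀ : Sylow ℓ G, (P₀ : Subgroup G) ≤ T ∧
      Subgroup.normalizer ((P₀ : Subgroup G) : Set G) = Subgroup.normalizer (T : Set G) := by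
  obtain ⟨P₀, hP₀⟩ : ∃ P₀ : Sylow ℓ G, (P₀ : Subgroup G) ≤ T := by
    obtain ⟨Q⟩ := (inferInstance : Nonempty (Sylow ℓ T))
    refine ⟨Sylow.ofCard ((Q : Subgroup T).map T.subtype) ?_, ?_⟩
    · rw [Subgroup.card_map_of_injective T.subtype_injective, Q.card_eq_multiplicity,
        ← Subgroup.card_mul_index T, Nat.factorization_mul Nat.card_pos.ne'
          (by intro h; exact hidx (h ▸ dvd_zero ℓ)), Finsupp.add_apply,
        Nat.factorization_eq_zero_of_not_dvd hidx, add_zero]
    · exact Subgroup.map_subtype_le _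
  obtain ⟨h1, -, h3⟩ := SL2SylowNormalizer.sylow_in_torus ℓ T hℓ hidx hcomm hcent P₀
  have hC : Subgroup.centralizer ((P₀ : Subgroup G) : Set G) = T :=
    (Subgroup.eq_of_le_of_card_ge
      (fun t ht => Subgroup.mem_centralizer_iff.2 fun y hy => hcomm y (hP₀ hy) t ht) h1.le).symm
  refine ⟨P₀, hP₀, Subgroup.eq_of_le_of_card_ge (fun n hn => ?_) h3.symm.le⟩
  refine Subgroup.mem_normalizer_fintype fun t ht => ?_
  rw [SetLike.mem_coe, ← hC, Subgroup.mem_centralizer_iff] at ht ⊢
  intro y hy
  have h2 : n⁻¹ * y * n ∈ (P₀ : Subgroup G) := by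
    refine (Subgroup.mem_normalizer_iff.1 hn (n⁻¹ * y * n)).2 ?_
    rw [show n * (n⁻¹ * y * n) * n⁻¹ = y by group]
    exact hy
  have h4 := ht _ h2
  calc y * (n * t * n⁻¹) = n * ((n⁻¹ * y * n) * t) * n⁻¹ := by group
    _ = n * t * n⁻¹ * y := by rw [h4]; group

theorem fix_of_cube {X : Type*} [DecidableEq X] {s : Finset X} (hs : s.card ≤ 2) (f : X → X) {a : X}
    (h0 : a ∈ s) (h1 : f a ∈ s) (h2 : f (f a) ∈ s) (h3 : f (f (f a)) = a) : f a = a := by
  by_contra hne
  have hne2 : f (f a) ≠ a := fun e => hne (by rw [e] at h3; exact h3)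
  have hne3 : f (f a) ≠ f a := fun e => hne (by rw [e, e] at h3; exact h3)
  have := Finset.card_le_card (Finset.insert_subset h0 (Finset.insert_subset h1 (Finset.singleton_subset_iff.2 h2)))
  rw [Finset.card_eq_three.2 ⟨a, f a, f (f a), Ne.symm hne, hne2.symm, hne3.symm, rfl⟩] at this
  omega

end generic

variable {F : Type u} [Field F] [Fintype F]

local notation "SL2" => Matrix.SpecialLinearGroup (Fin 2) F
local notation "Bor" => Subgroup.comap Matrix.SpecialLinearGroup.toGL (Cfsg.upperTriangularGL 2 F)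

/-- The unitriangular subgroup as the image of the field. -/
def uppHom : Multiplicative F →* SL2 where
  toFun a := PStable.upp a.toAdd
  map_one' := PStable.upp_zero
  map_mul' a b := (PStable.upp_mul _ _).symm

theorem count_char (hodd : Odd (Fintype.card F)) (p : ℕ) [Fact p.Prime] [CharP F p] (S : Sylow p SL2) :
    countPrime p (Subgroup.normalizer ((S : Subgroup SL2) : Set SL2)) = Fintype.card F + 3 := by
  obtain ⟨n, -, hn⟩ := FiniteField.card F p
  have hcardU : Nat.card (uppHom (F := F)).range = Fintype.card F := by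
    rw [← Nat.card_congr (MonoidHom.ofInjective (f := uppHom (F := F))
      (fun a b h => Multiplicative.toAdd.injective (PStable.upp_injective h))).toEquiv, Nat.card_eq_fintype_card, Fintype.card_multiplicative]
  have hfac : (Nat.card SL2).factorization p = n := by
    rw [card_sl_two, Nat.card_eq_fintype_card, Nat.factorization_mul Fintype.card_ne_zero
      (Nat.sub_ne_zero_of_lt (Nat.one_lt_pow two_ne_zero (Fintype.one_lt_card (α := F)))),
      Finsupp.add_apply]
    have hnd : ¬ p ∣ Fintype.card F ^ 2 - 1 := fun h => by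
      have hq : p ∣ Fintype.card F ^ 2 := dvd_pow (hn ▸ dvd_pow_self p n.ne_zero) two_ne_zero
      have h3 := Nat.dvd_sub hq h
      rw [Nat.sub_sub_self (Nat.one_le_pow _ _ Fintype.card_pos)] at h3
      exact (Fact.out : p.Prime).not_dvd_one h3
    rw [Nat.factorization_eq_zero_of_not_dvd hnd, add_zero, hn, Nat.Prime.factorization_pow Fact.out,
      Finsupp.single_eq_same]
  let S₀ : Sylow p SL2 := Sylow.ofCard (uppHom (F := F)).range (by rw [hcardU, hfac, hn])
  have hmem : ∀ x : SL2, x ∈ (S₀ : Subgroup SL2) ↔ ∃ a : F, PStable.upp a = x := fun x => by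
    rw [Sylow.coe_ofCard, MonoidHom.mem_range]
    exact ⟨fun ⟨a, h⟩ => ⟨a.toAdd, h⟩, fun ⟨a, h⟩ => ⟨Multiplicative.ofAdd a, h⟩⟩
  have hN : Subgroup.normalizer ((S₀ : Subgroup SL2) : Set SL2) = Bor := by
    ext g
    rw [GL2Induced.mem_borel_sl]
    have hd := PStable.det_one g
    constructor
    · intro hg
      obtain ⟨b, hb⟩ := (hmem _).1 ((Subgroup.mem_normalizer_iff.1 hg _).1 ((hmem _).2 ⟨(1 : F), rfl⟩))
      have hb' : (g.1 * (PStable.upp (1 : F) : SL2).1 * Matrix.adjugate g.1) 1 0 = (PStable.upp b : SL2).1 1 0 :=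
        congrArg (fun y : SL2 => y.1 1 0) hb.symm
      rw [Matrix.adjugate_fin_two] at hb'
      simp [PStable.upp_val, Matrix.mul_apply, Matrix.vecMul, dotProduct, Fin.sum_univ_two] at hb'
      exact mul_self_eq_zero.1 (by linear_combination -hb')
    · intro hg
      refine Subgroup.mem_normalizer_fintype fun x hx => ?_
      obtain ⟨a, rfl⟩ := (hmem x).1 hx
      refine (hmem _).2 ⟨g.1 0 0 ^ 2 * a, Subtype.ext ?_⟩
      show (PStable.upp (g.1 0 0 ^ 2 * a) : SL2).1 = g.1 * (PStable.upp a : SL2).1 * Matrix.adjugate g.1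
      rw [Matrix.adjugate_fin_two, PStable.upp_val, PStable.upp_val]
      apply PStable.ext2 <;>
        simp [Matrix.mul_apply, Matrix.vecMul, dotProduct, Fin.sum_univ_two, hg]
      all_goals first
        | linear_combination hg
        | linear_combination -hd + g.1 0 1 * hg
        | linear_combination -hd - g.1 0 1 * hg
        | linear_combination hd + g.1 0 1 * hg
        | ring1
  rw [count_conj S S₀, count_sylow_abelian S₀ (fun x hx y hy => by
      obtain ⟨a, rfl⟩ := (hmem x).1 hx
      obtain ⟨b, rfl⟩ := (hmem y).1 hy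
      rw [PStable.upp_mul, PStable.upp_mul, add_comm]),
    conjClasses_congr (MulEquiv.subgroupCongr hN), SL2BorelTorus.card_conjClasses_borel hodd]

theorem count_odd (hodd : Odd (Fintype.card F)) (ℓ : ℕ) [Fact ℓ.Prime] (hℓ : ℓ ≠ 2) (S : Sylow ℓ SL2) :
    (ℓ ∣ Fintype.card F - 1 →
      2 * countPrime ℓ (Subgroup.normalizer ((S : Subgroup SL2) : Set SL2)) = Fintype.card F + 5) ∧
    (ℓ ∣ Fintype.card F + 1 →
      2 * countPrime ℓ (Subgroup.normalizer ((S : Subgroup SL2) : Set SL2)) = Fintype.card F + 7) := by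
  classical
  have hp := (Fact.out : ℓ.Prime)
  have h2' := SL2BorelTorus.two_ne_zero_of_odd_card hodd
  have hq : 1 < Fintype.card F := Fintype.one_lt_card
  have hqm := Nat.odd_iff.1 hodd
  have hsq : Nat.card F ^ 2 - 1 = (Fintype.card F + 1) * (Fintype.card F - 1) := by
    rw [Nat.card_eq_fintype_card]; simpa using Nat.sq_sub_sq (Fintype.card F) 1
  have h2 : ¬ ℓ ∣ 2 := fun h => hℓ ((Nat.prime_dvd_prime_iff_eq hp Nat.prime_two).1 h)
  constructor
  · intro hd
    have hnq : ¬ ℓ ∣ Nat.card F := fun h => by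
      rw [Nat.card_eq_fintype_card] at h
      have := Nat.dvd_sub h hd
      rw [Nat.sub_sub_self (by omega)] at this
      exact hp.not_dvd_one this
    have hnp : ¬ ℓ ∣ Fintype.card F + 1 := fun h => h2 (by
      have := Nat.dvd_sub h hd
      rwa [show Fintype.card F + 1 - (Fintype.card F - 1) = 2 by omega] at this)
    obtain ⟨u, hu⟩ := exists_prime_orderOf_dvd_card (G := Fˣ) ℓ (by rwa [Fintype.card_units])
    let d : SL2 := SL2BorelTorus.mono (u, false)
    have hd0 : d.1 0 0 = (u : F) := rfl
    have hda : d.1 0 0 ^ 2 ≠ 1 := by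
      rw [hd0]
      intro e
      have h' : orderOf u ∣ 2 := orderOf_dvd_of_pow_eq_one (Units.ext (by simpa using e))
      rw [hu] at h'
      exact h2 h'
    obtain ⟨-, hk⟩ := SL2BorelTorus.normalizer_diag_counts hodd d rfl rfl hda
    have hns : ¬ IsScalar d.1 := fun h => hda (by
      have this : (d.1 * d.1) 0 0 = 1 := by
        rw [show d.1 * d.1 = (d * d).1 from rfl, SL2SylowNormalizer.mul_self_of_scalar h]; rfl
      simpa [Matrix.mul_apply, Fin.sum_univ_two, d, SL2BorelTorus.mono, pow_two] using this)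
    have hT : Nat.card (SL2Tori.torus d) = Fintype.card F - 1 := by
      have hc := (SL2SylowNormalizer.odd_sylow hodd ℓ hℓ S).1 hd
      have hmem := SL2BorelTorus.mem_centralizer_diag d rfl rfl hda
      rw [← Fintype.card_units, ← Nat.card_eq_fintype_card]
      refine (Nat.card_eq_of_bijective (fun a : Fˣ => (⟨SL2BorelTorus.mono (a, false),
        (hmem _).2 ⟨rfl, rfl⟩⟩ : SL2Tori.torus d)) ⟨fun a b h => ?_, fun x => ?_⟩).symm
      · have h' : SL2BorelTorus.mono (a, false) = SL2BorelTorus.mono (b, false) := congrArg Subtype.val h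
        exact congrArg Prod.fst (SL2BorelTorus.mono_injective h')
      · obtain ⟨⟨a, i⟩, hp'⟩ := SL2BorelTorus.mem_range_mono x.1 (Or.inl ((hmem x.1).1 x.2))
        cases i
        · exact ⟨a, Subtype.ext hp'⟩
        · have h01 := ((hmem x.1).1 x.2).1
          rw [← hp'] at h01
          simp [SL2BorelTorus.mono] at h01
    obtain ⟨P₀, hle, hN⟩ := exists_sylow_in (SL2Tori.torus d) (hT ▸ hd)
      (SL2SylowNormalizer.not_dvd_index hp hT (hsq.trans (mul_comm _ _)) (by omega) hnq hnp)
      (SL2Tori.torus_comm hns)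
      (fun x hx ho => SL2Tori.torus_eq hns hx (SL2SylowNormalizer.not_scalar_of_prime_order hp hℓ ho))
    rw [count_conj S P₀, count_sylow_abelian P₀ (fun a ha b hb => SL2Tori.torus_comm hns a (hle ha) b (hle hb)),
      conjClasses_congr (MulEquiv.subgroupCongr hN), show Nat.card (ConjClasses (Subgroup.normalizer
        ((SL2Tori.torus d : Subgroup SL2) : Set SL2))) = (Fintype.card F + 5) / 2 from hk]
    omega
  · intro hd
    have hnq : ¬ ℓ ∣ Nat.card F := fun h => by
      rw [Nat.card_eq_fintype_card] at h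
      exact hp.not_dvd_one ((Nat.dvd_add_right h).1 hd)
    have hnp : ¬ ℓ ∣ Fintype.card F - 1 := fun h => h2 (by
      have := Nat.dvd_sub hd h
      rwa [show Fintype.card F + 1 - (Fintype.card F - 1) = 2 by omega] at this)
    obtain ⟨g, hg⟩ := SL2Tori.exists_noEigen (F := F)
    have hT : Nat.card (SL2Tori.torus g) = Fintype.card F + 1 := by
      rw [SL2Tori.card_torus hg, Nat.card_eq_fintype_card]
    obtain ⟨P₀, hle, hN⟩ := exists_sylow_in (SL2Tori.torus g) (hT ▸ hd)
      (SL2SylowNormalizer.not_dvd_index hp hT hsq (by omega) hnq hnp)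
      (SL2Tori.torus_comm (SL2Tori.not_scalar hg))
      (fun x hx ho => SL2Tori.torus_eq (SL2Tori.not_scalar hg) hx
        (SL2SylowNormalizer.not_scalar_of_prime_order hp hℓ ho))
    obtain ⟨w, d, -, -⟩ := SL2Tori.exists_inverter hg
    have hk := InvertedTorus.card_conjClasses d (SL2Tori.card_sq_one h2')
    rw [hT] at hk
    rw [count_conj S P₀, count_sylow_abelian P₀
        (fun a ha b hb => SL2Tori.torus_comm (SL2Tori.not_scalar hg) a (hle ha) b (hle hb)),
      conjClasses_congr (MulEquiv.subgroupCongr hN)]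
    omega

section two

open SL2Inv PSL2Inv

theorem tetra_index (hodd : Odd (Fintype.card F)) (S : Sylow 2 SL2) (hS : Nat.card (S : Subgroup SL2) = 8)
    (hN : Nat.card (Subgroup.normalizer ((S : Subgroup SL2) : Set SL2)) = 24) :
    (commutator (Subgroup.normalizer ((S : Subgroup SL2) : Set SL2))).index = 3 := by
  classical
  have h2 := SL2BorelTorus.two_ne_zero_of_odd_card hodd
  set N := Subgroup.normalizer ((S : Subgroup SL2) : Set SL2)
  set T := (S : Subgroup SL2).subgroupOf N with hTdef
  haveI hTn : T.Normal := Subgroup.normal_in_normalizer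
  have hT : Nat.card T = 8 :=
    (Nat.card_congr (Subgroup.subgroupOfEquivOfLe (Subgroup.le_normalizer (H := (S : Subgroup SL2)))).toEquiv).trans hS
  have hTi : T.index = 3 := by
    have := T.card_mul_index
    rw [hT, hN] at this
    omega
  have hle : commutator N ≤ T := by
    haveI : Fact (Nat.Prime 3) := ⟨Nat.prime_three⟩
    haveI : IsCyclic (N ⧸ T) := isCyclic_of_prime_card (p := 3) (by
      rw [← hTi]; rfl)
    rw [commutator_def, Subgroup.commutator_le]
    intro a _ b _
    rw [← QuotientGroup.eq_one_iff]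
    show QuotientGroup.mk' T (a * b * a⁻¹ * b⁻¹) = 1
    rw [map_mul, map_mul, map_mul, map_inv, map_inv,
      IsMulCommutative.is_comm.comm (QuotientGroup.mk' T a) (QuotientGroup.mk' T b)]
    group
  rcases eq_or_lt_of_le hle with e | hlt
  · rw [e, hTi]
  exfalso
  have hC : Nat.card (commutator N) ∣ 2 ^ 3 := by
    have := Subgroup.card_dvd_of_le hle
    rwa [hT] at this
  obtain ⟨k, hk3, hk⟩ := (Nat.dvd_prime_pow Nat.prime_two).1 hC
  have hk2 : k ≤ 2 := by
    by_contra hk2
    refine hlt.ne (Subgroup.eq_of_le_of_card_ge hle ?_)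
    rw [hT, hk, show k = 3 by omega]
    norm_num
  obtain ⟨K, hK, hCK⟩ := Sylow.exists_subgroup_card_pow_prime_le 2 (G := T) (n := k) (m := 2)
    (by rw [hT]; norm_num) ((commutator N).subgroupOf T)
    ((Nat.card_congr (Subgroup.subgroupOfEquivOfLe hle).toEquiv).trans hk) hk2
  set M := K.map T.subtype with hMdef
  have hMT : M ≤ T := Subgroup.map_subtype_le K
  have hM : Nat.card M = 4 := by
    rw [Subgroup.card_map_of_injective T.subtype_injective, hK]
    norm_num
  have hCM : commutator N ≤ M := fun c hc => ⟨⟨c, hle hc⟩, hCK hc, rfl⟩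
  haveI : Fact (Nat.Prime 3) := ⟨Nat.prime_three⟩
  obtain ⟨g, hg⟩ := exists_prime_orderOf_dvd_card' (G := N) 3 (by rw [hN]; norm_num)
  have hg3 : g ^ 3 = 1 := hg ▸ pow_orderOf_eq_one g
  let f : N → N := fun x => g * x * g⁻¹
  have hf3 : ∀ x, f (f (f x)) = x := fun x => by
    show g * (g * (g * x * g⁻¹) * g⁻¹) * g⁻¹ = x
    rw [show g * (g * (g * x * g⁻¹) * g⁻¹) * g⁻¹ = (g * g * g) * x * (g * g * g)⁻¹ by group,
      show g * g * g = 1 by rw [← hg3, pow_succ, pow_two]]
    group
  have hmove : ∀ x : N, f x * x⁻¹ ∈ M := fun x => hCM (by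
    show g * x * g⁻¹ * x⁻¹ ∈ commutator N
    rw [commutator_def]
    exact Subgroup.commutator_mem_commutator (Subgroup.mem_top g) (Subgroup.mem_top x))
  have hfM : ∀ m ∈ M, f m ∈ M := fun m hm => by
    have := M.mul_mem (hmove m) hm
    rwa [inv_mul_cancel_right] at this
  -- the central involution
  obtain ⟨z, hz⟩ := exists_prime_orderOf_dvd_card' (G := M) 2 (by rw [hM]; norm_num)
  have hz1 : (z : N) ≠ 1 := fun e => by
    rw [show z = 1 from Subtype.ext e, orderOf_one] at hz; omega
  have hzv : ((z : N) : SL2) = negOne := by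
    have h := pow_orderOf_eq_one z
    rw [hz, pow_two] at h
    refine (eq_or_eq_negOne_of_mul_self h2 ?_).resolve_left fun e => hz1 (Subtype.ext e)
    exact congrArg (fun m : M => ((m : N) : SL2)) h
  have hfz : f (z : N) = z := Subtype.ext (by
    show (g : SL2) * ((z : N) : SL2) * (g : SL2)⁻¹ = ((z : N) : SL2)
    rw [hzv, ← negOne_comm, mul_inv_cancel_right])
  have hf1 : f 1 = 1 := by simp [f]
  have hfix : ∀ m ∈ M, f m = m := by
    intro m hm
    let s : Finset N := ((M : Set N).toFinset) \ {1, (z : N)}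
    have hs : s.card ≤ 2 := by
      rw [Finset.card_sdiff_of_subset (by
        intro x hx
        rw [Set.mem_toFinset]
        rcases Finset.mem_insert.1 hx with rfl | hx
        · exact M.one_mem
        · rw [Finset.mem_singleton.1 hx]; exact z.2), Finset.card_pair (Ne.symm hz1),
        Set.toFinset_card, ← Nat.card_eq_fintype_card]
      have hM' : Nat.card (M : Set N) = 4 := hM
      omega
    by_cases h1 : m = 1
    · rw [h1]; exact hf1
    by_cases h2 : m = (z : N)
    · rw [h2]; exact hfz
    have hin : ∀ x ∈ M, x ≠ 1 → x ≠ (z : N) → f x ∈ s := fun x hx a b => by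
      have hinj : Function.Injective f := Function.LeftInverse.injective (g := fun y => f (f y)) hf3
      simp only [s, Finset.mem_sdiff, Set.mem_toFinset, SetLike.mem_coe, Finset.mem_insert,
        Finset.mem_singleton, not_or]
      exact ⟨hfM x hx, fun e => a (hinj (e.trans hf1.symm)), fun e => b (hinj (e.trans hfz.symm))⟩
    have h0 : m ∈ s := by simp [s, hm, h1, h2]
    have h1' := hin m hm h1 h2
    have hh := Finset.mem_sdiff.1 h1'
    simp only [Set.mem_toFinset, SetLike.mem_coe, Finset.mem_insert, Finset.mem_singleton, not_or] at hh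
    exact fix_of_cube hs f h0 h1' (hin _ hh.1 hh.2.1 hh.2.2) (hf3 m)
  have hall : ∀ x ∈ T, f x = x := by
    intro x hx
    set c := f x * x⁻¹ with hc
    have hcM : c ∈ M := hmove x
    have hcx : f x = c * x := by rw [hc, inv_mul_cancel_right]
    have hfmul : ∀ a b, f (a * b) = f a * f b := fun a b => by
      show g * (a * b) * g⁻¹ = g * a * g⁻¹ * (g * b * g⁻¹)
      group
    have h3 := hf3 x
    rw [hcx, hfmul c x, hfix c hcM, hcx, hfmul c (c * x), hfix c hcM, hfmul c x, hfix c hcM, hcx, ← mul_assoc,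
      ← mul_assoc, mul_eq_right] at h3
    have h4 : c ^ 4 = 1 := by
      have h5 := pow_card_eq_one' (x := (⟨c, hcM⟩ : M))
      rw [hM] at h5
      exact congrArg Subtype.val h5
    have h5 : c = 1 := by
      rw [show c ^ 4 = c * c * c * c by simp [pow_succ, mul_assoc], h3, one_mul] at h4
      exact h4
    rw [hcx, h5, one_mul]
  have hgc : (g : SL2) ∈ Subgroup.centralizer ((S : Subgroup SL2) : Set SL2) := by
    rw [Subgroup.mem_centralizer_iff]
    intro y hy
    have := congrArg Subtype.val (hall ⟨y, Subgroup.le_normalizer hy⟩ hy)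
    exact (mul_inv_eq_iff_eq_mul.1 this).symm
  rw [(SL2SylowNormalizer.two_sylow hodd S).1, SL2Inv.mem_center_iff] at hgc
  have hgg : (g : SL2) * g = 1 := by
    rcases hgc with e | e <;> rw [e]
    · rw [one_mul]
    · exact negOne_mul_self
  have := orderOf_dvd_of_pow_eq_one (show g ^ 2 = 1 from Subtype.ext (by rw [pow_two]; exact hgg))
  rw [hg] at this
  norm_num at this

theorem count_two (hodd : Odd (Fintype.card F)) (S : Sylow 2 SL2) :
    countPrime 2 (Subgroup.normalizer ((S : Subgroup SL2) : Set SL2)) = 4 := by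
  classical
  have h2 := SL2BorelTorus.two_ne_zero_of_odd_card hodd
  obtain ⟨S₀, hle, hnle, a, ha, hcard, hinf, hbig, hsmall⟩ :=
    SL2SylowNormalizer.exists_sylow_le_D (F := F) hodd
  rw [count_conj S S₀]
  have hqm := Nat.odd_iff.1 hodd
  by_cases h8 : Fintype.card F % 8 = 3 ∨ Fintype.card F % 8 = 5
  · have h' := hsmall h8
    subst h'
    have hN := SL2SylowNormalizer.normalizer_two_small hodd S₀ hle hnle hcard hinf
    rw [hcard] at hN
    exact count_two_tetra hN (tetra_index hodd S₀ hcard hN)
  · have ha3 := hbig (by omega)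
    rw [countPrime_congr (MulEquiv.subgroupCongr
      (SL2SylowNormalizer.normalizer_two_large hodd S₀ hle hnle ha3 hinf))]
    obtain ⟨j, hj⟩ := exists_anti (F := F) h2
    obtain ⟨y, hyS, hyC⟩ := SetLike.not_le_iff_exists.1 hnle
    have hya : Anti y := (SL2SylowNormalizer.mem_D_iff_C_or_anti hj (hle hyS)).resolve_left hyC
    have hyy : y * y = negOne := (mul_self_eq_negOne_iff y).2 hya.1
    set T := ((S₀ : Subgroup SL2) ⊓ (C : Subgroup SL2)) with hTdef
    have hnC : (negOne : SL2) ∈ (C : Subgroup SL2) := mem_C.2 (negOne_comm w)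
    have d : InvertedTorus.Data T (S₀ : Subgroup SL2) y :=
      { comm := fun s hs t ht => SL2SylowNormalizer.C_comm h2 hs.2 ht.2
        notMem := fun h => hyC h.2
        inv := fun t ht => hya.conj_C ht.2
        sq := by rw [hyy]; exact ⟨hyy ▸ mul_mem hyS hyS, hnC⟩
        mem_iff := fun x => by
          constructor
          · intro hx
            rcases SL2SylowNormalizer.mem_D_iff_C_or_anti hj (hle hx) with h | h
            · exact Or.inl ⟨hx, h⟩
            · refine Or.inr ⟨(S₀ : Subgroup SL2).mul_mem hx ((S₀ : Subgroup SL2).inv_mem hyS), ?_⟩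
              have hm := hya.mem_C_of h
              rw [show x * y⁻¹ = y * (y⁻¹ * x) * y⁻¹ by group, hya.conj_C hm]
              exact (C : Subgroup SL2).inv_mem hm
          · rintro (h | h)
            · exact h.1
            · simpa using mul_mem h.1 hyS }
    have hI : Nat.card {t : T // t ^ 2 = 1} = 2 := by
      have hn : (negOne : SL2) ∈ T := by rw [← hyy]; exact d.sq
      have h : (Finset.univ.filter fun t : T => t ^ 2 = 1) = {1, ⟨negOne, hn⟩} := by
        ext t
        simp only [Finset.mem_filter, Finset.mem_univ, true_and, Finset.mem_insert, Finset.mem_singleton]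
        constructor
        · intro ht
          rw [pow_two] at ht
          exact (eq_or_eq_negOne_of_mul_self h2 (congrArg Subtype.val ht)).imp
            (fun e => Subtype.ext e) (fun e => Subtype.ext e)
        · rintro (rfl | rfl)
          · exact one_pow 2
          · exact Subtype.ext (by
              show (negOne : SL2) ^ 2 = 1
              rw [pow_two, negOne_mul_self])
      rw [Nat.card_eq_fintype_card, Fintype.card_subtype, h, Finset.card_pair]
      exact fun e => negOne_ne_one h2 (congrArg Subtype.val e).symm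
    have hk := InvertedTorus.card_conjClasses d hI
    rw [hinf] at hk
    have hidx : (T.subgroupOf (S₀ : Subgroup SL2)).index = 2 := by
      have h1 := (T.subgroupOf (S₀ : Subgroup SL2)).card_mul_index
      rw [Nat.card_congr (Subgroup.subgroupOfEquivOfLe (inf_le_left : T ≤ _)).toEquiv, hinf, hcard,
        mul_comm 2] at h1
      exact Nat.eq_of_mul_eq_mul_left (Nat.two_pow_pos a) h1
    haveI := Subgroup.normal_of_index_eq_two hidx
    refine count_two_of_index_two (T.subgroupOf (S₀ : Subgroup SL2))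
      ⟨⟨fun u v => Subtype.ext (Subtype.ext (d.comm _ u.2 _ v.2))⟩⟩ hidx rfl hcard ?_
    omega

end two

end Cfsg.Agent.SL2McKay
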