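import Cfsg.Agent.Lib.Classical.GLClassCount
import Cfsg.Agent.Lib.Classical.BlockDet

/-!
Weighted counting of codes of conjugacy classes with prescribed determinant.
-/

set_option autoImplicit false

namespace Cfsg.Agent.SLWeight

open Polynomial Cfsg.Agent.GLCount Cfsg.Agent.BlockDet

/-- `c` in the variable `X ^ e`. -/
def cE (q e a : ℕ) : ℕ := if e ∣ a then c q (a / e) else 0

/-- Weighted number of codes. -/
def W (q e : ℕ) : ℕ → ℕ → (ℕ → ℕ) → ℕ
  | 0, n, f => if n = 0 then f (q - 1) else 0
  | m + 1, n, f => ∑ a ∈ Finset.range (n / (m + 1) + 1),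
      cE q e a * W q e m (n - a * (m + 1)) (if a = 0 then f else fun w => f (Nat.gcd (m + 1) w))

theorem W_mono (q e : ℕ) : ∀ m n {f g : ℕ → ℕ},
    (∀ w, w ∣ q - 1 → w ∣ n → f w ≤ g w) → W q e m n f ≤ W q e m n g
  | 0, n, f, g, h => by
    by_cases hn : n = 0
    · simp [W, hn, h (q - 1) dvd_rfl (hn ▸ dvd_zero _)]
    · simp [W, hn]
  | m + 1, n, f, g, h => by
    rw [W, W]
    refine Finset.sum_le_sum fun a ha => Nat.mul_le_mul_left _ (W_mono q e m _ fun w h1 h2 => ?_)
    rw [Finset.mem_range, Nat.lt_succ_iff, Nat.le_div_iff_mul_le (by omega)] at ha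
    by_cases ha0 : a = 0
    · simp only [ha0, if_true, zero_mul, Nat.sub_zero] at h2 ⊢
      exact h w h1 h2
    · simp only [ha0, if_false]
      refine h _ ((Nat.gcd_dvd_right _ w).trans h1) ?_
      have h3 : Nat.gcd (m + 1) w ∣ n - a * (m + 1) := (Nat.gcd_dvd_right _ w).trans h2
      have h4 : Nat.gcd (m + 1) w ∣ a * (m + 1) := Dvd.dvd.mul_left (Nat.gcd_dvd_left _ w) a
      have := Nat.dvd_add h3 h4
      rwa [Nat.sub_add_cancel ha] at this

theorem W_add (q e : ℕ) : ∀ m n (f g : ℕ → ℕ),
    W q e m n (fun w => f w + g w) = W q e m n f + W q e m n g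
  | 0, n, f, g => by by_cases hn : n = 0 <;> simp [W, hn]
  | m + 1, n, f, g => by
    rw [W, W, W, ← Finset.sum_add_distrib]
    refine Finset.sum_congr rfl fun a _ => ?_
    rw [← mul_add, ← W_add q e m]
    congr 2
    split_ifs <;> rfl

theorem W_smul (q e k : ℕ) : ∀ m n (f : ℕ → ℕ), W q e m n (fun w => k * f w) = k * W q e m n f
  | 0, n, f => by by_cases hn : n = 0 <;> simp [W, hn]
  | m + 1, n, f => by
    rw [W, W, Finset.mul_sum]
    refine Finset.sum_congr rfl fun a _ => ?_
    rw [mul_left_comm, ← W_smul q e k m]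
    congr 2
    split_ifs <;> rfl

theorem W_zero (q e m n : ℕ) : W q e m n (fun _ => 0) = 0 := by
  have := W_smul q e 0 m n (fun _ => 0)
  simpa using this

theorem W_sum {α : Type*} (q e m n : ℕ) (s : Finset α) (f : α → ℕ → ℕ) :
    W q e m n (fun w => ∑ x ∈ s, f x w) = ∑ x ∈ s, W q e m n (f x) := by
  classical
  induction s using Finset.induction with
  | empty => simpa using W_zero q e m n
  | insert a s ha ih => simp only [Finset.sum_insert ha, W_add, ih]

/-- Codes all of whose block sizes are multiples of `d`. -/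
theorem W_dvd (q : ℕ) {e d : ℕ} (he : 0 < e) (hd : 0 < d) : ∀ m n,
    W q e m n (fun w => if d ∣ w then 1 else 0) ≤
      if d * e ∣ n then cnt q (m / d) (n / (d * e)) else 0
  | 0, n => by
    by_cases hn : n = 0
    · subst hn
      simp only [W, if_true, Nat.zero_div, dvd_zero, cnt]
      split_ifs <;> omega
    · simp [W, hn]
  | m + 1, n => by
    rw [W]
    by_cases hdm : d ∣ m + 1
    · obtain ⟨B, hB⟩ := hdm
      obtain ⟨M, rfl⟩ : ∃ M, B = M + 1 :=
        ⟨B - 1, by rcases Nat.eq_zero_or_pos B with h | h <;> [simp [h] at hB; omega]⟩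
      have hdiv : m / d = M := by
        have h1 : m = d * M + (d - 1) := by
          rw [mul_add, mul_one] at hB
          omega
        rw [h1, Nat.mul_add_div hd, Nat.div_eq_of_lt (by omega : d - 1 < d), add_zero]
      have hstep : ∀ a ∈ Finset.range (n / (m + 1) + 1),
          cE q e a * W q e m (n - a * (m + 1))
            (if a = 0 then (fun w => if d ∣ w then 1 else 0)
              else fun w => if d ∣ Nat.gcd (m + 1) w then 1 else 0) ≤
          if e ∣ a ∧ d * e ∣ n then c q (a / e) * cnt q M (n / (d * e) - a / e * (M + 1)) else 0 := by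
        intro a ha
        rw [Finset.mem_range, Nat.lt_succ_iff, Nat.le_div_iff_mul_le (by omega)] at ha
        have hf : (if a = 0 then (fun w => if d ∣ w then 1 else 0)
            else fun w => if d ∣ Nat.gcd (m + 1) w then 1 else 0) = fun w => if d ∣ w then 1 else 0 := by
          split_ifs with h
          · rfl
          · funext w
            simp only [Nat.dvd_gcd_iff, hB, dvd_mul_right, true_and]
        rw [hf]
        by_cases hea : e ∣ a
        · obtain ⟨A, rfl⟩ := hea
          rw [cE, if_pos (Dvd.intro A rfl), Nat.mul_div_cancel_left _ he]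
          have ih := W_dvd q he hd m (n - e * A * (m + 1))
          rw [hdiv] at ih
          have hmul : e * A * (m + 1) = d * e * (A * (M + 1)) := by rw [hB]; ring
          by_cases hden : d * e ∣ n
          · rw [if_pos ⟨Dvd.intro A rfl, hden⟩]
            rw [if_pos (by rw [hmul]; exact Nat.dvd_sub hden (Dvd.intro _ rfl))] at ih
            refine Nat.mul_le_mul_left _ (ih.trans ?_)
            rw [hmul, Nat.sub_mul_div]
          · rw [if_neg (fun h => hden h.2)]
            rw [if_neg (fun h => hden (by
              have := Nat.dvd_add h (Dvd.intro (A * (M + 1)) hmul.symm : d * e ∣ e * A * (m + 1))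
              rwa [Nat.sub_add_cancel ha] at this))] at ih
            simp [Nat.le_zero.1 ih]
        · simp [cE, if_neg hea]
      refine (Finset.sum_le_sum hstep).trans ?_
      by_cases hden : d * e ∣ n
      · rw [if_pos hden, show (m + 1) / d = M + 1 by rw [hB, Nat.mul_div_cancel_left _ hd], cnt,
          ← Finset.sum_filter]
        refine le_of_eq (Finset.sum_nbij' (fun a => a / e) (fun A => e * A) ?_ ?_ ?_ ?_ ?_)
        · intro a ha
          simp only [Finset.mem_filter, Finset.mem_range, Nat.lt_succ_iff] at ha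
          obtain ⟨h1, ⟨A, rfl⟩, -⟩ := ha
          rw [Finset.mem_range, Nat.lt_succ_iff, Nat.mul_div_cancel_left _ he,
            Nat.le_div_iff_mul_le (by omega), Nat.le_div_iff_mul_le (by positivity)]
          rw [Nat.le_div_iff_mul_le (by omega), hB] at h1
          calc A * (M + 1) * (d * e) = e * A * (d * (M + 1)) := by ring
            _ ≤ n := h1
        · intro A hA
          simp only [Finset.mem_range, Nat.lt_succ_iff, Finset.mem_filter] at hA ⊢
          rw [Nat.le_div_iff_mul_le (by omega), Nat.le_div_iff_mul_le (by positivity)] at hA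
          refine ⟨?_, Dvd.intro A rfl, hden⟩
          rw [Nat.le_div_iff_mul_le (by omega), hB]
          calc e * A * (d * (M + 1)) = A * (M + 1) * (d * e) := by ring
            _ ≤ n := hA
        · intro a ha
          simp only [Finset.mem_filter] at ha
          exact Nat.mul_div_cancel' ha.2.1
        · intro A _
          exact Nat.mul_div_cancel_left _ he
        · intro a _
          rfl
      · simp [hden]
    · have hdiv : (m + 1) / d = m / d := by
        rw [Nat.succ_div]
        simp [hdm]
      rw [hdiv]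
      refine le_trans (le_of_eq ?_) (W_dvd q he hd m n)
      rw [Finset.sum_eq_single 0]
      · simp [cE, c]
      · intro a _ ha
        have : (fun w => if d ∣ Nat.gcd (m + 1) w then (1 : ℕ) else 0) = fun _ => 0 := by
          funext w
          rw [if_neg (fun h => hdm (h.trans (Nat.gcd_dvd_left _ _)))]
        simp [if_neg ha, this, W_zero]
      · simp

theorem sum_biUnion_le' {α β : Type*} [DecidableEq β] (s : Finset α) (t : α → Finset β)
    (f : β → ℕ) : ∑ x ∈ s.biUnion t, f x ≤ ∑ a ∈ s, ∑ x ∈ t a, f x := by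
  classical
  induction s using Finset.induction with
  | empty => simp
  | insert a s ha ih =>
    rw [Finset.biUnion_insert, Finset.sum_insert ha]
    refine le_trans ?_ (Nat.add_le_add_left ih _)
    have := Finset.sum_union_inter (s₁ := t a) (s₂ := s.biUnion t) (f := f)
    omega

section Codes

variable {F : Type*} [Field F] [Fintype F]

/-- The greatest common divisor of `q - 1` and the block sizes. -/
noncomputable def wt : List F[X] → ℕ
  | [] => Fintype.card F - 1
  | p :: l => if p.natDegree = 0 then wt l else Nat.gcd (l.length + 1) (wt l)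

/-- The determinant. -/
noncomputable def dt : List F[X] → F
  | [] => 1
  | p :: l => sgc p ^ (l.length + 1) * dt l

/-- Only powers of `X ^ e` occur. -/
def GoodE (e : ℕ) (p : F[X]) : Prop := e ∣ p.natDegree ∧ ∀ i, ¬ e ∣ i → p.coeff i = 0

open Classical in
/-- Codes all of whose entries are good. -/
noncomputable def seqsE [DecidableEq F] (e m n : ℕ) : Finset (List F[X]) :=
  (seqs F m n).filter fun l => ∀ p ∈ l, GoodE e p

theorem length_seqs [DecidableEq F] : ∀ m n {l : List F[X]}, l ∈ seqs F m n → l.length = m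
  | 0, n, l, h => by
    by_cases hn : n = 0
    · simp [seqs, hn] at h; simp [h]
    · simp [seqs, hn] at h
  | m + 1, n, l, h => by
    classical
    rw [seqs, Finset.mem_biUnion] at h
    obtain ⟨a, -, h⟩ := h
    obtain ⟨x, hx, rfl⟩ := Finset.mem_image.1 h
    rw [List.length_cons, length_seqs m _ (Finset.mem_product.1 hx).2]

theorem polys_spec [DecidableEq F] {a : ℕ} {p : F[X]} (hp : p ∈ polys F a) :
    p.Monic ∧ p.natDegree = a ∧ p.coeff 0 ≠ 0 := by
  classical
  cases a with
  | zero =>
    simp [polys] at hp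
    subst hp
    simp
  | succ a =>
    rw [polys, Finset.mem_image] at hp
    obtain ⟨f, hf, rfl⟩ := hp
    refine ⟨mkP_monic F f, mkP_natDegree F f, ?_⟩
    have := mkP_coeff F f 0
    rw [Fin.val_zero] at this
    rw [this]
    exact (mem_coefs F).1 hf

theorem polys_fibre [DecidableEq F] {e a : ℕ} (ha : 0 < a) (v : F) :
    ∀ s : Finset F[X], (∀ p ∈ s, p ∈ polys F a ∧ GoodE e p ∧ sgc p = v) →
      s.card ≤ Fintype.card F ^ (a / e - 1) := by
  intro s hs
  let Ψ : F[X] → (Fin (a / e - 1) → F) := fun p k => p.coeff (((k : ℕ) + 1) * e)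
  have hinj : Set.InjOn Ψ (s : Set F[X]) := by
    intro p hp p' hp' h
    obtain ⟨hpa, hpE, hpv⟩ := hs p hp
    obtain ⟨hpa', hpE', hpv'⟩ := hs p' hp'
    obtain ⟨hm, hd, -⟩ := polys_spec hpa
    obtain ⟨hm', hd', -⟩ := polys_spec hpa'
    ext i
    by_cases hei : e ∣ i
    swap
    · rw [hpE.2 i hei, hpE'.2 i hei]
    rcases lt_trichotomy i a with hi | rfl | hi
    · rcases Nat.eq_zero_or_pos i with rfl | hi0
      · have := hpv.trans hpv'.symm
        simp only [sgc, hd, hd'] at this
        exact mul_left_cancel₀ (pow_ne_zero _ (neg_ne_zero.2 one_ne_zero)) this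
      · obtain ⟨k, rfl⟩ := hei
        have he : 0 < e := Nat.pos_of_mul_pos_right hi0
        have hk : 0 < k := Nat.pos_of_mul_pos_left hi0
        obtain ⟨A, rfl⟩ := (hd ▸ hpE.1 : e ∣ a)
        have hkA : k < A := Nat.lt_of_mul_lt_mul_left hi
        have := congrFun h ⟨k - 1, by rw [Nat.mul_div_cancel_left _ he]; omega⟩
        simp only [Ψ, Nat.sub_add_cancel hk] at this
        rwa [mul_comm e k]
    · rw [show p.coeff i = 1 from hd ▸ hm.coeff_natDegree,
        show p'.coeff i = 1 from hd' ▸ hm'.coeff_natDegree]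
    · rw [coeff_eq_zero_of_natDegree_lt (hd ▸ hi), coeff_eq_zero_of_natDegree_lt (hd' ▸ hi)]
  refine (Finset.card_le_card_of_injOn Ψ (fun _ _ => Finset.mem_univ _) hinj).trans ?_
  simp

theorem pow_solutions [DecidableEq F] {r : ℕ} (v : F) :
    (Finset.univ.filter fun x : Fˣ => (x : F) ^ r = v).card ≤ Nat.gcd (Fintype.card F - 1) r := by
  by_cases hne : (Finset.univ.filter fun x : Fˣ => (x : F) ^ r = v).Nonempty
  swap
  · simp [Finset.not_nonempty_iff_eq_empty.1 hne]
  obtain ⟨x₀, hx₀⟩ := hne
  rw [Finset.mem_filter] at hx₀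
  have hker := IsCyclic.card_powMonoidHom_ker (G := Fˣ) r
  rw [Nat.card_units, Nat.card_eq_fintype_card, Nat.card_eq_fintype_card] at hker
  rw [← hker, ← Fintype.card_coe]
  refine Fintype.card_le_of_injective (fun x => ⟨x.1 / x₀, ?_⟩) (fun x y h => ?_)
  · rw [MonoidHom.mem_ker, powMonoidHom_apply, div_pow, div_eq_one]
    apply Units.ext
    rw [Units.val_pow_eq_pow_val, Units.val_pow_eq_pow_val, (Finset.mem_filter.1 x.2).2, hx₀.2]
  · exact Subtype.ext (div_left_inj.1 (congrArg Subtype.val h))

set_option maxHeartbeats 800000 in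
theorem weight_le [DecidableEq F] (e : ℕ) (he : 0 < e) : ∀ m n (f : ℕ → ℕ) (h : ℕ) (t : F),
    h ∣ Fintype.card F - 1 → t ≠ 0 →
    h * ∑ l ∈ (seqsE (F := F) e m n).filter
        (fun l => (dt l * t) ^ ((Fintype.card F - 1) / h) = 1), f (wt l) ≤
      W (Fintype.card F) e m n (fun w => Nat.gcd w h * f w)
  | 0, n, f, h, t, hh, ht => by
    classical
    by_cases hn : n = 0
    · subst hn
      simp only [W, if_true]
      rw [Nat.gcd_eq_right hh]
      refine Nat.mul_le_mul_left _ ?_
      calc _ ≤ ∑ l ∈ seqs F 0 0, f (wt l) :=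
            Finset.sum_le_sum_of_subset ((Finset.filter_subset _ _).trans (Finset.filter_subset _ _))
        _ = f (Fintype.card F - 1) := by simp [seqs, wt]
    · simp [seqsE, seqs, hn]
  | m + 1, n, f, h, t, hh, ht => by
    classical
    obtain ⟨q, hq⟩ : ∃ q, Fintype.card F = q := ⟨_, rfl⟩
    rw [hq] at hh ⊢
    rw [W]
    let P : ℕ → Finset F[X] := fun a => (polys F a).filter (GoodE e)
    let T : ℕ → Finset (List F[X]) := fun a => seqsE e m (n - a * (m + 1))
    let cond : F[X] → List F[X] → Prop := fun p l => (dt (p :: l) * t) ^ ((q - 1) / h) = 1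
    have hsub : (seqsE (F := F) e (m + 1) n).filter (fun l => (dt l * t) ^ ((q - 1) / h) = 1) ⊆
        (Finset.range (n / (m + 1) + 1)).biUnion fun a =>
          ((P a ×ˢ T a).filter fun x => cond x.1 x.2).image fun x => x.1 :: x.2 := by
      intro l hl
      rw [Finset.mem_filter, seqsE, Finset.mem_filter, seqs, Finset.mem_biUnion] at hl
      obtain ⟨⟨⟨a, ha, hl⟩, hgood⟩, hcond⟩ := hl
      obtain ⟨⟨p, l'⟩, hx, rfl⟩ := Finset.mem_image.1 hl
      rw [Finset.mem_product] at hx
      rw [Finset.mem_biUnion]
      refine ⟨a, ha, Finset.mem_image.2 ⟨(p, l'), Finset.mem_filter.2 ⟨Finset.mem_product.2 ⟨?_, ?_⟩,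
        hcond⟩, rfl⟩⟩
      · exact Finset.mem_filter.2 ⟨hx.1, hgood p List.mem_cons_self⟩
      · exact Finset.mem_filter.2 ⟨hx.2, fun r hr => hgood r (List.mem_cons_of_mem _ hr)⟩
    refine (Nat.mul_le_mul_left _ (Finset.sum_le_sum_of_subset hsub)).trans ?_
    refine (Nat.mul_le_mul_left _ (sum_biUnion_le' _ _ _)).trans ?_
    rw [Finset.mul_sum]
    refine Finset.sum_le_sum fun a ha => ?_
    refine (Nat.mul_le_mul_left _ (Finset.sum_image_le_of_nonneg fun _ _ => Nat.zero_le _)).trans ?_
    have hlen : ∀ l ∈ T a, l.length = m := fun l hl => length_seqs m _ (Finset.mem_filter.1 hl).1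
    by_cases ha0 : a = 0
    · subst ha0
      simp only [if_true, cE, dvd_zero, Nat.zero_div, c, one_mul]
      refine le_trans (Nat.mul_le_mul_left _ ?_)
        ((hq ▸ weight_le e he m (n - 0 * (m + 1)) f h t (hq.symm ▸ hh) ht :))
      have hP0 : P 0 ⊆ {1} := fun p hp => by simpa [polys] using (Finset.mem_filter.1 hp).1
      calc ∑ x ∈ (P 0 ×ˢ T 0).filter (fun x => cond x.1 x.2), f (wt (x.1 :: x.2))
          ≤ ∑ x ∈ (({1} : Finset F[X]) ×ˢ T 0).filter (fun x => cond x.1 x.2), f (wt (x.1 :: x.2)) :=
            Finset.sum_le_sum_of_subset (Finset.filter_subset_filter _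
              (Finset.product_subset_product hP0 subset_rfl))
        _ = _ := by
            rw [Finset.sum_filter, Finset.sum_product, Finset.sum_singleton, ← Finset.sum_filter]
            refine Finset.sum_congr (Finset.filter_congr fun l hl => ?_) fun l _ => ?_
            · simp [cond, dt, sgc, hlen l hl]
            · simp [wt]
    · have hpos : 0 < a := Nat.pos_of_ne_zero ha0
      simp only [if_neg ha0]
      by_cases hea : e ∣ a
      swap
      · have : P a = ∅ := by
          rw [Finset.eq_empty_iff_forall_notMem]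
          intro p hp
          obtain ⟨hpa, hpE⟩ := Finset.mem_filter.1 hp
          exact hea ((polys_spec hpa).2.1 ▸ hpE.1)
        simp [this]
      let k := Nat.gcd (m + 1) h
      let g : ℕ → ℕ := fun w => f (Nat.gcd (m + 1) w)
      let T' := (T a).filter fun l => (dt l * t) ^ ((q - 1) / k) = 1
      have hk : k ∣ q - 1 := (Nat.gcd_dvd_right _ _).trans hh
      have hwt : ∀ p ∈ P a, ∀ l ∈ T a, f (wt (p :: l)) = g (wt l) := by
        intro p hp l hl
        simp [wt, (polys_spec (Finset.mem_filter.1 hp).1).2.1, ha0, hlen l hl, g]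
      have hcount : ∀ l ∈ T a, ((P a).filter fun p => cond p l).card ≤
          if (dt l * t) ^ ((q - 1) / k) = 1 then q ^ (a / e - 1) * ((q - 1) / h * k) else 0 := by
        intro l hl
        obtain ⟨M, hM⟩ := hh
        rcases Nat.eq_zero_or_pos h with rfl | hh0
        · simp only [zero_mul] at hM
          have := Fintype.one_lt_card (α := F)
          omega
        have hMdiv : (q - 1) / h = M := by rw [hM, Nat.mul_div_cancel_left _ hh0]
        obtain ⟨b', hb'⟩ := Nat.gcd_dvd_left (m + 1) h
        obtain ⟨h', hh'⟩ := Nat.gcd_dvd_right (m + 1) h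
        have hk0 : 0 < k := Nat.gcd_pos_of_pos_left _ (by omega)
        have hkdiv : (q - 1) / k = h' * M := by
          rw [hM, hh', show Nat.gcd (m + 1) h = k from rfl, mul_assoc, Nat.mul_div_cancel_left _ hk0]
        rw [hkdiv]
        split_ifs with hex
        · let S : Finset Fˣ := Finset.univ.filter fun x : Fˣ =>
            (x : F) ^ ((m + 1) * M) = ((dt l * t) ^ M)⁻¹
          have hS : S.card ≤ M * k := by
            refine (pow_solutions _).trans (le_of_eq ?_)
            rw [hq, hM, mul_comm h M, mul_comm (m + 1) M, Nat.gcd_mul_left, Nat.gcd_comm]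
          let S' : Finset F := S.image Units.val
          have hmaps : ∀ p ∈ (P a).filter fun p => cond p l, sgc p ∈ S' := by
            intro p hp
            obtain ⟨hpP, hpc⟩ := Finset.mem_filter.1 hp
            have hne : sgc p ≠ 0 := mul_ne_zero (pow_ne_zero _ (neg_ne_zero.2 one_ne_zero))
              (polys_spec (Finset.mem_filter.1 hpP).1).2.2
            refine Finset.mem_image.2 ⟨Units.mk0 _ hne, Finset.mem_filter.2 ⟨Finset.mem_univ _, ?_⟩, rfl⟩
            simp only [cond, dt, hlen l hl, hMdiv, mul_assoc, mul_pow, ← pow_mul] at hpc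
            rw [← mul_pow] at hpc
            exact eq_inv_of_mul_eq_one_left hpc
          refine (Finset.card_le_mul_card_image_of_maps_to hmaps (q ^ (a / e - 1)) fun v _ => ?_).trans ?_
          · refine le_trans (polys_fibre (e := e) hpos v _ fun p hp => ?_) (le_of_eq (by rw [hq]))
            exact by
              obtain ⟨hp1, hp2⟩ := Finset.mem_filter.1 hp
              obtain ⟨hp3, hp4⟩ := Finset.mem_filter.1 (Finset.mem_filter.1 hp1).1
              exact ⟨hp3, hp4, hp2⟩
          · rw [hMdiv]
            exact Nat.mul_le_mul_left _ (Finset.card_image_le.trans hS)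
        · refine le_of_eq (Finset.card_eq_zero.2 (Finset.filter_eq_empty_iff.2 fun {p} hpP hpc => hex ?_))
          have hne : sgc p ≠ 0 := mul_ne_zero (pow_ne_zero _ (neg_ne_zero.2 one_ne_zero))
            (polys_spec (Finset.mem_filter.1 hpP).1).2.2
          simp only [cond, dt, hlen l hl, hMdiv] at hpc
          have h1 : ((sgc p ^ (m + 1) * dt l * t) ^ M) ^ h' = 1 := by rw [hpc, one_pow]
          have h2 : (sgc p ^ (m + 1)) ^ (h' * M) = 1 := by
            rw [hb', show Nat.gcd (m + 1) h = k from rfl, ← pow_mul,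
              show k * b' * (h' * M) = (h * M) * b' by rw [hh', show Nat.gcd (m + 1) h = k from rfl]; ring,
              pow_mul, ← hM, ← hq, FiniteField.pow_card_sub_one_eq_one _ hne, one_pow]
          rw [← pow_mul, mul_comm M h', mul_assoc, mul_pow, h2, one_mul] at h1
          exact h1
      calc h * ∑ x ∈ (P a ×ˢ T a).filter (fun x => cond x.1 x.2), f (wt (x.1 :: x.2))
          = h * ∑ l ∈ T a, g (wt l) * ((P a).filter fun p => cond p l).card := by
            rw [Finset.sum_filter, Finset.sum_product_right]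
            congr 1
            refine Finset.sum_congr rfl fun l hl => ?_
            rw [← Finset.sum_filter, Finset.sum_congr rfl
              (fun p hp => hwt p (Finset.mem_filter.1 hp).1 l hl), Finset.sum_const, smul_eq_mul,
              mul_comm]
        _ ≤ h * ∑ l ∈ T a, g (wt l) * (if (dt l * t) ^ ((q - 1) / k) = 1 then
              q ^ (a / e - 1) * ((q - 1) / h * k) else 0) :=
            Nat.mul_le_mul_left _ (Finset.sum_le_sum fun l hl => Nat.mul_le_mul_left _ (hcount l hl))
        _ = cE q e a * (k * ∑ l ∈ T', g (wt l)) := by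
            simp only [mul_ite, mul_zero, ← Finset.sum_filter, ← Finset.sum_mul, T']
            rw [cE, if_pos hea, c, if_neg (Nat.div_pos (Nat.le_of_dvd hpos hea) he).ne']
            calc _ = (h * ((q - 1) / h)) * q ^ (a / e - 1) *
                  (k * ∑ l ∈ (T a).filter (fun l => (dt l * t) ^ ((q - 1) / k) = 1), g (wt l)) := by
                  ring
              _ = _ := by rw [Nat.mul_div_cancel' hh]
        _ ≤ _ := by
            refine Nat.mul_le_mul_left _ (le_trans ?_ ((hq ▸ weight_le e he m (n - a * (m + 1)) g k t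
              (hq.symm ▸ hk) ht :).trans (W_mono q e m _ fun w _ _ => le_of_eq ?_)))
            · exact le_rfl
            · show Nat.gcd w k * g w = Nat.gcd (Nat.gcd (m + 1) w) h * f (Nat.gcd (m + 1) w)
              rw [show k = Nat.gcd (m + 1) h from rfl, ← Nat.gcd_assoc, Nat.gcd_comm w (m + 1)]

end Codes

end Cfsg.Agent.SLWeight
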