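/-
Element orders of isometries of nondegenerate bilinear forms: a bound from the self-dual factorisation
of the characteristic polynomial.
-/
import Cfsg.Agent.Lib.Classical.SelfRecip
import Cfsg.Agent.Lib.Spectra.SympOrders
import Cfsg.Agent.Lib.Spectra.LinearOrders

set_option autoImplicit false

namespace Cfsg.Agent.SelfDualOrder

open Polynomial Finset UniqueFactorizationMonoid

/-! ### Arithmetic -/

theorem prod_two_pow (q : ℕ) (hq : 1 ≤ q) (M : ℕ) :
    (q - 1) * ∏ k ∈ range M, (q ^ 2 ^ k + 1) + 1 = q ^ 2 ^ M := by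
  induction M with
  | zero => simp; omega
  | succ M ih =>
    rw [prod_range_succ, pow_succ 2 M, pow_mul, ← mul_assoc]
    have := Nat.one_le_pow (2 ^ M) q hq
    generalize (q - 1) * ∏ k ∈ range M, (q ^ 2 ^ k + 1) = P at ih ⊢
    rw [← ih]
    ring

theorem prod_subset_le (q : ℕ) (hq : 1 ≤ q) (K : Finset ℕ) :
    (q - 1) * ∏ k ∈ K, (q ^ 2 ^ k + 1) ≤ q ^ (∑ k ∈ K, 2 ^ k + 1) := by
  obtain ⟨M, hM⟩ : ∃ M, K ⊆ range M := ⟨K.sup id + 1, fun k hk =>
    mem_range.2 (Nat.lt_succ_of_le (le_sup (f := id) hk))⟩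
  have hsum : ∑ k ∈ range M, 2 ^ k + 1 = 2 ^ M := by
    induction M with
    | zero => simp
    | succ M ih =>
      rw [sum_range_succ, pow_succ]
      have : ∑ k ∈ range M, 2 ^ k + 1 = 2 ^ M := by
        clear ih hM
        induction M with
        | zero => simp
        | succ M ih => rw [sum_range_succ, pow_succ]; omega
      omega
  have hm : q ^ (∑ k ∈ range M \ K, 2 ^ k) ≤ ∏ k ∈ range M \ K, (q ^ 2 ^ k + 1) := by
    rw [← prod_pow_eq_pow_sum]
    exact prod_le_prod' fun k _ => Nat.le_succ _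
  refine Nat.le_of_mul_le_mul_right ?_ (pow_pos hq (∑ k ∈ range M \ K, 2 ^ k))
  calc (q - 1) * (∏ k ∈ K, (q ^ 2 ^ k + 1)) * q ^ (∑ k ∈ range M \ K, 2 ^ k)
      ≤ (q - 1) * (∏ k ∈ K, (q ^ 2 ^ k + 1)) * ∏ k ∈ range M \ K, (q ^ 2 ^ k + 1) :=
        Nat.mul_le_mul_left _ hm
    _ = (q - 1) * ∏ k ∈ range M, (q ^ 2 ^ k + 1) := by
        rw [← prod_sdiff (f := fun k => q ^ 2 ^ k + 1) hM]; ring
    _ ≤ q ^ 2 ^ M := by rw [← prod_two_pow q hq M]; exact Nat.le_succ _
    _ = _ := by rw [← hsum, ← sum_sdiff hM, ← pow_add]; congr 1; omega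

theorem exists_odd_decomp {d : ℕ} (hd : 1 ≤ d) : ∃ r, Odd r ∧ d = 2 ^ padicValNat 2 d * r := by
  haveI : Fact (Nat.Prime 2) := ⟨Nat.prime_two⟩
  obtain ⟨r, hr⟩ := pow_padicValNat_dvd (p := 2) (n := d)
  refine ⟨r, Nat.not_even_iff_odd.1 fun ⟨t, ht⟩ => ?_, hr⟩
  refine pow_succ_padicValNat_not_dvd (p := 2) (n := d) (by omega) ⟨t, ?_⟩
  rw [pow_succ, mul_assoc]
  conv_lhs => rw [hr, ht]
  ring

/-- Least common multiple of the numbers `q ^ d + 1`. -/
theorem lcm_plus_le (q : ℕ) (hq : 2 ≤ q) (D : Finset ℕ) (hD : ∀ d ∈ D, 1 ≤ d) :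
    (q - 1) * D.lcm (fun d => q ^ d + 1) ≤ q ^ (∑ d ∈ D, d + 1) := by
  classical
  let K := D.image (padicValNat 2)
  let S : ℕ → Finset ℕ := fun k => D.filter fun d => padicValNat 2 d = k
  let b : ℕ → ℕ := fun d => (q ^ d + 1) / (q ^ 2 ^ padicValNat 2 d + 1)
  have hb : ∀ d ∈ D, (q ^ 2 ^ padicValNat 2 d + 1) * b d = q ^ d + 1 ∧ 2 ^ padicValNat 2 d ≤ d ∧
      b d ≤ q ^ (d - 2 ^ padicValNat 2 d) := by
    intro d hd
    obtain ⟨r, hr, hdr⟩ := exists_odd_decomp (hD d hd)
    have hdvd : q ^ 2 ^ padicValNat 2 d + 1 ∣ q ^ d + 1 := by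
      have h := hr.nat_add_dvd_pow_add_pow (q ^ 2 ^ padicValNat 2 d) 1
      rwa [one_pow, ← pow_mul, ← hdr] at h
    have hle : 2 ^ padicValNat 2 d ≤ d := by
      conv_rhs => rw [hdr]
      exact Nat.le_mul_of_pos_right _ hr.pos
    have h1 : (q ^ 2 ^ padicValNat 2 d + 1) * b d = q ^ d + 1 := Nat.mul_div_cancel' hdvd
    refine ⟨h1, hle, Nat.le_of_mul_le_mul_left ?_ (Nat.succ_pos (q ^ 2 ^ padicValNat 2 d))⟩
    rw [Nat.succ_eq_add_one, h1, add_mul, one_mul, ← pow_add, Nat.add_sub_cancel' hle]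
    exact Nat.add_le_add_left (Nat.one_le_pow _ _ (by omega)) _
  have hdvd : D.lcm (fun d => q ^ d + 1) ∣ ∏ k ∈ K, (q ^ 2 ^ k + 1) * ∏ d ∈ S k, b d := by
    refine Finset.lcm_dvd fun d hd => ?_
    refine Dvd.dvd.trans ?_ (dvd_prod_of_mem _ (mem_image_of_mem _ hd))
    rw [← (hb d hd).1]
    exact mul_dvd_mul_left _ (dvd_prod_of_mem _ (by simp [S, hd]))
  have hpos : 0 < ∏ k ∈ K, (q ^ 2 ^ k + 1) * ∏ d ∈ S k, b d :=
    prod_pos fun k _ => Nat.mul_pos (Nat.succ_pos _) (prod_pos fun d hd => Nat.pos_of_ne_zero fun h => by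
      have := (hb d (mem_filter.1 hd).1).1
      rw [h, mul_zero] at this
      exact (Nat.succ_ne_zero _) this.symm)
  refine (Nat.mul_le_mul_left _ (Nat.le_of_dvd hpos hdvd)).trans ?_
  rw [prod_mul_distrib, ← mul_assoc]
  have hsplit : ∏ k ∈ K, ∏ d ∈ S k, b d = ∏ d ∈ D, b d :=
    prod_fiberwise_of_maps_to (fun d hd => mem_image_of_mem _ hd) b
  rw [hsplit]
  have h2 : ∏ d ∈ D, b d ≤ q ^ (∑ d ∈ D, (d - 2 ^ padicValNat 2 d)) := by
    rw [← prod_pow_eq_pow_sum]
    exact prod_le_prod' fun d hd => (hb d hd).2.2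
  have hsub : ∑ k ∈ K, 2 ^ k ≤ ∑ d ∈ D, 2 ^ padicValNat 2 d := by
    rw [← sum_fiberwise_of_maps_to (fun d hd => mem_image_of_mem (padicValNat 2) hd)
      (fun d => 2 ^ padicValNat 2 d)]
    refine sum_le_sum fun k hk => ?_
    obtain ⟨d, hd, rfl⟩ := mem_image.1 hk
    exact single_le_sum_of_canonicallyOrdered (f := fun d => 2 ^ padicValNat 2 d) (i := d) (by simp [hd])
  calc _ ≤ q ^ (∑ k ∈ K, 2 ^ k + 1) * q ^ (∑ d ∈ D, (d - 2 ^ padicValNat 2 d)) :=
        Nat.mul_le_mul (prod_subset_le q (by omega) K) h2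
    _ ≤ _ := by
        rw [← pow_add]
        refine Nat.pow_le_pow_right (by omega) ?_
        have h3 : ∑ d ∈ D, (d - 2 ^ padicValNat 2 d) + ∑ d ∈ D, 2 ^ padicValNat 2 d = ∑ d ∈ D, d := by
          rw [← sum_add_distrib]
          exact sum_congr rfl fun d hd => Nat.sub_add_cancel (hb d hd).2.1
        omega

theorem lcm_minus_le (q : ℕ) (hq : 2 ≤ q) (D : Finset ℕ) (hD : ∀ d ∈ D, 1 ≤ d) :
    D.lcm (fun d => q ^ d - 1) ≤ q ^ ∑ d ∈ D, d := by
  have hpos : 0 < ∏ d ∈ D, (q ^ d - 1) :=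
    prod_pos fun d hd => Nat.sub_pos_of_lt (Nat.one_lt_pow (by have := hD d hd; omega) hq)
  refine (Nat.le_of_dvd hpos (Finset.lcm_dvd fun d hd => dvd_prod_of_mem _ hd)).trans ?_
  rw [← prod_pow_eq_pow_sum]
  exact prod_le_prod' fun d _ => Nat.sub_le _ _

theorem le_two_pow_succ_half (E : ℕ) : E ≤ 2 ^ ((E + 1) / 2) := by
  have h : ∀ c : ℕ, 2 * c ≤ 2 ^ c := fun c => by
    induction c with
    | zero => simp
    | succ c ih =>
      rw [pow_succ]
      have := Nat.one_le_two_pow (n := c)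
      omega
  have := h ((E + 1) / 2)
  omega

theorem le_three_pow_half (E : ℕ) : E ≤ 3 ^ (E / 2) := by
  have h : ∀ c : ℕ, 2 * c + 1 ≤ 3 ^ c := fun c => by
    induction c with
    | zero => simp
    | succ c ih => rw [pow_succ]; omega
  have := h (E / 2)
  omega

theorem two_mul_le_three_pow {m : ℕ} (hm : 3 ≤ m) : 2 * m ≤ 3 ^ (m - 1) := by
  induction m, hm using Nat.le_induction with
  | base => norm_num
  | succ m hm ih =>
    rw [show m + 1 - 1 = (m - 1) + 1 by omega, pow_succ]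
    omega

/-! ### The dual polynomial -/

variable {F : Type*} [Field F]

/-- The monic polynomial with inverted roots. -/
noncomputable def star (f : F[X]) : F[X] := C (f.coeff 0)⁻¹ * f.reverse

theorem star_one : star (1 : F[X]) = 1 := by
  rw [star, coeff_one_zero, inv_one, map_one, one_mul, ← C_1, reverse_C]

theorem star_mul (f g : F[X]) : star (f * g) = star f * star g := by
  rw [star, star, star, mul_coeff_zero, mul_inv, map_mul, reverse_mul_of_domain]
  ring

theorem star_prod (s : Multiset F[X]) : (s.map star).prod = star s.prod := by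
  induction s using Multiset.induction_on with
  | empty => simp [star_one]
  | cons a s ih => rw [Multiset.map_cons, Multiset.prod_cons, Multiset.prod_cons, star_mul, ih]

theorem natTrailing_zero {f : F[X]} (h0 : f.coeff 0 ≠ 0) : f.natTrailingDegree = 0 :=
  Nat.le_zero.1 (natTrailingDegree_le_of_ne_zero h0)

theorem star_monic {f : F[X]} (h0 : f.coeff 0 ≠ 0) : (star f).Monic := by
  rw [Monic, star, leadingCoeff_mul, leadingCoeff_C, reverse_leadingCoeff, trailingCoeff, natTrailing_zero h0,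
    inv_mul_cancel₀ h0]

theorem star_natDegree {f : F[X]} (h0 : f.coeff 0 ≠ 0) : (star f).natDegree = f.natDegree := by
  rw [star, natDegree_C_mul (inv_ne_zero h0), reverse_natDegree, natTrailing_zero h0, Nat.sub_zero]

theorem star_coeff_zero {f : F[X]} (hf : f.Monic) : (star f).coeff 0 = (f.coeff 0)⁻¹ := by
  rw [star, coeff_C_mul, coeff_zero_reverse, hf, mul_one]

theorem star_star {f : F[X]} (hf : f.Monic) (h0 : f.coeff 0 ≠ 0) : star (star f) = f := by
  have hrev : f.reverse.reverse = f := by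
    rw [reverse, reverse_natDegree, natTrailing_zero h0, Nat.sub_zero]
    ext i
    rw [coeff_reflect, coeff_reverse, revAt_invol]
  conv_lhs => rw [star, star_coeff_zero hf, inv_inv, star, reverse_mul_of_domain, reverse_C, hrev]
  rw [← mul_assoc, ← map_mul, mul_inv_cancel₀ h0, map_one, one_mul]

theorem star_irreducible {f : F[X]} (hf : f.Monic) (hi : Irreducible f) (h0 : f.coeff 0 ≠ 0) :
    Irreducible (star f) := by
  have hd := hi.natDegree_pos
  refine (irreducible_of_monic (star_monic h0) ?_).2 fun a b ha hb hab => ?_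
  · intro h
    have := star_natDegree h0
    rw [h, natDegree_one] at this
    omega
  have h : star a * star b = f := by rw [← star_mul, hab, star_star hf h0]
  have h' : a.coeff 0 ≠ 0 ∧ b.coeff 0 ≠ 0 := by
    have := congrArg (fun P => P.coeff 0) hab
    simp only [mul_coeff_zero, star_coeff_zero hf] at this
    exact mul_ne_zero_iff.1 (this ▸ inv_ne_zero h0)
  have key : ∀ c : F[X], c.Monic → c.coeff 0 ≠ 0 → IsUnit (star c) → c = 1 := fun c hc hc0 hu => by
    have := natDegree_eq_zero_of_isUnit hu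
    rw [star_natDegree hc0] at this
    exact hc.natDegree_eq_zero.1 this
  exact (hi.isUnit_or_isUnit h.symm).imp (key a ha h'.1) (key b hb h'.2)

theorem star_linear {c : F} (hc : c ≠ 0) : star (X + C c) = X + C c⁻¹ := by
  rw [star, coeff_add, coeff_X_zero, coeff_C_zero, zero_add, reverse, natDegree_X_add_C, reflect_add, reflect_C,
    show (X : F[X]) = C (1 : F) * X ^ 1 by rw [map_one, one_mul, pow_one], reflect_C_mul_X_pow, revAt_le le_rfl,
    Nat.sub_self, pow_zero, pow_one, map_one, one_mul, one_mul, mul_add, mul_one, ← mul_assoc, ← map_mul,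
    inv_mul_cancel₀ hc, map_one, one_mul, add_comm]

variable [Fintype F]

theorem dvd_card_sub_one {f : F[X]} (hi : Irreducible f) (h0 : f.coeff 0 ≠ 0) :
    f ∣ X ^ (Fintype.card F ^ f.natDegree - 1) - 1 := by
  have h := Spectra.irreducible_dvd_X_pow_succ_sub_X hi (N := Fintype.card F ^ f.natDegree - 1)
    (by rw [Nat.card_eq_fintype_card])
  rw [show (X : F[X]) ^ (Fintype.card F ^ f.natDegree - 1 + 1) - X =
    X * (X ^ (Fintype.card F ^ f.natDegree - 1) - 1) by ring] at h
  refine (hi.prime.dvd_or_dvd h).resolve_left fun hX => h0 ?_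
  have ha := hi.associated_of_dvd irreducible_X hX
  obtain ⟨u, hu⟩ := ha.symm
  rw [← hu, mul_coeff_zero, coeff_X_zero, zero_mul]

theorem selfdual_cases {f : F[X]} (hf : f.Monic) (hi : Irreducible f) (h0 : f.coeff 0 ≠ 0) (hs : star f = f) :
    f = X - 1 ∨ f = X + 1 ∨ ∃ i, 1 ≤ i ∧ f.natDegree = 2 * i ∧ f ∣ X ^ (Fintype.card F ^ i + 1) - 1 := by
  have : Fact (Irreducible f) := ⟨hi⟩
  have : Module.Finite F (AdjoinRoot f) := hf.finite_adjoinRoot
  have : Finite (AdjoinRoot f) := Module.finite_of_finite F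
  have hfr : Module.finrank F (AdjoinRoot f) = f.natDegree := by
    rw [(AdjoinRoot.powerBasis hi.ne_zero).finrank, AdjoinRoot.powerBasis_dim]
  obtain ⟨θ, hθ⟩ : ∃ θ, θ = AdjoinRoot.root f := ⟨_, rfl⟩
  have hθ0 : θ ≠ 0 := fun h => h0 (by
    have h1 : aeval θ f = 0 := by rw [hθ, AdjoinRoot.aeval_eq, AdjoinRoot.mk_self]
    rw [h, aeval_def, eval₂_at_zero] at h1
    exact (algebraMap F (AdjoinRoot f)).injective (h1.trans (map_zero _).symm))
  have hev : f.eval₂ (Algebra.ofId F (AdjoinRoot f) : F →+* AdjoinRoot f) θ⁻¹ = 0 := by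
    show aeval θ⁻¹ f = 0
    have h1 := SympSpectra.aeval_reflect (F := F) (mul_inv_cancel₀ hθ0) (inv_mul_cancel₀ hθ0) f.natDegree f le_rfl
    have h2 : aeval θ (reflect f.natDegree f) = 0 := by
      have h3 : f.reverse = C (f.coeff 0) * f := by
        calc f.reverse = C (f.coeff 0) * (C (f.coeff 0)⁻¹ * f.reverse) := by
              rw [← mul_assoc, ← map_mul, mul_inv_cancel₀ h0, map_one, one_mul]
          _ = C (f.coeff 0) * f := by rw [show C (f.coeff 0)⁻¹ * f.reverse = f from hs]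
      rw [show reflect f.natDegree f = f.reverse from rfl, h3, map_mul, hθ, AdjoinRoot.aeval_eq f, AdjoinRoot.mk_self,
        mul_zero]
    rw [h2] at h1
    exact (mul_eq_zero.1 h1.symm).resolve_left (pow_ne_zero _ hθ0)
  obtain ⟨σ, hσ⟩ : ∃ σ : AdjoinRoot f →ₐ[F] AdjoinRoot f, σ θ = θ⁻¹ :=
    ⟨AdjoinRoot.liftAlgHom f (Algebra.ofId F (AdjoinRoot f)) θ⁻¹ hev, by simp [hθ]⟩
  obtain ⟨⟨i, hi'⟩, rfl⟩ := (FiniteField.bijective_frobeniusAlgHom_pow F (AdjoinRoot f)).2 σ
  have hap : ∀ x : AdjoinRoot f,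
      (FiniteField.frobeniusAlgHom F (AdjoinRoot f) ^ i) x = x ^ Fintype.card F ^ i := fun x => by
    rw [AlgHom.coe_pow, FiniteField.coe_frobeniusAlgHom, pow_iterate]
  have hord : orderOf (FiniteField.frobeniusAlgHom F (AdjoinRoot f)) ∣ i + i := by
    refine orderOf_dvd_of_pow_eq_one (AdjoinRoot.algHom_ext ?_)
    rw [pow_add, AlgHom.mul_apply, ← hθ, hσ, map_inv₀, hσ, inv_inv, AlgHom.one_apply]
  rw [FiniteField.orderOf_frobeniusAlgHom, hfr] at hord
  simp only [hfr] at hi'
  have hfin : ∀ c : F, θ = algebraMap F _ c → f = X - C c := fun c hc => by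
    have h : f ∣ X - C c := by
      rw [← AdjoinRoot.mk_eq_zero, map_sub, AdjoinRoot.mk_X, AdjoinRoot.mk_C, ← hθ, ← AdjoinRoot.algebraMap_eq, hc,
        sub_self]
    exact eq_of_monic_of_associated hf (monic_X_sub_C c) (hi.associated_of_dvd (irreducible_X_sub_C c) h)
  rcases Nat.eq_zero_or_pos i with rfl | hip
  · rw [hap, pow_zero, pow_one] at hσ
    have h2 : θ * θ = 1 := by nth_rw 2 [hσ]; exact mul_inv_cancel₀ hθ0
    rcases mul_self_eq_one_iff.1 h2 with h | h
    · exact Or.inl (by rw [hfin 1 (by rw [map_one, h]), map_one])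
    · exact Or.inr (Or.inl (by rw [hfin (-1) (by rw [map_neg, map_one, h]), map_neg, map_one, sub_neg_eq_add]))
  · refine Or.inr (Or.inr ⟨i, hip, ?_, ?_⟩)
    · obtain ⟨r, hr⟩ := hord
      rcases r with _ | _ | r
      · omega
      · omega
      · exfalso
        rw [mul_add, mul_add] at hr
        omega
    · rw [← AdjoinRoot.mk_eq_zero, map_sub, map_pow, AdjoinRoot.mk_X, ← hθ, map_one, sub_eq_zero, pow_succ,
        ← hap, hσ, inv_mul_cancel₀ hθ0]

variable {ι : Type*} [Fintype ι] [DecidableEq ι]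

theorem charpoly_star (g G : Matrix ι ι F) (hG : IsUnit G.det) (h : g.transpose * G * g = G) :
    g.charpoly.coeff 0 ≠ 0 ∧ star g.charpoly = g.charpoly := by
  have hg : G⁻¹ * g.transpose * G * g = 1 := by
    rw [mul_assoc, mul_assoc, ← mul_assoc g.transpose G g, h, Matrix.nonsing_inv_mul _ hG]
  have hch : (G⁻¹ * g.transpose * G).charpoly = g.charpoly := by
    obtain ⟨u, rfl⟩ := (Matrix.isUnit_iff_isUnit_det G).2 hG
    exact (Matrix.charpoly_units_conj' u g.transpose).trans (Matrix.charpoly_transpose g)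
  have h0 : g.charpoly.coeff 0 ≠ 0 := by
    intro h0
    have h1 := Matrix.det_eq_sign_charpoly_coeff g
    rw [h0, mul_zero] at h1
    have := congrArg Matrix.det hg
    rw [Matrix.det_mul, h1, mul_zero, Matrix.det_one] at this
    exact zero_ne_one this
  refine ⟨h0, ?_⟩
  have key : g.charpoly.reverse = C (g.charpoly.coeff 0) * g.charpoly := by
    ext i
    rw [coeff_C_mul, coeff_reverse, Matrix.charpoly_natDegree_eq_dim]
    by_cases hi : i ≤ Fintype.card ι
    · rw [revAt_le hi, SelfRecip.coeff_rev_charpoly g _ hg i hi, hch]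
    · have hrev : revAt (Fintype.card ι) i = i := by
        show (if i ≤ Fintype.card ι then Fintype.card ι - i else i) = i
        rw [if_neg hi]
      rw [hrev, coeff_eq_zero_of_natDegree_lt (by rw [Matrix.charpoly_natDegree_eq_dim]; omega), mul_zero]
  rw [star, key, ← mul_assoc, ← map_mul, inv_mul_cancel₀ h0, map_one, one_mul]

theorem pow_eq_of_dvd (M : Matrix ι ι F) {N : ℕ} {c : F} (h : M.charpoly ∣ X ^ N - C c) : M ^ N = c • 1 := by
  obtain ⟨r, hr⟩ := h
  have h0 := congrArg (aeval M) hr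
  rw [map_mul, M.aeval_self_charpoly, zero_mul, map_sub, map_pow, aeval_X, aeval_C, sub_eq_zero,
    Algebra.algebraMap_eq_smul_one] at h0
  exact h0

/-- The bound. -/
theorem exists_exponent (M : Matrix ι ι F) (h0 : M.charpoly.coeff 0 ≠ 0) (hstar : star M.charpoly = M.charpoly)
    {m : ℕ} (p : ℕ) [Fact p.Prime] [CharP F p] (hn : Fintype.card ι ≤ 2 * m + 1) (h2 : p = 2 → Fintype.card ι ≤ 2 * m)
    (hm : 2 ≤ m) (hm3 : Fintype.card ι = 2 * m + 1 → 3 ≤ m) :
    ∃ N, 0 < N ∧ (Fintype.card F - 1) * N ≤ Fintype.card F ^ (m + 1) ∧ (M ^ N = 1 ∨ M ^ N = -1) := by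
  classical
  have hp := (Fact.out : p.Prime)
  set q := Fintype.card F with hq
  have hq2 : 2 ≤ q := Fintype.one_lt_card
  have hpq : p ≤ q := by
    obtain ⟨e, -, he⟩ := FiniteField.card F p
    rw [hq, he]; exact Nat.le_self_pow e.ne_zero p
  set χ := M.charpoly with hχ
  have hχm : χ.Monic := M.charpoly_monic
  set S := normalizedFactors χ with hS
  have hirr : ∀ f ∈ S, Irreducible f := fun f hf => irreducible_of_normalized_factor f hf
  have hmon : ∀ f ∈ S, f.Monic := fun f hf =>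
    normalize_normalized_factor f hf ▸ monic_normalize (hirr f hf).ne_zero
  have hprod : S.prod = χ := by rw [hS, prod_normalizedFactors_eq hχm.ne_zero, hχm.normalize_eq_self]
  have hc0 : ∀ f ∈ S, f.coeff 0 ≠ 0 := fun f hf h => by
    obtain ⟨r, hr⟩ := Multiset.dvd_prod hf
    rw [hprod] at hr
    exact h0 (by rw [hr, mul_coeff_zero, h, zero_mul])
  have hSmap : S.map star = S := by
    have h := normalizedFactors_prod_eq (S.map star) (by
      simp only [Multiset.mem_map]; rintro _ ⟨f, hf, rfl⟩; exact star_irreducible (hmon f hf) (hirr f hf) (hc0 f hf))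
    rw [star_prod, hprod, hstar, Multiset.map_map] at h
    refine Eq.trans ?_ h.symm
    refine (Multiset.map_congr rfl fun f hf => ?_).symm
    exact (star_monic (hc0 f hf)).normalize_eq_self
  set P := S.toFinset with hP
  let e : F[X] → ℕ := fun f => S.count f
  have hdeg : ∑ f ∈ P, e f * f.natDegree = Fintype.card ι := by
    rw [← M.charpoly_natDegree_eq_dim, ← hχ, ← hprod, natDegree_multiset_prod _ (fun h => (hirr 0 h).ne_zero rfl),
      Finset.sum_multiset_map_count]
    simp [e, hP]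
  have he1 : ∀ f ∈ P, 1 ≤ e f := fun f hf => Multiset.one_le_count_iff_mem.2 (Multiset.mem_toFinset.1 hf)
  have hstarP : ∀ f ∈ P, star f ∈ P := fun f hf => by
    rw [hP, Multiset.mem_toFinset] at hf ⊢
    rw [← hSmap]
    exact Multiset.mem_map_of_mem _ hf
  -- the three kinds of factors
  let P0 := P.filter fun f => f ≠ X - 1 ∧ f ≠ X + 1
  let T := P0.filter fun f => star f = f
  let U := P0.filter fun f => star f ≠ f
  let DT := T.image fun f => f.natDegree / 2
  let DU := U.image fun f => f.natDegree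
  have hP0 : ∀ f ∈ P0, f ∈ P ∧ f ∈ S ∧ f ≠ X - 1 ∧ f ≠ X + 1 := fun f hf =>
    ⟨(mem_filter.1 hf).1, Multiset.mem_toFinset.1 (mem_filter.1 hf).1, (mem_filter.1 hf).2⟩
  have hT : ∀ f ∈ T, ∃ i, 1 ≤ i ∧ f.natDegree = 2 * i ∧ f ∣ X ^ (q ^ i + 1) - 1 := fun f hf => by
    obtain ⟨h1, h2⟩ := mem_filter.1 hf
    obtain ⟨-, hfS, hne1, hne2⟩ := hP0 f h1
    exact ((selfdual_cases (hmon f hfS) (hirr f hfS) (hc0 f hfS) h2).resolve_left hne1).resolve_left hne2
  have hstarU : ∀ f ∈ U, star f ∈ U ∧ (star f).natDegree = f.natDegree := fun f hf => by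
    obtain ⟨h1, h2⟩ := mem_filter.1 hf
    obtain ⟨hfP, hfS, hne1, hne2⟩ := hP0 f h1
    have hss := star_star (hmon f hfS) (hc0 f hfS)
    refine ⟨mem_filter.2 ⟨mem_filter.2 ⟨hstarP f hfP, fun h => hne1 ?_, fun h => hne2 ?_⟩,
      fun h => h2 (h.symm.trans hss)⟩, star_natDegree (hc0 f hfS)⟩
    · rw [← hss, h, show (X - 1 : F[X]) = X + C (-1) by rw [map_neg, map_one]; ring,
        star_linear (neg_ne_zero.2 one_ne_zero), inv_neg, inv_one]
    · rw [← hss, h, show (X + 1 : F[X]) = X + C 1 by rw [map_one], star_linear one_ne_zero, inv_one]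
  -- degree bookkeeping
  have hDU : 2 * ∑ d ∈ DU, d ≤ ∑ f ∈ U, f.natDegree := by
    rw [← sum_fiberwise_of_maps_to (g := fun f : F[X] => f.natDegree) (fun f hf => mem_image_of_mem (fun f : F[X] => f.natDegree) hf) (fun f : F[X] => f.natDegree),
      mul_sum]
    refine sum_le_sum fun d hd => ?_
    obtain ⟨f, hf, rfl⟩ := mem_image.1 hd
    obtain ⟨h1, h2⟩ := hstarU f hf
    refine le_trans ?_ (sum_le_sum_of_subset (show ({f, star f} : Finset F[X]) ⊆ _ by
      intro g hg
      rcases mem_insert.1 hg with rfl | hg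
      · exact mem_filter.2 ⟨hf, rfl⟩
      · rw [mem_singleton] at hg; subst hg; exact mem_filter.2 ⟨h1, h2⟩))
    rw [sum_pair (Ne.symm (mem_filter.1 hf).2), h2, two_mul]
  have hDT : 2 * ∑ d ∈ DT, d ≤ ∑ f ∈ T, f.natDegree := by
    rw [← sum_fiberwise_of_maps_to (g := fun f : F[X] => f.natDegree / 2) (fun f hf => mem_image_of_mem (fun f : F[X] => f.natDegree / 2) hf) (fun f : F[X] => f.natDegree),
      mul_sum]
    refine sum_le_sum fun d hd => ?_
    obtain ⟨f, hf, rfl⟩ := mem_image.1 hd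
    obtain ⟨i, -, hfi, -⟩ := hT f hf
    refine le_trans ?_ (single_le_sum_of_canonicallyOrdered (f := fun f : F[X] => f.natDegree) (i := f)
      (mem_filter.2 ⟨hf, rfl⟩))
    omega
  set D0 := ∑ d ∈ DT, d + ∑ d ∈ DU, d with hD0
  have hP0deg : 2 * D0 ≤ ∑ f ∈ P0, f.natDegree := by
    rw [← sum_filter_add_sum_filter_not P0 (fun f => star f = f) (fun f => f.natDegree)]
    show _ ≤ ∑ f ∈ T, f.natDegree + ∑ f ∈ U, f.natDegree
    omega
  obtain ⟨L0, hL0def⟩ : ∃ L0, L0 = Nat.lcm (DT.lcm fun d => q ^ d + 1) (DU.lcm fun d => q ^ d - 1) := ⟨_, rfl⟩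
  have hdT : ∀ f ∈ T, f.natDegree / 2 ∈ DT := fun f hf => mem_image_of_mem _ hf
  have hdU : ∀ f ∈ U, f.natDegree ∈ DU := fun f hf => mem_image_of_mem _ hf
  have hLT : ∀ d ∈ DT, q ^ d + 1 ∣ L0 := fun d hd => by
    rw [hL0def]; exact (Finset.dvd_lcm (f := fun d => q ^ d + 1) hd).trans (Nat.dvd_lcm_left _ _)
  have hLU : ∀ d ∈ DU, q ^ d - 1 ∣ L0 := fun d hd => by
    rw [hL0def]; exact (Finset.dvd_lcm (f := fun d => q ^ d - 1) hd).trans (Nat.dvd_lcm_right _ _)
  have hDTpos : ∀ d ∈ DT, 1 ≤ d := fun d hd => by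
    obtain ⟨f, hf, rfl⟩ := mem_image.1 hd
    obtain ⟨i, hi, hfi, -⟩ := hT f hf
    omega
  have hDUpos : ∀ d ∈ DU, 1 ≤ d := fun d hd => by
    obtain ⟨f, hf, rfl⟩ := mem_image.1 hd
    exact (hirr f (hP0 f (mem_filter.1 hf).1).2.1).natDegree_pos
  have hL0 : (q - 1) * L0 ≤ q ^ (D0 + 1) := by
    have h1 := lcm_plus_le q hq2 DT hDTpos
    have h2 := lcm_minus_le q hq2 DU hDUpos
    have hpos : 0 < (DT.lcm fun d => q ^ d + 1) * (DU.lcm fun d => q ^ d - 1) := by
      refine Nat.mul_pos (Nat.pos_of_ne_zero fun h => ?_) (Nat.pos_of_ne_zero fun h => ?_) <;>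
        obtain ⟨d, hd, hd0⟩ := Finset.lcm_eq_zero_iff.1 h
      · exact Nat.succ_ne_zero _ hd0
      · have := Nat.one_lt_pow (Nat.one_le_iff_ne_zero.1 (hDUpos d hd)) hq2
        omega
    rw [hL0def]
    calc (q - 1) * Nat.lcm (DT.lcm fun d => q ^ d + 1) (DU.lcm fun d => q ^ d - 1) ≤ (q - 1) * ((DT.lcm fun d => q ^ d + 1) * (DU.lcm fun d => q ^ d - 1)) :=
          Nat.mul_le_mul_left _ (Nat.le_of_dvd hpos (Nat.lcm_dvd_mul _ _))
      _ ≤ q ^ (∑ d ∈ DT, d + 1) * q ^ (∑ d ∈ DU, d) := by rw [← mul_assoc]; exact Nat.mul_le_mul h1 h2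
      _ = _ := by rw [← pow_add, hD0]; congr 1; omega
  have hord : ∀ f ∈ P0, f ∣ X ^ L0 - 1 := fun f hf => by
    have hup : ∀ o, o ∣ L0 → f ∣ X ^ o - 1 → f ∣ X ^ L0 - 1 := fun o ho h => by
      obtain ⟨r, hr⟩ := ho
      rw [hr, pow_mul]
      exact h.trans (sub_one_dvd_pow_sub_one _ r)
    by_cases hs : star f = f
    · obtain ⟨i, -, hfi, hdvd⟩ := hT f (mem_filter.2 ⟨hf, hs⟩)
      refine hup (q ^ i + 1) ?_ hdvd
      have h1 := hLT _ (hdT f (mem_filter.2 ⟨hf, hs⟩))
      rwa [show f.natDegree / 2 = i by omega] at h1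
    · exact hup _ (hLU _ (hdU f (mem_filter.2 ⟨hf, hs⟩)))
        (dvd_card_sub_one (hirr f (hP0 f hf).2.1) (hc0 f (hP0 f hf).2.1))
  -- the characteristic polynomial divides `(X ^ L - c) ^ p ^ k`
  set E := P.sup e with hE
  set k := Nat.clog p E with hk
  have heK : ∀ f ∈ P, e f ≤ p ^ k := fun f hf => (le_sup hf).trans (Nat.le_pow_clog hp.one_lt E)
  have hkill : ∀ (L : ℕ) (c : F), c = 1 ∨ c = -1 → (∀ f ∈ P, f ∣ X ^ L - C c) →
      M ^ (L * p ^ k) = 1 ∨ M ^ (L * p ^ k) = -1 := fun L c hc h => by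
    have hd : χ ∣ X ^ (L * p ^ k) - C (c ^ p ^ k) := by
      rw [pow_mul, map_pow, ← sub_pow_char_pow, ← hprod, Finset.prod_multiset_count]
      refine Finset.prod_dvd_of_coprime (fun f hf g hg hfg => ?_) fun f hf => ?_
      · have hf' := Multiset.mem_toFinset.1 hf
        have hg' := Multiset.mem_toFinset.1 hg
        refine ((hirr f hf').coprime_iff_not_dvd.2 fun hd => hfg ?_).pow
        exact eq_of_monic_of_associated (hmon f hf') (hmon g hg') ((hirr f hf').associated_of_dvd (hirr g hg') hd)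
      · exact (pow_dvd_pow f (heK f hf)).trans (pow_dvd_pow_of_dvd (h f hf) _)
    have := pow_eq_of_dvd M hd
    rcases hc with rfl | rfl
    · exact Or.inl (by rw [this, one_pow, one_smul])
    · rcases neg_one_pow_eq_or F (p ^ k) with h1 | h1
      · exact Or.inl (by rw [this, h1, one_smul])
      · exact Or.inr (by rw [this, h1, neg_one_smul])
  -- the power of the characteristic
  have hsumP : ∑ f ∈ P0, f.natDegree ≤ ∑ f ∈ P0, e f * f.natDegree :=
    sum_le_sum fun f hf => Nat.le_mul_of_pos_left _ (he1 f (hP0 f hf).1)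
  have hP0le : ∑ f ∈ P0, e f * f.natDegree ≤ Fintype.card ι :=
    hdeg ▸ sum_le_sum_of_subset (filter_subset _ _)
  have hDm : D0 + k ≤ m := by
    rcases Nat.eq_zero_or_pos E with hE0 | hE0
    · rw [hk, hE0, Nat.clog_zero_right]; omega
    have hPne : P.Nonempty := Finset.nonempty_iff_ne_empty.2 fun h => by rw [hE, h] at hE0; simp at hE0
    obtain ⟨f, hf, hfE⟩ := exists_mem_eq_sup P hPne e
    rw [← hE] at hfE
    by_cases hfP0 : f ∈ P0
    · have hkE : k ≤ E - 1 := Nat.clog_le_of_le_pow (by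
        have := Nat.lt_pow_self (n := E - 1) hp.one_lt
        omega)
      by_cases hs : star f = f
      · obtain ⟨i, hi, hfi, -⟩ := hT f (mem_filter.2 ⟨hfP0, hs⟩)
        have h1 : ∑ g ∈ P0, g.natDegree + (E - 1) * f.natDegree ≤ ∑ g ∈ P0, e g * g.natDegree := by
          rw [← add_sum_erase _ _ hfP0, ← add_sum_erase _ _ hfP0, ← hfE,
            show E * f.natDegree = f.natDegree + (E - 1) * f.natDegree by
              conv_lhs => rw [show E = 1 + (E - 1) by omega, add_mul, one_mul]]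
          have := sum_le_sum (s := P0.erase f) (f := fun g => g.natDegree) (g := fun g => e g * g.natDegree)
            fun g hg => Nat.le_mul_of_pos_left _ (he1 g (hP0 g (mem_of_mem_erase hg)).1)
          omega
        have h2 : (E - 1) * 2 ≤ (E - 1) * f.natDegree := Nat.mul_le_mul_left _ (by omega)
        omega
      · obtain ⟨hsU, hsd⟩ := hstarU f (mem_filter.2 ⟨hfP0, hs⟩)
        have hse : e (star f) = E := by
          have hfS := Multiset.mem_toFinset.1 hf
          rw [hfE]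
          show S.count (star f) = S.count f
          conv_lhs => rw [← hSmap]
          refine Multiset.count_map_eq_count _ _ (fun a ha b hb hab => ?_) _ hfS
          rw [← star_star (hmon a ha) (hc0 a ha), hab, star_star (hmon b hb) (hc0 b hb)]
        have hsP0 : star f ∈ P0.erase f := mem_erase.2 ⟨hs, (mem_filter.1 hsU).1⟩
        have hd1 : 1 ≤ f.natDegree := (hirr f (hP0 f hfP0).2.1).natDegree_pos
        have h1 : ∑ g ∈ P0, g.natDegree + 2 * ((E - 1) * f.natDegree) ≤ ∑ g ∈ P0, e g * g.natDegree := by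
          rw [← add_sum_erase _ _ hfP0, ← add_sum_erase _ _ hfP0, ← hfE,
            ← add_sum_erase _ _ hsP0, ← add_sum_erase _ _ hsP0, hse, hsd,
            show E * f.natDegree = f.natDegree + (E - 1) * f.natDegree by
              conv_lhs => rw [show E = 1 + (E - 1) by omega, add_mul, one_mul]]
          have := sum_le_sum (s := (P0.erase f).erase (star f)) (f := fun g => g.natDegree)
            (g := fun g => e g * g.natDegree)
            fun g hg => Nat.le_mul_of_pos_left _ (he1 g (hP0 g (mem_of_mem_erase (mem_of_mem_erase hg))).1)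
          omega
        have h2 : E - 1 ≤ (E - 1) * f.natDegree := Nat.le_mul_of_pos_right _ hd1
        omega
    · have hd : f.natDegree = 1 := by
        have h : f = X - 1 ∨ f = X + 1 := by
          by_contra h
          push Not at h
          exact hfP0 (mem_filter.2 ⟨hf, h.1, h.2⟩)
        rcases h with rfl | rfl
        · rw [← C_1, natDegree_X_sub_C]
        · rw [← C_1, natDegree_X_add_C]
      have h1 : ∑ g ∈ P0, e g * g.natDegree + E ≤ Fintype.card ι := by
        rw [← hdeg]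
        refine le_trans (le_of_eq ?_) (sum_le_sum_of_subset (show insert f P0 ⊆ P from
          insert_subset_iff.2 ⟨hf, filter_subset _ _⟩))
        rw [sum_insert hfP0, hd, mul_one, ← hfE, add_comm]
      rcases hp.eq_two_or_odd with rfl | hodd
      · have := h2 rfl
        have : k ≤ (E + 1) / 2 := Nat.clog_le_of_le_pow (le_two_pow_succ_half E)
        omega
      · have hp3 : 3 ≤ p := by have := hp.two_le; omega
        have : k ≤ E / 2 := Nat.clog_le_of_le_pow
          ((le_three_pow_half E).trans (Nat.pow_le_pow_left hp3 _))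
        omega
  have hbound : (q - 1) * L0 * p ^ k ≤ q ^ (m + 1) :=
    calc (q - 1) * L0 * p ^ k ≤ q ^ (D0 + 1) * q ^ k := Nat.mul_le_mul hL0 (Nat.pow_le_pow_left hpq k)
      _ ≤ q ^ (m + 1) := by rw [← pow_add]; exact Nat.pow_le_pow_right (by omega) (by omega)
  have hL0pos : 0 < L0 := hL0def ▸ Nat.lcm_pos
    (Nat.pos_of_ne_zero fun h => by
      obtain ⟨d, -, hd0⟩ := Finset.lcm_eq_zero_iff.1 h
      exact Nat.succ_ne_zero _ hd0)
    (Nat.pos_of_ne_zero fun h => by
      obtain ⟨d, hd, hd0⟩ := Finset.lcm_eq_zero_iff.1 h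
      have := Nat.one_lt_pow (Nat.one_le_iff_ne_zero.1 (hDUpos d hd)) hq2
      omega)
  have hppos : 0 < p ^ k := pow_pos hp.pos k
  have hlin1 : ∀ L : ℕ, (X - 1 : F[X]) ∣ X ^ L - 1 := fun L => sub_one_dvd_pow_sub_one _ L
  -- the case distinction on the sign
  by_cases hXm : (X + 1 : F[X]) ∈ P ∧ (2 : F) ≠ 0
  · obtain ⟨hmem, hchar⟩ := hXm
    have hlin2 : ∀ L : ℕ, Even L → (X + 1 : F[X]) ∣ X ^ L - 1 := fun L ⟨r, hr⟩ => by
      rw [hr, pow_add, ← pow_two, ← pow_mul, mul_comm r, pow_mul]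
      exact (Dvd.intro (X - 1) (by ring)).trans (sub_one_dvd_pow_sub_one ((X : F[X]) ^ 2) r)
    by_cases hne : P0.Nonempty
    · have hqodd : Odd q := Nat.not_even_iff_odd.1 fun hev => hchar (by
        rw [hq, Nat.even_iff, FiniteField.even_card_iff_char_two.symm] at hev
        haveI : CharP F 2 := ringChar.of_eq hev
        exact CharTwo.two_eq_zero)
      have heven : Even L0 := by
        obtain ⟨f, hf⟩ := hne
        rw [even_iff_two_dvd]
        by_cases hs : star f = f
        · exact (even_iff_two_dvd.1 hqodd.pow.add_one).trans (hLT _ (hdT f (mem_filter.2 ⟨hf, hs⟩)))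
        · exact (even_iff_two_dvd.1 (Nat.Odd.sub_odd hqodd.pow odd_one)).trans (hLU _ (hdU f (mem_filter.2 ⟨hf, hs⟩)))
      refine ⟨L0 * p ^ k, Nat.mul_pos hL0pos hppos, by rw [← mul_assoc]; exact hbound,
        hkill L0 1 (Or.inl rfl) fun f hf => ?_⟩
      rw [map_one]
      by_cases hfP0 : f ∈ P0
      · exact hord f hfP0
      · by_cases h1 : f = X - 1
        · exact h1 ▸ hlin1 L0
        · rw [show f = X + 1 by by_contra h; exact hfP0 (mem_filter.2 ⟨hf, h1, h⟩)]
          exact hlin2 L0 heven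
    · rw [Finset.not_nonempty_iff_eq_empty] at hne
      have hpm : ∀ f ∈ P, f = X - 1 ∨ f = X + 1 := fun f hf => by
        by_contra h
        push Not at h
        exact (Finset.eq_empty_iff_forall_notMem.1 hne) f (mem_filter.2 ⟨hf, h.1, h.2⟩)
      by_cases h1 : (X - 1 : F[X]) ∈ P
      · have hne' : (X - 1 : F[X]) ≠ X + 1 := fun h => hchar (by
          have := congrArg (fun P : F[X] => P.coeff 0) h
          simp at this
          linear_combination -this)
        have hd1 : (X - 1 : F[X]).natDegree = 1 := by rw [← C_1, natDegree_X_sub_C]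
        have hd2 : (X + 1 : F[X]).natDegree = 1 := by rw [← C_1, natDegree_X_add_C]
        have hE1 : E + 1 ≤ Fintype.card ι := by
          have hs : e (X - 1) + e (X + 1) ≤ Fintype.card ι := by
            rw [← hdeg]
            refine le_trans (le_of_eq ?_) (sum_le_sum_of_subset (show ({X - 1, X + 1} : Finset F[X]) ⊆ P from
              insert_subset_iff.2 ⟨h1, singleton_subset_iff.2 hmem⟩))
            rw [sum_pair hne', hd1, hd2, mul_one, mul_one]
          have := he1 _ h1; have := he1 _ hmem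
          have : E ≤ max (e (X - 1)) (e (X + 1)) := Finset.sup_le fun f hf => by
            rcases hpm f hf with rfl | rfl <;> omega
          omega
        have hp3 : 3 ≤ p := by
          have := hp.two_le
          by_contra h
          obtain rfl : p = 2 := by omega
          exact hchar CharTwo.two_eq_zero
        have hkm : k ≤ m - 1 := by
          refine Nat.clog_le_of_le_pow (le_trans ?_ (Nat.pow_le_pow_left hp3 _))
          rcases Nat.lt_or_ge m 3 with h | h
          · obtain rfl : m = 2 := by omega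
            norm_num
            omega
          · exact le_trans (by omega) (two_mul_le_three_pow h)
        refine ⟨2 * p ^ k, by omega, ?_, hkill 2 1 (Or.inl rfl) fun f hf => ?_⟩
        · calc (q - 1) * (2 * p ^ k) ≤ q * (q * q ^ (m - 1)) := Nat.mul_le_mul (Nat.sub_le _ _)
                (Nat.mul_le_mul hq2 ((Nat.pow_le_pow_left hpq k).trans (Nat.pow_le_pow_right (by omega) hkm)))
            _ = _ := by rw [← pow_succ', ← pow_succ']; congr 1; omega
        · rw [map_one]
          rcases hpm f hf with rfl | rfl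
          · exact hlin1 2
          · exact hlin2 2 even_two
      · refine ⟨1 * p ^ k, by omega, ?_, hkill 1 (-1) (Or.inr rfl) fun f hf => ?_⟩
        · rw [one_mul]
          calc (q - 1) * p ^ k ≤ q * q ^ k := Nat.mul_le_mul (Nat.sub_le _ _) (Nat.pow_le_pow_left hpq k)
            _ ≤ _ := by rw [← pow_succ']; exact Nat.pow_le_pow_right (by omega) (by omega)
        · rcases hpm f hf with rfl | rfl
          · exact absurd hf h1
          · rw [pow_one, map_neg, map_one, sub_neg_eq_add]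
  · refine ⟨L0 * p ^ k, Nat.mul_pos hL0pos hppos, by rw [← mul_assoc]; exact hbound,
      hkill L0 1 (Or.inl rfl) fun f hf => ?_⟩
    rw [map_one]
    by_cases hfP0 : f ∈ P0
    · exact hord f hfP0
    by_cases h1 : f = X - 1
    · exact h1 ▸ hlin1 L0
    have hf2 : f = X + 1 := by by_contra h; exact hfP0 (mem_filter.2 ⟨hf, h1, h⟩)
    subst hf2
    have h2' : (2 : F) = 0 := by
      by_contra h
      exact hXm ⟨hf, h⟩
    have : (X + 1 : F[X]) = X - 1 := by
      have : (2 : F[X]) = 0 := by rw [show (2 : F[X]) = C 2 from (map_ofNat C 2).symm, h2', map_zero]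
      linear_combination this
    exact this ▸ hlin1 L0

theorem order_bound {G : Type*} [Group G] {x : G} {N q m : ℕ} (hN : 0 < N) (hb : (q - 1) * N ≤ q ^ (m + 1))
    (hx : x ^ N = 1) : (q - 1) * orderOf x ≤ q ^ (m + 1) :=
  (Nat.mul_le_mul_left _ (orderOf_le_of_pow_eq_one hN hx)).trans hb

end Cfsg.Agent.SelfDualOrder
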