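/-
The order bound in projective symplectic and orthogonal groups.
-/
import Cfsg.Agent.Lib.Classical.SelfDualOrder
import Cfsg.Agent.Lib.Classical.Symplectic
import Cfsg.Agent.Lib.Orthogonal.Counts
import Cfsg.Agent.Lib.Orthogonal.Matrix

set_option autoImplicit false

namespace Cfsg.Agent.SelfDualOrder

open Matrix QuadraticMap

variable {F : Type*} [Field F] [Fintype F]

theorem psp_bound (m : ℕ) (hm : 2 ≤ m) (g : Cfsg.PSp m F) :
    (Fintype.card F - 1) * orderOf g ≤ Fintype.card F ^ (m + 1) := by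
  classical
  obtain ⟨p, hp⟩ := CharP.exists F
  haveI : Fact p.Prime := ⟨CharP.char_is_prime F p⟩
  obtain ⟨s, rfl⟩ := QuotientGroup.mk'_surjective _ g
  obtain ⟨h0, hstar⟩ := charpoly_star (s : Matrix (Fin m ⊕ Fin m) (Fin m ⊕ Fin m) F) (Matrix.J (Fin m) F)
    (Matrix.isUnit_det_J (Fin m) F) (SymplecticGroup.mem_iff'.1 s.2)
  obtain ⟨N, hN, hb, hpow⟩ := exists_exponent _ h0 hstar (m := m) p (by simp; omega) (fun _ => by simp; omega) hm
    (fun h => by simp at h; omega)
  refine order_bound hN hb ((map_pow (QuotientGroup.mk' _) s N).symm.trans ?_)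
  show ((s ^ N : Matrix.symplecticGroup (Fin m) F) : Cfsg.PSp m F) = 1
  rw [QuotientGroup.eq_one_iff, Subgroup.mem_center_iff]
  intro h
  refine Subtype.ext ?_
  rw [Submonoid.coe_mul, Submonoid.coe_mul, SubmonoidClass.coe_pow]
  rcases hpow with e | e <;> rw [e] <;> simp

theorem pomega_bound {ι : Type} [Fintype ι] [DecidableEq ι] (Q : QuadraticForm F (ι → F))
    (hQ : (polarBilin Q).Nondegenerate) (m : ℕ) (hm : 3 ≤ m) (hι : Fintype.card ι ≤ 2 * m + 1)
    (h2 : ringChar F = 2 → Fintype.card ι ≤ 2 * m) (g : Cfsg.POmega F (⇑Q)) :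
    (Fintype.card F - 1) * orderOf g ≤ Fintype.card F ^ (m + 1) := by
  obtain ⟨p, hp⟩ := CharP.exists F
  haveI : Fact p.Prime := ⟨CharP.char_is_prime F p⟩
  obtain ⟨s, rfl⟩ := QuotientGroup.mk'_surjective _ g
  set M : Matrix ι ι F := (((s : Cfsg.isometryGroup F (⇑Q)) : GL ι F) : Matrix ι ι F) with hMd
  set G := LinearMap.toMatrix₂' F (polarBilin Q) with hGd
  have hG : IsUnit G.det := isUnit_iff_ne_zero.2
    (Matrix.nondegenerate_iff_det_ne_zero.1 (LinearMap.nondegenerate_toMatrix₂'_iff.2 hQ))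
  have hMG : Mᵀ * G * M = G := by
    have h1 := LinearMap.toMatrix₂'_compl₁₂ (polarBilin Q) (Matrix.toLin' M) (Matrix.toLin' M)
    rw [LinearMap.toMatrix'_toLin'] at h1
    rw [hGd, ← h1]
    congr 1
    refine LinearMap.ext fun x => LinearMap.ext fun y => ?_
    simp only [LinearMap.compl₁₂_apply, Matrix.toLin'_apply, polarBilin_apply_apply]
    exact Orth.b_map (Orth.isoEquiv Q s.1).2 x y
  obtain ⟨h0, hstar⟩ := charpoly_star M G hG hMG
  obtain ⟨N, hN, hb, hpow⟩ := exists_exponent M h0 hstar (m := m) p hι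
    (fun hp2 => h2 (by subst hp2; exact ringChar.eq F 2)) (by omega) (fun _ => hm)
  refine order_bound hN hb ((map_pow (QuotientGroup.mk' _) s N).symm.trans ?_)
  show ((s ^ N : Cfsg.Omega F (⇑Q)) : Cfsg.POmega F (⇑Q)) = 1
  rw [QuotientGroup.eq_one_iff, Subgroup.mem_center_iff]
  intro h
  refine Subtype.ext (Subtype.ext (Units.ext ?_))
  simp only [Subgroup.coe_mul, Units.val_mul, SubgroupClass.coe_pow, Units.val_pow_eq_pow_val, ← hMd]
  rcases hpow with e | e <;> rw [e] <;> simp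

end Cfsg.Agent.SelfDualOrder
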