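import Mathlib.LinearAlgebra.Determinant
import Mathlib.LinearAlgebra.Matrix.Rank
import Mathlib.LinearAlgebra.Matrix.SpecialLinearGroup
import Mathlib.FieldTheory.Finite.Basic
import Mathlib.Tactic

/-! Square-zero endomorphisms and conjugacy of involutions of `SL_n` in characteristic two. -/

set_option autoImplicit false

namespace Cfsg.Agent.SqZero

open Module

variable {F : Type*} [Field F] {V : Type*} [AddCommGroup V] [Module F V] [FiniteDimensional F V]

/-- The normal form of a square-zero endomorphism. -/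
theorem exists_model (N : V →ₗ[F] V) (hN : ∀ v, N (N v) = 0) (r : ℕ) (hr : finrank F (LinearMap.range N) = r) :
    ∃ (d : ℕ) (Φ : (((Fin r → F) × (Fin d → F)) × (Fin r → F)) ≃ₗ[F] V),
      2 * r + d = finrank F V ∧ ∀ x y z, N (Φ ((x, y), z)) = Φ ((0, 0), x) := by
  let R := LinearMap.range N
  let e : (Fin r → F) ≃ₗ[F] R := LinearEquiv.ofFinrankEq _ _ (by rw [finrank_fintype_fun_eq_card, Fintype.card_fin, hr])
  obtain ⟨sec, hsec⟩ := N.rangeRestrict.exists_rightInverse_of_surjective N.range_rangeRestrict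
  let S : (Fin r → F) →ₗ[F] V := sec.comp e.toLinearMap
  have hNS : ∀ x, N (S x) = (e x : V) := fun x => congrArg Subtype.val (LinearMap.congr_fun hsec (e x))
  obtain ⟨C, hC⟩ := Submodule.exists_isCompl R
  let D := C ⊓ LinearMap.ker N
  let j : (Fin (finrank F D) → F) ≃ₗ[F] D := LinearEquiv.ofFinrankEq _ _ (by rw [finrank_fintype_fun_eq_card, Fintype.card_fin])
  let f : (((Fin r → F) × (Fin (finrank F D) → F)) × (Fin r → F)) →ₗ[F] V :=
    (S.coprod (D.subtype.comp j.toLinearMap)).coprod (N.comp S)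
  have hf : ∀ x y z, f ((x, y), z) = S x + (j y : V) + N (S z) := fun x y z => rfl
  have hbij : Function.Bijective f := by
    constructor
    · rw [← LinearMap.ker_eq_bot, LinearMap.ker_eq_bot']
      rintro ⟨⟨x, y⟩, z⟩ h
      rw [hf] at h
      have h1 := congrArg N h
      rw [map_add, map_add, map_zero, hN, add_zero, LinearMap.mem_ker.mp (j y).2.2, add_zero, hNS] at h1
      have hx : x = 0 := e.map_eq_zero_iff.mp (Subtype.ext h1)
      subst hx
      rw [map_zero, zero_add, hNS] at h
      have hy : (j y : V) ∈ R := by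
        rw [show (j y : V) = -(e z : V) from eq_neg_of_add_eq_zero_left h]
        exact R.neg_mem (e z).2
      have hy0 : (j y : V) = 0 := Submodule.disjoint_def.mp hC.disjoint _ hy (j y).2.1
      rw [hy0, zero_add] at h
      rw [e.map_eq_zero_iff.mp (Subtype.ext h), j.map_eq_zero_iff.mp (Subtype.ext hy0)]
      rfl
    · intro v
      set x := e.symm ⟨N v, LinearMap.mem_range_self N v⟩
      have hx : N (v - S x) = 0 := by rw [map_sub, hNS, LinearEquiv.apply_symm_apply, sub_self]
      obtain ⟨p, hp, c, hc, hpc⟩ := Submodule.mem_sup.mp (hC.sup_eq_top ▸ Submodule.mem_top : v - S x ∈ R ⊔ C)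
      obtain ⟨p', rfl⟩ := hp
      have hck : c ∈ LinearMap.ker N := by
        rw [LinearMap.mem_ker]
        have := congrArg N hpc
        rwa [map_add, hN, zero_add, hx] at this
      refine ⟨((x, j.symm ⟨c, hc, hck⟩), e.symm ⟨N p', LinearMap.mem_range_self N p'⟩), ?_⟩
      rw [hf, LinearEquiv.apply_symm_apply, hNS, LinearEquiv.apply_symm_apply]
      show S x + c + N p' = v
      rw [show v = S x + (v - S x) by abel, ← hpc]; abel
  let Φ := LinearEquiv.ofBijective f hbij
  refine ⟨finrank F D, Φ, ?_, fun x y z => ?_⟩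
  · rw [← Φ.finrank_eq, finrank_prod, finrank_prod, finrank_fintype_fun_eq_card, Fintype.card_fin,
      finrank_fintype_fun_eq_card, Fintype.card_fin]
    omega
  · show N (f ((x, y), z)) = f ((0, 0), x)
    rw [hf, hf, map_add, map_add, hN, add_zero, LinearMap.mem_ker.mp (j y).2.2, add_zero, map_zero, map_zero,
      Submodule.coe_zero, add_zero, zero_add]

/-- Square-zero endomorphisms of equal positive rank are conjugate by a map of determinant one. -/
theorem exists_conj [Fintype F] [CharP F 2] (A B : V →ₗ[F] V) (hA : ∀ v, A (A v) = 0) (hB : ∀ v, B (B v) = 0)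
    (hA0 : A ≠ 0) (h : finrank F (LinearMap.range A) = finrank F (LinearMap.range B)) :
    ∃ g : V ≃ₗ[F] V, LinearMap.det (g : V →ₗ[F] V) = 1 ∧ ∀ v, g (A v) = B (g v) := by
  classical
  set r := finrank F (LinearMap.range A) with hr
  obtain ⟨dA, PA, hdA, eA⟩ := exists_model A hA r hr.symm
  obtain ⟨dB, PB, hdB, eB⟩ := exists_model B hB r h.symm
  obtain rfl : dA = dB := by omega
  have hr0 : 0 < r := by
    rw [hr, Nat.pos_iff_ne_zero, Ne, Submodule.finrank_eq_zero, LinearMap.range_eq_bot]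
    exact hA0
  let g0 : V ≃ₗ[F] V := PA.symm.trans PB
  have hd0 : LinearMap.det (g0 : V →ₗ[F] V) ≠ 0 := (g0.isUnit_det').ne_zero
  obtain ⟨μ, hμ⟩ := FiniteField.isSquare_of_char_two (ringChar.eq F 2) (LinearMap.det (g0 : V →ₗ[F] V))⁻¹
  have hμ0 : μ ≠ 0 := fun e => by rw [e, mul_zero, inv_eq_zero] at hμ; exact hd0 hμ
  -- scale one coordinate by `μ`
  let D : Matrix (Fin r) (Fin r) F := Matrix.diagonal (Function.update 1 ⟨0, hr0⟩ μ)
  have hD : D.det = μ := by
    rw [Matrix.det_diagonal, Finset.prod_update_of_mem (Finset.mem_univ _)]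
    simp
  let L : (Fin r → F) ≃ₗ[F] (Fin r → F) := LinearEquiv.ofIsUnitDet (f := Matrix.toLin' D)
    (v := Pi.basisFun F (Fin r)) (v' := Pi.basisFun F (Fin r))
    (by rw [LinearMap.toMatrix_eq_toMatrix', LinearMap.toMatrix'_toLin', hD]; exact isUnit_iff_ne_zero.mpr hμ0)
  let H : (((Fin r → F) × (Fin dA → F)) × (Fin r → F)) ≃ₗ[F] (((Fin r → F) × (Fin dA → F)) × (Fin r → F)) :=
    (L.prodCongr (LinearEquiv.refl F (Fin dA → F))).prodCongr L
  refine ⟨(PA.symm.trans H).trans PB, ?_, fun v => ?_⟩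
  · have hH : LinearMap.det H.toLinearMap = μ * μ := by
      rw [show H.toLinearMap = ((Matrix.toLin' D).prodMap (LinearMap.id : (Fin dA → F) →ₗ[F] _)).prodMap
          (Matrix.toLin' D) from rfl, LinearMap.det_prodMap, LinearMap.det_prodMap, LinearMap.det_toLin', hD,
        LinearMap.det_id, mul_one]
    have e1 : (((PA.symm.trans H).trans PB : V ≃ₗ[F] V) : V →ₗ[F] V) =
        (g0 : V →ₗ[F] V).comp (((PA : _ →ₗ[F] V).comp H.toLinearMap).comp (PA.symm : V →ₗ[F] _)) := by
      ext v; simp [g0]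
    rw [e1, LinearMap.det_comp, LinearMap.comp_assoc, LinearMap.det_conj, hH, ← hμ, mul_inv_cancel₀ hd0]
  · obtain ⟨⟨⟨x, y⟩, z⟩, rfl⟩ := PA.surjective v
    rw [eA]
    simp only [LinearEquiv.trans_apply, LinearEquiv.symm_apply_apply]
    show PB ((L 0, 0), L x) = B (PB ((L x, y), L z))
    rw [eB, map_zero]

open Matrix in
theorem isConj_iff_rank [Fintype F] [CharP F 2] {n : ℕ} (a b : Matrix.SpecialLinearGroup (Fin n) F)
    (ha : orderOf a = 2) (hb : orderOf b = 2) :
    IsConj a b ↔ ((a : Matrix (Fin n) (Fin n) F) - 1).rank = ((b : Matrix (Fin n) (Fin n) F) - 1).rank := by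
  have hsq : ∀ c : SpecialLinearGroup (Fin n) F, orderOf c = 2 →
      ((c : Matrix (Fin n) (Fin n) F) - 1) * ((c : Matrix (Fin n) (Fin n) F) - 1) = 0 := by
    intro c hc
    have h : (c : Matrix (Fin n) (Fin n) F) * c = 1 := by
      rw [← SpecialLinearGroup.coe_mul, ← pow_two, ← hc, pow_orderOf_eq_one, SpecialLinearGroup.coe_one]
    rw [sub_mul, mul_sub, h, one_mul, mul_one]
    ext i j
    simp only [Matrix.sub_apply, Matrix.zero_apply]
    rw [CharTwo.sub_eq_add, CharTwo.sub_eq_add, CharTwo.sub_eq_add]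
    rw [← CharTwo.add_self_eq_zero ((1 : Matrix (Fin n) (Fin n) F) i j + (c : Matrix (Fin n) (Fin n) F) i j)]
    abel
  constructor
  · intro h
    obtain ⟨g, hg⟩ := isConj_iff.mp h
    have e : (b : Matrix (Fin n) (Fin n) F) - 1 =
        (g : Matrix (Fin n) (Fin n) F) * ((a : Matrix (Fin n) (Fin n) F) - 1) * ((g⁻¹ : SpecialLinearGroup (Fin n) F) : Matrix (Fin n) (Fin n) F) := by
      rw [mul_sub, sub_mul, mul_one, ← SpecialLinearGroup.coe_mul, ← SpecialLinearGroup.coe_mul,
        ← SpecialLinearGroup.coe_mul, hg, mul_inv_cancel, SpecialLinearGroup.coe_one]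
    rw [e, Matrix.rank_mul_eq_left_of_isUnit_det _ _ (by rw [SpecialLinearGroup.det_coe]; exact isUnit_one),
      Matrix.rank_mul_eq_right_of_isUnit_det _ _ (by rw [SpecialLinearGroup.det_coe]; exact isUnit_one)]
  · intro h
    set A := Matrix.toLin' ((a : Matrix (Fin n) (Fin n) F) - 1)
    set B := Matrix.toLin' ((b : Matrix (Fin n) (Fin n) F) - 1)
    have hA : ∀ v, A (A v) = 0 := fun v => by
      rw [← LinearMap.comp_apply, ← Matrix.toLin'_mul, hsq a ha, map_zero, LinearMap.zero_apply]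
    have hB : ∀ v, B (B v) = 0 := fun v => by
      rw [← LinearMap.comp_apply, ← Matrix.toLin'_mul, hsq b hb, map_zero, LinearMap.zero_apply]
    have hA0 : A ≠ 0 := fun e => by
      have e' : (a : Matrix (Fin n) (Fin n) F) = 1 :=
        sub_eq_zero.mp (Matrix.toLin'.injective (e.trans (map_zero _).symm))
      have : a = 1 := Subtype.ext e'
      rw [this, orderOf_one] at ha
      norm_num at ha
    obtain ⟨g, hg1, hg⟩ := exists_conj A B hA hB hA0 (by rw [Matrix.rank, Matrix.rank] at h; exact h)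
    let G : Matrix.SpecialLinearGroup (Fin n) F :=
      ⟨LinearMap.toMatrix' (g : (Fin n → F) →ₗ[F] _), by rw [LinearMap.det_toMatrix', hg1]⟩
    refine isConj_iff.mpr ⟨G, ?_⟩
    rw [mul_inv_eq_iff_eq_mul]
    apply Subtype.ext
    apply Matrix.toLin'.injective
    show Matrix.toLin' (LinearMap.toMatrix' _ * (a : Matrix (Fin n) (Fin n) F)) =
      Matrix.toLin' ((b : Matrix (Fin n) (Fin n) F) * LinearMap.toMatrix' _)
    rw [Matrix.toLin'_mul, Matrix.toLin'_mul, Matrix.toLin'_toMatrix']
    have ea : Matrix.toLin' (a : Matrix (Fin n) (Fin n) F) = A + LinearMap.id := by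
      rw [← Matrix.toLin'_one, ← map_add, sub_add_cancel]
    have eb : Matrix.toLin' (b : Matrix (Fin n) (Fin n) F) = B + LinearMap.id := by
      rw [← Matrix.toLin'_one, ← map_add, sub_add_cancel]
    rw [ea, eb]
    refine LinearMap.ext fun v => ?_
    show g (A v + v) = B (g v) + g v
    rw [map_add, hg]

end Cfsg.Agent.SqZero
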