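import Cfsg.Agent.Lib.Classical.AlternatingForm
import Mathlib.Algebra.Order.Field.Basic
import Mathlib.Data.Nat.Choose.Basic
import Mathlib.LinearAlgebra.Dual.Lemmas

/-!
# The number of unipotent isometries of a non-degenerate alternating form

The count is by induction on the dimension.  For a unipotent `g ≠ 1` the alternating sum
`∑ (-1)^j q^(j choose 2)` over the totally isotropic subspaces fixed pointwise by `g` vanishes, so
that double counting the pairs (unipotent, fixed isotropic subspace) determines the number.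
-/

set_option autoImplicit false

universe u v

namespace Cfsg.Agent.SympUnip

open LinearMap (BilinForm)
open AltForm Module

variable {F : Type u} [Field F] [Fintype F] {V : Type v} [AddCommGroup V] [Module F V]
  [FiniteDimensional F V] {B : BilinForm F V}

/-- Totally isotropic. -/
def IsoSub (B : BilinForm F V) (W : Submodule F V) : Prop := ∀ x ∈ W, ∀ y ∈ W, B x y = 0

/-- A unipotent isometry. -/
def IsUnip (B : BilinForm F V) (g : V ≃ₗ[F] V) : Prop :=
  g ∈ isoGroup B ∧ IsNilpotent ((g : V →ₗ[F] V) - 1)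

open Classical in
/-- Alternating sum over the totally isotropic subspaces below `X`. -/
noncomputable def isoSum (B : BilinForm F V) (X : Submodule F V) (w : ℕ → ℚ) : ℚ :=
  ∑ᶠ W : {W : Submodule F V // IsoSub B W ∧ W ≤ X}, (-1) ^ finrank F W.1 * w (finrank F W.1)

/-- The universal value of the alternating sum. -/
def sumVal (q : ℚ) : ℕ → (ℕ → ℚ) → ℚ
  | 0, w => w 0
  | m + 1, w => sumVal q m fun i => q ^ i * w i - (1 + q ^ ((2 * m + 1 : ℤ) - i)) * w (i + 1)

theorem sumVal_smul (q a : ℚ) : ∀ (m : ℕ) (w : ℕ → ℚ), sumVal q m (fun i => a * w i) = a * sumVal q m w := by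
  intro m
  induction m with
  | zero => intro w; rfl
  | succ m ih =>
    intro w
    simp only [sumVal]
    rw [← ih]
    congr 1
    funext i
    ring

theorem sumVal_sq {q : ℚ} (hq : q ≠ 0) :
    ∀ m : ℕ, sumVal q m (fun i => q ^ (((m : ℤ) - i) ^ 2)) = (-1) ^ m := by
  intro m
  induction m with
  | zero => simp [sumVal]
  | succ m ih =>
    rw [sumVal, show (fun i : ℕ => q ^ i * q ^ ((((m + 1 : ℕ) : ℤ) - i) ^ 2) -
      (1 + q ^ ((2 * m + 1 : ℤ) - i)) * q ^ ((((m + 1 : ℕ) : ℤ) - ((i + 1 : ℕ) : ℤ)) ^ 2)) =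
      fun i : ℕ => (-1 : ℚ) * q ^ (((m : ℤ) - i) ^ 2) from ?_, sumVal_smul, ih]
    · ring
    funext i
    rw [add_mul, one_mul, ← zpow_natCast q i, ← zpow_add₀ hq, ← zpow_add₀ hq]
    push_cast
    rw [show (i : ℤ) + ((m : ℤ) + 1 - i) ^ 2 = (2 * (m : ℤ) + 1 - i) + ((m : ℤ) + 1 - (i + 1)) ^ 2 by ring,
      show (m : ℤ) + 1 - (i + 1) = m - i by ring]
    ring

theorem choose_two_succ (i : ℕ) : (i + 1).choose 2 = i + i.choose 2 := by
  rw [Nat.choose_succ_succ', Nat.choose_one_right]

theorem sumVal_choose {q : ℚ} (hq : q ≠ 0) :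
    ∀ m : ℕ, sumVal q m (fun i => q ^ i.choose 2) = (-1) ^ m * q ^ (m ^ 2) := by
  intro m
  induction m with
  | zero => simp [sumVal]
  | succ m ih =>
    rw [sumVal, show (fun i : ℕ => q ^ i * q ^ i.choose 2 -
      (1 + q ^ ((2 * m + 1 : ℤ) - i)) * q ^ (i + 1).choose 2) =
      fun i : ℕ => (-q ^ (2 * m + 1)) * q ^ i.choose 2 from ?_, sumVal_smul, ih]
    · rw [show (m + 1) ^ 2 = 2 * m + 1 + m ^ 2 by ring, pow_add]
      ring
    funext i
    rw [choose_two_succ, pow_add, zpow_sub₀ hq, zpow_natCast,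
      show (2 * (m : ℤ) + 1) = ((2 * m + 1 : ℕ) : ℤ) by push_cast; rfl, zpow_natCast]
    field_simp
    ring

/-! ### Isotropic subspaces near a vector of a hyperbolic pair -/

variable (hA : B.IsAlt) {u₀ v₀ : V} (h : B u₀ v₀ = 1)
include hA h

/-- Projection to the orthogonal of the pair. -/
noncomputable def proj : V →ₗ[F] pairPerp B u₀ v₀ :=
  LinearMap.snd F (F × F) _ ∘ₗ (split hA h).symm.toLinearMap

theorem split_symm_eq (a b : F) (x : pairPerp B u₀ v₀) :
    (split hA h).symm (a • u₀ + b • v₀ + x) = ((a, b), x) :=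
  (LinearEquiv.symm_apply_eq _).2 rfl

theorem proj_apply (a b : F) (x : pairPerp B u₀ v₀) :
    proj hA h (a • u₀ + b • v₀ + x) = x := by
  simp [proj, split_symm_eq hA h]

theorem eq_of_perp {z : V} (hz : B u₀ z = 0) : ∃ a : F, z = a • u₀ + proj hA h z := by
  obtain ⟨⟨⟨a, b⟩, x⟩, rfl⟩ := (split hA h).surjective z
  refine ⟨a, ?_⟩
  have hb : b = 0 := by
    have hx := (mem_pairPerp.1 x.2).1
    simpa [split, hA.self_eq_zero, h, hx] using hz
  show a • u₀ + b • v₀ + x = a • u₀ + proj hA h (a • u₀ + b • v₀ + x)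
  rw [proj_apply]
  simp [hb]

theorem proj_coe (x : pairPerp B u₀ v₀) : proj hA h (x : V) = x := by
  simpa using proj_apply hA h 0 0 x

theorem proj_u : proj hA h u₀ = 0 := by
  simpa using proj_apply hA h 1 0 0

theorem B_u_coe (x : pairPerp B u₀ v₀) : B u₀ (x : V) = 0 := (mem_pairPerp.1 x.2).1

theorem B_coe_u (x : pairPerp B u₀ v₀) : B (x : V) u₀ = 0 := (pairPerp_left hA x).1

/-- Subspaces through `u₀`. -/
noncomputable def throughEquiv {X : Submodule F V} (hu : u₀ ∈ X) :
    {W : {W : Submodule F V // IsoSub B W ∧ W ≤ X} // u₀ ∈ W.1} ≃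
      {U : Submodule F (pairPerp B u₀ v₀) //
        IsoSub (B.restrict _) U ∧ U ≤ X.comap (pairPerp B u₀ v₀).subtype} where
  toFun W := ⟨W.1.1.comap (pairPerp B u₀ v₀).subtype,
    fun x hx y hy => W.1.2.1 _ hx _ hy, Submodule.comap_mono W.1.2.2⟩
  invFun U := ⟨⟨Submodule.span F {u₀} ⊔ U.1.map (pairPerp B u₀ v₀).subtype, by
      intro z hz z' hz'
      obtain ⟨a, ha, b, ⟨x, hx, rfl⟩, rfl⟩ := Submodule.mem_sup.1 hz
      obtain ⟨a', ha', b', ⟨x', hx', rfl⟩, rfl⟩ := Submodule.mem_sup.1 hz'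
      obtain ⟨c, rfl⟩ := Submodule.mem_span_singleton.1 ha
      obtain ⟨c', rfl⟩ := Submodule.mem_span_singleton.1 ha'
      have : B (x : V) (x' : V) = 0 := U.2.1 x hx x' hx'
      simp [hA.self_eq_zero, B_u_coe hA h, B_coe_u hA h, this],
    sup_le ((Submodule.span_singleton_le_iff_mem _ _).2 hu) (Submodule.map_le_iff_le_comap.2 U.2.2)⟩,
    Submodule.mem_sup_left (Submodule.mem_span_singleton_self _)⟩
  left_inv W := by
    refine Subtype.ext (Subtype.ext (le_antisymm ?_ fun z hz => ?_))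
    · exact sup_le ((Submodule.span_singleton_le_iff_mem _ _).2 W.2) (Submodule.map_comap_le _ _)
    · obtain ⟨a, ha⟩ := eq_of_perp hA h (W.1.2.1 _ W.2 _ hz)
      refine Submodule.mem_sup.2 ⟨a • u₀, Submodule.mem_span_singleton.2 ⟨a, rfl⟩, _,
        Submodule.mem_map.2 ⟨proj hA h z, ?_, rfl⟩, ha.symm⟩
      show (proj hA h z : V) ∈ W.1.1
      rw [show (proj hA h z : V) = z - a • u₀ by rw [eq_sub_iff_add_eq', ← ha]]
      exact sub_mem hz (W.1.1.smul_mem _ W.2)
  right_inv U := by
    refine Subtype.ext (le_antisymm (fun x hx => ?_) fun x hx =>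
      Submodule.mem_sup_right (Submodule.mem_map.2 ⟨x, hx, rfl⟩))
    obtain ⟨a, ha, b, ⟨y, hy, rfl⟩, e⟩ := Submodule.mem_sup.1 (show (x : V) ∈ _ from hx)
    obtain ⟨c, rfl⟩ := Submodule.mem_span_singleton.1 ha
    have := congrArg (proj hA h) e
    simp only [map_add, map_smul, proj_u hA h, smul_zero, zero_add, Submodule.subtype_apply,
      proj_coe hA h] at this
    exact this ▸ hy

theorem finrank_through {X : Submodule F V} (hu : u₀ ∈ X)
    (U : {U : Submodule F (pairPerp B u₀ v₀) //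
      IsoSub (B.restrict _) U ∧ U ≤ X.comap (pairPerp B u₀ v₀).subtype}) :
    finrank F ((throughEquiv hA h hu).symm U).1.1 = finrank F U.1 + 1 := by
  show finrank F ↥(Submodule.span F {u₀} ⊔ U.1.map (pairPerp B u₀ v₀).subtype) = _
  have hd : Submodule.span F {u₀} ⊓ U.1.map (pairPerp B u₀ v₀).subtype = ⊥ := by
    rw [eq_bot_iff]
    rintro z ⟨hz, ⟨x, -, rfl⟩⟩
    obtain ⟨c, hc⟩ := Submodule.mem_span_singleton.1 hz
    have := congrArg (proj hA h) hc
    simp only [map_smul, proj_u hA h, smul_zero, Submodule.subtype_apply, proj_coe hA h] at this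
    simp [← this]
  have h1 := Submodule.finrank_sup_add_finrank_inf_eq (Submodule.span F {u₀})
    (U.1.map (pairPerp B u₀ v₀).subtype)
  rw [hd, finrank_bot, add_zero, finrank_span_singleton (AltForm.ne_zero_of_eq_one h).1,
    ← LinearEquiv.finrank_eq (Submodule.equivMapOfInjective _ (Submodule.injective_subtype _) U.1)] at h1
  omega

/-- The graph of a functional. -/
noncomputable def graphMap (U : Submodule F (pairPerp B u₀ v₀)) (f : U →ₗ[F] F) : U →ₗ[F] V :=
  (pairPerp B u₀ v₀).subtype ∘ₗ U.subtype + f.smulRight u₀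

theorem proj_graphMap (U : Submodule F (pairPerp B u₀ v₀)) (f : U →ₗ[F] F) (x : U) :
    proj hA h (graphMap U f x) = x.1 := by
  simp [graphMap, proj_u hA h, proj_coe hA h]

theorem B_graphMap (U : Submodule F (pairPerp B u₀ v₀)) (f : U →ₗ[F] F) (x : U) :
    B u₀ (graphMap U f x) = 0 := by
  simp [graphMap, hA.self_eq_zero, B_u_coe hA h]

/-- Subspaces of `u₀^⊥` avoiding `u₀`. -/
noncomputable def graphEquiv {X : Submodule F V} (hu : u₀ ∈ X) :
    (Σ U : {U : Submodule F (pairPerp B u₀ v₀) //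
        IsoSub (B.restrict _) U ∧ U ≤ X.comap (pairPerp B u₀ v₀).subtype}, U.1 →ₗ[F] F) ≃
      {W : {W : Submodule F V // IsoSub B W ∧ W ≤ X} // u₀ ∉ W.1 ∧ ∀ z ∈ W.1, B u₀ z = 0} :=
  Equiv.ofBijective (fun p => ⟨⟨LinearMap.range (graphMap p.1.1 p.2), by
      rintro _ ⟨x, rfl⟩ _ ⟨y, rfl⟩
      have : B (x.1 : V) (y.1 : V) = 0 := p.1.2.1 x.1 x.2 y.1 y.2
      simp [graphMap, hA.self_eq_zero, B_u_coe hA h, B_coe_u hA h, this],
    by
      rintro _ ⟨x, rfl⟩
      exact add_mem (p.1.2.2 x.2) (X.smul_mem _ hu)⟩,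
    fun ⟨x, hx⟩ => by
      have := congrArg (proj hA h) hx
      rw [proj_graphMap, proj_u hA h] at this
      rw [show x = 0 from Subtype.ext this, map_zero] at hx
      exact (AltForm.ne_zero_of_eq_one h).1 hx.symm,
    by rintro _ ⟨x, rfl⟩; exact B_graphMap hA h _ _ x⟩) <| by
    constructor
    · rintro ⟨⟨U, hU⟩, f⟩ ⟨⟨U', hU'⟩, f'⟩ e
      have e' : LinearMap.range (graphMap U f) = LinearMap.range (graphMap U' f') :=
        congrArg (fun W => W.1.1) e
      have key : ∀ {U U' : Submodule F (pairPerp B u₀ v₀)} (f : U →ₗ[F] F) (f' : U' →ₗ[F] F),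
          LinearMap.range (graphMap U f) ≤ LinearMap.range (graphMap U' f') → U ≤ U' := by
        intro U U' f f' hle x hx
        obtain ⟨y, hy⟩ := hle ⟨⟨x, hx⟩, rfl⟩
        have := congrArg (proj hA h) hy
        rw [proj_graphMap, proj_graphMap] at this
        exact (show y.1 = x from this) ▸ y.2
      obtain rfl : U = U' := le_antisymm (key f f' e'.le) (key f' f e'.ge)
      refine congrArg (Sigma.mk _) (LinearMap.ext fun x => ?_)
      obtain ⟨y, hy⟩ := e'.le ⟨x, rfl⟩
      have hyx := congrArg (proj hA h) hy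
      rw [proj_graphMap, proj_graphMap] at hyx
      obtain rfl : y = x := Subtype.ext hyx
      simp only [graphMap, LinearMap.add_apply, LinearMap.smulRight_apply, add_right_inj] at hy
      exact (smul_left_injective F (AltForm.ne_zero_of_eq_one h).1 hy).symm
    · rintro ⟨⟨W, hW, hWX⟩, hnu, hperp⟩
      let π : W →ₗ[F] pairPerp B u₀ v₀ := proj hA h ∘ₗ W.subtype
      have hinj : Function.Injective π := by
        rw [← LinearMap.ker_eq_bot, eq_bot_iff]
        intro z hz
        obtain ⟨a, ha⟩ := eq_of_perp hA h (hperp z.1 z.2)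
        rw [show proj hA h z.1 = 0 from hz, Submodule.coe_zero, add_zero] at ha
        have ha0 : a = 0 := by
          by_contra ha0
          refine hnu ?_
          have := W.smul_mem a⁻¹ (ha ▸ z.2)
          rwa [smul_smul, inv_mul_cancel₀ ha0, one_smul] at this
        exact Subtype.ext (by rw [ha, ha0, zero_smul]; rfl)
      let e := LinearEquiv.ofInjective π hinj
      let φ : LinearMap.range π →ₗ[F] F :=
        LinearMap.fst F F F ∘ₗ LinearMap.fst F (F × F) _ ∘ₗ (split hA h).symm.toLinearMap ∘ₗ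
          W.subtype ∘ₗ e.symm.toLinearMap
      have hgraph : ∀ x : LinearMap.range π, graphMap _ φ x = ((e.symm x : W) : V) := by
        intro x
        obtain ⟨z, rfl⟩ := e.surjective x
        rw [e.symm_apply_apply]
        obtain ⟨a, ha⟩ := eq_of_perp hA h (hperp z.1 z.2)
        have hφ : φ (e z) = a := by
          show ((split hA h).symm ((e.symm (e z) : W) : V)).1.1 = a
          rw [e.symm_apply_apply, ha, show a • u₀ + ((proj hA h z.1 : pairPerp B u₀ v₀) : V) =
            a • u₀ + (0 : F) • v₀ + ((proj hA h z.1 : pairPerp B u₀ v₀) : V) by simp, split_symm_eq hA h]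
        show ((e z).1 : V) + φ (e z) • u₀ = z.1
        rw [hφ, add_comm]
        exact ha.symm
      refine ⟨⟨⟨LinearMap.range π, ?_, ?_⟩, φ⟩, Subtype.ext (Subtype.ext ?_)⟩
      · rintro _ ⟨z, rfl⟩ _ ⟨z', rfl⟩
        obtain ⟨a, ha⟩ := eq_of_perp hA h (hperp z.1 z.2)
        obtain ⟨a', ha'⟩ := eq_of_perp hA h (hperp z'.1 z'.2)
        have := hW _ z.2 _ z'.2
        rw [ha, ha'] at this
        simpa [π, hA.self_eq_zero, B_u_coe hA h, B_coe_u hA h] using this
      · rintro _ ⟨z, rfl⟩
        obtain ⟨a, ha⟩ := eq_of_perp hA h (hperp z.1 z.2)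
        show (proj hA h z.1 : V) ∈ X
        rw [show (proj hA h z.1 : V) = z.1 - a • u₀ by rw [eq_sub_iff_add_eq', ← ha]]
        exact sub_mem (hWX z.2) (X.smul_mem _ hu)
      · show LinearMap.range (graphMap _ φ) = W
        ext z
        constructor
        · rintro ⟨x, rfl⟩; rw [hgraph]; exact (e.symm x).2
        · intro hz; exact ⟨e ⟨z, hz⟩, by rw [hgraph, e.symm_apply_apply]⟩

theorem finrank_graph {X : Submodule F V} (hu : u₀ ∈ X)
    (p : Σ U : {U : Submodule F (pairPerp B u₀ v₀) //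
        IsoSub (B.restrict _) U ∧ U ≤ X.comap (pairPerp B u₀ v₀).subtype}, U.1 →ₗ[F] F) :
    finrank F ((graphEquiv hA h hu) p).1.1 = finrank F p.1.1 := by
  show finrank F (LinearMap.range (graphMap p.1.1 p.2)) = _
  refine LinearMap.finrank_range_of_inj fun x y e => Subtype.ext ?_
  have := congrArg (proj hA h) e
  rwa [proj_graphMap, proj_graphMap] at this

open Classical in
/-- The sum over the subspaces in `u₀^⊥`. -/
theorem perp_sum {X : Submodule F V} (hu : u₀ ∈ X) (w : ℕ → ℚ) :
    ∑ᶠ W : {W : {W : Submodule F V // IsoSub B W ∧ W ≤ X} // ∀ z ∈ W.1, B u₀ z = 0},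
        (-1 : ℚ) ^ finrank F W.1.1 * w (finrank F W.1.1) =
      isoSum (B.restrict (pairPerp B u₀ v₀)) (X.comap (pairPerp B u₀ v₀).subtype)
        (fun i => (Fintype.card F : ℚ) ^ i * w i - w (i + 1)) := by
  haveI : Finite V := Module.finite_of_finite F
  haveI : Finite (Submodule F V) := Finite.of_injective (fun W => (W : Set V)) SetLike.coe_injective
  haveI : Finite (Submodule F (pairPerp B u₀ v₀)) :=
    Finite.of_injective (fun W => (W : Set (pairPerp B u₀ v₀))) SetLike.coe_injective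
  haveI := Fintype.ofFinite {W : Submodule F V // IsoSub B W ∧ W ≤ X}
  haveI := Fintype.ofFinite {U : Submodule F (pairPerp B u₀ v₀) //
    IsoSub (B.restrict _) U ∧ U ≤ X.comap (pairPerp B u₀ v₀).subtype}
  haveI : ∀ U : Submodule F (pairPerp B u₀ v₀), Fintype (U →ₗ[F] F) := fun U =>
    haveI : Finite (U →ₗ[F] F) := Module.finite_of_finite F
    Fintype.ofFinite _
  rw [isoSum, finsum_eq_sum_of_fintype, finsum_eq_sum_of_fintype]
  have hsplit : ∀ φ : {W : Submodule F V // IsoSub B W ∧ W ≤ X} → ℚ,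
      ∑ W : {W : {W : Submodule F V // IsoSub B W ∧ W ≤ X} // ∀ z ∈ W.1, B u₀ z = 0}, φ W.1 =
        ∑ W : {W : {W : Submodule F V // IsoSub B W ∧ W ≤ X} // u₀ ∈ W.1}, φ W.1 +
        ∑ W : {W : {W : Submodule F V // IsoSub B W ∧ W ≤ X} // u₀ ∉ W.1 ∧ ∀ z ∈ W.1, B u₀ z = 0},
          φ W.1 := by
    intro φ
    rw [← Finset.sum_subtype (Finset.univ.filter fun W : {W : Submodule F V // IsoSub B W ∧ W ≤ X} =>
        ∀ z ∈ W.1, B u₀ z = 0) (by simp) φ,
      ← Finset.sum_subtype (Finset.univ.filter fun W : {W : Submodule F V // IsoSub B W ∧ W ≤ X} =>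
        u₀ ∈ W.1) (by simp) φ,
      ← Finset.sum_subtype (Finset.univ.filter fun W : {W : Submodule F V // IsoSub B W ∧ W ≤ X} =>
        u₀ ∉ W.1 ∧ ∀ z ∈ W.1, B u₀ z = 0) (by simp) φ, ← Finset.sum_union]
    · refine Finset.sum_congr ?_ fun _ _ => rfl
      ext W
      simp only [Finset.mem_filter, Finset.mem_univ, true_and, Finset.mem_union]
      by_cases hW : u₀ ∈ W.1
      · simp only [hW, true_or, iff_true]
        exact fun z hz => W.2.1 _ hW _ hz
      · simp [hW]
    · rw [Finset.disjoint_filter]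
      intro W _ h1 h2
      exact h2.1 h1
  rw [hsplit fun W => (-1 : ℚ) ^ finrank F W.1 * w (finrank F W.1),
    ← Equiv.sum_comp (throughEquiv hA h hu).symm, ← Equiv.sum_comp (graphEquiv hA h hu)]
  simp only [finrank_through hA h hu, finrank_graph hA h hu]
  rw [Fintype.sum_sigma, ← Finset.sum_add_distrib]
  refine Finset.sum_congr rfl fun U _ => ?_
  show _ + (∑ _y : U.1 →ₗ[F] F, (-1 : ℚ) ^ finrank F U.1 * w (finrank F U.1)) = _
  rw [Finset.sum_const, Finset.card_univ, ← Nat.card_eq_fintype_card,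
    Module.natCard_eq_pow_finrank (K := F), Module.finrank_linearMap, Module.finrank_self, mul_one,
    Nat.card_eq_fintype_card, nsmul_eq_mul, Nat.cast_pow, pow_succ]
  ring

omit hA h

open Classical in
theorem isoSum_top_eq : ∀ (m : ℕ) {V : Type v} [AddCommGroup V] [Module F V] [FiniteDimensional F V]
    {B : BilinForm F V}, B.IsAlt → B.Nondegenerate → finrank F V = 2 * m → ∀ w : ℕ → ℚ,
    isoSum B ⊤ w = sumVal (Fintype.card F : ℚ) m w := by
  intro m
  induction m with
  | zero =>
    intro V _ _ _ B hA hB hV w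
    haveI := finrank_eq_zero_iff_subsingleton hV
    rw [isoSum]
    haveI : Subsingleton {W : Submodule F V // IsoSub B W ∧ W ≤ ⊤} :=
      ⟨fun a b => Subtype.ext (Subsingleton.elim _ _)⟩
    let W₀ : {W : Submodule F V // IsoSub B W ∧ W ≤ ⊤} :=
      ⟨⊥, fun x hx y _ => by rw [(Submodule.mem_bot F).1 hx, map_zero, LinearMap.zero_apply], le_top⟩
    rw [finsum_eq_single _ W₀ fun b hb => absurd (Subsingleton.elim b W₀) hb]
    simp [sumVal, W₀]
  | succ m ih =>
    intro V _ _ _ B hA hB hV w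
    haveI : Finite V := Module.finite_of_finite F
    haveI : Finite (Submodule F V) := Finite.of_injective (fun W => (W : Set V)) SetLike.coe_injective
    haveI := Fintype.ofFinite {W : Submodule F V // IsoSub B W ∧ W ≤ ⊤}
    haveI := Fintype.ofFinite V
    haveI : Nontrivial V := Module.nontrivial_of_finrank_pos (R := F) (by omega)
    obtain ⟨u₀, hu₀⟩ := exists_ne (0 : V)
    obtain ⟨v₀, h⟩ := exists_eq_one hB hu₀
    set q : ℚ := (Fintype.card F : ℚ) with hq
    have hq0 : q ≠ 0 := Nat.cast_ne_zero.2 Fintype.card_ne_zero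
    let φ : {W : Submodule F V // IsoSub B W ∧ W ≤ ⊤} → ℚ :=
      fun W => (-1) ^ finrank F W.1 * w (finrank F W.1)
    have hperp : (∑ W ∈ Finset.univ.filter (fun W : {W : Submodule F V // IsoSub B W ∧ W ≤ ⊤} =>
        ∀ z ∈ W.1, B u₀ z = 0), φ W) = sumVal q m (fun i => q ^ i * w i - w (i + 1)) := by
      rw [Finset.sum_subtype (p := fun W : {W : Submodule F V // IsoSub B W ∧ W ≤ ⊤} => ∀ z ∈ W.1, B u₀ z = 0)
        (Finset.univ.filter fun W : {W : Submodule F V // IsoSub B W ∧ W ≤ ⊤} =>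
        ∀ z ∈ W.1, B u₀ z = 0) (by simp) φ, ← finsum_eq_sum_of_fintype, perp_sum hA h Submodule.mem_top,
        Submodule.comap_top]
      exact ih (restrict_isAlt hA _) (restrict_nondeg hA hB h)
        (by have := finrank_pairPerp hA h; omega) _
    -- the others, through their vectors of height one
    let ψ : {W : Submodule F V // IsoSub B W ∧ W ≤ ⊤} → ℚ :=
      fun W => φ W * (q ^ ((finrank F W.1 : ℤ) - 1))⁻¹
    have hrest : (∑ W ∈ Finset.univ.filter (fun W : {W : Submodule F V // IsoSub B W ∧ W ≤ ⊤} =>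
        ¬ ∀ z ∈ W.1, B u₀ z = 0), φ W) =
        ∑ z ∈ Finset.univ.filter (fun z : V => B u₀ z = 1),
          ∑ W ∈ Finset.univ.filter (fun W : {W : Submodule F V // IsoSub B W ∧ W ≤ ⊤} => z ∈ W.1), ψ W := by
      simp only [Finset.sum_filter]
      simp_rw [← Finset.sum_filter]
      rw [Finset.sum_comm' (t' := Finset.univ.filter fun W : {W : Submodule F V // IsoSub B W ∧ W ≤ ⊤} =>
        ¬ ∀ z ∈ W.1, B u₀ z = 0) (s' := fun W => Finset.univ.filter fun z : V => B u₀ z = 1 ∧ z ∈ W.1)]
      · refine Finset.sum_congr rfl fun W hW => ?_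
        rw [Finset.sum_const, nsmul_eq_mul]
        simp only [Finset.mem_filter, Finset.mem_univ, true_and, not_forall] at hW
        obtain ⟨z, hzW, hz⟩ := hW
        let z₁ : W.1 := (B u₀ z)⁻¹ • ⟨z, hzW⟩
        have hz₁ : B u₀ z₁.1 = 1 := by simp [z₁, hz]
        let fW : W.1 →ₗ[F] F := (B u₀).comp W.1.subtype
        have hker : finrank F (LinearMap.ker fW) + 1 = finrank F W.1 := by
          have := LinearMap.finrank_range_add_finrank_ker fW
          rw [LinearMap.range_eq_top.2 (fun c => ⟨c • z₁, by simp [fW, hz₁]⟩), finrank_top,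
            Module.finrank_self] at this
          omega
        have hc : (Finset.univ.filter fun z : V => B u₀ z = 1 ∧ z ∈ W.1).card =
            Fintype.card F ^ (finrank F (LinearMap.ker fW)) := by
          rw [← Nat.card_eq_fintype_card, ← Module.natCard_eq_pow_finrank, ← Fintype.card_subtype,
            ← Nat.card_eq_fintype_card]
          refine Nat.card_congr
            { toFun := fun z => ⟨⟨z.1, z.2.2⟩ - z₁, by simp [fW, z.2.1, hz₁]⟩
              invFun := fun k => ⟨(k.1 + z₁ : W.1), by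
                have := LinearMap.mem_ker.1 k.2
                simp only [fW, LinearMap.comp_apply, Submodule.subtype_apply] at this
                exact ⟨by simp [this, hz₁], (k.1 + z₁ : W.1).2⟩⟩
              left_inv := fun z => by simp
              right_inv := fun k => Subtype.ext (Subtype.ext (by simp)) }
        show φ W = _ * (φ W * _)
        rw [hc, Nat.cast_pow, show ((finrank F W.1 : ℤ) - 1) = ((finrank F (LinearMap.ker fW) : ℕ) : ℤ) by
          rw [← hker]; push_cast; ring, zpow_natCast]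
        rw [← hq]
        field_simp
      · intro z W
        simp only [Finset.mem_filter, Finset.mem_univ, true_and]
        exact ⟨fun ⟨h1, h2⟩ => ⟨⟨h1, h2⟩, fun h0 => one_ne_zero (h1 ▸ h0 z h2)⟩, fun ⟨h1, _⟩ => h1⟩
    have hinner : ∀ z : V, B u₀ z = 1 →
        ∑ W ∈ Finset.univ.filter (fun W : {W : Submodule F V // IsoSub B W ∧ W ≤ ⊤} => z ∈ W.1), ψ W =
          sumVal q m (fun i => -((q ^ i)⁻¹ * w (i + 1))) := by
      intro z hz
      have h' : B z (-u₀) = 1 := by rw [map_neg, swap hA u₀ z, hz, neg_neg]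
      haveI : Finite (Submodule F (pairPerp B z (-u₀))) :=
        Finite.of_injective (fun W => (W : Set (pairPerp B z (-u₀)))) SetLike.coe_injective
      haveI := Fintype.ofFinite {U : Submodule F (pairPerp B z (-u₀)) //
        IsoSub (B.restrict _) U ∧ U ≤ (⊤ : Submodule F V).comap (pairPerp B z (-u₀)).subtype}
      haveI := Fintype.ofFinite {U : Submodule F (pairPerp B z (-u₀)) // IsoSub (B.restrict _) U ∧ U ≤ ⊤}
      rw [Finset.sum_subtype (p := fun W : {W : Submodule F V // IsoSub B W ∧ W ≤ ⊤} => z ∈ W.1)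
        (Finset.univ.filter fun W : {W : Submodule F V // IsoSub B W ∧ W ≤ ⊤} =>
        z ∈ W.1) (by simp) ψ, ← Equiv.sum_comp (throughEquiv hA h' Submodule.mem_top).symm,
        ← ih (restrict_isAlt hA (pairPerp B z (-u₀))) (restrict_nondeg hA hB h')
          (by have := finrank_pairPerp hA h'; omega), isoSum, finsum_eq_sum_of_fintype]
      refine Fintype.sum_equiv (Equiv.subtypeEquivRight fun U => by simp [Submodule.comap_top]) _ _
        fun U => ?_
      show _ = (-1 : ℚ) ^ finrank F U.1 * -((q ^ finrank F U.1)⁻¹ * w (finrank F U.1 + 1))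
      simp only [ψ, φ, finrank_through]
      rw [Nat.cast_add, Nat.cast_one, add_sub_cancel_right, zpow_natCast, pow_succ]
      ring
    have hz : (Finset.univ.filter (fun z : V => B u₀ z = 1)).card = Fintype.card F ^ (2 * m + 1) := by
      have hr := LinearMap.finrank_range_add_finrank_ker (B u₀)
      rw [LinearMap.range_eq_top.2 (fun c => ⟨c • v₀, by simp [h]⟩), finrank_top,
        Module.finrank_self, hV] at hr
      rw [show 2 * m + 1 = finrank F (LinearMap.ker (B u₀)) by omega, ← Nat.card_eq_fintype_card,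
        ← Module.natCard_eq_pow_finrank, ← Fintype.card_subtype, ← Nat.card_eq_fintype_card]
      exact Nat.card_congr
        { toFun := fun z => ⟨z.1 - v₀, by simp [z.2, h]⟩
          invFun := fun k => ⟨k.1 + v₀, by simp [LinearMap.mem_ker.1 k.2, h]⟩
          left_inv := fun z => by simp
          right_inv := fun k => by simp }
    rw [isoSum, finsum_eq_sum_of_fintype, ← Finset.sum_filter_add_sum_filter_not Finset.univ
      (fun W : {W : Submodule F V // IsoSub B W ∧ W ≤ ⊤} => ∀ z ∈ W.1, B u₀ z = 0) φ, hperp, hrest,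
      Finset.sum_congr rfl (fun z hz' => hinner z (Finset.mem_filter.1 hz').2), Finset.sum_const,
      hz, nsmul_eq_mul, Nat.cast_pow, ← hq, ← sumVal_smul, sumVal]
    have lin : ∀ (w₁ w₂ : ℕ → ℚ), sumVal q m w₁ + sumVal q m w₂ = sumVal q m (fun i => w₁ i + w₂ i) := by
      intro w₁ w₂
      obtain ⟨V', _, _, _, B', hA', hB', hV'⟩ : ∃ (V' : Type v) (_ : AddCommGroup V') (_ : Module F V')
          (_ : FiniteDimensional F V') (B' : BilinForm F V'), B'.IsAlt ∧ B'.Nondegenerate ∧
            finrank F V' = 2 * m :=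
        ⟨pairPerp B u₀ v₀, inferInstance, inferInstance, inferInstance, B.restrict _,
          restrict_isAlt hA _, restrict_nondeg hA hB h, by have := finrank_pairPerp hA h; omega⟩
      haveI : Finite V' := Module.finite_of_finite F
      haveI : Finite (Submodule F V') := Finite.of_injective (fun W => (W : Set V')) SetLike.coe_injective
      haveI := Fintype.ofFinite {W : Submodule F V' // IsoSub B' W ∧ W ≤ ⊤}
      simp only [← ih hA' hB' hV', isoSum, finsum_eq_sum_of_fintype, ← Finset.sum_add_distrib, mul_add]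
    rw [lin]
    congr 1
    funext i
    rw [add_mul, one_mul, zpow_sub₀ hq0, zpow_natCast,
      show (2 * (m : ℤ) + 1) = ((2 * m + 1 : ℕ) : ℤ) by push_cast; rfl, zpow_natCast]
    field_simp
    ring

/-- The alternating sum below the fixed space of a non-trivial unipotent vanishes. -/
theorem isoSum_fixed_eq_zero (hA : B.IsAlt) (hB : B.Nondegenerate) {g : V ≃ₗ[F] V} (hg : IsUnip B g)
    (hne : g ≠ 1) :
    isoSum B (LinearMap.ker ((g : V →ₗ[F] V) - 1)) (fun i => (Fintype.card F : ℚ) ^ i.choose 2) = 0 := by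
  classical
  obtain ⟨hgB, hnil⟩ := hg
  set N := (g : V →ₗ[F] V) - 1 with hN
  have hN0 : N ≠ 0 := fun e => hne (LinearEquiv.ext fun x => by
    have := LinearMap.congr_fun e x
    simpa [hN, sub_eq_zero] using this)
  have hex : ∃ k, N ^ (k + 1) = 0 := by
    obtain ⟨k, hk⟩ := hnil
    exact ⟨k, by rw [pow_succ, hk, zero_mul]⟩
  obtain ⟨hk, hmin⟩ := And.intro (Nat.find_spec hex) fun j (hj : j < Nat.find hex) => Nat.find_min hex hj
  set k := Nat.find hex
  have hk1 : k ≠ 0 := fun e => hN0 (by rwa [e, zero_add, pow_one] at hk)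
  obtain ⟨k', hk'⟩ : ∃ k', k = k' + 1 := ⟨k - 1, by omega⟩
  have hne' : N ^ (k' + 1) ≠ 0 := hmin k' (by omega)
  obtain ⟨y, hy⟩ : ∃ y, (N ^ (k' + 1)) y ≠ 0 := by
    by_contra hc
    push Not at hc
    exact hne' (LinearMap.ext hc)
  obtain ⟨r, hr⟩ : ∃ r, r = (N ^ (k' + 1)) y := ⟨_, rfl⟩
  have hrX : r ∈ LinearMap.ker N := by
    rw [LinearMap.mem_ker, hr, ← Module.End.mul_apply, ← pow_succ', ← hk', hk, LinearMap.zero_apply]
  have hperp : ∀ x ∈ LinearMap.ker N, B r x = 0 := by
    intro x hx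
    rw [LinearMap.mem_ker, hN, LinearMap.sub_apply, sub_eq_zero] at hx
    have hx' : g x = x := hx
    rw [hr, pow_succ', Module.End.mul_apply]
    set z := (N ^ k') y
    show B (g z - z) x = 0
    rw [map_sub, LinearMap.sub_apply]
    nth_rewrite 1 [← hx']
    rw [hgB, sub_self]
  rw [← hr] at hy
  obtain ⟨v₀, h⟩ := exists_eq_one hB hy
  have hsum := perp_sum hA h hrX (fun i => (Fintype.card F : ℚ) ^ i.choose 2)
  rw [isoSum]
  refine Eq.trans (Eq.trans ?_ hsum) ?_
  · exact (finsum_comp_equiv (Equiv.subtypeUnivEquiv fun W z hz => hperp z (W.2.2 hz))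
      (f := fun W : {W : Submodule F V // IsoSub B W ∧ W ≤ LinearMap.ker N} =>
        (-1 : ℚ) ^ finrank F W.1 * (Fintype.card F : ℚ) ^ (finrank F W.1).choose 2)).symm
  · rw [isoSum]
    refine finsum_eq_zero_of_forall_eq_zero fun U => ?_
    rw [choose_two_succ, pow_add, sub_self, mul_zero]

end Cfsg.Agent.SympUnip
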