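import Cfsg.Agent.Lib.Classical.SympIsotropicSum

/-!
# The number of unipotent isometries of a non-degenerate alternating form
-/

set_option autoImplicit false

universe u v

namespace Cfsg.Agent.SympUnip

open LinearMap (BilinForm)
open AltForm Module

variable {F : Type u} [Field F] [Fintype F] {V : Type v} [AddCommGroup V] [Module F V]
  [FiniteDimensional F V] {B : BilinForm F V}

/-! ### Unipotent elements fixing a vector -/

section Stab

variable (hA : B.IsAlt) {u₀ v₀ : V} (h : B u₀ v₀ = 1)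

theorem shift_comp (c : F) (x z : V) (hx : B u₀ x = 0) :
    (z + (c * B u₀ z + B x z) • u₀ + B u₀ z • x) +
      (-c * B u₀ (z + (c * B u₀ z + B x z) • u₀ + B u₀ z • x) +
        B (-x) (z + (c * B u₀ z + B x z) • u₀ + B u₀ z • x)) • u₀ +
      B u₀ (z + (c * B u₀ z + B x z) • u₀ + B u₀ z • x) • (-x) = z ↔
    (B u₀ u₀ * (c * B u₀ z + B x z)) • (-x) +
      (-c * (B u₀ u₀ * (c * B u₀ z + B x z)) - (B x u₀ * (c * B u₀ z + B x z) + B u₀ z * B x x)) • u₀ = 0 := by
  simp only [map_add, map_smul, smul_eq_mul, hx, mul_zero, add_zero, map_neg, LinearMap.neg_apply]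
  rw [← sub_eq_zero]
  constructor <;> intro e <;> rw [← e] <;> module

include hA h

/-- The isometry `u₀ ↦ u₀, v₀ ↦ v₀ + c u₀ + x`. -/
noncomputable def shift (c : F) (x : pairPerp B u₀ v₀) : V ≃ₗ[F] V :=
  LinearEquiv.ofLinear
    (LinearMap.id + (c • B u₀ + B (x : V)).smulRight u₀ + (B u₀).smulRight (x : V))
    (LinearMap.id + ((-c) • B u₀ + B (-(x : V))).smulRight u₀ + (B u₀).smulRight (-(x : V)))
    (by
      refine LinearMap.ext fun z => ?_
      have hx : B u₀ (-(x : V)) = 0 := by rw [map_neg, B_u_coe hA h, neg_zero]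
      have := (shift_comp (B := B) (u₀ := u₀) (-c) (-(x : V)) z hx).2
        (by simp [hA.self_eq_zero, B_coe_u hA h])
      simpa using this)
    (by
      refine LinearMap.ext fun z => ?_
      have := (shift_comp (B := B) (u₀ := u₀) c (x : V) z (B_u_coe hA h x)).2
        (by simp [hA.self_eq_zero, B_coe_u hA h])
      simpa using this)

theorem shift_apply (c : F) (x : pairPerp B u₀ v₀) (z : V) :
    shift hA h c x z = z + (c * B u₀ z + B (x : V) z) • u₀ + B u₀ z • (x : V) := by
  simp [shift]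

theorem shift_mem (c : F) (x : pairPerp B u₀ v₀) : shift hA h c x ∈ isoGroup B := by
  intro a b
  have h1 : B a u₀ = -B u₀ a := swap hA u₀ a
  have h2 : B a (x : V) = -B (x : V) a := swap hA (x : V) a
  simp [shift_apply hA h, hA.self_eq_zero, B_u_coe hA h, B_coe_u hA h, h1, h2]
  ring

theorem shift_u (c : F) (x : pairPerp B u₀ v₀) : shift hA h c x u₀ = u₀ := by
  simp [shift_apply hA h, hA.self_eq_zero, B_coe_u hA h]

theorem shift_v (c : F) (x : pairPerp B u₀ v₀) : shift hA h c x v₀ = c • u₀ + v₀ + x := by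
  simp [shift_apply hA h, h, (pairPerp_left hA x).2]
  abel

theorem shift_coe (c : F) (x y : pairPerp B u₀ v₀) :
    shift hA h c x y = B (x : V) y • u₀ + y := by
  simp [shift_apply hA h, B_u_coe hA h]
  abel

theorem proj_step (c : F) (x : pairPerp B u₀ v₀) (k : pairPerp B u₀ v₀ ≃ₗ[F] pairPerp B u₀ v₀)
    (a : F) (y : pairPerp B u₀ v₀) :
    (((shift hA h c x * extend hA h k : V ≃ₗ[F] V) : V →ₗ[F] V) - 1) (a • u₀ + y) =
      B (x : V) (k y : V) • u₀ + (((k : pairPerp B u₀ v₀ →ₗ[F] pairPerp B u₀ v₀) - 1) y : V) := by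
  simp [shift_u hA h, shift_coe hA h, extend_left, extend_coe]
  abel

theorem unip_iff (c : F) (x : pairPerp B u₀ v₀) {k : pairPerp B u₀ v₀ ≃ₗ[F] pairPerp B u₀ v₀}
    (hk : k ∈ isoGroup (B.restrict (pairPerp B u₀ v₀))) :
    IsUnip B (shift hA h c x * extend hA h k) ↔ IsUnip (B.restrict (pairPerp B u₀ v₀)) k := by
  set N := ((shift hA h c x * extend hA h k : V ≃ₗ[F] V) : V →ₗ[F] V) - 1 with hN
  set M := (k : pairPerp B u₀ v₀ →ₗ[F] pairPerp B u₀ v₀) - 1 with hM
  have key : ∀ (j : ℕ) (y : pairPerp B u₀ v₀), ∃ a : F, (N ^ j) (y : V) = a • u₀ + ((M ^ j) y : V) := by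
    intro j y
    induction j with
    | zero => exact ⟨0, by simp⟩
    | succ j ih =>
      obtain ⟨a, ha⟩ := ih
      rw [pow_succ', Module.End.mul_apply, ha, hN, proj_step hA h, pow_succ', Module.End.mul_apply]
      exact ⟨_, rfl⟩
  have hNu : N u₀ = 0 := by simp [hN, shift_u hA h, extend_left]
  constructor
  · rintro ⟨-, n, hn⟩
    refine ⟨hk, n, LinearMap.ext fun y => ?_⟩
    obtain ⟨a, ha⟩ := key n y
    rw [hn, LinearMap.zero_apply] at ha
    have := congrArg (proj hA h) ha
    rw [map_zero, map_add, map_smul, proj_u hA h, smul_zero, zero_add, proj_coe hA h] at this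
    rw [LinearMap.zero_apply, ← this]
  · rintro ⟨-, n, hn⟩
    refine ⟨mul_mem (shift_mem hA h c x) (extend_mem hA h hk), n + 2, ?_⟩
    have hy : ∀ y : pairPerp B u₀ v₀, (N ^ (n + 1)) (y : V) = 0 := by
      intro y
      obtain ⟨a, ha⟩ := key n y
      rw [pow_succ', Module.End.mul_apply, ha, hn, LinearMap.zero_apply, Submodule.coe_zero, add_zero,
        map_smul, hNu, smul_zero]
    have hu : ∀ j, (N ^ (j + 1)) u₀ = 0 := by
      intro j
      induction j with
      | zero => rw [zero_add, pow_one, hNu]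
      | succ j ih => rw [pow_succ', Module.End.mul_apply, ih, map_zero]
    have hv : N v₀ = c • u₀ + x := by
      simp [hN, extend_right, shift_v hA h]
      abel
    refine LinearMap.ext fun z => ?_
    obtain ⟨⟨⟨a, b⟩, y⟩, rfl⟩ := (split hA h).surjective z
    show (N ^ (n + 2)) (a • u₀ + b • v₀ + y) = 0
    rw [map_add, map_add, map_smul, map_smul, hu (n + 1), pow_succ N (n + 1), Module.End.mul_apply,
      Module.End.mul_apply, hv, map_add, map_smul, hu n, hy x]
    have : N y = B (x : V) (k y : V) • u₀ + (M y : V) := by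
      simpa [hN, hM] using proj_step hA h c x k 0 y
    rw [this, map_add, map_smul, hu n, hy]
    simp

/-- Unipotents fixing `u₀` and a given subspace of the orthogonal. -/
theorem card_fix_through (U : Submodule F (pairPerp B u₀ v₀)) :
    Nat.card {g : V ≃ₗ[F] V // IsUnip B g ∧ g u₀ = u₀ ∧ ∀ y ∈ U, g (y : V) = y} =
      Nat.card F * Nat.card ((B.restrict (pairPerp B u₀ v₀)).orthogonal U) *
        Nat.card {k : pairPerp B u₀ v₀ ≃ₗ[F] pairPerp B u₀ v₀ //
          IsUnip (B.restrict (pairPerp B u₀ v₀)) k ∧ ∀ y ∈ U, k y = y} := by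
  rw [← Nat.card_prod, ← Nat.card_prod]
  have horth : ∀ x : pairPerp B u₀ v₀, x ∈ (B.restrict (pairPerp B u₀ v₀)).orthogonal U ↔
      ∀ y ∈ U, B (x : V) (y : V) = 0 := by
    intro x
    rw [LinearMap.BilinForm.mem_orthogonal_iff]
    exact forall₂_congr fun y _ => by
      show B (y : V) (x : V) = 0 ↔ _
      rw [swap hA (x : V) (y : V), neg_eq_zero]
  have hmem : ∀ p : (F × (B.restrict (pairPerp B u₀ v₀)).orthogonal U) ×
      {k : pairPerp B u₀ v₀ ≃ₗ[F] pairPerp B u₀ v₀ //
        IsUnip (B.restrict (pairPerp B u₀ v₀)) k ∧ ∀ y ∈ U, k y = y},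
      IsUnip B (shift hA h p.1.1 p.1.2.1 * extend hA h p.2.1) ∧
        (shift hA h p.1.1 p.1.2.1 * extend hA h p.2.1) u₀ = u₀ ∧
        ∀ y ∈ U, (shift hA h p.1.1 p.1.2.1 * extend hA h p.2.1) (y : V) = y := fun p =>
    ⟨(unip_iff hA h p.1.1 p.1.2.1 p.2.2.1.1).2 p.2.2.1,
      by rw [LinearEquiv.mul_apply, extend_left, shift_u hA h],
      fun y hy => by
        rw [LinearEquiv.mul_apply, extend_coe, p.2.2.2 y hy, shift_coe hA h,
          (horth _).1 p.1.2.2 y hy, zero_smul, zero_add]⟩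
  refine (Nat.card_eq_of_bijective (fun p => ⟨_, hmem p⟩) ⟨?_, ?_⟩).symm
  · rintro ⟨⟨c, x⟩, k⟩ ⟨⟨c', x'⟩, k'⟩ e
    have e' := congrArg Subtype.val e
    simp only at e'
    have hv := LinearEquiv.congr_fun e' v₀
    simp only [LinearEquiv.mul_apply, extend_right, shift_v hA h] at hv
    have hv' : split hA h ((c, 1), x.1) = split hA h ((c', 1), x'.1) := by simpa [split] using hv
    have hcx := (split hA h).injective hv'
    simp only [Prod.mk.injEq, and_true] at hcx
    obtain ⟨rfl, hx⟩ := hcx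
    obtain rfl : x = x' := Subtype.ext hx
    refine Prod.ext rfl (Subtype.ext (LinearEquiv.ext fun y => Subtype.ext ?_))
    have := LinearEquiv.congr_fun (mul_left_cancel e') (y : V)
    rwa [extend_coe, extend_coe] at this
  · rintro ⟨g, hg, hgu, hgU⟩
    obtain ⟨⟨⟨c, b⟩, x⟩, hgv⟩ := (split hA h).surjective (g v₀)
    have hgv' : c • u₀ + b • v₀ + x = g v₀ := hgv
    have hb : b = 1 := by
      have h1 := hg.1 u₀ v₀
      rw [hgu, ← hgv', h] at h1
      simpa [hA.self_eq_zero, h, B_u_coe hA h] using h1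
    subst hb
    rw [one_smul] at hgv'
    have ht := shift_mem hA h c x
    have hk0 : (shift hA h c x)⁻¹ * g ∈ isoGroup B := mul_mem (inv_mem ht) hg.1
    have hku : ((shift hA h c x)⁻¹ * g) u₀ = u₀ := by
      rw [LinearEquiv.mul_apply, hgu]
      exact (LinearEquiv.symm_apply_eq _).2 (shift_u hA h c x).symm
    have hkv : ((shift hA h c x)⁻¹ * g) v₀ = v₀ := by
      rw [LinearEquiv.mul_apply]
      exact (LinearEquiv.symm_apply_eq _).2 (by rw [shift_v hA h, hgv'])
    set k := restrictPair _ hk0 hku hkv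
    have hgk : g = shift hA h c x * extend hA h k := by
      rw [show extend hA h k = (shift hA h c x)⁻¹ * g from extend_restrict hA h _ hk0 hku hkv,
        mul_inv_cancel_left]
    have hkmem := restrictPair_mem _ hk0 hku hkv
    have hku' : IsUnip (B.restrict (pairPerp B u₀ v₀)) k := (unip_iff hA h c x hkmem).1 (hgk ▸ hg)
    have hfix : ∀ y ∈ U, k y = y ∧ B (x : V) (y : V) = 0 := by
      intro y hy
      have h1 := hgU y hy
      rw [hgk, LinearEquiv.mul_apply, extend_coe, shift_coe hA h] at h1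
      have h2 := congrArg (proj hA h) h1
      rw [map_add, map_smul, proj_u hA h, smul_zero, zero_add, proj_coe hA h, proj_coe hA h] at h2
      rw [h2] at h1
      exact ⟨h2, (smul_eq_zero.1 (add_eq_right.1 h1)).resolve_right (AltForm.ne_zero_of_eq_one h).1⟩
    exact ⟨((c, ⟨x, (horth x).2 fun y hy => (hfix y hy).2⟩), ⟨k, hku', fun y hy => (hfix y hy).1⟩),
      Subtype.ext hgk.symm⟩

end Stab

omit [FiniteDimensional F V] in
theorem exists_fixed_iff {g : V ≃ₗ[F] V} {W : Submodule F V} :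
    W ≤ LinearMap.ker ((g : V →ₗ[F] V) - 1) ↔ ∀ y ∈ W, g y = y := by
  simp [SetLike.le_def, sub_eq_zero]

open Classical in
/-- The number of unipotent isometries fixing an isotropic subspace pointwise. -/
theorem card_fix : ∀ (m : ℕ) {V : Type v} [AddCommGroup V] [Module F V] [FiniteDimensional F V]
    {B : BilinForm F V}, B.IsAlt → B.Nondegenerate → finrank F V = 2 * m →
    ∀ W : Submodule F V, IsoSub B W →
      (Nat.card {g : V ≃ₗ[F] V // IsUnip B g ∧ ∀ y ∈ W, g y = y} : ℚ) =
        (Fintype.card F : ℚ) ^ (2 * (m : ℤ) ^ 2 + ((finrank F W + 1).choose 2 : ℕ) -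
          2 * (m : ℤ) * finrank F W) := by
  intro m
  induction m with
  | zero =>
    intro V _ _ _ B hA hB hV W hW
    haveI := finrank_eq_zero_iff_subsingleton hV
    haveI : Subsingleton {g : V ≃ₗ[F] V // IsUnip B g ∧ ∀ y ∈ W, g y = y} :=
      ⟨fun a b => Subtype.ext (LinearEquiv.ext fun x => Subsingleton.elim _ _)⟩
    rw [Nat.card_of_subsingleton (⟨1, ⟨one_mem _, 1, LinearMap.ext fun x => Subsingleton.elim _ _⟩, fun y _ => rfl⟩ :
      {g : V ≃ₗ[F] V // IsUnip B g ∧ ∀ y ∈ W, g y = y}), Module.finrank_zero_of_subsingleton]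
    simp
  | succ m ih =>
    set q : ℚ := (Fintype.card F : ℚ) with hq
    have hq0 : q ≠ 0 := Nat.cast_ne_zero.2 Fintype.card_ne_zero
    intro V _ _ _ B hA hB hV
    have pos : ∀ W : Submodule F V, IsoSub B W → W ≠ ⊥ →
      (Nat.card {g : V ≃ₗ[F] V // IsUnip B g ∧ ∀ y ∈ W, g y = y} : ℚ) =
        q ^ (2 * ((m + 1 : ℕ) : ℤ) ^ 2 + ((finrank F W + 1).choose 2 : ℕ) -
          2 * ((m + 1 : ℕ) : ℤ) * finrank F W) := by
      intro W hW hne
      obtain ⟨u₀, huW, hu0⟩ := Submodule.exists_mem_ne_zero_of_ne_bot hne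
      obtain ⟨v₀, h⟩ := exists_eq_one hB hu0
      have hV' : finrank F (pairPerp B u₀ v₀) = 2 * m := by
        have := finrank_pairPerp hA h; omega
      set W₁ : {W : {W : Submodule F V // IsoSub B W ∧ W ≤ ⊤} // u₀ ∈ W.1} := ⟨⟨W, hW, le_top⟩, huW⟩
      set U := (throughEquiv hA h Submodule.mem_top) W₁ with hU
      have hd := finrank_through hA h Submodule.mem_top U
      rw [hU, Equiv.symm_apply_apply] at hd
      have hWeq : W = Submodule.span F {u₀} ⊔ U.1.map (pairPerp B u₀ v₀).subtype := by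
        have := congrArg (fun W => W.1.1) ((throughEquiv hA h Submodule.mem_top).symm_apply_apply W₁)
        exact this.symm
      have e : Nat.card {g : V ≃ₗ[F] V // IsUnip B g ∧ ∀ y ∈ W, g y = y} =
          Nat.card {g : V ≃ₗ[F] V // IsUnip B g ∧ g u₀ = u₀ ∧ ∀ y ∈ U.1, g (y : V) = y} := by
        refine Nat.card_congr (Equiv.subtypeEquivRight fun g => and_congr_right fun _ => ?_)
        constructor
        · exact fun hg => ⟨hg _ huW, fun y hy => hg _ (by
            rw [hWeq]; exact Submodule.mem_sup_right ⟨y, hy, rfl⟩)⟩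
        · rintro ⟨h1, h2⟩ y hy
          rw [hWeq] at hy
          obtain ⟨a, ha, b, ⟨z, hz, rfl⟩, rfl⟩ := Submodule.mem_sup.1 hy
          obtain ⟨c, rfl⟩ := Submodule.mem_span_singleton.1 ha
          rw [map_add, map_smul, h1, Submodule.subtype_apply, h2 z hz]
      have horth : finrank F ((B.restrict (pairPerp B u₀ v₀)).orthogonal U.1) + finrank F U.1 = 2 * m := by
        have := LinearMap.BilinForm.finrank_orthogonal (restrict_nondeg hA hB h) U.1
        have := Submodule.finrank_le U.1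
        omega
      rw [e, card_fix_through hA h, Nat.cast_mul, Nat.cast_mul,
        ih (restrict_isAlt hA _) (restrict_nondeg hA hB h) hV' U.1 U.2.1,
        Module.natCard_eq_pow_finrank (K := F) (V := (B.restrict (pairPerp B u₀ v₀)).orthogonal U.1),
        Nat.cast_pow, Nat.card_eq_fintype_card, ← hq, hd,
        show finrank F ((B.restrict (pairPerp B u₀ v₀)).orthogonal U.1) = 2 * m - finrank F U.1 by omega,
        ← pow_succ', ← zpow_natCast q, ← zpow_add₀ hq0]
      congr 1
      rw [choose_two_succ (finrank F U.1 + 1)]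
      push_cast [show finrank F U.1 ≤ 2 * m by omega]
      ring
    intro W hW
    by_cases hne : W = ⊥
    swap
    · exact pos W hW hne
    subst hne
    haveI : Finite V := Module.finite_of_finite F
    haveI : Finite (Submodule F V) := Finite.of_injective (fun W => (W : Set V)) SetLike.coe_injective
    haveI : Finite (V ≃ₗ[F] V) := Finite.of_injective (fun g => (g : V → V)) DFunLike.coe_injective
    haveI := Fintype.ofFinite {W : Submodule F V // IsoSub B W ∧ W ≤ ⊤}
    haveI := Fintype.ofFinite {g : V ≃ₗ[F] V // IsUnip B g}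
    let c : {W : Submodule F V // IsoSub B W ∧ W ≤ ⊤} → ℚ :=
      fun W => (-1) ^ finrank F W.1 * q ^ (finrank F W.1).choose 2
    let one' : {g : V ≃ₗ[F] V // IsUnip B g} := ⟨1, one_mem _, 1, LinearMap.ext fun x => by simp⟩
    have hrow : ∀ g : {g : V ≃ₗ[F] V // IsUnip B g},
        (∑ W : {W : Submodule F V // IsoSub B W ∧ W ≤ ⊤}, if ∀ y ∈ W.1, g.1 y = y then c W else 0) =
          if g = one' then (-1) ^ (m + 1) * q ^ ((m + 1) ^ 2) else 0 := by
      intro g
      split_ifs with hg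
      · subst hg
        rw [← sumVal_choose hq0, ← isoSum_top_eq (m + 1) hA hB hV, isoSum, finsum_eq_sum_of_fintype]
        exact Finset.sum_congr rfl fun W _ => if_pos fun y _ => rfl
      · have hz := isoSum_fixed_eq_zero hA hB g.2 fun e => hg (Subtype.ext e)
        haveI := Fintype.ofFinite {W : Submodule F V // IsoSub B W ∧ W ≤ LinearMap.ker ((g.1 : V →ₗ[F] V) - 1)}
        rw [isoSum, finsum_eq_sum_of_fintype] at hz
        rw [← Finset.sum_filter, Finset.sum_subtype (p := fun W : {W : Submodule F V // IsoSub B W ∧ W ≤ ⊤} =>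
          ∀ y ∈ W.1, g.1 y = y) (Finset.univ.filter fun W : {W : Submodule F V //
          IsoSub B W ∧ W ≤ ⊤} => ∀ y ∈ W.1, g.1 y = y) (fun W => by simp) c]
        let eW : {W : {W : Submodule F V // IsoSub B W ∧ W ≤ ⊤} // ∀ y ∈ W.1, g.1 y = y} ≃
            {W : Submodule F V // IsoSub B W ∧ W ≤ LinearMap.ker ((g.1 : V →ₗ[F] V) - 1)} :=
          { toFun := fun W => ⟨W.1.1, W.1.2.1, exists_fixed_iff.2 W.2⟩
            invFun := fun W => ⟨⟨W.1, W.2.1, le_top⟩, exists_fixed_iff.1 W.2.2⟩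
            left_inv := fun W => by rfl
            right_inv := fun W => by rfl }
        rw [← Equiv.sum_comp eW] at hz
        exact hz
    let N : Submodule F V → ℚ := fun W => Nat.card {g : V ≃ₗ[F] V // IsUnip B g ∧ ∀ y ∈ W, g y = y}
    have hcol : ∀ W : {W : Submodule F V // IsoSub B W ∧ W ≤ ⊤},
        (∑ g : {g : V ≃ₗ[F] V // IsUnip B g}, if ∀ y ∈ W.1, g.1 y = y then c W else 0) = N W.1 * c W := by
      intro W
      rw [← Finset.sum_filter, Finset.sum_const, nsmul_eq_mul]
      show _ = (Nat.card {g : V ≃ₗ[F] V // IsUnip B g ∧ ∀ y ∈ W.1, g y = y} : ℚ) * c W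
      rw [← Nat.card_congr (Equiv.subtypeSubtypeEquivSubtypeInter (IsUnip B) fun g : V ≃ₗ[F] V => ∀ y ∈ W.1, g y = y),
        Nat.card_eq_fintype_card, Fintype.card_subtype]
    have htot := Finset.sum_congr rfl fun g (_ : g ∈ Finset.univ) => hrow g
    rw [Finset.sum_ite_eq' Finset.univ one', if_pos (Finset.mem_univ _), Finset.sum_comm,
      Finset.sum_congr rfl fun W (_ : W ∈ Finset.univ) => hcol W] at htot
    let M : ℤ := ((m + 1 : ℕ) : ℤ)
    let W₀ : {W : Submodule F V // IsoSub B W ∧ W ≤ ⊤} :=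
      ⟨⊥, fun x hx y _ => by rw [(Submodule.mem_bot F).1 hx, map_zero, LinearMap.zero_apply], le_top⟩
    have hcW : ∀ W : {W : Submodule F V // IsoSub B W ∧ W ≤ ⊤},
        q ^ (2 * M ^ 2 + ((finrank F W.1 + 1).choose 2 : ℕ) - 2 * M * finrank F W.1) * c W =
          q ^ (M ^ 2) * ((-1) ^ finrank F W.1 * q ^ ((M - finrank F W.1) ^ 2)) := by
      intro W
      simp only [c]
      rw [mul_left_comm, ← zpow_natCast q ((finrank F W.1).choose 2), ← zpow_add₀ hq0,
        mul_left_comm (q ^ (M ^ 2)), ← zpow_add₀ hq0]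
      congr 2
      have : (((finrank F W.1 + 1).choose 2 : ℕ) : ℤ) + ((finrank F W.1).choose 2 : ℕ) =
          (finrank F W.1 : ℤ) ^ 2 := by
        rw [← Nat.cast_add, ← Nat.cast_pow, Nat.cast_inj]
        induction finrank F W.1 with
        | zero => rfl
        | succ j ih => rw [choose_two_succ (j + 1), choose_two_succ j] at *; nlinarith [ih]
      linear_combination this
    have hall : ∑ W : {W : Submodule F V // IsoSub B W ∧ W ≤ ⊤},
        q ^ (2 * M ^ 2 + ((finrank F W.1 + 1).choose 2 : ℕ) - 2 * M * finrank F W.1) * c W =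
        q ^ (M ^ 2) * (-1) ^ (m + 1) := by
      rw [Finset.sum_congr rfl fun W _ => hcW W, ← Finset.mul_sum, ← sumVal_sq hq0,
        ← isoSum_top_eq (m + 1) hA hB hV, isoSum, finsum_eq_sum_of_fintype]
    rw [← Finset.add_sum_erase _ _ (Finset.mem_univ W₀)] at htot hall
    rw [Finset.sum_congr rfl fun W hW' => by
      rw [show N W.1 = _ from pos W.1 W.2.1 fun e => Finset.ne_of_mem_erase hW' (Subtype.ext e)]] at htot
    have hc0 : c W₀ = 1 := by simp [c, W₀]
    rw [hc0, mul_one] at htot hall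
    rw [show (q : ℚ) ^ ((m + 1) ^ 2) = q ^ (M ^ 2) by
      rw [← zpow_natCast]; congr 1] at htot
    show N ⊥ = _
    linear_combination htot - hall

/-- The number of unipotent isometries is `q ^ (2 m ^ 2)`. -/
theorem card_unip (hA : B.IsAlt) (hB : B.Nondegenerate) {m : ℕ} (hV : finrank F V = 2 * m) :
    Nat.card {g : V ≃ₗ[F] V // IsUnip B g} = Fintype.card F ^ (2 * m ^ 2) := by
  have h := card_fix m hA hB hV ⊥ fun x hx y _ => by
    rw [(Submodule.mem_bot F).1 hx, map_zero, LinearMap.zero_apply]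
  rw [finrank_bot] at h
  rw [show Nat.card {g : V ≃ₗ[F] V // IsUnip B g} =
    Nat.card {g : V ≃ₗ[F] V // IsUnip B g ∧ ∀ y ∈ (⊥ : Submodule F V), g y = y} from
      Nat.card_congr (Equiv.subtypeEquivRight fun g =>
        ⟨fun hg => ⟨hg, fun y hy => by rw [(Submodule.mem_bot F).1 hy, map_zero]⟩, fun hg => hg.1⟩)]
  simp only [Nat.choose_succ_self, Nat.cast_zero, mul_zero, sub_zero, add_zero] at h
  rw [show (2 * (m : ℤ) ^ 2) = ((2 * m ^ 2 : ℕ) : ℤ) by push_cast; rfl, zpow_natCast] at h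
  exact_mod_cast h

end Cfsg.Agent.SympUnip
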