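/-
Totally isotropic subspaces of the standard Hermitian space: counts, transitivity, stabilisers.
-/
import Cfsg.Agent.Lib.Classical.HermSU
import Cfsg.Prelude.Def_ClassicalGeometry

set_option autoImplicit false

namespace Cfsg.Agent.UnitaryCount

open Matrix Hermitian HermStd Module

variable {F : Type*} [Field F] [Fintype F] {q : ℕ} {σ : F →+* F}

/-- Ordered bases of totally isotropic k-subspaces. -/
def Tuple (F : Type*) [Field F] (q n k : ℕ) : Type _ :=
  {s : Fin k → Fin n → F // LinearIndependent F s ∧ ∀ i j, Cfsg.hermForm n F q (s i) (s j) = 0}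

/-- Totally isotropic k-subspaces. -/
def Sing (F : Type*) [Field F] (q n k : ℕ) : Type _ :=
  {W : Submodule F (Fin n → F) // Module.finrank F W = k ∧
    ∀ u ∈ W, ∀ v ∈ W, Cfsg.hermForm n F q u v = 0}

variable (hne : σ ≠ RingHom.id F) (hinv : ∀ a, σ (σ a) = a) (hσ : ∀ x, σ x = x ^ q)
include hne hinv hσ

theorem exists_isometry {V : Type*} [AddCommGroup V] [Module F V] [FiniteDimensional F V]
    {h : V → V → F} (hh : IsHerm σ h) {m : ℕ} (hm : finrank F V = m) :
    ∃ ψ : (Fin m → F) ≃ₗ[F] V, ∀ a b, h (ψ a) (ψ b) = Cfsg.hermForm m F q a b := by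
  classical
  obtain ⟨c, hc⟩ := exists_orthonormal (n := m) hh hm
  have hli := hh.linearIndependent_of_gram (hh.orthonormal_gram hc)
  let B := Module.Basis.mk hli (by rw [hli.span_eq_top_of_card_eq_finrank' (by rw [Fintype.card_fin, hm])])
  refine ⟨B.equivFun.symm, fun a b => ?_⟩
  rw [Module.Basis.equivFun_symm_apply, Module.Basis.equivFun_symm_apply]
  simp only [B, Module.Basis.coe_mk]
  have hstd := isHerm_std hne hinv hσ m
  have e1 := hh.map_sum_eq (x := c) (y := c) (fun _ _ => rfl) a b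
  rw [hh.sum_left]
  refine Finset.sum_congr rfl fun i _ => ?_
  rw [hh.smul_left, hh.symm, hh.sum_left, map_sum, Finset.sum_eq_single i, hh.smul_left, map_mul,
    ← hh.symm, hc, if_pos rfl, mul_one, hσ]
  · intro j _ hj
    rw [hh.smul_left, map_mul, ← hh.symm, hc, if_neg (Ne.symm hj), mul_zero]
  · intro hi; exact absurd (Finset.mem_univ i) hi

theorem exists_partner {n : ℕ} {e : Fin n → F} (he0 : e ≠ 0) (hee : Cfsg.hermForm n F q e e = 0) :
    ∃ d, Cfsg.hermForm n F q e d = 1 ∧ Cfsg.hermForm n F q d d = 0 := by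
  have hh := isHerm_std hne hinv hσ n
  obtain ⟨w, hw⟩ : ∃ w, Cfsg.hermForm n F q e w ≠ 0 := by
    by_contra! hc
    exact he0 (hh.nondeg e hc)
  set a := (σ (Cfsg.hermForm n F q e w))⁻¹ with ha
  have h1 : Cfsg.hermForm n F q e (a • w) = 1 := by
    rw [hh.smul_right, ha, map_inv₀, hinv, inv_mul_cancel₀ hw]
  obtain ⟨b, hb⟩ := exists_trace hne hinv (hh.self_fixed (a • w))
  refine ⟨a • w + (-b) • e, by rw [hh.add_right, hh.smul_right _ e e, hee, mul_zero, add_zero, h1], ?_⟩
  simp only [hh.add_left, hh.add_right, hh.smul_left (-b) e, hh.smul_right (-b) _ e, h1, hee,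
    hh.symm e (a • w), map_one, map_neg]
  linear_combination -hb

theorem card_fibre {n k : ℕ} {e : Fin (n + 2) → F} (he0 : e ≠ 0)
    (hee : Cfsg.hermForm (n + 2) F q e e = 0) :
    Nat.card {s : Fin k → Fin (n + 2) → F // LinearIndependent F (Fin.cons e s : Fin (k + 1) → Fin (n + 2) → F) ∧
      (∀ i, Cfsg.hermForm (n + 2) F q (s i) e = 0) ∧ ∀ i j, Cfsg.hermForm (n + 2) F q (s i) (s j) = 0} =
    Nat.card (Tuple F q n k) * Nat.card F ^ k := by
  classical
  have hh := isHerm_std hne hinv hσ (n + 2)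
  set h := Cfsg.hermForm (n + 2) F q with hdef
  obtain ⟨d, hed, hdd⟩ : ∃ d, h e d = 1 ∧ h d d = 0 := exists_partner hne hinv hσ he0 hee
  have hde : h d e = 1 := by rw [hh.symm, hed, map_one]
  have hg : ∀ c : Fin 2 → F, (∀ j, ∑ i, c i * h (![e, d] i) (![e, d] j) = 0) → c = 0 := by
    intro c hc
    have h0 := hc 0
    have h1 := hc 1
    simp [Fin.sum_univ_two, hee, hed, hde, hdd] at h0 h1
    funext i; fin_cases i <;> simp [h0, h1]
  obtain ⟨hdim, hO, -⟩ := hh.orth_spec hg
  rw [finrank_fintype_fun_eq_card, Fintype.card_fin, Fintype.card_fin] at hdim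
  obtain ⟨ψ, hψ⟩ := exists_isometry hne hinv hσ hO (m := n) (by omega)
  have hoe : ∀ x : hh.orth ![e, d], h x.1 e = 0 := fun x => hh.mem_orth.1 x.2 0
  have hod : ∀ x : hh.orth ![e, d], h x.1 d = 0 := fun x => hh.mem_orth.1 x.2 1
  have hpow : Nat.card (Fin k → F) = Nat.card F ^ k := by rw [Nat.card_fun, Nat.card_fin]
  rw [← hpow, ← Nat.card_prod]
  have hli : ∀ (t : Fin k → Fin n → F) (c : Fin k → F),
      LinearIndependent F (Fin.cons e fun i => (ψ (t i)).1 + c i • e : Fin (k + 1) → Fin (n + 2) → F) ↔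
        LinearIndependent F t := by
    intro t c
    rw [Fintype.linearIndependent_iff, Fintype.linearIndependent_iff]
    have hsum : ∀ g : Fin (k + 1) → F,
        ∑ i, g i • (Fin.cons e (fun i => (ψ (t i)).1 + c i • e) : Fin (k + 1) → Fin (n + 2) → F) i =
          (g 0 + ∑ i, g i.succ * c i) • e + (ψ (∑ i, g i.succ • t i)).1 := fun g => by
      simp [Fin.sum_univ_succ, smul_add, add_smul, Finset.sum_add_distrib, Finset.sum_smul, smul_smul]
      abel
    constructor
    · intro H g hg' i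
      have := H (Fin.cons (-∑ i, g i * c i) g) (by rw [hsum]; simp [hg']) i.succ
      simpa using this
    · intro H g hg'
      rw [hsum] at hg'
      have h0 := congrArg (fun v => h v d) hg'
      simp only [hh.add_left, hh.smul_left, hed, hod, hh.zero_left, mul_one, add_zero] at h0
      rw [h0, zero_smul, zero_add] at hg'
      have h1 := H (fun i => g i.succ) (ψ.injective (Subtype.ext (hg'.trans (by simp))))
      intro i
      induction i using Fin.cases with
      | zero => simpa [h1] using h0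
      | succ i => exact h1 i
  have hform : ∀ (a b : Fin n → F) (c c' : F),
      h ((ψ a).1 + c • e) ((ψ b).1 + c' • e) = Cfsg.hermForm n F q a b := by
    intro a b c c'
    simp only [hh.add_left, hh.add_right, hh.smul_left c e, hh.smul_right c' _ e, hee, hoe,
      hh.eq_zero_comm.1 (hoe (ψ b)), mul_zero, add_zero]
    exact hψ a b
  have hmem : ∀ (s : Fin (n + 2) → F), h s e = 0 → s - h s d • e ∈ hh.orth ![e, d] := by
    intro s hs
    refine hh.mem_orth.2 fun i => ?_
    fin_cases i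
    · simp [hh.sub_left, hh.smul_left, hs, hee]
    · simp [hh.sub_left, hh.smul_left, hed]
  refine Nat.card_congr
    { toFun := fun s => (⟨fun i => ψ.symm ⟨_, hmem (s.1 i) (s.2.2.1 i)⟩, ?_⟩, fun i => h (s.1 i) d)
      invFun := fun p => ⟨fun i => (ψ (p.1.1 i)).1 + p.2 i • e, (hli _ _).2 p.1.2.1,
        fun i => by rw [hh.add_left, hh.smul_left, hee, hoe, mul_zero, add_zero],
        fun i j => by rw [hform, p.1.2.2]⟩
      left_inv := fun s => Subtype.ext (funext fun i => by simp)
      right_inv := fun p => ?_ }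
  · refine ⟨(hli _ (fun i => h (s.1 i) d)).1 ?_, fun i j => ?_⟩
    · simpa using s.2.1
    · rw [← hform _ _ (h (s.1 i) d) (h (s.1 j) d)]
      simpa using s.2.2.2 i j
  · have hc : ∀ i, h ((ψ (p.1.1 i)).1 + p.2 i • e) d = p.2 i := fun i => by
      rw [hh.add_left, hh.smul_left, hed, hod, mul_one, zero_add]
    refine Prod.ext (Subtype.ext (funext fun i => ψ.injective ?_)) (funext hc)
    refine Subtype.ext ?_
    simp [hc]

theorem card_tuple_succ (n k : ℕ) :
    Nat.card (Tuple F q (n + 2) (k + 1)) =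
      Nat.card {v : Fin (n + 2) → F // v ≠ 0 ∧ Cfsg.hermForm (n + 2) F q v v = 0} *
        (Nat.card (Tuple F q n k) * Nat.card F ^ k) := by
  classical
  have hh := isHerm_std hne hinv hσ (n + 2)
  let e : Tuple F q (n + 2) (k + 1) ≃ Σ v : {v : Fin (n + 2) → F // v ≠ 0 ∧ Cfsg.hermForm (n + 2) F q v v = 0},
      {s : Fin k → Fin (n + 2) → F // LinearIndependent F (Fin.cons v.1 s : Fin (k + 1) → Fin (n + 2) → F) ∧
      (∀ i, Cfsg.hermForm (n + 2) F q (s i) v.1 = 0) ∧ ∀ i j, Cfsg.hermForm (n + 2) F q (s i) (s j) = 0} :=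
    { toFun := fun s => ⟨⟨s.1 0, s.2.1.ne_zero 0, s.2.2 0 0⟩, ⟨fun i => s.1 i.succ,
        (Fin.cons_self_tail s.1).symm ▸ s.2.1, fun i => s.2.2 _ _, fun i j => s.2.2 _ _⟩⟩
      invFun := fun p => ⟨Fin.cons p.1.1 p.2.1, p.2.2.1, fun i j => by
        induction i using Fin.cases <;> induction j using Fin.cases
        · simpa using p.1.2.2
        · rename_i j; simpa using hh.eq_zero_comm.1 (p.2.2.2.1 j)
        · rename_i i; simpa using p.2.2.2.1 i
        · rename_i i j; simpa using p.2.2.2.2 i j⟩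
      left_inv := fun s => Subtype.ext (Fin.cons_self_tail s.1)
      right_inv := fun p => by rcases p with ⟨⟨v, hv⟩, ⟨s, hs⟩⟩; rfl }
  rw [Nat.card_congr e, Nat.card_sigma,
    Finset.sum_congr rfl fun v _ => card_fibre hne hinv hσ v.2.1 v.2.2, Finset.sum_const,
    Finset.card_univ, ← Nat.card_eq_fintype_card, smul_eq_mul]

omit hne hinv hσ [Fintype F] in
theorem card_tuple_zero (n : ℕ) : Nat.card (Tuple F q n 0) = 1 :=
  Nat.card_eq_one_iff_exists.2 ⟨⟨Fin.elim0, linearIndependent_empty_type, fun i => i.elim0⟩,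
    fun _ => Subtype.ext (Subsingleton.elim _ _)⟩

theorem card_iso_ne (n : ℕ) (hq : Nat.card (fixed σ) = q) :
    (Nat.card {v : Fin (n + 1) → F // v ≠ 0 ∧ Cfsg.hermForm (n + 1) F q v v = 0} : ℤ) =
      ((q : ℤ) ^ (n + 1) - (-1) ^ (n + 1)) * ((q : ℤ) ^ n + (-1) ^ (n + 1)) := by
  classical
  have hh := isHerm_std hne hinv hσ (n + 1)
  have h1 : Nat.card {v : Fin (n + 1) → F // Cfsg.hermForm (n + 1) F q v v = 0} =
      Nat.card {v : Fin (n + 1) → F // v ≠ 0 ∧ Cfsg.hermForm (n + 1) F q v v = 0} + 1 := by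
    rw [← Finite.card_option]
    refine Nat.card_congr
      { toFun := fun v => if hv : v.1 = 0 then none else some ⟨v.1, hv, v.2⟩
        invFun := fun o => o.elim ⟨0, hh.zero_left _⟩ fun v => ⟨v.1, v.2.2⟩
        left_inv := fun v => by
          dsimp only
          by_cases hv : v.1 = 0
          · rw [dif_pos hv]; exact Subtype.ext hv.symm
          · rw [dif_neg hv]; rfl
        right_inv := fun o => by
          rcases o with _ | v
          · simp
          · simp [v.2.1] }
  have h2 := card_iso_mul hne hinv hσ (n + 1) hq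
  rw [h1] at h2
  have hq0 : (q : ℤ) ≠ 0 := by have := Nat.card_pos (α := fixed σ); omega
  push_cast at h2
  have h3 : ((-1 : ℤ) ^ (n + 1)) * (-1) ^ (n + 1) = 1 := by
    rw [← pow_add, Even.neg_one_pow ⟨n + 1, rfl⟩]
  refine mul_left_cancel₀ hq0 ?_
  linear_combination h2 + (q : ℤ) * h3

omit hne hinv hσ [Fintype F] in
theorem prod_identity (m : ℕ) :
    (((if Even m then q ^ (m + 1) + 1 else q ^ (m + 1) - 1 : ℕ)) : ℤ) = (q : ℤ) ^ (m + 1) - (-1) ^ (m + 1) ∨
      q = 0 := by
  rcases Nat.eq_zero_or_pos q with h | h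
  · exact Or.inr h
  left
  have : 1 ≤ q ^ (m + 1) := Nat.one_le_pow _ _ h
  split_ifs with he
  · push_cast
    rw [pow_succ (-1 : ℤ) m, he.neg_one_pow]; ring
  · push_cast [Nat.cast_sub this]
    rw [pow_succ (-1 : ℤ) m, (Nat.not_even_iff_odd.1 he).neg_one_pow]; ring

theorem card_GU_split (hq : Nat.card (fixed σ) = q) :
    ∀ (k n : ℕ), 2 * k ≤ n → Nat.card (Cfsg.GU n F q) =
      Nat.card (Tuple F q n k) * q ^ (k * (2 * n - 3 * k)) * Nat.card (Cfsg.GU (n - 2 * k) F q) := by
  intro k
  induction k with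
  | zero => intro n _; simp [card_tuple_zero]
  | succ k ih =>
    intro n hn
    obtain ⟨m, rfl⟩ : ∃ m, n = m + 2 := ⟨n - 2, by omega⟩
    have step : Nat.card (Cfsg.GU (m + 2) F q) =
        Nat.card {v : Fin (m + 2) → F // v ≠ 0 ∧ Cfsg.hermForm (m + 2) F q v v = 0} * q ^ (2 * m + 1) *
          Nat.card (Cfsg.GU m F q) := by
      have hq0 : q ≠ 0 := by have := Nat.card_pos (α := fixed σ); omega
      rw [card_GU hne hinv hσ _ hq, card_GU hne hinv hσ _ hq, Finset.prod_range_succ, Finset.prod_range_succ]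
      have hexp : (m + 2) * (m + 2 - 1) / 2 = 2 * m + 1 + m * (m - 1) / 2 := by
        rcases m with _ | m
        · rfl
        · rw [show (m + 1 + 2) * (m + 1 + 2 - 1) = (m + 1) * (m + 1 - 1) + 2 * (2 * (m + 1) + 1) by
            simp; ring, Nat.add_mul_div_left _ _ (by norm_num : 0 < 2), add_comm]
      have e1 := (prod_identity (q := q) m).resolve_right hq0
      have e2 := (prod_identity (q := q) (m + 1)).resolve_right hq0
      apply Nat.cast_injective (R := ℤ)
      rw [hexp]
      push_cast only [Nat.cast_mul, Nat.cast_pow, Nat.cast_prod]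
      rw [e1, e2, card_iso_ne hne hinv hσ (m + 1) hq, pow_add]
      ring
    rw [step, ih m (by omega), card_tuple_succ hne hinv hσ, show m + 2 - 2 * (k + 1) = m - 2 * k by omega]
    have hF : Nat.card F = q ^ 2 := by rw [card_eq_sq hne hinv, hq]
    rw [hF]
    obtain ⟨l, rfl⟩ : ∃ l, m = 2 * k + l := ⟨m - 2 * k, by omega⟩
    have e1 : 2 * (2 * k + l) - 3 * k = k + 2 * l := by omega
    have e2 : 2 * (2 * k + l + 2) - 3 * (k + 1) = k + 2 * l + 1 := by omega
    rw [e1, e2]
    ring

theorem card_sing_mul (n k : ℕ) :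
    Nat.card (Sing F q n k) * (∏ i : Fin k, (Nat.card F ^ k - Nat.card F ^ (i : ℕ))) =
      Nat.card (Tuple F q n k) := by
  classical
  have hh := isHerm_std hne hinv hσ n
  haveI : Finite (Sing F q n k) := Subtype.finite
  haveI := Fintype.ofFinite (Sing F q n k)
  let T : Tuple F q n k → Sing F q n k := fun s => ⟨Submodule.span F (Set.range s.1),
    by rw [finrank_span_eq_card s.2.1, Fintype.card_fin], fun u hu v hv => by
      obtain ⟨a, rfl⟩ := (Submodule.mem_span_range_iff_exists_fun F).1 hu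
      obtain ⟨b, rfl⟩ := (Submodule.mem_span_range_iff_exists_fun F).1 hv
      rw [hh.sum_left]
      refine Finset.sum_eq_zero fun i _ => ?_
      rw [hh.smul_left, hh.eq_zero_comm.1, mul_zero]
      rw [hh.sum_left]
      exact Finset.sum_eq_zero fun j _ => by rw [hh.smul_left, s.2.2 j i, mul_zero]⟩
  have hfib : ∀ W : Sing F q n k,
      Nat.card {s // T s = W} = ∏ i : Fin k, (Nat.card F ^ k - Nat.card F ^ (i : ℕ)) := by
    intro W
    have h := card_linearIndependent (K := F) (V := W.1) (k := k) W.2.1.ge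
    simp only [W.2.1, ← Nat.card_eq_fintype_card] at h
    rw [← h]
    refine Nat.card_congr
      { toFun := fun s => ⟨fun i => ⟨s.1.1 i, by
            have := congrArg Subtype.val s.2
            rw [← this]; exact Submodule.subset_span ⟨i, rfl⟩⟩,
          LinearIndependent.of_comp W.1.subtype s.1.2.1⟩
        invFun := fun r => ⟨⟨fun i => (r.1 i).1, r.2.map' W.1.subtype W.1.ker_subtype,
            fun i j => W.2.2 _ (r.1 i).2 _ (r.1 j).2⟩, Subtype.ext (Submodule.eq_of_le_of_finrank_eq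
              (Submodule.span_le.2 (by rintro _ ⟨i, rfl⟩; exact (r.1 i).2))
              (by
                have e := finrank_span_eq_card (r.2.map' W.1.subtype W.1.ker_subtype)
                rw [Fintype.card_fin] at e
                exact e.trans W.2.1.symm))⟩
        left_inv := fun s => rfl
        right_inv := fun r => rfl }
  haveI : Finite (Tuple F q n k) := Subtype.finite
  rw [← Nat.card_congr (Equiv.sigmaFiberEquiv T), Nat.card_sigma, Finset.sum_congr rfl fun W _ => hfib W,
    Finset.sum_const, Finset.card_univ, ← Nat.card_eq_fintype_card, smul_eq_mul]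

theorem card_sing_two (hq : Nat.card (fixed σ) = q) (m : ℕ) :
    (Nat.card (Sing F q (m + 4) 2) : ℤ) * (((q : ℤ) ^ 4 - 1) * ((q : ℤ) ^ 4 - (q : ℤ) ^ 2)) =
      ((q : ℤ) ^ (m + 4) - (-1) ^ m) * ((q : ℤ) ^ (m + 3) + (-1) ^ m) *
        (((q : ℤ) ^ (m + 2) - (-1) ^ m) * ((q : ℤ) ^ (m + 1) + (-1) ^ m)) * (q : ℤ) ^ 2 := by
  have hF : Nat.card F = q ^ 2 := by rw [card_eq_sq hne hinv, hq]
  have hq2 : 2 ≤ q := hq ▸ Finite.one_lt_card
  have h := card_sing_mul hne hinv hσ (m + 4) 2
  rw [Fin.prod_univ_two, card_tuple_succ hne hinv hσ, card_tuple_succ hne hinv hσ, card_tuple_zero,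
    hF] at h
  simp only [Fin.val_zero, Fin.val_one, pow_zero, pow_one, ← pow_mul, mul_one, one_mul] at h
  have := congrArg (fun z : ℕ => (z : ℤ)) h
  have h1 : 1 ≤ q ^ (2 * 2) := Nat.one_le_pow _ _ (by omega)
  have h2 : q ^ 2 ≤ q ^ (2 * 2) := Nat.pow_le_pow_right (by omega) (by norm_num)
  push_cast [Nat.cast_sub h1, Nat.cast_sub h2] at this
  rw [card_iso_ne hne hinv hσ (m + 3) hq, card_iso_ne hne hinv hσ (m + 1) hq] at this
  linear_combination this

end Cfsg.Agent.UnitaryCount
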