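/-
Semisimple unitary elements commuting with a non-trivial unipotent unitary element.
-/
import Cfsg.Agent.Lib.Classical.UnipCentralizer
import Cfsg.Agent.Lib.Classical.HermSU
import Cfsg.Agent.Lib.Classical.UnitaryCount

set_option autoImplicit false

namespace Cfsg.Agent.UnitUnipCentralizer

open Module Hermitian UnipCentralizer

section Form

variable {F : Type*} [Field F] [Fintype F] {q : ℕ} {σ : F →+* F}
variable (hne : σ ≠ RingHom.id F) (hinv : ∀ a, σ (σ a) = a) (hσ : ∀ x, σ x = x ^ q)
include hne hinv hσ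

theorem eq_one_of_isometry {W : Type*} [AddCommGroup W] [Module F W] [FiniteDimensional F W]
    {h : W → W → F} (hh : IsHerm σ h) {r : ℕ} (hr : r.Prime) {f : Module.End F W}
    (hiso : ∀ u v, h (f u) (f v) = h u v) (hfr : f ^ r = 1)
    (hnd : ¬ r ∣ Nat.card (Cfsg.GU (finrank F W) F q)) : f = 1 := by
  classical
  obtain ⟨ψ, hψ⟩ := UnitaryCount.exists_isometry hne hinv hσ hh (rfl : finrank F W = finrank F W)
  set g : Module.End F (Fin (finrank F W) → F) := ψ.symm.conj f with hg
  have hgr : g ^ r = 1 := by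
    have := congrArg (LinearEquiv.conjAlgEquiv F ψ.symm) hfr
    rw [map_pow, map_one] at this
    exact this
  have hgapp : ∀ u, g u = ψ.symm (f (ψ u)) := fun u => by simp [hg, LinearEquiv.conj_apply]
  have hM : LinearMap.toMatrixAlgEquiv' g ^ r = 1 := by rw [← map_pow, hgr, map_one]
  let u : GL (Fin (finrank F W)) F := Units.ofPowEqOne _ r hM hr.ne_zero
  have hmem : u ∈ Cfsg.GU (finrank F W) F q := by
    intro a b
    show Cfsg.hermForm _ F q ((LinearMap.toMatrixAlgEquiv' g).mulVec a)
      ((LinearMap.toMatrixAlgEquiv' g).mulVec b) = _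
    have e : ∀ a, (LinearMap.toMatrixAlgEquiv' g).mulVec a = g a := fun a => by
      rw [← Matrix.toLinAlgEquiv'_apply, Matrix.toLinAlgEquiv'_toMatrixAlgEquiv']
    rw [e, e, hgapp, hgapp, ← hψ, ← hψ, LinearEquiv.apply_symm_apply, LinearEquiv.apply_symm_apply,
      hiso]
  have hu : (⟨u, hmem⟩ : Cfsg.GU (finrank F W) F q) ^ r = 1 :=
    Subtype.ext (Units.pow_ofPowEqOne hM hr.ne_zero)
  have h1 : (⟨u, hmem⟩ : Cfsg.GU (finrank F W) F q) = 1 := by
    rcases (Nat.dvd_prime hr).1 (orderOf_dvd_of_pow_eq_one hu) with h | h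
    · exact orderOf_eq_one_iff.1 h
    · exact absurd (h ▸ orderOf_dvd_natCard _) hnd
  have hg1 : g = 1 := LinearMap.toMatrixAlgEquiv'.injective (by
    rw [map_one]; exact congrArg (fun z : Cfsg.GU (finrank F W) F q => (z.1.1)) h1)
  refine LinearMap.ext fun v => ψ.symm.injective ?_
  have := LinearMap.congr_fun hg1 (ψ.symm v)
  rw [hgapp, LinearEquiv.apply_symm_apply] at this
  exact this

variable {V : Type*} [AddCommGroup V] [Module F V] [FiniteDimensional F V] {h : V → V → F}

theorem sub_mem_radical (hh : IsHerm σ h) {r : ℕ} (hr : r.Prime) {y : Module.End F V}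
    (hiso : ∀ u v, h (y u) (y v) = h u v) (hyr : y ^ r = 1) {A B : Submodule F V} (hAB : A ≤ B)
    (hAy : ∀ v ∈ A, y v ∈ A) (hBy : ∀ v ∈ B, y v ∈ B)
    (hA : ∀ v ∈ A, ∀ w ∈ B, h v w = 0) (hA' : ∀ v ∈ B, (∀ w ∈ B, h v w = 0) → v ∈ A)
    (hnd : ∀ d, d + finrank F A = finrank F B → ¬ r ∣ Nat.card (Cfsg.GU d F q))
    {v : V} (hv : v ∈ B) : y v - v ∈ A := by
  set P := A.comap B.subtype
  set h' : B ⧸ P → B ⧸ P → F := fun z w =>
    h ((Quotient.out z : B) : V) ((Quotient.out w : B) : V) with hh'
  have hcl : ∀ b c : B, h' (Submodule.Quotient.mk b) (Submodule.Quotient.mk c) = h b c := by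
    intro b c
    have e : ∀ b : B, ((Quotient.out (Submodule.Quotient.mk b : B ⧸ P) : B) : V) - (b : V) ∈ A := by
      intro b
      exact (Submodule.Quotient.eq P).1 (Quotient.out_eq _)
    set b' := (Quotient.out (Submodule.Quotient.mk b : B ⧸ P) : B)
    set c' := (Quotient.out (Submodule.Quotient.mk c : B ⧸ P) : B)
    show h (b' : V) (c' : V) = h b c
    have h1 : h (b' : V) (c' : V) = h b c' := by
      rw [← sub_eq_zero, ← hh.sub_left]; exact hA _ (e b) _ c'.2
    have h2 : h (b : V) (c' : V) = h b c := by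
      rw [← sub_eq_zero, hh.symm (c' : V) (b : V), hh.symm (c : V) (b : V), ← map_sub, ← hh.sub_left,
        hA _ (e c) _ b.2, map_zero]
    rw [h1, h2]
  set yB := LinearMap.restrict y hBy
  have hP : P ≤ P.comap yB := fun x hx => hAy _ hx
  set f := P.mapQ P yB hP
  have hherm : IsHerm σ h' := by
    refine ⟨hne, hinv, ?_, ?_, ?_, ?_⟩
    · intro x z w
      obtain ⟨x, rfl⟩ := Submodule.Quotient.mk_surjective P x
      obtain ⟨z, rfl⟩ := Submodule.Quotient.mk_surjective P z
      obtain ⟨w, rfl⟩ := Submodule.Quotient.mk_surjective P w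
      rw [← Submodule.Quotient.mk_add, hcl, hcl, hcl, Submodule.coe_add, hh.add_left]
    · intro c x w
      obtain ⟨x, rfl⟩ := Submodule.Quotient.mk_surjective P x
      obtain ⟨w, rfl⟩ := Submodule.Quotient.mk_surjective P w
      rw [← Submodule.Quotient.mk_smul, hcl, hcl, Submodule.coe_smul, hh.smul_left]
    · intro x w
      obtain ⟨x, rfl⟩ := Submodule.Quotient.mk_surjective P x
      obtain ⟨w, rfl⟩ := Submodule.Quotient.mk_surjective P w
      rw [hcl, hcl, hh.symm]
    · intro x hx
      obtain ⟨x, rfl⟩ := Submodule.Quotient.mk_surjective P x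
      rw [Submodule.Quotient.mk_eq_zero]
      exact hA' _ x.2 fun w hw => by
        have := hx (Submodule.Quotient.mk ⟨w, hw⟩); rwa [hcl] at this
  have hfiso : ∀ z w, h' (f z) (f w) = h' z w := by
    intro z w
    obtain ⟨z, rfl⟩ := Submodule.Quotient.mk_surjective P z
    obtain ⟨w, rfl⟩ := Submodule.Quotient.mk_surjective P w
    rw [Submodule.mapQ_apply, Submodule.mapQ_apply, hcl, hcl]
    exact hiso _ _
  have hpow : ∀ (j : ℕ) (x : B), (f ^ j) (Submodule.Quotient.mk x) = Submodule.Quotient.mk ((yB ^ j) x) := by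
    intro j
    induction j with
    | zero => intro x; rfl
    | succ j ih => intro x; rw [pow_succ, pow_succ, Module.End.mul_apply, Module.End.mul_apply,
        Submodule.mapQ_apply, ih]
  have hval : ∀ (j : ℕ) (x : B), ((yB ^ j) x : V) = (y ^ j) x := by
    intro j
    induction j with
    | zero => intro x; rfl
    | succ j ih => intro x; rw [pow_succ, pow_succ, Module.End.mul_apply, Module.End.mul_apply, ih]; rfl
  have hfr : f ^ r = 1 := by
    refine LinearMap.ext fun z => ?_
    obtain ⟨x, rfl⟩ := Submodule.Quotient.mk_surjective P z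
    rw [hpow, show (yB ^ r) x = x from Subtype.ext (by rw [hval, hyr]; rfl)]
    rfl
  have hdim : finrank F (B ⧸ P) + finrank F A = finrank F B := by
    rw [← (Submodule.comapSubtypeEquivOfLe hAB).finrank_eq]
    exact P.finrank_quotient_add_finrank
  have h1 := LinearMap.congr_fun (eq_one_of_isometry hne hinv hσ hherm hr hfiso hfr (hnd _ hdim))
    (Submodule.Quotient.mk ⟨v, hv⟩)
  rw [Submodule.mapQ_apply, Module.End.one_apply, Submodule.Quotient.eq] at h1
  exact h1

theorem eq_one_of_commute (hq : Nat.card (fixed σ) = q) (hh : IsHerm σ h) {r p m : ℕ} (hr : r.Prime)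
    [Fact p.Prime] [CharP F p] (hrp : r ≠ p) (hm : 4 ≤ m) (hV : finrank F V = m)
    (hsmall : ∀ d ≤ m - 2, ¬ r ∣ Nat.card (Cfsg.GU d F q))
    (y g : Module.End F V) (hyr : y ^ r = 1) (hy : ∀ u v, h (y u) (y v) = h u v)
    (hg : ∀ u v, h (g u) (g v) = h u v) (hnil : IsNilpotent (g - 1)) (hg1 : g ≠ 1)
    (hcomm : Commute y g) : y = 1 := by
  classical
  have hp : p.Prime := Fact.out
  set N := g - 1 with hN
  have hN0 : N ≠ 0 := sub_ne_zero.2 hg1
  have hcN : Commute y N := hcomm.sub_right (Commute.one_right y)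
  have happ : ∀ v, g v = N v + v := fun v => by simp [hN]
  have hgsurj : Function.Surjective g := by
    have : IsUnit g := by
      have := hnil.isUnit_one_add; rwa [hN, add_sub_cancel] at this
    exact ((Module.End.isUnit_iff g).1 this).2
  have hker : ∀ v ∈ LinearMap.ker N, y v ∈ LinearMap.ker N := fun v hv => by
    rw [LinearMap.mem_ker] at hv ⊢
    have := LinearMap.congr_fun hcN.eq v
    rw [Module.End.mul_apply, Module.End.mul_apply, hv, map_zero] at this
    exact this.symm
  have hrange : ∀ v ∈ LinearMap.range N, y v ∈ LinearMap.range N := by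
    rintro _ ⟨w, rfl⟩
    exact ⟨y w, (LinearMap.congr_fun hcN.eq w).symm⟩
  -- orthogonality of kernel and image
  have hperp : ∀ x, ∀ z ∈ LinearMap.ker N, h (N x) z = 0 := by
    intro x z hz
    have hgz : g z = z := by rw [happ, LinearMap.mem_ker.1 hz, zero_add]
    have := hg x z
    rw [hgz, happ, hh.add_left] at this
    simpa using this
  have hperp' : ∀ v, (∀ x, h v (N x) = 0) → v ∈ LinearMap.ker N := by
    intro v hv
    have hgv : ∀ x, h (g v - v) (g x) = 0 := fun x => by
      rw [hh.sub_left, hg, happ x, hh.add_right, hv, zero_add, sub_self]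
    rw [LinearMap.mem_ker]
    refine hh.nondeg _ fun w => ?_
    obtain ⟨x, rfl⟩ := hgsurj w
    have := hgv x
    rwa [show g v - v = N v by rw [happ]; abel] at this
  have hperp'' : ∀ v, (∀ z ∈ LinearMap.ker N, h v z = 0) → v ∈ LinearMap.range N := by
    intro v hv
    by_contra hnot
    obtain ⟨φ, hφv, hφ⟩ := Submodule.exists_le_ker_of_notMem hnot
    obtain ⟨d, hd⟩ := hh.exists_form_eq φ
    have hdk : d ∈ LinearMap.ker N := hperp' d fun x => by
      rw [hh.eq_zero_comm, hd]
      exact LinearMap.mem_ker.1 (hφ ⟨x, rfl⟩)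
    exact hφv (by rw [← hd]; exact hv d hdk)
  set A := LinearMap.ker N ⊓ LinearMap.range N with hA
  set B := LinearMap.ker N ⊔ LinearMap.range N with hB
  have hAinv : ∀ v ∈ A, y v ∈ A := fun v hv => ⟨hker v hv.1, hrange v hv.2⟩
  have hBinv : ∀ v ∈ B, y v ∈ B := by
    intro v hv
    obtain ⟨a, ha, b, hb, rfl⟩ := Submodule.mem_sup.1 hv
    rw [map_add]
    exact Submodule.add_mem_sup (hker a ha) (hrange b hb)
  have hAperp : ∀ v ∈ A, ∀ w ∈ B, h v w = 0 := by
    rintro v ⟨hv1, hv2⟩ w hw
    obtain ⟨a, ha, b, ⟨x, rfl⟩, rfl⟩ := Submodule.mem_sup.1 hw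
    obtain ⟨v', rfl⟩ := hv2
    rw [hh.add_right, hperp v' a ha, zero_add, hh.eq_zero_comm]
    exact hperp x _ hv1
  have hArad : ∀ v, (∀ w ∈ B, h v w = 0) → v ∈ A := fun v hv =>
    ⟨hperp' v fun x => hv _ (Submodule.mem_sup_right ⟨x, rfl⟩),
      hperp'' v fun z hz => hv z (Submodule.mem_sup_left hz)⟩
  have hsum := N.finrank_range_add_finrank_ker
  have hsup : finrank F B + finrank F A = finrank F (LinearMap.ker N) + finrank F (LinearMap.range N) :=
    Submodule.finrank_sup_add_finrank_inf_eq _ _
  have ha1 : 1 ≤ finrank F A := by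
    rw [Nat.one_le_iff_ne_zero, Ne, Submodule.finrank_eq_zero]
    intro hbot
    have key : ∀ v, N (N v) = 0 → N v = 0 := fun v hv => by
      have : N v ∈ A := ⟨LinearMap.mem_ker.2 hv, v, rfl⟩
      rwa [hbot, Submodule.mem_bot] at this
    obtain ⟨k, hk⟩ := hnil
    have hall : ∀ j : ℕ, N ^ (j + 1) = 0 → N = 0 := by
      intro j
      induction j with
      | zero => intro h; simpa using h
      | succ j ih =>
        intro hj
        refine ih (LinearMap.ext fun v => ?_)
        rw [pow_succ', Module.End.mul_apply]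
        refine key _ ?_
        have := LinearMap.congr_fun hj v
        rwa [pow_succ', pow_succ', Module.End.mul_apply, Module.End.mul_apply] at this
    exact hN0 (hall k (by rw [pow_succ, hk, zero_mul]))
  have ha2 : finrank F A ≤ finrank F (LinearMap.ker N) := Submodule.finrank_mono inf_le_left
  have ha3 : finrank F A ≤ finrank F (LinearMap.range N) := Submodule.finrank_mono inf_le_right
  have hBA : ∀ v ∈ B, y v - v ∈ A := fun v hv =>
    sub_mem_radical hne hinv hσ hh hr hy hyr (A := A) (B := B) (inf_le_left.trans le_sup_left)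
      hAinv hBinv hAperp (fun v _ => hArad v) (fun d hd => hsmall d (by omega)) hv
  -- `r` divides no small `q^(2k) - 1`
  have hcardF : Fintype.card F = q ^ 2 := by
    have := card_eq_sq hne hinv
    rwa [Nat.card_eq_fintype_card, hq] at this
  have hrq : ¬ r ∣ Fintype.card F := by
    obtain ⟨a, -, ha⟩ := FiniteField.card F p
    rw [ha]
    exact fun h' => hrp ((Nat.prime_dvd_prime_iff_eq hr hp).1 (hr.dvd_of_dvd_pow h'))
  have hgl : ∀ k, 1 ≤ k → 2 * k ≤ m - 2 → ¬ r ∣ Fintype.card F ^ k - 1 := by
    intro k hk1 hk hd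
    refine hsmall (2 * k) hk ?_
    rw [HermStd.card_GU hne hinv hσ _ hq]
    refine Dvd.dvd.mul_left (dvd_trans hd ?_) _
    refine dvd_trans ?_ (Finset.dvd_prod_of_mem _ (Finset.mem_range.2 (show 2 * k - 1 < 2 * k by omega)))
    rw [if_neg (by rw [Nat.even_iff]; omega), show 2 * k - 1 + 1 = 2 * k by omega, hcardF, ← pow_mul]
  have hAtriv : ∀ v ∈ A, y v = v := by
    by_cases h2a : 2 * finrank F A ≤ m - 2
    · intro v hv
      have h0 := sub_mem_of_quot hr hrq (m := finrank F A) (fun k h1 h2 => hgl k h1 (by omega)) y hyr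
        (bot_le : (⊥ : Submodule F V) ≤ A)
        (fun w hw => by rw [Submodule.mem_bot] at hw ⊢; rw [hw, map_zero]) hAinv
        (by rw [finrank_bot]; omega) hv
      rwa [Submodule.mem_bot, sub_eq_zero] at h0
    · by_cases hN2 : N * N = 0
      · -- the image carries the form `δ h(N x, z)`
        have hsub : ∀ x, N x ∈ LinearMap.ker N := fun x =>
          LinearMap.mem_ker.2 (by rw [← Module.End.mul_apply, hN2, LinearMap.zero_apply])
        obtain ⟨x₀, hx₀⟩ : ∃ x, σ x ≠ x := by
          by_contra hc; push Not at hc; exact hne (RingHom.ext hc)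
        set δ : F := x₀ - σ x₀ with hδ
        have hδ0 : δ ≠ 0 := sub_ne_zero.2 (Ne.symm hx₀)
        have hσδ : σ δ = -δ := by rw [hδ, map_sub, hinv]; ring
        have hpre : ∀ u : A, ∃ x, N x = (u : V) := fun u => u.2.2
        choose pre hpre using hpre
        set H : A → A → F := fun u w => δ * h (u : V) (pre w) with hH
        have hH' : ∀ (u w : A) (z : V), N z = (w : V) → H u w = δ * h (u : V) z := by
          intro u w z hz
          have hk : pre w - z ∈ LinearMap.ker N := by
            rw [LinearMap.mem_ker, map_sub, hpre, hz, sub_self]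
          obtain ⟨x, hx⟩ := u.2.2
          have := hperp x _ hk
          rw [hx, hh.symm, hh.sub_left, map_sub, ← hh.symm, ← hh.symm, sub_eq_zero] at this
          rw [hH]; simp only; rw [this]
        have hherm : IsHerm σ H := by
          refine ⟨hne, hinv, fun x v w => ?_, fun c x w => ?_, fun u w => ?_, fun u hu => ?_⟩
          · simp only [hH, Submodule.coe_add, hh.add_left]; ring
          · simp only [hH, Submodule.coe_smul, hh.smul_left]; ring
          · have e := hg (pre u) (pre w)
            rw [happ, happ, hh.add_left, hh.add_right, hh.add_right, hperp _ _ (hsub _), hpre, hpre,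
              zero_add] at e
            have e' : h (u : V) (pre w) + h (pre u) (w : V) = 0 := by
              linear_combination e
            have e'' := congrArg σ e'
            rw [map_add, map_zero, ← hh.symm, ← hh.symm] at e''
            simp only [hH, map_mul, hσδ, ← hh.symm]
            linear_combination δ * e''
          · refine Subtype.ext (hh.nondeg _ fun z => ?_)
            have hm : N z ∈ A := ⟨hsub z, z, rfl⟩
            have := hu ⟨N z, hm⟩
            rw [hH' u ⟨N z, hm⟩ z rfl] at this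
            exact (mul_eq_zero.1 this).resolve_left hδ0
        set f := LinearMap.restrict y hAinv
        have hfiso : ∀ u w, H (f u) (f w) = H u w := by
          intro u w
          rw [hH' (f u) (f w) (y (pre w))
            (by rw [← Module.End.mul_apply, ← hcN.eq, Module.End.mul_apply, hpre]; rfl)]
          simp only [hH]
          congr 1
          exact hy _ _
        have hfval : ∀ (j : ℕ) (x : A), ((f ^ j) x : V) = (y ^ j) x := by
          intro j
          induction j with
          | zero => intro x; rfl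
          | succ j ih => intro x; rw [pow_succ, pow_succ, Module.End.mul_apply, Module.End.mul_apply, ih]; rfl
        have hfr : f ^ r = 1 := LinearMap.ext fun x => Subtype.ext (by rw [hfval, hyr]; rfl)
        have hf1 := eq_one_of_isometry hne hinv hσ hherm hr hfiso hfr (hsmall _ (by omega))
        exact fun v hv => congrArg Subtype.val (LinearMap.congr_fun hf1 ⟨v, hv⟩)
      · -- `A` has a proper invariant subspace
        set A₁ := A ⊓ LinearMap.range (N * N) with hA₁
        have hA₁inv : ∀ v ∈ A₁, y v ∈ A₁ := by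
          rintro v ⟨hv, w, rfl⟩
          exact ⟨hAinv _ hv, y w, (LinearMap.congr_fun (hcN.mul_right hcN).eq w).symm⟩
        have hA₁pos : 1 ≤ finrank F A₁ := by
          rw [Nat.one_le_iff_ne_zero, Ne, Submodule.finrank_eq_zero]
          intro hbot
          obtain ⟨k, hk⟩ := hnil
          have hall : ∀ j : ℕ, N ^ (j + 2) = 0 → N * N = 0 := by
            intro j
            induction j with
            | zero => intro h; rwa [pow_two] at h
            | succ j ih =>
              intro hj
              refine ih (LinearMap.ext fun v => ?_)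
              have h1 : (N ^ (j + 2)) v ∈ A₁ := by
                have hjv := LinearMap.congr_fun hj v
                rw [pow_succ', Module.End.mul_apply] at hjv
                refine ⟨⟨LinearMap.mem_ker.2 hjv, (N ^ (j + 1)) v, ?_⟩, (N ^ j) v, ?_⟩
                · rw [← Module.End.mul_apply, ← pow_succ']
                · rw [← Module.End.mul_apply, mul_assoc, ← pow_succ', ← pow_succ']
              rwa [hbot, Submodule.mem_bot] at h1
          exact hN2 (hall k (by rw [pow_add, hk, zero_mul]))
        have hmap : finrank F (LinearMap.range N) =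
            finrank F A + finrank F (LinearMap.range (N * N)) := by
          have h0 := (N.domRestrict (LinearMap.range N)).finrank_range_add_finrank_ker
          rw [LinearMap.range_domRestrict, LinearMap.ker_domRestrict,
            show (LinearMap.range N).map N = LinearMap.range (N * N) by
              rw [Module.End.mul_eq_comp, LinearMap.range_comp],
            show finrank F (Submodule.comap (LinearMap.range N).subtype (LinearMap.ker N)) = finrank F A by
              rw [← (Submodule.comapSubtypeEquivOfLe (inf_le_right : A ≤ LinearMap.range N)).finrank_eq,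
                Submodule.comap_inf, Submodule.comap_subtype_self, inf_top_eq]] at h0
          omega
        have hA₁lt : finrank F A₁ < finrank F A := by
          rcases Nat.lt_or_ge (finrank F A₁) (finrank F A) with h' | h'
          · exact h'
          · have h'' : finrank F A₁ ≤ finrank F (LinearMap.range (N * N)) :=
              Submodule.finrank_mono inf_le_right
            omega
        have hA₁le : finrank F A₁ ≤ finrank F A := Submodule.finrank_mono inf_le_left
        have d1 : ∀ v ∈ A, y v - v ∈ A₁ := fun v hv =>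
          sub_mem_of_quot hr hrq (m := finrank F A - 1) (fun k h1 h2 => hgl k h1 (by omega)) y hyr
            (A := A₁) (B := A) inf_le_left hA₁inv hAinv (by omega) hv
        have d2 : ∀ v ∈ A₁, y v - v = 0 := fun v hv => by
          have := sub_mem_of_quot hr hrq (m := finrank F A - 1) (fun k h1 h2 => hgl k h1 (by omega)) y hyr
            (bot_le : (⊥ : Submodule F V) ≤ A₁)
            (fun w hw => by rw [Submodule.mem_bot] at hw ⊢; rw [hw, map_zero]) hA₁inv
            (by rw [finrank_bot]; omega) hv
          simpa using this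
        intro v hv
        have e1 : y (y v - v) = y v - v := sub_eq_zero.1 (d2 _ (d1 v hv))
        have e2 : ∀ j : ℕ, (y ^ j) v = v + (j : F) • (y v - v) := by
          intro j
          induction j with
          | zero => simp
          | succ j ih =>
            rw [pow_succ', Module.End.mul_apply, ih, map_add, map_smul, e1, Nat.cast_succ, add_smul,
              one_smul]
            abel
        have e3 := e2 r
        rw [hyr, Module.End.one_apply, left_eq_add, smul_eq_zero] at e3
        rcases e3 with e3 | e3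
        · exact absurd ((CharP.cast_eq_zero_iff F p r).1 e3) fun hd =>
            hrp ((Nat.prime_dvd_prime_iff_eq hp hr).1 hd).symm
        · exact sub_eq_zero.1 e3
  -- `y - 1` maps `V` into `A^⊥ = B`
  have h1 : ∀ v, y v - v ∈ B := by
    intro v
    by_contra hnot
    obtain ⟨φ, hφv, hφ⟩ := Submodule.exists_le_ker_of_notMem hnot
    obtain ⟨d, hd⟩ := hh.exists_form_eq φ
    have hdA : d ∈ A := hArad d fun w hw => by
      rw [hh.eq_zero_comm, hd]; exact LinearMap.mem_ker.1 (hφ hw)
    apply hφv
    have := hy v d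
    rw [hAtriv d hdA] at this
    rw [← hd, hh.sub_left, this, sub_self]
  rcases subsingleton_or_nontrivial V with hs | hs
  · exact LinearMap.ext fun v => Subsingleton.elim _ _
  haveI : CharP (Module.End F V) p := charP_of_injective_algebraMap' F p
  have hcube : (y - 1) ^ (p ^ 2) = 0 := by
    refine pow_eq_zero_of_le (m := 3) (by nlinarith [hp.two_le]) (LinearMap.ext fun v => ?_)
    simp only [pow_succ, pow_zero, one_mul, Module.End.mul_apply, LinearMap.sub_apply,
      Module.End.one_apply, LinearMap.zero_apply]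
    exact sub_eq_zero.2 (hAtriv _ (hBA _ (h1 v)))
  rw [sub_pow_char_pow_of_commute p 2 (Commute.one_right y), one_pow, sub_eq_zero] at hcube
  have hcop : Nat.gcd (p ^ 2) r = 1 := Nat.Coprime.pow_left 2 ((Nat.coprime_primes hp hr).2 hrp.symm)
  have h' := pow_gcd_eq_one.2 ⟨hcube, hyr⟩
  rwa [hcop, pow_one] at h'

end Form

section PSU

variable {F : Type*} [Field F] [Fintype F]

open Matrix in
theorem prime_dvd_card_su (p : ℕ) [Fact p.Prime] [CharP F p] {m q : ℕ} (hm : 4 ≤ m)
    (hF : Fintype.card F = q ^ 2) {a b : Cfsg.PSU m F q} (ha : orderOf a = p) (hab : Commute a b)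
    {r : ℕ} (hr : r.Prime) (hrb : r ∣ orderOf b) : r ∣ Nat.card (Cfsg.SU (m - 2) F q) := by
  classical
  obtain ⟨σ, hσ, hne, hinv, hfix, hq2⟩ := HermStd.exists_sigma hF
  haveI : Nonempty (Fin m) := ⟨⟨0, by omega⟩⟩
  haveI := Matrix.charP (n := Fin m) (R := F) p
  have hp : p.Prime := Fact.out
  obtain ⟨e, -, he⟩ := FiniteField.card F p
  have hpq : p ∣ q := hp.dvd_of_dvd_pow (show p ∣ q ^ 2 by
    rw [← hF, he]; exact dvd_pow_self p e.2.ne')
  by_contra hndvd
  set P : ℕ → ℕ := fun i => if Even i then q ^ (i + 1) + 1 else q ^ (i + 1) - 1 with hP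
  have hSU : Nat.card (Cfsg.SU (m - 2) F q) =
      q ^ ((m - 2) * (m - 2 - 1) / 2) * ∏ i ∈ Finset.range (m - 3), P (i + 1) := by
    have h1 := HermSU.card_SU_mul (n := m - 2) hne hinv hσ (by omega) hfix
    rw [HermStd.card_GU hne hinv hσ _ hfix] at h1
    change _ = _ * ∏ i ∈ Finset.range (m - 2), P i at h1
    rw [show m - 2 = m - 3 + 1 by omega, Finset.prod_range_succ'] at h1
    simp only [hP, Even.zero, if_true, zero_add, pow_one] at h1
    rw [show m - 2 = m - 3 + 1 by omega]
    refine Nat.eq_of_mul_eq_mul_left (by omega : 0 < q + 1) ?_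
    rw [h1]; ring
  rw [hSU] at hndvd
  have hrp : r ≠ p := by
    rintro rfl
    refine hndvd (Dvd.dvd.mul_right ?_ _)
    refine dvd_trans hpq (dvd_pow_self q ?_)
    have h2 : 2 * 1 ≤ (m - 2) * (m - 2 - 1) := Nat.mul_le_mul (by omega) (by omega)
    have : 1 ≤ (m - 2) * (m - 2 - 1) / 2 := (Nat.one_le_div_iff (by norm_num)).2 (by omega)
    omega
  have hrq : ¬ r ∣ q := fun h => by
    have h' : r ∣ Fintype.card F := hF ▸ dvd_pow h two_ne_zero
    rw [he] at h'
    exact hrp ((Nat.prime_dvd_prime_iff_eq hr hp).1 (hr.dvd_of_dvd_pow h'))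
  have hP0 : ¬ r ∣ q + 1 := fun h => hndvd (Dvd.dvd.mul_left (dvd_trans h (dvd_trans ?_
    (Finset.dvd_prod_of_mem _ (Finset.mem_range.2 (show 0 < m - 3 by omega))))) _)
  swap
  · simp only [hP, Nat.even_iff]
    norm_num
    exact ⟨q - 1, by rw [show q ^ 2 = q * q from pow_two q, Nat.mul_sub, mul_one, add_mul, one_mul]; omega⟩
  have hsmall : ∀ d ≤ m - 2, ¬ r ∣ Nat.card (Cfsg.GU d F q) := by
    intro d hd h
    rw [HermStd.card_GU hne hinv hσ _ hfix] at h
    rcases hr.dvd_mul.1 h with h | h
    · exact hrq (hr.dvd_of_dvd_pow h)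
    · obtain ⟨i, hi, hi'⟩ := (hr.prime.dvd_finsetProd_iff _).1 h
      rw [Finset.mem_range] at hi
      rcases Nat.eq_zero_or_pos i with rfl | hipos
      · exact hP0 (by simpa using hi')
      · refine hndvd (Dvd.dvd.mul_left (dvd_trans ?_
          (Finset.dvd_prod_of_mem _ (Finset.mem_range.2 (show i - 1 < m - 3 by omega)))) _)
        simp only [hP, show i - 1 + 1 = i by omega]
        exact hi'
  obtain ⟨a', rfl⟩ := QuotientGroup.mk_surjective a
  obtain ⟨b', rfl⟩ := QuotientGroup.mk_surjective b
  have hcent : ∀ z ∈ Subgroup.center (Cfsg.SU m F q), z ^ (q + 1) = 1 := by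
    intro z hz
    obtain ⟨c, hc⟩ := HermSU.scalar_of_commute hne hinv hσ (by omega) hfix z.1.1 (fun A hA =>
      (congrArg (fun t : Cfsg.SU m F q => t.1.1) (Subgroup.mem_center_iff.1 hz ⟨A, hA⟩)).symm)
    have h1 := (HermSU.mem_SU_iff hσ z.1).1 z.2
    have h2 := congrFun (congrFun h1 ⟨0, by omega⟩) ⟨0, by omega⟩
    rw [hc, Matrix.diagonal_transpose, Matrix.diagonal_map (map_zero σ), Matrix.diagonal_mul_diagonal,
      Matrix.diagonal_apply_eq, Matrix.one_apply_eq, hσ, ← pow_succ'] at h2
    refine Subtype.ext (Subtype.ext ?_)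
    show ((z.1 ^ (q + 1) : Matrix.SpecialLinearGroup (Fin m) F) : Matrix (Fin m) (Fin m) F) = _
    rw [Matrix.SpecialLinearGroup.coe_pow, hc, Matrix.diagonal_pow]
    show Matrix.diagonal (fun _ => c ^ (q + 1)) = 1
    rw [h2, Matrix.diagonal_one]
  have hpq1 : ¬ p ∣ q + 1 := fun h => hp.ne_one (Nat.dvd_one.1 ((Nat.dvd_add_right hpq).1 h))
  have hz : a' ^ p ∈ Subgroup.center (Cfsg.SU m F q) := by
    rw [← QuotientGroup.eq_one_iff, QuotientGroup.mk_pow, ← ha]
    exact pow_orderOf_eq_one _
  set u := a' ^ (q + 1) with hu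
  have hup : u ^ p = 1 := by rw [hu, ← pow_mul, mul_comm, pow_mul, hcent _ hz]
  have hu1 : u ≠ 1 := by
    intro h
    apply hpq1
    rw [← ha]
    refine orderOf_dvd_of_pow_eq_one ?_
    rw [← QuotientGroup.mk_pow, ← hu, h, QuotientGroup.mk_one]
  have hrb' : r ∣ orderOf b' := hrb.trans (orderOf_map_dvd (QuotientGroup.mk' _) b')
  set y := b' ^ (orderOf b' / r) with hy
  have hyr : orderOf y = r := orderOf_pow_orderOf_div (orderOf_pos b').ne' hrb'
  have hyu : Commute y u := by
    refine Commute.pow_left ?_ _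
    have hc : (b' * u * b'⁻¹ * u⁻¹) ∈ Subgroup.center (Cfsg.SU m F q) := by
      rw [← QuotientGroup.eq_one_iff, hu]
      simp only [QuotientGroup.mk_mul, QuotientGroup.mk_inv, QuotientGroup.mk_pow]
      rw [(hab.symm.pow_right (q + 1)).eq]
      group
    set ζ := b' * u * b'⁻¹ * u⁻¹ with hζ
    have h1 : ζ * u = b' * u * b'⁻¹ := by rw [hζ]; group
    have h2 : (ζ * u) ^ p = 1 := by rw [h1, conj_pow, hup, mul_one, mul_inv_cancel]
    rw [(show Commute ζ u from (Subgroup.mem_center_iff.1 hc u).symm).mul_pow, hup, mul_one] at h2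
    have hgcd : Nat.gcd p (q + 1) = 1 := (hp.coprime_iff_not_dvd).2 hpq1
    have h3 := pow_gcd_eq_one.2 ⟨h2, hcent ζ hc⟩
    rw [hgcd, pow_one] at h3
    rw [h3, one_mul] at h1
    exact (eq_mul_inv_iff_mul_eq.1 h1).symm
  let E := (Matrix.toLinAlgEquiv' : Matrix (Fin m) (Fin m) F ≃ₐ[F] _)
  have hnil : IsNilpotent (u.1.1 - 1) := ⟨p ^ 1, by
    rw [sub_pow_char_pow_of_commute p 1 (Commute.one_right _), one_pow, pow_one,
      ← Matrix.SpecialLinearGroup.coe_pow, ← Subgroup.coe_pow, hup]
    simp⟩
  have hiso : ∀ z : Cfsg.SU m F q, ∀ v w, Cfsg.hermForm m F q (E z.1.1 v) (E z.1.1 w) =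
      Cfsg.hermForm m F q v w := fun z v w => z.2 v w
  have h := eq_one_of_commute hne hinv hσ hfix (HermStd.isHerm_std hne hinv hσ m) hr hrp hm
    (Module.finrank_fin_fun F) hsmall (E y.1.1) (E u.1.1)
    (by rw [← map_pow, ← Matrix.SpecialLinearGroup.coe_pow, ← Subgroup.coe_pow, ← hyr,
      pow_orderOf_eq_one]; simp)
    (hiso y) (hiso u)
    (by rw [← map_one E, ← map_sub]; exact hnil.map E)
    (fun h => hu1 (Subtype.ext (Subtype.ext (E.injective (h.trans (map_one E).symm)))))
    ((show Commute y.1.1 u.1.1 from congrArg (fun t : Cfsg.SU m F q => t.1.1) hyu.eq).map E)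
  have : y = 1 := Subtype.ext (Subtype.ext (E.injective (h.trans (map_one E).symm)))
  rw [this, orderOf_one] at hyr
  exact hr.ne_one hyr.symm

end PSU

end Cfsg.Agent.UnitUnipCentralizer
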