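/-
The largest order of an element of the projective unitary group.
-/
import Cfsg.Agent.Lib.Spectra.UnitaryOrders
import Cfsg.Agent.Lib.Classical.SelfDualOrder
import Cfsg.Agent.Lib.Classical.UnitaryCharpoly
import Cfsg.Agent.Lib.Classical.HermSU

set_option autoImplicit false

namespace Cfsg.Agent.UnitaryMaxOrder

open Polynomial Matrix Finset UnitarySpectra UniqueFactorizationMonoid

/-! ### arithmetic -/

/-- `(q ^ w - (-1) ^ w) / (q + 1)` -/
def R (q : ℕ) : ℕ → ℕ
  | 0 => 0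
  | w + 1 => q ^ w - R q w

theorem R_spec {q : ℕ} (hq : 1 ≤ q) : ∀ w,
    (Odd w → (q + 1) * R q w = q ^ w + 1) ∧ (Even w → (q + 1) * R q w + 1 = q ^ w)
  | 0 => ⟨fun h => absurd h (by decide), fun _ => by simp [R]⟩
  | w + 1 => by
    obtain ⟨h1, h2⟩ := R_spec hq w
    have hsub : ∀ x, R q w ≤ x → (q + 1) * (x - R q w) + (q + 1) * R q w = (q + 1) * x :=
      fun x hx => by rw [← mul_add, Nat.sub_add_cancel hx]
    have he : q ^ (w + 1) + q ^ w = (q + 1) * q ^ w := by ring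
    have hpos : 1 ≤ q ^ w := Nat.one_le_pow _ _ hq
    have hbig : 2 * R q w ≤ (q + 1) * R q w := Nat.mul_le_mul_right _ (by omega)
    refine ⟨fun h => ?_, fun h => ?_⟩
    · have h2' := h2 (Nat.not_odd_iff_even.1 (Nat.odd_add_one.1 h))
      have := hsub (q ^ w) (by omega)
      rw [R]
      omega
    · have h1' := h1 (Nat.not_even_iff_odd.1 (Nat.even_add_one.1 h))
      have := hsub (q ^ w) (by omega)
      rw [R]
      omega

theorem R_one (q : ℕ) : R q 1 = 1 := by simp [R]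

theorem R_pos {q : ℕ} (hq : 2 ≤ q) {w : ℕ} (hw : 1 ≤ w) : 1 ≤ R q w := by
  rcases Nat.eq_zero_or_pos (R q w) with h | h
  · have hpos : 1 < q ^ w := Nat.one_lt_pow (by omega) hq
    rcases Nat.even_or_odd w with he | ho
    · have := (R_spec (show 1 ≤ q by omega) w).2 he
      rw [h] at this
      omega
    · have := (R_spec (show 1 ≤ q by omega) w).1 ho
      rw [h] at this
      omega
  · exact h

theorem R_le (q : ℕ) {w : ℕ} (hw : 1 ≤ w) : R q w ≤ q ^ (w - 1) := by
  obtain ⟨v, rfl⟩ := Nat.exists_eq_add_of_le' hw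
  rw [R, Nat.add_sub_cancel]
  exact Nat.sub_le _ _

theorem R_lt {q : ℕ} (hq : 2 ≤ q) {w : ℕ} (hw : 2 ≤ w) : R q w + 1 ≤ q ^ (w - 1) := by
  obtain ⟨v, rfl⟩ := Nat.exists_eq_add_of_le' (le_of_lt hw)
  rw [R, Nat.add_sub_cancel]
  have h1 := R_pos hq (show 1 ≤ v by omega)
  have h2 : R q v ≤ q ^ v := (R_le q (show 1 ≤ v by omega)).trans (Nat.pow_le_pow_right (by omega) (by omega))
  omega

theorem R_mul_le {q : ℕ} (hq : 1 ≤ q) (w : ℕ) : (q + 1) * R q w ≤ q ^ w + 1 := by
  rcases Nat.even_or_odd w with he | ho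
  · have := (R_spec hq w).2 he
    omega
  · exact ((R_spec hq w).1 ho).le

/-- Two distinct weights. -/
theorem pair_bound {q : ℕ} (hq : 2 ≤ q) {a b : ℕ} (ha : 2 ≤ a) (hb : 2 ≤ b) :
    (q + 1) * (R q a * R q b) + 1 ≤ q ^ (a + b - 1) := by
  by_cases h22 : a = 2 ∧ b = 2
  · obtain ⟨rfl, rfl⟩ := h22
    simp only [R]
    obtain ⟨t, rfl⟩ := Nat.exists_eq_add_of_le hq
    simp only [pow_zero, Nat.sub_zero, pow_one]
    rw [show 2 + t - 1 = t + 1 by omega, show 2 + 2 - 1 = 3 from rfl]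
    nlinarith
  have h1 : (q + 1) * ((q + 1) * (R q a * R q b)) ≤ (q ^ a + 1) * (q ^ b + 1) := by
    rw [show (q + 1) * ((q + 1) * (R q a * R q b)) = ((q + 1) * R q a) * ((q + 1) * R q b) by ring]
    exact Nat.mul_le_mul (R_mul_le (by omega) a) (R_mul_le (by omega) b)
  have key : ∀ a b, 2 ≤ a → 3 ≤ b → q ^ a + q ^ b + q + 2 ≤ q ^ (a + b - 1) := fun a b ha hb => by
    have e : q ^ (a + b - 1) = q ^ (b - 1) * q ^ a := by rw [← pow_add]; congr 1; omega
    have e' : q ^ (a + b - 1) = q ^ (a - 1) * q ^ b := by rw [← pow_add]; congr 1; omega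
    have h4 : 4 * q ^ a ≤ q ^ (a + b - 1) := by
      rw [e]
      exact Nat.mul_le_mul_right _ (le_trans (by norm_num)
        ((Nat.pow_le_pow_left hq 2).trans (Nat.pow_le_pow_right (by omega) (by omega))))
    have h2 : 2 * q ^ b ≤ q ^ (a + b - 1) := by
      rw [e']
      exact Nat.mul_le_mul_right _ (hq.trans (Nat.le_self_pow (by omega) q))
    have h3 : q + 2 ≤ q ^ a :=
      le_trans (by nlinarith) ((Nat.pow_le_pow_right (show 1 ≤ q by omega) ha))
    omega
  have hab : q ^ a + q ^ b + q + 2 ≤ q ^ (a + b - 1) := by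
    rcases Nat.lt_or_ge b 3 with hb3 | hb3
    · rw [add_comm (q ^ a), add_comm a]
      exact key b a hb (by omega)
    · exact key a b ha hb3
  refine Nat.le_of_mul_le_mul_left ?_ (Nat.succ_pos q)
  have h5 : q * q ^ (a + b - 1) = q ^ a * q ^ b := by
    rw [← pow_succ', ← pow_add]; congr 1; omega
  nlinarith

/-- The bound on the exponent from at least two distinct weights. -/
theorem weights_bound {q : ℕ} (hq : 2 ≤ q) (W : Finset ℕ) (hW : ∀ w ∈ W, 1 ≤ w) (h2 : 2 ≤ W.card) :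
    (q + 1) * ∏ w ∈ W, R q w ≤ q ^ ((∑ w ∈ W, w) - 1) + 1 ∧
      (Odd (∑ w ∈ W, w) → (q + 1) * ∏ w ∈ W, R q w + 1 ≤ q ^ ((∑ w ∈ W, w) - 1)) := by
  classical
  rcases eq_or_lt_of_le h2 with h | h
  · obtain ⟨a, b, hab, rfl⟩ := Finset.card_eq_two.1 h.symm
    rw [prod_pair hab, sum_pair hab]
    obtain ⟨ha, hb⟩ : 1 ≤ a ∧ 1 ≤ b := ⟨hW a (by simp), hW b (by simp)⟩
    have key : ∀ b, (q + 1) * (R q 1 * R q b) ≤ q ^ (1 + b - 1) + 1 ∧
        (Odd (1 + b) → (q + 1) * (R q 1 * R q b) + 1 ≤ q ^ (1 + b - 1)) := fun b => by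
      rw [R_one, one_mul, Nat.add_sub_cancel_left]
      refine ⟨R_mul_le (by omega) b, fun ho => ((R_spec (by omega) b).2 ?_).le⟩
      rw [Nat.even_iff]; rw [Nat.odd_iff] at ho; omega
    rcases eq_or_lt_of_le ha with rfl | ha2
    · exact key b
    rcases eq_or_lt_of_le hb with rfl | hb2
    · rw [mul_comm (R q a), add_comm a]
      exact key a
    have := pair_bound hq ha2 hb2
    exact ⟨by omega, fun _ => this⟩
  · have hp : ∏ w ∈ W, R q w ≤ q ^ (∑ w ∈ W, (w - 1)) := by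
      rw [← prod_pow_eq_pow_sum]
      exact prod_le_prod' fun w hw => R_le q (hW w hw)
    have hs : ∑ w ∈ W, (w - 1) + W.card = ∑ w ∈ W, w := by
      rw [card_eq_sum_ones, ← sum_add_distrib]
      exact sum_congr rfl fun w hw => Nat.sub_add_cancel (hW w hw)
    have h1 : q ^ ((∑ w ∈ W, w) - 3) * (q * q) = q ^ ((∑ w ∈ W, w) - 1) := by
      rw [← pow_two, ← pow_add]; congr 1; omega
    have h2' : (q + 1) * ∏ w ∈ W, R q w ≤ (q + 1) * q ^ ((∑ w ∈ W, w) - 3) :=
      Nat.mul_le_mul_left _ (hp.trans (Nat.pow_le_pow_right (by omega) (by omega)))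
    have h3 : (q + 1) * q ^ ((∑ w ∈ W, w) - 3) + 1 ≤ q ^ ((∑ w ∈ W, w) - 1) := by
      rw [← h1]
      have : 1 ≤ q ^ ((∑ w ∈ W, w) - 3) := Nat.one_le_pow _ _ (by omega)
      have : q + 2 ≤ q * q := by nlinarith
      nlinarith
    exact ⟨by omega, fun _ => by omega⟩

/-- The target function. -/
def maxOrd (p f d : ℕ) : ℕ :=
  if Odd d then (if f = 1 then (p ^ (d - 2) + 1) * p else (p ^ f) ^ (d - 1) - 1)
  else (if p ^ f = 2 then 4 * (2 ^ (d - 3) + 1) else (p ^ f) ^ (d - 1) + 1)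

theorem pow_clog_le {p E : ℕ} (hp : 2 ≤ p) (hE : 2 ≤ E) : p ^ Nat.clog p E ≤ p * (E - 1) := by
  have h := Nat.pow_pred_clog_lt_self (b := p) hp (x := E) hE
  have h1 : 0 < Nat.clog p E := Nat.clog_pos hp hE
  rw [show Nat.clog p E = (Nat.clog p E).pred + 1 by rw [Nat.pred_eq_sub_one]; omega, pow_succ, mul_comm]
  exact Nat.mul_le_mul_left _ (by omega)

theorem growth {q : ℕ} (hq : 3 ≤ q) (m : ℕ) (hm : 1 ≤ m) :
    ∀ j, (j + 2) * (q ^ m + 1) < q ^ (m + j + 1)
  | 0 => by
    have h : 3 * q ^ m ≤ q ^ (m + 0 + 1) := by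
      rw [add_zero, pow_succ']; exact Nat.mul_le_mul_right _ hq
    have : 3 ≤ q ^ m := hq.trans (Nat.le_self_pow (by omega) q)
    omega
  | j + 1 => by
    have ih := growth hq m hm j
    have h : q ^ (m + (j + 1) + 1) = q * q ^ (m + j + 1) := by rw [← pow_succ']; congr 1
    rw [h]
    have h1 : 3 * ((j + 2) * (q ^ m + 1)) < q * q ^ (m + j + 1) :=
      lt_of_lt_of_le (Nat.mul_lt_mul_of_pos_left ih (by norm_num)) (Nat.mul_le_mul_right _ hq)
    have h2 : (j + 1 + 2) * (q ^ m + 1) ≤ 3 * (j + 2) * (q ^ m + 1) :=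
      Nat.mul_le_mul_right _ (by omega)
    rw [mul_assoc] at h2
    omega

theorem growth_two (m : ℕ) (hm : 1 ≤ m) : ∀ j, 2 * (j + 3) * (2 ^ m + 1) ≤ 2 ^ (m + j + 3) + 2
  | 0 => by
    have : 2 ≤ 2 ^ m := Nat.le_self_pow (by omega) 2
    rw [show m + 0 + 3 = m + 3 by omega, pow_add]
    omega
  | j + 1 => by
    have ih := growth_two m hm j
    have h : 2 ^ (m + (j + 1) + 3) = 2 * 2 ^ (m + j + 3) := by rw [← pow_succ']; congr 1
    have hp : 2 ^ m * 8 ≤ 2 ^ (m + j + 3) := by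
      rw [show (8 : ℕ) = 2 ^ 3 from rfl, ← pow_add]; exact Nat.pow_le_pow_right (by norm_num) (by omega)
    rw [h, show 2 * (j + 1 + 3) * (2 ^ m + 1) = 2 * (j + 3) * (2 ^ m + 1) + (2 * 2 ^ m + 2) by ring]
    have : 1 ≤ 2 ^ m := Nat.one_le_pow _ _ (by norm_num)
    omega

theorem two_mul_succ_le_pow : ∀ j, 2 * (j + 3) ≤ 2 ^ (j + 3)
  | 0 => by norm_num
  | j + 1 => by
    have := two_mul_succ_le_pow j
    rw [show j + 1 + 3 = (j + 3) + 1 by omega, pow_succ']
    omega

/-- The numerical bound. -/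
theorem numeric_bound {p f d q E D L : ℕ} (hp : 2 ≤ p) (hf : 1 ≤ f) (hq : q = p ^ f) (hd : 3 ≤ d)
    (h32 : ¬ (d = 3 ∧ q = 2)) (hE : 1 ≤ E) (hD : 1 ≤ D) (hDE : D + E ≤ d + 1)
    (hL1 : D = 1 → L = 1) (hLo : Odd D → 2 ≤ D → L + 1 ≤ q ^ (D - 1)) (hLe : L ≤ q ^ (D - 1) + 1) :
    L * p ^ Nat.clog p E ≤ maxOrd p f d := by
  have hpq : p ≤ q := hq ▸ Nat.le_self_pow (by omega) p
  have hq2 : 2 ≤ q := hp.trans hpq
  have hmono : ∀ {a b : ℕ}, a ≤ b → q ^ a ≤ q ^ b := fun h => Nat.pow_le_pow_right (by omega) h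
  have hTlow : q ^ (d - 1) ≤ maxOrd p f d + 1 := by
    rw [maxOrd, hq]
    split_ifs with h1 h2 h3
    · subst h2
      rw [pow_one, show d - 1 = d - 2 + 1 by omega, pow_succ, add_mul]
      omega
    · omega
    · rw [h3, show 4 * (2 ^ (d - 3) + 1) = 2 ^ (d - 3) * 2 ^ 2 + 4 by ring, ← pow_add,
        show d - 3 + 2 = d - 1 by omega]
      omega
    · omega
  by_cases hE1 : E = 1
  · subst hE1
    rw [Nat.clog_one_right, pow_zero, mul_one]
    rcases Nat.lt_or_ge D d with hlt | hge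
    · have h2 : 2 * q ^ (d - 2) ≤ q ^ (d - 1) := by
        rw [show d - 1 = d - 2 + 1 by omega, pow_succ']
        exact Nat.mul_le_mul_right _ hq2
      have h3 : q ^ (D - 1) ≤ q ^ (d - 2) := hmono (by omega)
      have h4 : 2 ≤ q ^ (d - 2) := hq2.trans (Nat.le_self_pow (by omega) q)
      omega
    · obtain rfl : D = d := by omega
      rcases Nat.even_or_odd D with he | ho
      · rw [maxOrd, if_neg (Nat.not_odd_iff_even.2 he)]
        split_ifs with h3
        · rw [← hq] at h3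
          have : (2 : ℕ) ^ (D - 1) = 2 ^ (D - 3) * 2 ^ 2 := by rw [← pow_add]; congr 1; omega
          rw [h3] at hLe
          omega
        · rw [← hq]; exact hLe
      · have := hLo ho (by omega)
        omega
  have hk := pow_clog_le hp (show 2 ≤ E by omega)
  have hN : L * p ^ Nat.clog p E ≤ L * (p * (E - 1)) := Nat.mul_le_mul_left _ hk
  refine hN.trans ?_
  rcases eq_or_lt_of_le hD with hD1 | hD2
  · -- unipotent up to a scalar
    rw [hL1 hD1.symm, one_mul]
    have hE' : p * (E - 1) ≤ p * (d - 1) := Nat.mul_le_mul_left _ (by omega)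
    refine hE'.trans ?_
    rcases eq_or_lt_of_le hq2 with hq3 | hq3
    · have hpe : p = 2 := by omega
      subst hpe
      obtain rfl : f = 1 := by
        by_contra hf1
        have : 2 ^ 2 ≤ 2 ^ f := Nat.pow_le_pow_right (by norm_num) (by omega)
        omega
      obtain ⟨j, rfl⟩ : ∃ j, d = j + 4 := ⟨d - 4, by omega⟩
      have h1 := two_mul_succ_le_pow j
      have h2 : (2 : ℕ) ^ (j + 3) = 2 ^ (j + 2) * 2 := pow_succ 2 (j + 2)
      have h3 : (2 : ℕ) ^ (j + 3) = 2 ^ (j + 1) * 4 := by rw [pow_add, pow_add]; ring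
      rw [maxOrd, show j + 4 - 2 = j + 2 by omega, show j + 4 - 3 = j + 1 by omega,
        show j + 4 - 1 = j + 3 by omega, pow_one]
      simp only [if_true]
      split_ifs <;> omega
    · have : d - 1 < q ^ (d - 2) := by
        have hh : ∀ j, j + 2 < 3 ^ (j + 1) := fun j => by
          induction j with
          | zero => norm_num
          | succ j ih => rw [pow_succ]; omega
        obtain ⟨j, rfl⟩ : ∃ j, d = j + 3 := ⟨d - 3, by omega⟩
        exact (hh j).trans_le (by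
          rw [show j + 3 - 2 = j + 1 by omega]; exact Nat.pow_le_pow_left hq3 _)
      have h5 : p * (d - 1) + p ≤ q * q ^ (d - 2) := by
        calc p * (d - 1) + p = p * (d - 1 + 1) := by ring
          _ ≤ q * q ^ (d - 2) := Nat.mul_le_mul hpq this
      rw [← pow_succ', show d - 2 + 1 = d - 1 by omega] at h5
      omega
  rcases eq_or_lt_of_le (show 2 ≤ E by omega) with hE2 | hE3
  · -- multiplicity two
    subst hE2
    rw [show 2 - 1 = 1 from rfl, mul_one]
    have hLd : L ≤ q ^ (d - 2) + 1 := by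
      have := hmono (show D - 1 ≤ d - 2 by omega)
      omega
    by_cases hf1 : f = 1
    · subst hf1
      rw [pow_one] at hq
      subst hq
      rw [maxOrd, if_pos rfl, pow_one]
      split_ifs with h1 h3
      · exact Nat.mul_le_mul_right _ hLd
      · subst h3
        have : (2 : ℕ) ^ (d - 2) = 2 ^ (d - 3) * 2 := by rw [← pow_succ]; congr 1; omega
        omega
      · have hLd' : L ≤ q ^ (d - 2) := by
          rcases eq_or_lt_of_le (show D ≤ d - 1 by omega) with h | h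
          · have := hLo (by rw [h, Nat.odd_iff]; rw [Nat.not_odd_iff_even, Nat.even_iff] at h1; omega) hD2
            rw [h, show d - 1 - 1 = d - 2 by omega] at this
            omega
          · have h' := hmono (show D - 1 ≤ d - 3 by omega)
            have : 2 * q ^ (d - 3) ≤ q ^ (d - 2) := by
              rw [show d - 2 = d - 3 + 1 by omega, pow_succ']
              exact Nat.mul_le_mul_right _ hq2
            have : 1 ≤ q ^ (d - 3) := Nat.one_le_pow _ _ (by omega)
            omega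
        have : q ^ (d - 1) = q ^ (d - 2) * q := by rw [← pow_succ]; congr 1; omega
        have := Nat.mul_le_mul_right q hLd'
        omega
    · have hpp : 2 * p ≤ q := by
        rw [hq]
        calc 2 * p ≤ p * p := Nat.mul_le_mul_right _ hp
          _ = p ^ 2 := (sq p).symm
          _ ≤ p ^ f := Nat.pow_le_pow_right (by omega) (by omega)
      have hm : 2 ≤ q ^ (d - 2) := hq2.trans (Nat.le_self_pow (by omega) q)
      have e : q ^ (d - 1) = q ^ (d - 2) * q := by rw [← pow_succ]; congr 1; omega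
      have h1 := Nat.mul_le_mul_left (q ^ (d - 2)) hpp
      have h2 := Nat.mul_le_mul_right p hLd
      have h3 : 2 * p ≤ q ^ (d - 2) * p := Nat.mul_le_mul_right _ hm
      rw [add_mul, one_mul] at h2
      rw [← mul_assoc, mul_comm (q ^ (d - 2)) 2, mul_assoc] at h1
      omega
  -- multiplicity at least three
  have hLd : L ≤ q ^ (d - E) + 1 := by
    have := hmono (show D - 1 ≤ d - E by omega)
    omega
  obtain ⟨m, hm⟩ : ∃ m, d - E = m := ⟨_, rfl⟩
  rw [hm] at hLd
  rcases eq_or_lt_of_le hq2 with hq3 | hq3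
  · have hpe : p = 2 := by omega
    subst hpe
    obtain rfl : f = 1 := by
      by_contra hf1
      have : 2 ^ 2 ≤ 2 ^ f := Nat.pow_le_pow_right (by norm_num) (by omega)
      omega
    subst hq3
    rcases eq_or_lt_of_le (show 3 ≤ E by omega) with hE4 | hE4
    · subst hE4
      obtain ⟨j, rfl⟩ : ∃ j, d = j + 4 := ⟨d - 4, by omega⟩
      rw [show 2 * (3 - 1) = 4 from rfl, maxOrd, show j + 4 - 2 = j + 2 by omega,
        show j + 4 - 3 = j + 1 by omega, show j + 4 - 1 = j + 3 by omega, pow_one]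
      simp only [if_true]
      obtain rfl : m = j + 1 := by omega
      have h2 : (2 : ℕ) ^ (j + 2) = 2 ^ (j + 1) * 2 := pow_succ 2 (j + 1)
      have h3 : (2 : ℕ) ^ (j + 1) = 2 ^ j * 2 := pow_succ 2 j
      have hjp : 1 ≤ 2 ^ j := Nat.one_le_pow _ _ (by norm_num)
      split_ifs with h1
      · have hL' : L + 1 ≤ 2 ^ (j + 1) ∨ L ≤ 2 ^ j + 1 := by
          rcases eq_or_lt_of_le (show D ≤ j + 2 by omega) with h | h
          · subst h
            have := hLo (by rw [Nat.odd_iff] at h1 ⊢; omega) hD2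
            exact Or.inl this
          · have := hmono (show D - 1 ≤ j by omega)
            exact Or.inr (by omega)
        rcases hL' with h | h <;> omega
      · omega
    · obtain ⟨j, rfl⟩ : ∃ j, E = j + 4 := ⟨E - 4, by omega⟩
      obtain rfl : d = m + j + 4 := by omega
      have hm1 : 1 ≤ m := by omega
      have h := growth_two m hm1 j
      have h7 : L * (2 * (j + 3)) ≤ 2 * (j + 3) * (2 ^ m + 1) := by
        rw [mul_comm]; exact Nat.mul_le_mul_left _ hLd
      rw [show j + 4 - 1 = j + 3 by omega]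
      have h8 : (2 : ℕ) ^ (m + j + 3) = 2 ^ (m + j + 2) * 2 := pow_succ 2 (m + j + 2)
      have h9 : (2 : ℕ) ^ (m + j + 2) = 2 ^ (m + j + 1) * 2 := pow_succ 2 (m + j + 1)
      rw [maxOrd, show m + j + 4 - 2 = m + j + 2 by omega, show m + j + 4 - 3 = m + j + 1 by omega,
        show m + j + 4 - 1 = m + j + 3 by omega, pow_one]
      simp only [if_true]
      split_ifs <;> omega
  · obtain ⟨j, rfl⟩ : ∃ j, E = j + 3 := ⟨E - 3, by omega⟩
    have hd' : d - 1 = m + j + 2 := by omega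
    have hm1 : 1 ≤ m := by omega
    have h := growth hq3 m hm1 j
    rw [show j + 3 - 1 = j + 2 by omega]
    have h1 : L * (p * (j + 2)) + q ≤ q ^ (d - 1) := by
      rw [hd', show m + j + 2 = (m + j + 1) + 1 by omega, pow_succ']
      calc L * (p * (j + 2)) + q ≤ (q ^ m + 1) * (q * (j + 2)) + q :=
            Nat.add_le_add_right (Nat.mul_le_mul hLd (Nat.mul_le_mul_right _ hpq)) _
        _ = q * ((j + 2) * (q ^ m + 1) + 1) := by ring
        _ ≤ _ := Nat.mul_le_mul_left _ h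
    omega

/-! ### the twisted dual polynomial -/

variable {F : Type*} [Field F]

/-- The monic polynomial with roots `λ ^ (-q)`. -/
noncomputable def ustar (σ : F ≃+* F) (f : F[X]) : F[X] := SelfDualOrder.star (f.map σ.toRingHom)

variable {σ : F ≃+* F}

theorem coeff0_map {f : F[X]} (h0 : f.coeff 0 ≠ 0) : (f.map σ.toRingHom).coeff 0 ≠ 0 := by
  rw [coeff_map]
  exact (map_ne_zero σ.toRingHom).2 h0

theorem ustar_mul (f g : F[X]) : ustar σ (f * g) = ustar σ f * ustar σ g := by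
  rw [ustar, Polynomial.map_mul, SelfDualOrder.star_mul]; rfl

theorem ustar_one : ustar σ (1 : F[X]) = 1 := by
  rw [ustar, Polynomial.map_one, SelfDualOrder.star_one]

theorem ustar_prod (s : Multiset F[X]) : (s.map (ustar σ)).prod = ustar σ s.prod := by
  induction s using Multiset.induction_on with
  | empty => simp [ustar_one]
  | cons a s ih => rw [Multiset.map_cons, Multiset.prod_cons, Multiset.prod_cons, ustar_mul, ih]

theorem ustar_monic {f : F[X]} (h0 : f.coeff 0 ≠ 0) : (ustar σ f).Monic :=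
  SelfDualOrder.star_monic (coeff0_map h0)

theorem ustar_natDegree {f : F[X]} (h0 : f.coeff 0 ≠ 0) : (ustar σ f).natDegree = f.natDegree := by
  rw [ustar, SelfDualOrder.star_natDegree (coeff0_map h0), natDegree_map]

theorem ustar_irreducible {f : F[X]} (hf : f.Monic) (hi : Irreducible f) (h0 : f.coeff 0 ≠ 0) :
    Irreducible (ustar σ f) := by
  refine SelfDualOrder.star_irreducible (hf.map _) ?_ (coeff0_map h0)
  exact (MulEquiv.irreducible_iff (Polynomial.mapEquiv σ)).2 hi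

theorem star_map (f : F[X]) :
    (SelfDualOrder.star f).map σ.toRingHom = SelfDualOrder.star (f.map σ.toRingHom) := by
  rw [SelfDualOrder.star, SelfDualOrder.star, Polynomial.map_mul, Polynomial.map_C, map_inv₀, coeff_map,
    Polynomial.reverse, Polynomial.reverse, natDegree_map, reflect_map]

theorem ustar_ustar (hσσ : ∀ x, σ (σ x) = x) {f : F[X]} (hf : f.Monic) (h0 : f.coeff 0 ≠ 0) :
    ustar σ (ustar σ f) = f := by
  rw [ustar, ustar, star_map, Polynomial.map_map,
    show σ.toRingHom.comp σ.toRingHom = RingHom.id F from RingHom.ext hσσ, Polynomial.map_id,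
    SelfDualOrder.star_star hf h0]

theorem coeff_symm_of_ustar (hσσ : ∀ x, σ (σ x) = x) {f : F[X]} (hf : f.Monic) (hs : ustar σ f = f) {i : ℕ}
    (hi : i ≤ f.natDegree) : f.coeff (f.natDegree - i) = f.coeff 0 * σ (f.coeff i) := by
  obtain ⟨n, hn⟩ : ∃ n, n = f.natDegree := ⟨_, rfl⟩
  have hc : ∀ j ≤ n, f.coeff j = (σ (f.coeff 0))⁻¹ * σ (f.coeff (n - j)) := fun j hj => by
    conv_lhs => rw [← hs]
    rw [ustar, SelfDualOrder.star, coeff_C_mul, coeff_reverse, natDegree_map, ← hn, revAt_le hj,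
      coeff_map, coeff_map]
    rfl
  have h0 : f.coeff 0 = (σ (f.coeff 0))⁻¹ := by
    have := hc 0 (Nat.zero_le _)
    rwa [Nat.sub_zero, hn, hf.coeff_natDegree, map_one, mul_one] at this
  have := hc (n - i) (Nat.sub_le _ _)
  rw [← hn]
  rwa [← h0, Nat.sub_sub_self (hn ▸ hi)] at this

theorem ustar_of_symm {f : F[X]} {d : ℕ} (hd : f.natDegree = d) (hσσ : ∀ x, σ (σ x) = x) (h0 : f.coeff 0 ≠ 0)
    (h : ∀ i ≤ d, f.coeff (d - i) = f.coeff 0 * σ (f.coeff i)) : ustar σ f = f := by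
  ext j
  rw [ustar, SelfDualOrder.star, coeff_C_mul, coeff_reverse, natDegree_map, hd, coeff_map, coeff_map]
  rcases le_or_gt j d with hj | hj
  · rw [revAt_le hj, h j hj]
    show (σ (f.coeff 0))⁻¹ * σ (f.coeff 0 * σ (f.coeff j)) = _
    rw [map_mul, hσσ, ← mul_assoc, inv_mul_cancel₀ ((map_ne_zero σ).2 h0), one_mul]
  · have hrev : revAt d j = j := by
      show (if j ≤ d then d - j else j) = j
      rw [if_neg (by omega)]
    have e : f.coeff j = 0 := coeff_eq_zero_of_natDegree_lt (hd ▸ hj)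
    rw [hrev, e, map_zero, mul_zero]

theorem ustar_X_pow_sub_C {c : F} (hc : σ c * c = 1) {N : ℕ} (hN : 0 < N) :
    ustar σ (X ^ N - C c) = X ^ N - C c := by
  have hσc : σ c ≠ 0 := left_ne_zero_of_mul_eq_one hc
  rw [ustar, Polynomial.map_sub, Polynomial.map_pow, map_X, map_C, SelfDualOrder.star, reverse,
    natDegree_X_pow_sub_C, coeff_sub, coeff_X_pow, if_neg hN.ne, coeff_C_zero, zero_sub, reflect_sub, reflect_C,
    show (X : F[X]) ^ N = C (1 : F) * X ^ N by rw [map_one, one_mul], reflect_C_mul_X_pow, revAt_le le_rfl,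
    Nat.sub_self, pow_zero, map_one, one_mul, one_mul, inv_neg, map_neg]
  show -C (σ c)⁻¹ * (1 - C (σ c) * X ^ N) = _
  rw [mul_sub, mul_one, ← mul_assoc, neg_mul, ← map_mul, inv_mul_cancel₀ hσc, map_one,
    inv_eq_of_mul_eq_one_right hc]
  ring

variable [Fintype F] {p f q : ℕ}

/-- The order of a root of a self-dual factor. -/
theorem root_of_self (hp : p.Prime) [CharP F p] (hq : q = p ^ f) (hF : Fintype.card F = q ^ 2)
    (hσ : ∀ x, σ x = x ^ q) {g : F[X]} (hg : g.Monic) (hi : Irreducible g) (h0 : g.coeff 0 ≠ 0)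
    (hs : ustar σ g = g) : Odd g.natDegree ∧ g ∣ X ^ (q ^ g.natDegree + 1) - 1 := by
  haveI : Fact p.Prime := ⟨hp⟩
  haveI : Fact (Irreducible g) := ⟨hi⟩
  obtain ⟨N, hN⟩ : ∃ N, N = Fintype.card F ^ g.natDegree - 1 := ⟨_, rfl⟩
  have hNpos : 1 ≤ N := by
    have := Nat.one_lt_pow hi.natDegree_pos.ne' (Fintype.one_lt_card (α := F))
    omega
  obtain ⟨θ, hθ⟩ : ∃ θ, θ = AdjoinRoot.root g := ⟨_, rfl⟩
  have hθN : θ ^ N = 1 := by
    have := AdjoinRoot.mk_eq_zero.2 (hN ▸ SelfDualOrder.dvd_card_sub_one hi h0)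
    rwa [map_sub, map_pow, AdjoinRoot.mk_X, map_one, sub_eq_zero, ← hθ] at this
  have hθ0 : θ ≠ 0 := fun h => by
    rw [h, zero_pow (by omega)] at hθN; exact zero_ne_one hθN
  have hinv : θ⁻¹ = θ ^ (N - 1) := inv_eq_of_mul_eq_one_right
    (by rw [← pow_succ', Nat.sub_add_cancel hNpos, hθN])
  have hfg : g ∣ (g.map σ.toRingHom).comp (X ^ (N - 1)) := by
    rw [← AdjoinRoot.mk_eq_zero, ← AdjoinRoot.aeval_eq, aeval_comp, map_pow, aeval_X, ← hθ, ← hinv]
    have h1 := SympSpectra.aeval_reflect (F := F) (mul_inv_cancel₀ hθ0) (inv_mul_cancel₀ hθ0)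
      (g.map σ.toRingHom).natDegree (g.map σ.toRingHom) le_rfl
    have h2 : aeval θ (g.map σ.toRingHom).reverse = 0 := by
      have h3 : (g.map σ.toRingHom).reverse = C ((g.map σ.toRingHom).coeff 0) * g := by
        conv_rhs => arg 2; rw [← hs, ustar, SelfDualOrder.star]
        rw [← mul_assoc, ← map_mul, mul_inv_cancel₀ (coeff0_map h0), map_one, one_mul]
      rw [h3, map_mul, hθ, AdjoinRoot.aeval_eq g, AdjoinRoot.mk_self, mul_zero]
    rw [show reflect (g.map σ.toRingHom).natDegree (g.map σ.toRingHom) = (g.map σ.toRingHom).reverse from rfl,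
      h2] at h1
    exact (mul_eq_zero.1 h1.symm).resolve_left (pow_ne_zero _ hθ0)
  obtain ⟨h1, h2⟩ := self_reflect_root p f hq hF σ hσ hg hfg
    (by rw [map_pow, aeval_X, ← pow_succ', Nat.sub_add_cancel hNpos, ← hθ, hθN])
  refine ⟨h1, ?_⟩
  rw [← AdjoinRoot.mk_eq_zero, map_sub, map_pow, AdjoinRoot.mk_X, map_one, h2, sub_self]

variable {n : ℕ}

/-- Some power of a unitary matrix is a scalar, with a good exponent. -/
theorem exists_scalar_pow (hp : p.Prime) [CharP F p] (hq : q = p ^ f) (hF : Fintype.card F = q ^ 2)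
    (hσ : ∀ x, σ x = x ^ q) (hq2 : 2 ≤ q) (hn : 1 ≤ n) (M : Matrix (Fin n) (Fin n) F)
    (hM : adj σ M * M = 1) :
    ∃ E D L : ℕ, 1 ≤ E ∧ 1 ≤ D ∧ D + E ≤ n + 1 ∧ 0 < L ∧ (D = 1 → L = 1) ∧
      (Odd D → 2 ≤ D → L + 1 ≤ q ^ (D - 1)) ∧ L ≤ q ^ (D - 1) + 1 ∧
      ∃ c : F, M ^ (L * p ^ Nat.clog p E) = c • 1 := by
  classical
  haveI : Fact p.Prime := ⟨hp⟩
  have hσσ : ∀ x, σ (σ x) = x := fun x => by
    rw [hσ, hσ, ← pow_mul, ← sq, ← hF, FiniteField.pow_card]
  obtain ⟨χ, hχ⟩ : ∃ χ, χ = M.charpoly := ⟨_, rfl⟩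
  have hχm : χ.Monic := hχ ▸ M.charpoly_monic
  have hχn : χ.natDegree = n := by rw [hχ, Matrix.charpoly_natDegree_eq_dim, Fintype.card_fin]
  have hχ0 : χ.coeff 0 ≠ 0 := by
    intro h0
    have h1 := Matrix.det_eq_sign_charpoly_coeff M
    rw [← hχ, h0, mul_zero] at h1
    have := congrArg Matrix.det hM
    rw [Matrix.det_mul, h1, mul_zero, Matrix.det_one] at this
    exact zero_ne_one this
  have hstar : ustar σ χ = χ :=
    ustar_of_symm hχn hσσ hχ0 fun i hi => by
      rw [hχ]; exact UnitaryClasses.charpoly_symm σ hM hi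
  obtain ⟨S, hS⟩ : ∃ S, S = normalizedFactors χ := ⟨_, rfl⟩
  have hirr : ∀ g ∈ S, Irreducible g := fun g hg => irreducible_of_normalized_factor g (hS ▸ hg)
  have hmon : ∀ g ∈ S, g.Monic := fun g hg =>
    normalize_normalized_factor g (hS ▸ hg) ▸ monic_normalize (hirr g hg).ne_zero
  have hprod : S.prod = χ := by rw [hS, prod_normalizedFactors_eq hχm.ne_zero, hχm.normalize_eq_self]
  have hc0 : ∀ g ∈ S, g.coeff 0 ≠ 0 := fun g hg h => by
    obtain ⟨r, hr⟩ := Multiset.dvd_prod hg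
    rw [hprod] at hr
    exact hχ0 (by rw [hr, mul_coeff_zero, h, zero_mul])
  have hSmap : S.map (ustar σ) = S := by
    have h := normalizedFactors_prod_eq (S.map (ustar σ)) (by
      simp only [Multiset.mem_map]
      rintro _ ⟨g, hg, rfl⟩; exact ustar_irreducible (hmon g hg) (hirr g hg) (hc0 g hg))
    rw [ustar_prod, hprod, hstar, Multiset.map_map, ← hS] at h
    refine Eq.trans ?_ h.symm
    refine (Multiset.map_congr rfl fun g hg => ?_).symm
    exact (ustar_monic (hc0 g hg)).normalize_eq_self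
  obtain ⟨P, hP⟩ : ∃ P, P = S.toFinset := ⟨_, rfl⟩
  have hPS : ∀ g ∈ P, g ∈ S := fun g hg => Multiset.mem_toFinset.1 (hP ▸ hg)
  have hdeg : ∑ g ∈ P, S.count g * g.natDegree = n := by
    rw [← hχn, ← hprod, natDegree_multiset_prod _ (fun h => (hirr 0 h).ne_zero rfl),
      Finset.sum_multiset_map_count]
    simp [hP]
  have hstarP : ∀ g ∈ P, ustar σ g ∈ P := fun g hg => by
    rw [hP, Multiset.mem_toFinset] at hg ⊢
    rw [← hSmap]
    exact Multiset.mem_map_of_mem _ hg
  have hPne : P.Nonempty := by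
    rw [Finset.nonempty_iff_ne_empty]
    intro h
    rw [h, sum_empty] at hdeg
    omega
  -- weights
  obtain ⟨wt, hwt⟩ : ∃ wt : F[X] → ℕ,
      ∀ g, wt g = if ustar σ g = g then g.natDegree else 2 * g.natDegree :=
    ⟨fun g => if ustar σ g = g then g.natDegree else 2 * g.natDegree, fun g => rfl⟩
  have hwpos : ∀ g ∈ P, 1 ≤ wt g := fun g hg => by
    have := (hirr g (hPS g hg)).natDegree_pos
    rw [hwt]; split_ifs <;> omega
  have hord : ∀ g ∈ P, g ∣ X ^ ((q + 1) * R q (wt g)) - 1 := fun g hg => by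
    have hgS := hPS g hg
    rw [hwt]
    split_ifs with hs
    · obtain ⟨h1, h2⟩ := root_of_self hp hq hF hσ (hmon g hgS) (hirr g hgS) (hc0 g hgS) hs
      rwa [(R_spec (show 1 ≤ q by omega) _).1 h1]
    · have h2 := SelfDualOrder.dvd_card_sub_one (hirr g hgS) (hc0 g hgS)
      have h3 := (R_spec (show 1 ≤ q by omega) (2 * g.natDegree)).2 (even_two_mul _)
      rwa [hF, ← pow_mul, show q ^ (2 * g.natDegree) - 1 = (q + 1) * R q (2 * g.natDegree) by omega] at h2
  obtain ⟨W, hWdef⟩ : ∃ W : Finset ℕ, W = P.image wt := ⟨_, rfl⟩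
  have hwtstar : ∀ g ∈ P, wt (ustar σ g) = wt g := fun g hg => by
    have hgS := hPS g hg
    have hss := ustar_ustar hσσ (hmon g hgS) (hc0 g hgS)
    rw [hwt, hwt, ustar_natDegree (hc0 g hgS), hss]
    by_cases h : ustar σ g = g
    · rw [if_pos h, if_pos h.symm]
    · rw [if_neg h, if_neg fun e => h e.symm]
  have hfib : ∀ w ∈ W, w ≤ ∑ g ∈ P with wt g = w, g.natDegree := fun w hw => by
    obtain ⟨g, hg, rfl⟩ := mem_image.1 (hWdef ▸ hw)
    by_cases hs : ustar σ g = g
    · refine le_trans ?_ (single_le_sum_of_canonicallyOrdered (f := fun h : F[X] => h.natDegree) (i := g)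
        (mem_filter.2 ⟨hg, rfl⟩))
      rw [hwt, if_pos hs]
    · refine le_trans ?_ (sum_le_sum_of_subset (show ({g, ustar σ g} : Finset F[X]) ⊆ _ by
        intro h hh
        rcases mem_insert.1 hh with rfl | hh
        · exact mem_filter.2 ⟨hg, rfl⟩
        · rw [mem_singleton] at hh; subst hh; exact mem_filter.2 ⟨hstarP g hg, hwtstar g hg⟩))
      rw [hwt, if_neg hs, sum_pair (Ne.symm hs), ustar_natDegree (hc0 g (hPS g hg))]
      omega
  have hWsum : ∑ w ∈ W, w ≤ ∑ g ∈ P, g.natDegree := by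
    rw [← sum_fiberwise_of_maps_to (t := W) (g := wt) (fun g hg => hWdef ▸ mem_image_of_mem wt hg)
      (fun g : F[X] => g.natDegree)]
    exact sum_le_sum hfib
  -- multiplicities
  obtain ⟨E, hEdef⟩ : ∃ E, E = P.sup fun g => S.count g := ⟨_, rfl⟩
  have hE1 : 1 ≤ E := by
    obtain ⟨g, hg⟩ := hPne
    exact hEdef ▸ le_trans (Multiset.one_le_count_iff_mem.2 (hPS g hg)) (le_sup (f := fun g => S.count g) hg)
  have hED : ∑ g ∈ P, g.natDegree + E ≤ n + 1 := by
    obtain ⟨g, hg, hgE⟩ := exists_mem_eq_sup P hPne fun g => S.count g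
    rw [← hEdef] at hgE
    rw [← hdeg, ← add_sum_erase _ _ hg, ← add_sum_erase _ _ hg, ← hgE]
    have h1 := sum_le_sum (s := P.erase g) (f := fun g => g.natDegree) (g := fun g => S.count g * g.natDegree)
      fun h hh => Nat.le_mul_of_pos_left _ (Multiset.one_le_count_iff_mem.2 (hPS h (mem_of_mem_erase hh)))
    have h2 := (hirr g (hPS g hg)).natDegree_pos
    have h3 : E - 1 + g.natDegree ≤ E * g.natDegree := by
      obtain ⟨E', rfl⟩ := Nat.exists_eq_add_of_le' hE1
      rw [Nat.add_sub_cancel, add_mul, one_mul]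
      exact Nat.add_le_add_right (Nat.le_mul_of_pos_right _ h2) _
    omega
  have hkill : ∀ (L : ℕ) (c : F), (∀ g ∈ P, g ∣ X ^ L - C c) →
      ∃ c' : F, M ^ (L * p ^ Nat.clog p E) = c' • 1 := fun L c h => by
    refine ⟨c ^ p ^ Nat.clog p E, SelfDualOrder.pow_eq_of_dvd M ?_⟩
    rw [← hχ, pow_mul, map_pow, ← sub_pow_char_pow, ← hprod, Finset.prod_multiset_count, ← hP]
    refine Finset.prod_dvd_of_coprime (fun a ha b hb hab => ?_) fun a ha => ?_
    · have ha' := hPS a ha
      have hb' := hPS b hb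
      refine ((hirr a ha').coprime_iff_not_dvd.2 fun hd => hab ?_).pow
      exact eq_of_monic_of_associated (hmon a ha') (hmon b hb') ((hirr a ha').associated_of_dvd (hirr b hb') hd)
    · refine (pow_dvd_pow a (le_trans ?_ (Nat.le_pow_clog hp.one_lt E))).trans (pow_dvd_pow_of_dvd (h a ha) _)
      exact hEdef ▸ le_sup (f := fun g => S.count g) ha
  have hup : ∀ g ∈ P, ∀ L, (q + 1) * R q (wt g) ∣ L → g ∣ X ^ L - C (1 : F) := fun g hg L ⟨r, hr⟩ => by
    rw [map_one, hr, pow_mul]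
    exact (hord g hg).trans (sub_one_dvd_pow_sub_one _ r)
  by_cases h2W : 2 ≤ W.card
  · have hWpos : ∀ w ∈ W, 1 ≤ w := fun w hw => by
      obtain ⟨g, hg, rfl⟩ := mem_image.1 (hWdef ▸ hw); exact hwpos g hg
    obtain ⟨hb1, hb2⟩ := weights_bound hq2 W hWpos h2W
    have hsum2 : 2 ≤ ∑ w ∈ W, w := by
      refine h2W.trans ?_
      rw [card_eq_sum_ones]
      exact sum_le_sum hWpos
    refine ⟨E, ∑ w ∈ W, w, (q + 1) * ∏ w ∈ W, R q w, hE1, by omega, by omega,
      Nat.mul_pos (Nat.succ_pos q) (prod_pos fun w hw => R_pos hq2 (hWpos w hw)), fun h => by omega,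
      fun ho _ => hb2 ho, hb1, hkill _ 1 fun g hg => hup g hg _ (Nat.mul_dvd_mul_left _ ?_)⟩
    exact dvd_prod_of_mem _ (hWdef ▸ mem_image_of_mem wt hg)
  obtain ⟨g0, hg0⟩ := id hPne
  obtain ⟨w, hw⟩ : ∃ w, W = {w} := Finset.card_eq_one.1 (by
    have : 0 < W.card := card_pos.2 (hWdef ▸ hPne.image wt)
    omega)
  have hwall : ∀ g ∈ P, wt g = w := fun g hg =>
    mem_singleton.1 (hw ▸ hWdef ▸ mem_image_of_mem wt hg)
  have hw1 : 1 ≤ w := hwall g0 hg0 ▸ hwpos g0 hg0
  by_cases hsingle : ∀ g ∈ P, g = g0 ∨ g = ustar σ g0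
  · -- one class
    haveI : Fact (Irreducible g0) := ⟨hirr g0 (hPS g0 hg0)⟩
    obtain ⟨c, hc, hdvd⟩ := exists_scalar_dvd (D := R q w) hF σ hσ (f := g0) (by
      have := AdjoinRoot.mk_eq_zero.2 (hord g0 hg0)
      rwa [map_sub, map_pow, AdjoinRoot.mk_X, map_one, sub_eq_zero, hwall g0 hg0, mul_comm] at this)
    have hD : w ≤ ∑ g ∈ P, g.natDegree := by simpa [hw] using hWsum
    refine ⟨E, w, R q w, hE1, hw1, by omega, R_pos hq2 hw1, fun h => h ▸ R_one q,
      fun _ h2 => R_lt hq2 h2, (R_le q hw1).trans (Nat.le_succ _), hkill _ c fun g hg => ?_⟩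
    rcases hsingle g hg with rfl | rfl
    · exact hdvd
    · obtain ⟨r, hr⟩ := hdvd
      rw [← ustar_X_pow_sub_C hc (R_pos hq2 hw1), hr, ustar_mul]
      exact dvd_mul_right _ _
  · -- at least two classes of the same weight
    push Not at hsingle
    obtain ⟨g1, hg1, hne0, hne1⟩ := hsingle
    have h2w : 2 * w ≤ ∑ g ∈ P, g.natDegree := by
      have hd : ∀ g ∈ P, (ustar σ g = g ∧ g.natDegree = w) ∨ (ustar σ g ≠ g ∧ 2 * g.natDegree = w) :=
        fun g hg => by
          rw [← hwall g hg, hwt]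
          by_cases h : ustar σ g = g
          · exact Or.inl ⟨h, by rw [if_pos h]⟩
          · exact Or.inr ⟨h, by rw [if_neg h]⟩
      rcases hd g0 hg0 with ⟨h0, h0'⟩ | ⟨h0, h0'⟩
      · rcases hd g1 hg1 with ⟨-, h1'⟩ | ⟨h1, h1'⟩
        · refine le_trans ?_ (sum_le_sum_of_subset (show ({g0, g1} : Finset F[X]) ⊆ P from
            insert_subset_iff.2 ⟨hg0, singleton_subset_iff.2 hg1⟩))
          rw [sum_pair hne0.symm]
          omega
        · refine le_trans ?_ (sum_le_sum_of_subset (show ({g0, g1, ustar σ g1} : Finset F[X]) ⊆ P from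
            insert_subset_iff.2 ⟨hg0, insert_subset_iff.2 ⟨hg1, singleton_subset_iff.2 (hstarP g1 hg1)⟩⟩))
          have hn2 : g0 ≠ ustar σ g1 := fun e => h1 (by
            have := congrArg (ustar σ) e
            rw [h0, ustar_ustar hσσ (hmon g1 (hPS g1 hg1)) (hc0 g1 (hPS g1 hg1))] at this
            exact absurd this.symm hne0)
          rw [sum_insert (by simp [hne0.symm, hn2]), sum_pair (Ne.symm h1),
            ustar_natDegree (hc0 g1 (hPS g1 hg1))]
          omega
      · rcases hd g1 hg1 with ⟨h1, h1'⟩ | ⟨h1, h1'⟩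
        · refine le_trans ?_ (sum_le_sum_of_subset (show ({g0, ustar σ g0, g1} : Finset F[X]) ⊆ P from
            insert_subset_iff.2 ⟨hg0, insert_subset_iff.2 ⟨hstarP g0 hg0, singleton_subset_iff.2 hg1⟩⟩))
          rw [sum_insert (by simp [hne0.symm, Ne.symm h0]), sum_pair hne1.symm,
            ustar_natDegree (hc0 g0 (hPS g0 hg0))]
          omega
        · have e1 : g0 ≠ ustar σ g1 := fun e => hne1 (by
            have := congrArg (ustar σ) e
            rwa [ustar_ustar hσσ (hmon g1 (hPS g1 hg1)) (hc0 g1 (hPS g1 hg1)), eq_comm] at this)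
          have e2 : ustar σ g0 ≠ ustar σ g1 := fun e => hne0 (by
            have := congrArg (ustar σ) e
            rwa [ustar_ustar hσσ (hmon g1 (hPS g1 hg1)) (hc0 g1 (hPS g1 hg1)),
              ustar_ustar hσσ (hmon g0 (hPS g0 hg0)) (hc0 g0 (hPS g0 hg0)), eq_comm] at this)
          refine le_trans ?_ (sum_le_sum_of_subset
            (show ({g0, ustar σ g0, g1, ustar σ g1} : Finset F[X]) ⊆ P from
            insert_subset_iff.2 ⟨hg0, insert_subset_iff.2 ⟨hstarP g0 hg0, insert_subset_iff.2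
              ⟨hg1, singleton_subset_iff.2 (hstarP g1 hg1)⟩⟩⟩))
          rw [sum_insert (by simp [hne0.symm, Ne.symm h0, e1]), sum_insert (by simp [hne1.symm, e2]),
            sum_pair (Ne.symm h1), ustar_natDegree (hc0 g0 (hPS g0 hg0)),
            ustar_natDegree (hc0 g1 (hPS g1 hg1))]
          omega
    refine ⟨E, 2 * w, (q + 1) * R q w, hE1, by omega, by omega,
      Nat.mul_pos (Nat.succ_pos q) (R_pos hq2 hw1), fun h => by omega,
      fun ho _ => absurd ho (Nat.not_odd_iff_even.2 (even_two_mul w)), ?_,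
      hkill _ 1 fun g hg => hup g hg _ (by rw [hwall g hg])⟩
    exact (R_mul_le (by omega) w).trans
      (Nat.add_le_add_right (Nat.pow_le_pow_right (by omega) (by omega)) _)

end Cfsg.Agent.UnitaryMaxOrder
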