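/-
Elements of the largest order in the projective unitary group.
-/
import Cfsg.Agent.Lib.Classical.UnitaryMaxOrder

set_option autoImplicit false

namespace Cfsg.Agent.UnitaryMaxOrder

open Polynomial Matrix UnitarySpectra

variable {F : Type*} [Field F] [Fintype F] {n p f q : ℕ} {σ : F ≃+* F}

/-- A unitary matrix acting cyclically, with prescribed minimal polynomial. -/
theorem exists_cyclic (hσ2 : orderOf σ = 2) {μ : F} (hμ : σ μ ≠ μ)
    {h : F[X]} (hh : h.Monic) (hn : h.natDegree = n) (h0 : h.coeff 0 ≠ 0) (hs : ustar σ h = h) :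
    ∃ M : Matrix (Fin n) (Fin n) F, adj σ M * M = 1 ∧
      ∀ (N : ℕ) (c : F), M ^ N = c • 1 → h ∣ X ^ N - C c := by
  have hσσ : ∀ x, σ (σ x) = x := fun x => by
    have h : σ ^ 2 = 1 := hσ2 ▸ pow_orderOf_eq_one σ
    rw [sq] at h
    exact RingEquiv.congr_fun h x
  have hsym : ∀ i ≤ n, h.coeff (n - i) = h.coeff 0 * σ (h.coeff i) := fun i hi => by
    subst hn; exact coeff_symm_of_ustar hσσ hh hs hi
  obtain ⟨τ, hτr, hττ, hτc⟩ := SelfRecip.exists_invol (σ.toRingHom) hσσ hn h0 hsym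
  have hτs : ∀ (c : F) (x : AdjoinRoot h), τ (c • x) = σ c • τ x := fun c x => by
    rw [Algebra.smul_def, map_mul, hτc, Algebra.smul_def]; rfl
  haveI : Module.Finite F (AdjoinRoot h) := hh.finite_adjoinRoot
  haveI : Finite (AdjoinRoot h) := Module.finite_of_finite F
  obtain ⟨top, htop⟩ : ∃ top : AdjoinRoot h →ₗ[F] F, top = SelfRecip.topCoeff hh (n := n) := ⟨_, rfl⟩
  have hnd : ∀ x, (∀ y, top (x * y) = 0) → x = 0 := fun x hx =>
    SelfRecip.topCoeff_nondeg hh hn x (htop ▸ hx)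
  let Ψ : AdjoinRoot h →ₗ[F] (AdjoinRoot h →ₗ[F] F) :=
    LinearMap.mk₂ F (fun x y => top (x * y))
      (fun a b c => by simp only [add_mul, map_add]) (fun c a b => by simp only [smul_mul_assoc, map_smul])
      (fun a b c => by simp only [mul_add, map_add]) (fun c a b => by simp only [mul_smul_comm, map_smul])
  have hΨ : Function.Injective Ψ := by
    rw [← LinearMap.ker_eq_bot, LinearMap.ker_eq_bot']
    exact fun x hx => hnd x fun y => LinearMap.congr_fun hx y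
  let φ : AdjoinRoot h →ₗ[F] F :=
    { toFun := fun y => σ (top (τ y))
      map_add' := fun a b => by simp only [map_add]
      map_smul' := fun c a => by
        simp only [hτs, map_smul, smul_eq_mul, RingHom.id_apply, map_mul σ, hσσ] }
  obtain ⟨u, hu⟩ := (LinearMap.injective_iff_surjective_of_finrank_eq_finrank
    Subspace.dual_finrank_eq.symm).1 hΨ φ
  replace hu : ∀ y, σ (top (τ y)) = top (u * y) := fun y => (LinearMap.congr_fun hu y).symm
  have huu : τ u * u = 1 := by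
    have h : ∀ y, top ((τ u * u - 1) * y) = 0 := fun y => by
      have h1 := hu (τ u * y)
      have h2 := hu (τ y)
      rw [map_mul τ, hττ, ← h2, hσσ, hττ] at h1
      rw [sub_mul, one_mul, map_sub top, sub_eq_zero, mul_comm (τ u) u, mul_assoc]
      exact h1.symm
    exact sub_eq_zero.1 (hnd _ h)
  obtain ⟨w, hw, hwu⟩ := InvolRing.exists_h90 (τ := τ) hττ
    (δ := algebraMap F (AdjoinRoot h) μ)
    (by
      rw [hτc, ← map_sub]
      exact (IsUnit.mk0 _ (sub_ne_zero.2 fun e => hμ e.symm)).map _) huu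
  obtain ⟨ℓ, hℓ⟩ : ∃ ℓ : AdjoinRoot h →ₗ[F] F, ∀ x, ℓ x = top (w * x) :=
    ⟨top.comp (LinearMap.mulLeft F w), fun _ => rfl⟩
  have hℓτ : ∀ x, ℓ (τ x) = σ (ℓ x) := fun x => by
    have h := hu (τ w * x)
    rw [map_mul τ, hττ, ← mul_assoc, hwu, ← hℓ x, ← hℓ (τ x)] at h
    rw [← h, hσσ]
  obtain ⟨b, hb⟩ := exists_model (n := n) σ hσ2 (A := AdjoinRoot h)
    (by rw [(AdjoinRoot.powerBasis' hh).finrank, AdjoinRoot.powerBasis'_dim, hn]) τ hττ hτc ℓ hℓτ
    (fun x hx => by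
      refine (IsUnit.mul_right_eq_zero hw).1 (hnd _ fun y => ?_)
      rw [mul_assoc, ← hℓ]; exact hx y)
  refine ⟨Algebra.leftMulMatrix b (AdjoinRoot.root h), by rw [hb, ← map_mul, hτr, map_one], fun N c hN => ?_⟩
  have e : AdjoinRoot.root h ^ N = algebraMap F _ c := by
    refine Algebra.leftMulMatrix_injective b ?_
    rw [map_pow, hN, AlgHom.commutes, Algebra.algebraMap_eq_smul_one]
  rw [← AdjoinRoot.mk_eq_zero, map_sub, map_pow, AdjoinRoot.mk_X, AdjoinRoot.mk_C, e,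
    AdjoinRoot.algebraMap_eq, sub_self]

/-- The minimal polynomial of an element of a field extension and its dual. -/
theorem ustar_minpoly_root {K : Type*} [Field K] [Algebra F K] [Finite K] (hσ : ∀ x, σ x = x ^ q)
    (ψ : K →+* K) (hψ : ∀ x, ψ x = x ^ q) {θ : K} (hθ : θ ≠ 0) {g : F[X]} (hg : aeval θ g = 0) :
    aeval ((θ ^ q)⁻¹) (ustar σ g) = 0 := by
  have h1 : aeval (θ ^ q) (g.map σ.toRingHom) = 0 := by
    have h := congrArg ψ hg
    rw [map_zero, aeval_def, hom_eval₂] at h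
    rw [aeval_def, eval₂_map, ← hψ]
    rw [show (algebraMap F K).comp σ.toRingHom = ψ.comp (algebraMap F K) from RingHom.ext fun c => by
      show algebraMap F K (σ c) = ψ (algebraMap F K c)
      rw [hσ, hψ, map_pow]]
    exact h
  have hq0 : θ ^ q ≠ 0 := pow_ne_zero _ hθ
  have h2 := SympSpectra.aeval_reflect (F := F) (inv_mul_cancel₀ hq0) (mul_inv_cancel₀ hq0)
    (g.map σ.toRingHom).natDegree (g.map σ.toRingHom) le_rfl
  rw [h1, mul_zero] at h2
  rw [ustar, SelfDualOrder.star, map_mul,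
    show (g.map σ.toRingHom).reverse = reflect (g.map σ.toRingHom).natDegree (g.map σ.toRingHom) from rfl,
    h2, mul_zero]

/-- An element of a given order in an extension of degree `m`, not in a smaller one. -/
theorem exists_root (p : ℕ) [Fact p.Prime] [CharP F p] {m r : ℕ} (hm : 1 ≤ m)
    (hr : r ∣ Fintype.card F ^ m - 1) (hbig : ∀ j, j < m → j ∣ m → ¬ r ∣ Fintype.card F ^ j - 1) :
    ∃ g : F[X], g.Monic ∧ Irreducible g ∧ g.natDegree = m ∧ g.coeff 0 ≠ 0 ∧
      (∀ N, g ∣ X ^ N - 1 → r ∣ N) ∧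
      ∃ θ : AdjoinRoot g, θ = AdjoinRoot.root g ∧ θ ^ r = 1 := by
  classical
  haveI : NeZero m := ⟨by omega⟩
  obtain ⟨K, i1, i2, i3, hfr⟩ : ∃ (K : Type) (_ : Field K) (_ : Algebra F K) (_ : Finite K),
      Module.finrank F K = m :=
    ⟨FiniteField.Extension F p m, inferInstance, inferInstance, inferInstance, FiniteField.finrank_extension F p m⟩
  haveI : FiniteDimensional F K := Module.Finite.of_finite
  have hcard : Nat.card Kˣ = Fintype.card F ^ m - 1 := by
    rw [Nat.card_units, SympSpectra.card_ext (F := F) K, hfr]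
  obtain ⟨u, hu⟩ := IsCyclic.exists_ofOrder_eq_natCard (α := Kˣ)
  obtain ⟨t, ht⟩ := hr
  have hpos : 0 < Fintype.card F ^ m - 1 := by
    have := Nat.one_lt_pow (n := m) (by omega) (Fintype.one_lt_card (α := F))
    omega
  have hr0 : r ≠ 0 := fun e => by rw [ht, e, zero_mul] at hpos; omega
  obtain ⟨θ, hθ⟩ : ∃ θ : K, θ = ((u ^ t : Kˣ) : K) := ⟨_, rfl⟩
  have hord : orderOf θ = r := by
    rw [hθ, orderOf_units, orderOf_pow' _ (fun e => by rw [ht, e, mul_zero] at hpos; omega), hu, hcard, ht,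
      Nat.gcd_eq_right (dvd_mul_left _ _), Nat.mul_div_cancel _ (Nat.pos_of_ne_zero fun e => by
        rw [ht, e, mul_zero] at hpos; omega)]
  have hθ0 : θ ≠ 0 := hθ ▸ Units.ne_zero _
  have hint : IsIntegral F θ := IsIntegral.of_finite F θ
  have hirr := minpoly.irreducible hint
  have hdeg : (minpoly F θ).natDegree = m := by
    have hdvd : (minpoly F θ).natDegree ∣ m := hfr ▸ minpoly.degree_dvd hint
    by_contra hne
    refine hbig _ (lt_of_le_of_ne (Nat.le_of_dvd (by omega) hdvd) hne) hdvd ?_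
    have h0 : (minpoly F θ).coeff 0 ≠ 0 := minpoly.coeff_zero_ne_zero hint hθ0
    obtain ⟨s, hs⟩ := SelfDualOrder.dvd_card_sub_one hirr h0
    have := congrArg (aeval θ) hs
    rw [map_mul, minpoly.aeval, zero_mul, map_sub, map_pow, aeval_X, map_one, sub_eq_zero] at this
    exact hord ▸ orderOf_dvd_of_pow_eq_one this
  refine ⟨minpoly F θ, minpoly.monic hint, hirr, hdeg, minpoly.coeff_zero_ne_zero hint hθ0, fun N ⟨s, hs⟩ => ?_,
    _, rfl, ?_⟩
  · have := congrArg (aeval θ) hs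
    rw [map_mul, minpoly.aeval, zero_mul, map_sub, map_pow, aeval_X, map_one, sub_eq_zero] at this
    exact hord ▸ orderOf_dvd_of_pow_eq_one this
  · have h : minpoly F θ ∣ X ^ r - 1 := minpoly.dvd F θ (by
      rw [map_sub, map_pow, aeval_X, map_one, ← hord, pow_orderOf_eq_one, sub_self])
    have := AdjoinRoot.mk_eq_zero.2 h
    rwa [map_sub, map_pow, AdjoinRoot.mk_X, map_one, sub_eq_zero] at this

/-- The self-dual irreducible polynomial of odd degree `e` whose root has order `q ^ e + 1`. -/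
theorem exists_self (hp : p.Prime) [CharP F p] (hq : q = p ^ f) (hF : Fintype.card F = q ^ 2)
    (hq2 : 2 ≤ q) (hσ : ∀ x, σ x = x ^ q) {e : ℕ} (he : Odd e) :
    ∃ g : F[X], g.Monic ∧ g.natDegree = e ∧ g.coeff 0 ≠ 0 ∧ ustar σ g = g ∧ Irreducible g ∧
      ∀ N, g ∣ X ^ N - 1 → q ^ e + 1 ∣ N := by
  haveI : Fact p.Prime := ⟨hp⟩
  have hce : Fintype.card F ^ e = q ^ e * q ^ e := by rw [hF, ← pow_mul, ← pow_add, two_mul]
  obtain ⟨g, hgm, hgi, hgd, hg0, hgN, θ, hθ, hθr⟩ := exists_root (F := F) p (m := e) (r := q ^ e + 1) he.pos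
    ⟨q ^ e - 1, by rw [hce, ← Nat.sq_sub_sq, one_pow, sq]⟩
    (fun j hj hjd h => by
      have h2 : 2 * j ≤ e := by
        obtain ⟨c, hc⟩ := hjd
        rcases c with _ | _ | c
        · omega
        · omega
        · rw [hc]; nlinarith
      have h3 : 0 < Fintype.card F ^ j - 1 := by
        rcases Nat.eq_zero_or_pos j with rfl | hjp
        · obtain ⟨c, hc⟩ := hjd; have := he.pos; omega
        · have := Nat.one_lt_pow (n := j) (by omega) (Fintype.one_lt_card (α := F)); omega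
      have h4 := Nat.le_of_dvd h3 h
      have : Fintype.card F ^ j ≤ q ^ e := by
        rw [hF, ← pow_mul]; exact Nat.pow_le_pow_right (by omega) h2
      omega)
  haveI : Fact (Irreducible g) := ⟨hgi⟩
  haveI : Module.Finite F (AdjoinRoot g) := hgm.finite_adjoinRoot
  haveI : Finite (AdjoinRoot g) := Module.finite_of_finite F
  haveI : CharP (AdjoinRoot g) p := charP_of_injective_algebraMap (algebraMap F (AdjoinRoot g)).injective p
  haveI : ExpChar (AdjoinRoot g) p := ExpChar.prime hp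
  have hθ0 : θ ≠ 0 := fun h => by rw [h, zero_pow (Nat.succ_ne_zero _)] at hθr; exact zero_ne_one hθr
  have hr0 : aeval ((θ ^ q)⁻¹) (ustar σ g) = 0 :=
    ustar_minpoly_root hσ (iterateFrobenius (AdjoinRoot g) p f) (fun x => by rw [iterateFrobenius_def, hq])
      hθ0 (by rw [hθ, AdjoinRoot.aeval_eq, AdjoinRoot.mk_self])
  obtain ⟨j, hj⟩ := he
  have hconj : aeval ((θ ^ q)⁻¹) g = 0 := by
    have h1 : (θ ^ q)⁻¹ = θ ^ Fintype.card F ^ (j + 1) := by
      refine inv_eq_of_mul_eq_one_right ?_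
      rw [← pow_add, hF, ← pow_mul, show 2 * (j + 1) = e + 1 by omega, pow_succ,
        show q + q ^ e * q = (q ^ e + 1) * q by ring, pow_mul, hθr,
        one_pow]
    have h2 : θ ^ Fintype.card F ^ (j + 1) =
        (FiniteField.frobeniusAlgHom F (AdjoinRoot g) ^ (j + 1)) θ := by
      rw [AlgHom.coe_pow, FiniteField.coe_frobeniusAlgHom, pow_iterate]
    rw [h1, h2, aeval_algHom_apply, hθ, AdjoinRoot.aeval_eq, AdjoinRoot.mk_self, map_zero]
  refine ⟨g, hgm, hgd, hg0, ?_, hgi, hgN⟩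
  have hmin : g = minpoly F ((θ ^ q)⁻¹) := minpoly.eq_of_irreducible_of_monic hgi hconj hgm
  have hd : g ∣ ustar σ g := by
    have := minpoly.dvd F _ hr0
    rwa [← hmin] at this
  exact (eq_of_monic_of_dvd_of_natDegree_le hgm (ustar_monic hg0) hd (by rw [ustar_natDegree hg0]))

/-- A self-dual polynomial of degree `2 j` containing a root of order `q ^ (2 j) - 1`. -/
theorem exists_pair (hp : p.Prime) [CharP F p] (hF : Fintype.card F = q ^ 2) (hσσ : ∀ x, σ (σ x) = x)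
    {j : ℕ} (hj : 1 ≤ j) :
    ∃ g : F[X], g.Monic ∧ g.natDegree = 2 * j ∧ g.coeff 0 ≠ 0 ∧ ustar σ g = g ∧
      ∀ N, g ∣ X ^ N - 1 → q ^ (2 * j) - 1 ∣ N := by
  haveI : Fact p.Prime := ⟨hp⟩
  obtain ⟨g, hgm, -, hgd, hg0, hgN, -⟩ := exists_root (F := F) p (m := j) (r := Fintype.card F ^ j - 1) hj dvd_rfl
    (fun i hi hid h => by
      rcases Nat.eq_zero_or_pos i with rfl | hi0
      · obtain ⟨c, hc⟩ := hid; omega
      have h1 : Fintype.card F ^ i < Fintype.card F ^ j := Nat.pow_lt_pow_right Fintype.one_lt_card hi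
      have h2 := Nat.one_lt_pow (n := i) (by omega) (Fintype.one_lt_card (α := F))
      have := Nat.le_of_dvd (by omega) h
      omega)
  have hs0 : (ustar σ g).coeff 0 ≠ 0 := by
    rw [ustar, SelfDualOrder.star_coeff_zero (hgm.map _)]
    exact inv_ne_zero (coeff0_map hg0)
  refine ⟨g * ustar σ g, hgm.mul (ustar_monic hg0), ?_, ?_, ?_, fun N h => ?_⟩
  · rw [hgm.natDegree_mul (ustar_monic hg0), ustar_natDegree hg0, hgd, two_mul]
  · rw [mul_coeff_zero]; exact mul_ne_zero hg0 hs0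
  · rw [ustar_mul, ustar_ustar hσσ hgm hg0, mul_comm]
  · have := hgN N ((dvd_mul_right _ _).trans h)
    rwa [hF, ← pow_mul] at this

omit [Fintype F] in
theorem dvd_of_sq_dvd [CharP F p] {N : ℕ} (h : ((X : F[X]) - 1) ^ 2 ∣ X ^ N - 1) : p ∣ N := by
  obtain ⟨r, hr⟩ := h
  have h1 := congrArg (fun P : F[X] => (derivative P).eval 1) hr
  simp [derivative_mul, derivative_pow] at h1
  exact (CharP.cast_eq_zero_iff F p N).1 h1

omit [Fintype F] in
theorem four_dvd_of_cube_dvd [CharP F 2] {N : ℕ} (h : ((X : F[X]) - 1) ^ 3 ∣ X ^ N - 1) : 4 ∣ N := by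
  haveI : Fact (Nat.Prime 2) := ⟨Nat.prime_two⟩
  obtain ⟨M, rfl⟩ := dvd_of_sq_dvd (p := 2) (dvd_trans (pow_dvd_pow _ (by norm_num)) h)
  refine Nat.mul_dvd_mul_left 2 (?_ : 2 ∣ M)
  have e : (X : F[X]) ^ (2 * M) - 1 = (X ^ M - 1) ^ 2 := by
    rw [sub_pow_char, one_pow, ← pow_mul, mul_comm]
  rw [e] at h
  have h1 : ((X : F[X]) - 1) ^ 2 ∣ X ^ M - 1 := by
    obtain ⟨r, hr⟩ := sub_one_dvd_pow_sub_one (X : F[X]) M
    rw [hr, mul_pow, pow_succ] at h
    have hne : ((X : F[X]) - 1) ^ 2 ≠ 0 := pow_ne_zero _ (X_sub_C_ne_zero (1 : F) |> fun h => by rwa [map_one] at h)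
    have h2 := (mul_dvd_mul_iff_left hne).1 h
    have hp1 : Prime ((X : F[X]) - 1) := by
      simpa using prime_X_sub_C (1 : F)
    rw [hr, sq]
    exact mul_dvd_mul_left _ (hp1.dvd_of_dvd_pow h2)
  exact dvd_of_sq_dvd (p := 2) h1

/-- An element of the projective group whose order is a multiple of `T`. -/
theorem exists_elt (hF : Fintype.card F = q ^ 2) (hn : 2 ≤ n) {h : F[X]} {t T : ℕ} (hh : h.Monic)
    (hh0 : h.coeff 0 ≠ 0) (ht : 1 ≤ t) (hn' : h.natDegree + t = n)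
    (hT : ∀ N, h ∣ X ^ N - 1 → ((X : F[X]) - 1) ^ t ∣ X ^ N - 1 → T ∣ N)
    (hσ : ∀ x, σ x = x ^ q) (hs : ustar σ h = h) :
    ∃ x : ↥(Cfsg.GU n F q) ⧸ Subgroup.center ↥(Cfsg.GU n F q), T ∣ orderOf x := by
  classical
  obtain ⟨σ₀, hσ₀, hne, hinv, hfix, -⟩ := HermStd.exists_sigma hF
  have hσeq : ∀ x, σ₀ x = σ x := fun x => (hσ₀ x).trans (hσ x).symm
  have hσσ : ∀ x, σ (σ x) = x := fun x => by rw [← hσeq, ← hσeq, hinv]
  obtain ⟨μ, hμ⟩ : ∃ μ, σ μ ≠ μ := by
    by_contra hc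
    push Not at hc
    exact hne (RingHom.ext fun x => (hσeq x).trans (hc x))
  have hσ2 : orderOf σ = 2 := by
    haveI : Fact (Nat.Prime 2) := ⟨Nat.prime_two⟩
    refine orderOf_eq_prime (RingEquiv.ext fun x => ?_) fun h => hμ ?_
    · rw [sq]; exact hσσ x
    · rw [h]; rfl
  obtain ⟨k, hk⟩ : ∃ k, k = ((X : F[X]) - 1) ^ t := ⟨_, rfl⟩
  have hkm : k.Monic := hk ▸ (by simpa using monic_X_sub_C (1 : F) : ((X : F[X]) - 1).Monic).pow t
  have hk0 : k.coeff 0 ≠ 0 := by rw [hk, coeff_zero_eq_eval_zero]; simp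
  have hks : ustar σ k = k := by
    have h1 : ustar σ ((X : F[X]) - 1) = X - 1 := by
      have := ustar_X_pow_sub_C (σ := σ) (c := (1 : F)) (by simp) Nat.one_pos
      simpa using this
    rw [hk]
    clear hk hkm hk0 hn' hT ht
    induction t with
    | zero => rw [pow_zero, ustar_one]
    | succ t ih => rw [pow_succ, ustar_mul, ih, h1]
  obtain ⟨M, hM, hMN⟩ := exists_cyclic (n := n) hσ2 hμ (hh.mul hkm)
    (by rw [hh.natDegree_mul hkm, hk, natDegree_pow, ← C_1, natDegree_X_sub_C, mul_one, hn'])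
    (by rw [mul_coeff_zero]; exact mul_ne_zero hh0 hk0) (by rw [ustar_mul, hs, hks])
  obtain ⟨g, hg⟩ : ∃ g : ↥(Cfsg.GU n F q), (g : GL (Fin n) F).1 = M := by
    refine ⟨⟨⟨M, adj σ M, mul_eq_one_comm.1 hM, hM⟩, ?_⟩, rfl⟩
    rw [HermSU.mem_GU_iff hσ₀, ← Matrix.transpose_inj, Matrix.transpose_mul, Matrix.transpose_transpose,
      Matrix.transpose_one, show M.map σ₀ = M.map σ from funext fun i => funext fun j => hσeq _]
    exact hM
  refine ⟨QuotientGroup.mk g, ?_⟩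
  obtain ⟨N, hN⟩ : ∃ N, N = orderOf (QuotientGroup.mk g : ↥(Cfsg.GU n F q) ⧸ Subgroup.center ↥(Cfsg.GU n F q)) :=
    ⟨_, rfl⟩
  have h1 : g ^ N ∈ Subgroup.center ↥(Cfsg.GU n F q) := by
    rw [← QuotientGroup.eq_one_iff, QuotientGroup.mk_pow, hN, pow_orderOf_eq_one]
  obtain ⟨c, hc⟩ := HermSU.scalar_of_commute hne hinv hσ₀ hn hfix (g ^ N : ↥(Cfsg.GU n F q)).1.1 fun A hA => by
    have := Subgroup.mem_center_iff.1 h1 ⟨_, HermSU.toGL_mem_GU ⟨A, hA⟩⟩
    exact (congrArg (fun X : Cfsg.GU n F q => X.1.1) this).symm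
  rw [SubmonoidClass.coe_pow, Units.val_pow_eq_pow_val, hg, ← smul_one_eq_diagonal] at hc
  have hd := hMN N c hc
  have hk1 : ((X : F[X]) - 1) ∣ k := hk ▸ dvd_pow_self _ (by omega)
  have hc1 : c = 1 := by
    obtain ⟨r, hr⟩ := (hk1.trans (dvd_mul_left k h)).trans hd
    have := congrArg (eval (1 : F)) hr
    simp at this
    exact (sub_eq_zero.1 this).symm
  rw [hc1, map_one] at hd
  rw [← hN]
  exact hT N ((dvd_mul_right _ _).trans hd) (hk ▸ (dvd_mul_left k h).trans hd)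

/-- The largest element order of the projective unitary group. -/
theorem pgu_max_order (hp : p.Prime) (hf : 1 ≤ f) (hq : q = p ^ f) (hF : Fintype.card F = q ^ 2) (hn : 3 ≤ n)
    (h32 : ¬ (n = 3 ∧ q = 2)) :
    (∀ x : ↥(Cfsg.GU n F q) ⧸ Subgroup.center ↥(Cfsg.GU n F q), orderOf x ≤ maxOrd p f n) ∧
      ∃ x : ↥(Cfsg.GU n F q) ⧸ Subgroup.center ↥(Cfsg.GU n F q), orderOf x = maxOrd p f n := by
  classical
  haveI : Fact p.Prime := ⟨hp⟩
  have hq2 : 2 ≤ q := hq ▸ hp.two_le.trans (Nat.le_self_pow (by omega) p)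
  haveI : CharP F p := by
    obtain ⟨r, hr⟩ := CharP.exists F
    haveI := hr
    obtain ⟨e, hr', he⟩ := FiniteField.card F r
    have : p = r := by
      rw [hF, hq, ← pow_mul] at he
      exact (Nat.prime_eq_prime_of_dvd_pow hp hr' (he ▸ dvd_pow_self p (by omega)))
    exact this ▸ hr
  obtain ⟨σ₀, hσ₀, hne, hinv, hfix, -⟩ := HermStd.exists_sigma hF
  obtain ⟨σ, hσs⟩ : ∃ σ : F ≃+* F, ∀ x, σ x = σ₀ x :=
    ⟨Hermitian.sEquiv hinv, Hermitian.sEquiv_apply hinv⟩
  have hσ : ∀ x, σ x = x ^ q := fun x => (hσs x).trans (hσ₀ x)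
  have hσσ : ∀ x, σ (σ x) = x := fun x => by rw [hσs, hσs, hinv]
  have hub : ∀ x : ↥(Cfsg.GU n F q) ⧸ Subgroup.center ↥(Cfsg.GU n F q), orderOf x ≤ maxOrd p f n := by
    intro x
    obtain ⟨g, rfl⟩ := QuotientGroup.mk_surjective x
    have hgM : adj σ (g : GL (Fin n) F).1 * (g : GL (Fin n) F).1 = 1 := by
      have := (HermSU.mem_GU_iff hσ₀ g.1).1 g.2
      rw [← Matrix.transpose_inj, Matrix.transpose_mul, Matrix.transpose_transpose, Matrix.transpose_one] at this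
      rw [adj, show (g : GL (Fin n) F).1.map σ = (g : GL (Fin n) F).1.map σ₀ from
        funext fun i => funext fun j => hσs _]
      exact this
    obtain ⟨E, D, L, hE, hD, hDE, hL, hL1, hLo, hLe, c, hc⟩ :=
      exists_scalar_pow hp hq hF hσ hq2 (by omega) _ hgM
    refine le_trans (orderOf_le_of_pow_eq_one (Nat.mul_pos hL (pow_pos hp.pos _)) ?_)
      (numeric_bound hp.two_le hf hq hn h32 hE hD hDE hL1 hLo hLe)
    rw [← QuotientGroup.mk_pow, QuotientGroup.eq_one_iff, Subgroup.mem_center_iff]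
    intro h
    refine Subtype.ext (Units.ext ?_)
    show h.1.1 * (g ^ (L * p ^ Nat.clog p E) : ↥(Cfsg.GU n F q)).1.1 =
      (g ^ (L * p ^ Nat.clog p E) : ↥(Cfsg.GU n F q)).1.1 * h.1.1
    rw [SubmonoidClass.coe_pow, Units.val_pow_eq_pow_val, hc, Matrix.mul_smul, Matrix.smul_mul, mul_one, one_mul]
  refine ⟨hub, ?_⟩
  suffices ∃ x : ↥(Cfsg.GU n F q) ⧸ Subgroup.center ↥(Cfsg.GU n F q), maxOrd p f n ∣ orderOf x by
    obtain ⟨x, hx⟩ := this
    haveI : Finite (GL (Fin n) F) := inferInstance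
    exact ⟨x, le_antisymm (hub x) (Nat.le_of_dvd (orderOf_pos x) hx)⟩
  have hcop : ∀ e, 1 ≤ e → (q ^ e + 1).Coprime p := fun e he => by
    rw [Nat.coprime_comm, hp.coprime_iff_not_dvd]
    intro h
    have : p ∣ q ^ e := dvd_pow (hq ▸ dvd_pow_self p (by omega)) (by omega)
    exact hp.one_lt.ne' (Nat.dvd_one.1 ((Nat.dvd_add_right this).1 h))
  unfold maxOrd
  rw [← hq]
  split_ifs with h1 h2 h3
  · obtain ⟨g, hgm, hgd, hg0, hgs, -, hgN⟩ := exists_self hp hq hF hq2 hσ (e := n - 2)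
      (by rw [Nat.odd_iff] at h1 ⊢; omega)
    rw [h2, pow_one] at hq
    subst hq
    refine exists_elt hF (by omega) (t := 2) hgm hg0 (by norm_num) (by omega) (fun N h h' => ?_) hσ hgs
    exact (hcop _ (by omega)).mul_dvd_of_dvd_of_dvd (hgN N h) (dvd_of_sq_dvd h')
  · obtain ⟨j, hj⟩ := h1
    obtain ⟨g, hgm, hgd, hg0, hgs, hgN⟩ := exists_pair (σ := σ) hp hF hσσ (j := j) (by omega)
    refine exists_elt hF (by omega) (t := 1) hgm hg0 le_rfl (by omega) (fun N h _ => ?_) hσ hgs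
    rw [show n - 1 = 2 * j by omega]
    exact hgN N h
  · obtain ⟨g, hgm, hgd, hg0, hgs, -, hgN⟩ := exists_self hp hq hF hq2 hσ (e := n - 3)
      (by rw [Nat.not_odd_iff_even, Nat.even_iff] at h1; rw [Nat.odd_iff]; omega)
    have hp2 : p = 2 := by
      have : p ∣ 2 := h3 ▸ hq ▸ dvd_pow_self p (by omega)
      exact (Nat.prime_dvd_prime_iff_eq hp Nat.prime_two).1 this
    subst hp2
    refine exists_elt hF (by omega) (t := 3) hgm hg0 (by norm_num) (by omega) (fun N h h' => ?_) hσ hgs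
    have h4 : (q ^ (n - 3) + 1).Coprime 4 := (hcop _ (by omega)).pow_right 2
    rw [← h3, mul_comm]
    rw [h3]
    exact (h3 ▸ h4).mul_dvd_of_dvd_of_dvd (h3 ▸ hgN N h) (four_dvd_of_cube_dvd h')
  · obtain ⟨g, hgm, hgd, hg0, hgs, -, hgN⟩ := exists_self hp hq hF hq2 hσ (e := n - 1)
      (by rw [Nat.not_odd_iff_even, Nat.even_iff] at h1; rw [Nat.odd_iff]; omega)
    exact exists_elt hF (by omega) (t := 1) hgm hg0 le_rfl (by omega) (fun N h _ => hgN N h) hσ hgs

end Cfsg.Agent.UnitaryMaxOrder
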