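/-
Stabilisers in GU_n and SU_n of totally isotropic subspaces.
-/
import Cfsg.Agent.Lib.Classical.UnitaryCount
import Cfsg.Agent.Lib.Transvec.Basic

set_option autoImplicit false

namespace Cfsg.Agent.UnitaryParabolic

open Matrix Hermitian HermStd Module UnitaryCount

variable {F : Type*} [Field F] [Fintype F] {q n k : ℕ} {σ : F →+* F}

/-- The stabiliser of W in GU_n. -/
abbrev stabGU (W : Submodule F (Fin n → F)) (q : ℕ) : Subgroup (GL (Fin n) F) :=
  Cfsg.stabilizing (Cfsg.glToMat (Fin n) F) (W : Set (Fin n → F)) ⊓ Cfsg.GU n F q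

omit [Fintype F] in
theorem det_mulVec_inj (g : GL (Fin n) F) : Function.Injective (fun x : Fin n → F => g.1 *ᵥ x) :=
  fun x y h => Transvec.mv_inj g h

theorem mem_stab_of_subset {W : Submodule F (Fin n → F)} {g : GL (Fin n) F}
    (h : ∀ w ∈ W, g.1 *ᵥ w ∈ W) : g ∈ Cfsg.stabilizing (Cfsg.glToMat (Fin n) F) (W : Set (Fin n → F)) := by
  intro v
  refine ⟨h v, fun hv => ?_⟩
  have hmap : W.map (Matrix.toLin' g.1) = W := by
    refine Submodule.eq_of_le_of_finrank_eq ?_ ?_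
    · rintro _ ⟨w, hw, rfl⟩; exact h w hw
    · exact ((Submodule.equivMapOfInjective _ (fun x y e => det_mulVec_inj g e) W).finrank_eq).symm
  rw [← hmap] at hv
  obtain ⟨w, hw, e⟩ := hv
  rw [← det_mulVec_inj g e]
  exact hw

variable (hne : σ ≠ RingHom.id F) (hinv : ∀ a, σ (σ a) = a) (hσ : ∀ x, σ x = x ^ q)
include hne hinv hσ

theorem exists_map_sing (W W' : Sing F q n k) :
    ∃ g ∈ Cfsg.GU n F q, W.1.map (Matrix.toLin' g.1) = W'.1 := by
  classical
  have hh := isHerm_std hne hinv hσ n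
  let b := Module.finBasisOfFinrankEq F W.1 W.2.1
  let b' := Module.finBasisOfFinrankEq F W'.1 W'.2.1
  obtain ⟨g, hg, hgb⟩ := hh.exists_iso_of_gram (x := fun i => (b i : Fin n → F)) (y := fun i => (b' i : Fin n → F))
    (b.linearIndependent.map' W.1.subtype W.1.ker_subtype)
    (b'.linearIndependent.map' W'.1.subtype W'.1.ker_subtype)
    (fun i j => by rw [W.2.2 _ (b i).2 _ (b j).2, W'.2.2 _ (b' i).2 _ (b' j).2])
  have hdet : (LinearMap.toMatrix' g.toLinearMap).det ≠ 0 := by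
    intro h
    obtain ⟨x, hx0, hx⟩ := Matrix.exists_mulVec_eq_zero_iff.2 h
    rw [LinearMap.toMatrix'_mulVec] at hx
    exact hx0 (g.injective (hx.trans (map_zero g).symm))
  refine ⟨GeneralLinearGroup.mkOfDetNeZero _ hdet, fun u v => ?_, ?_⟩
  · show Cfsg.hermForm n F q (LinearMap.toMatrix' g.toLinearMap *ᵥ u) (LinearMap.toMatrix' g.toLinearMap *ᵥ v) = _
    rw [LinearMap.toMatrix'_mulVec, LinearMap.toMatrix'_mulVec]
    exact hg u v
  · show W.1.map (Matrix.toLin' (LinearMap.toMatrix' g.toLinearMap)) = W'.1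
    rw [Matrix.toLin'_toMatrix']
    refine Submodule.eq_of_le_of_finrank_eq ?_ ?_
    · rintro _ ⟨w, hw, rfl⟩
      have : (⟨w, hw⟩ : W.1) = ∑ i, b.repr ⟨w, hw⟩ i • b i := (b.sum_repr _).symm
      have e := congrArg (fun z : W.1 => g (z : Fin n → F)) this
      simp only [Submodule.coe_sum, Submodule.coe_smul, map_sum, map_smul, hgb] at e
      show g w ∈ W'.1
      rw [e]
      exact W'.1.sum_mem fun i _ => W'.1.smul_mem _ (b' i).2
    · rw [← (Submodule.equivMapOfInjective _ g.injective W.1).finrank_eq, W.2.1, W'.2.1]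

theorem card_GU_eq_sing_mul (W : Sing F q n k) :
    Nat.card (Cfsg.GU n F q) = Nat.card (Sing F q n k) * Nat.card (stabGU W.1 q) := by
  classical
  have hh := isHerm_std hne hinv hσ n
  haveI : Finite (Sing F q n k) := Subtype.finite
  haveI := Fintype.ofFinite (Sing F q n k)
  let T : Cfsg.GU n F q → Sing F q n k := fun g => ⟨W.1.map (Matrix.toLin' g.1.1),
    by rw [← (Submodule.equivMapOfInjective _ (fun x y e => det_mulVec_inj g.1 e) W.1).finrank_eq, W.2.1],
    by
      rintro _ ⟨u, hu, rfl⟩ _ ⟨v, hv, rfl⟩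
      exact (g.2 u v).trans (W.2.2 u hu v hv)⟩
  have hfib : ∀ W' : Sing F q n k, Nat.card {g // T g = W'} = Nat.card (stabGU W.1 q) := by
    intro W'
    obtain ⟨g₀, hg₀, hW'⟩ := exists_map_sing hne hinv hσ W W'
    have key : ∀ g : Cfsg.GU n F q, T g = W' ↔
        g₀⁻¹ * g.1 ∈ Cfsg.stabilizing (Cfsg.glToMat (Fin n) F) (W.1 : Set (Fin n → F)) := by
      intro g
      constructor
      · intro h
        refine mem_stab_of_subset fun w hw => ?_
        have h1 : g.1.1 *ᵥ w ∈ W'.1 := by rw [← h]; exact ⟨w, hw, rfl⟩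
        rw [← hW'] at h1
        obtain ⟨w', hw', e⟩ := h1
        have : (g₀⁻¹ * g.1).1 *ᵥ w = w' := by
          rw [Units.val_mul, ← Matrix.mulVec_mulVec, ← e]
          exact Transvec.mv_inv_mv g₀ w'
        rw [this]; exact hw'
      · intro h
        refine Subtype.ext (Submodule.eq_of_le_of_finrank_eq ?_ ?_)
        · rintro _ ⟨w, hw, rfl⟩
          rw [← hW']
          refine ⟨(g₀⁻¹ * g.1).1 *ᵥ w, (h w).1 hw, ?_⟩
          show g₀.1 *ᵥ ((g₀⁻¹ * g.1).1 *ᵥ w) = g.1.1 *ᵥ w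
          rw [Units.val_mul, ← Matrix.mulVec_mulVec]
          exact Transvec.mv_mv_inv g₀ _
        · rw [(T g).2.1, W'.2.1]
    refine Nat.card_congr
      { toFun := fun g => ⟨g₀⁻¹ * g.1.1, (key g.1).1 g.2, Subgroup.mul_mem _ (Subgroup.inv_mem _ hg₀) g.1.2⟩
        invFun := fun s => ⟨⟨g₀ * s.1, Subgroup.mul_mem _ hg₀ s.2.2⟩, (key _).2 (by
          simpa using s.2.1)⟩
        left_inv := fun g => Subtype.ext (Subtype.ext (mul_inv_cancel_left g₀ g.1.1))
        right_inv := fun s => Subtype.ext (inv_mul_cancel_left g₀ s.1) }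
  rw [← Nat.card_congr (Equiv.sigmaFiberEquiv T), Nat.card_sigma, Finset.sum_congr rfl fun W' _ => hfib W',
    Finset.sum_const, Finset.card_univ, ← Nat.card_eq_fintype_card, smul_eq_mul]

omit [Fintype F] hσ in
theorem exists_div_eq {u : F} (hu : u * σ u = 1) : ∃ a, a ≠ 0 ∧ a / σ a = u := by
  by_cases h1 : u = -1
  · obtain ⟨b, hb⟩ : ∃ b, σ b ≠ b := by
      by_contra! h
      exact hne (RingHom.ext h)
    refine ⟨b - σ b, sub_ne_zero.2 (Ne.symm hb), ?_⟩
    rw [map_sub, hinv, h1, ← neg_sub (b := σ b), div_neg, div_self (sub_ne_zero.2 (Ne.symm hb))]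
  · have h2 : 1 + u ≠ 0 := fun h => h1 (by linear_combination h)
    refine ⟨1 + u, h2, ?_⟩
    rw [div_eq_iff ((map_ne_zero σ).2 h2), map_add, map_one]
    linear_combination -hu

theorem exists_det_stab (hn : 1 ≤ n) (W : Sing F q n k) (u : HermSU.normOne σ) :
    ∃ g ∈ stabGU W.1 q, GeneralLinearGroup.det g = u.1 := by
  classical
  have hh := isHerm_std hne hinv hσ n
  rcases eq_or_ne W.1 ⊥ with hW | hW
  · obtain ⟨g, hg⟩ := HermSU.detHom_surjective (n := n) hσ hn u
    refine ⟨g.1, ⟨mem_stab_of_subset fun w hw => ?_, g.2⟩, congrArg Subtype.val hg⟩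
    rw [hW, Submodule.mem_bot] at hw
    rw [hw, Matrix.mulVec_zero]; exact Submodule.zero_mem _
  obtain ⟨e, he, he0⟩ := W.1.ne_bot_iff.1 hW
  have hee := W.2.2 e he e he
  obtain ⟨d, hed, hdd⟩ := exists_partner hne hinv hσ he0 hee
  have hde : Cfsg.hermForm n F q d e = 1 := by rw [hh.symm, hed, map_one]
  obtain ⟨a, ha0, hau⟩ := exists_div_eq hne hinv (u := (u.1 : F)) u.2
  have hσa : σ a ≠ 0 := (map_ne_zero σ).2 ha0
  set M := Transvec.tvMat e ((a - 1) • hh.form d) * Transvec.tvMat d (((σ a)⁻¹ - 1) • hh.form e) with hM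
  have hMx : ∀ x, M *ᵥ x = x + ((a - 1) * Cfsg.hermForm n F q x d) • e +
      (((σ a)⁻¹ - 1) * Cfsg.hermForm n F q x e) • d := by
    intro x
    rw [hM, ← Matrix.mulVec_mulVec, Transvec.tvMat_mulVec, Transvec.tvMat_mulVec]
    simp only [LinearMap.smul_apply, IsHerm.form_apply, smul_eq_mul, hh.add_left, hh.smul_left, hdd, mul_zero,
      add_zero]
    module
  have hdetM : M.det = u.1 := by
    rw [hM, Matrix.det_mul, Transvec.det_tvMat, Transvec.det_tvMat, LinearMap.smul_apply, LinearMap.smul_apply,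
      IsHerm.form_apply, IsHerm.form_apply, hed, hde, smul_eq_mul, smul_eq_mul, mul_one, mul_one, add_sub_cancel,
      add_sub_cancel, ← hau, div_eq_mul_inv]
  refine ⟨GeneralLinearGroup.mkOfDetNeZero M (by rw [hdetM]; exact u.1.ne_zero),
    ⟨mem_stab_of_subset fun w hw => ?_, fun x y => ?_⟩, Units.ext hdetM⟩
  · show M *ᵥ w ∈ W.1
    rw [hMx, W.2.2 w hw e he, mul_zero, zero_smul, add_zero]
    exact W.1.add_mem hw (W.1.smul_mem _ he)
  · show Cfsg.hermForm n F q (M *ᵥ x) (M *ᵥ y) = _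
    rw [hMx, hMx]
    simp only [hh.add_left, hh.add_right, hh.smul_left _ e, hh.smul_left _ d, hh.smul_right _ _ e,
      hh.smul_right _ _ d, hee, hed, hde, hdd, mul_zero, mul_one, add_zero, zero_add, map_mul, map_sub,
      map_one, map_inv₀, hinv, hh.symm y e, hh.symm y d]
    field_simp
    ring

theorem card_stab_SU (hn : 1 ≤ n) (hq : Nat.card (fixed σ) = q) (W : Sing F q n k) :
    (q + 1) * Nat.card ↥((Cfsg.stabilizing (Cfsg.slToMat n F) (W.1 : Set (Fin n → F))).subgroupOf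
      (Cfsg.SU n F q)) = Nat.card (stabGU W.1 q) := by
  classical
  let D : stabGU W.1 q →* HermSU.normOne σ :=
    (HermSU.detHom hσ).comp (Subgroup.inclusion inf_le_right)
  have hD : Function.Surjective D := by
    intro u
    obtain ⟨g, hg, hdet⟩ := exists_det_stab hne hinv hσ hn W u
    exact ⟨⟨g, hg⟩, Subtype.ext hdet⟩
  have h := Subgroup.card_mul_index D.ker
  rw [Subgroup.index_ker, MonoidHom.range_eq_top.2 hD, Subgroup.card_top,
    HermSU.card_normOne hne hinv hq] at h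
  rw [← h, mul_comm]
  congr 1
  exact Nat.card_congr
    { toFun := fun A => ⟨⟨SpecialLinearGroup.toGL A.1.1, A.2, HermSU.toGL_mem_GU A.1⟩,
        Subtype.ext (Units.ext A.1.1.2)⟩
      invFun := fun g => ⟨⟨⟨g.1.1.1, congrArg (fun u : HermSU.normOne σ => ((u : Fˣ) : F)) g.2⟩,
        fun u v => g.1.2.2 u v⟩, g.1.2.1⟩
      left_inv := fun A => rfl
      right_inv := fun g => Subtype.ext (Subtype.ext (Units.ext rfl)) }

theorem card_stabilizer (hn : 1 ≤ n) (hk : 2 * k ≤ n) (hq : Nat.card (fixed σ) = q) (W : Sing F q n k) :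
    (q + 1) * Nat.card ↥((Cfsg.stabilizing (Cfsg.slToMat n F) (W.1 : Set (Fin n → F))).subgroupOf
      (Cfsg.SU n F q)) = q ^ (k * (2 * n - 3 * k)) * (∏ i : Fin k, ((q ^ 2) ^ k - (q ^ 2) ^ (i : ℕ))) *
        (q ^ ((n - 2 * k) * ((n - 2 * k) - 1) / 2) *
          ∏ i ∈ Finset.range (n - 2 * k), (if Even i then q ^ (i + 1) + 1 else q ^ (i + 1) - 1)) := by
  rw [card_stab_SU hne hinv hσ hn hq W, ← card_GU hne hinv hσ _ hq]
  have h1 := card_GU_eq_sing_mul hne hinv hσ W
  have h2 := card_GU_split hne hinv hσ hq k n hk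
  rw [← card_sing_mul hne hinv hσ n k, card_eq_sq hne hinv, hq, h1] at h2
  haveI : Nonempty (Sing F q n k) := ⟨W⟩
  haveI : Finite (Sing F q n k) := Subtype.finite
  exact Nat.eq_of_mul_eq_mul_left (Nat.card_pos (α := Sing F q n k)) (h2.trans (by ring))

end Cfsg.Agent.UnitaryParabolic
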