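/-
The stabiliser in GU_n of a non-degenerate subspace splits as a product.
-/
import Cfsg.Agent.Lib.Classical.HermSU

set_option autoImplicit false

namespace Cfsg.Agent.UnitaryStab

open Matrix Hermitian HermStd Module

variable {F : Type*} [Field F] [Fintype F] {q : ℕ} {σ : F →+* F}
variable (hne : σ ≠ RingHom.id F) (hinv : ∀ a, σ (σ a) = a) (hσ : ∀ x, σ x = x ^ q)
include hne hinv hσ

theorem exists_equiv_stab {n k : ℕ} (hk : k ≤ n) (W : Submodule F (Fin n → F)) (hWk : finrank F W = k)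
    (hW : ∀ u ∈ W, (∀ v ∈ W, Cfsg.hermForm n F q u v = 0) → u = 0) :
    Nonempty (↥((Cfsg.stabilizing (Cfsg.glToMat (Fin n) F) (W : Set (Fin n → F))).subgroupOf
      (Cfsg.GU n F q)) ≃* ↥(Cfsg.GU k F q) × ↥(Cfsg.GU (n - k) F q)) := by
  classical
  have hh := isHerm_std hne hinv hσ n
  have hWh : IsHerm σ (fun a b : W => Cfsg.hermForm n F q a.1 b.1) :=
    ⟨hne, hinv, fun a b v => hh.add_left _ _ _, fun c a v => hh.smul_left _ _ _, fun a b => hh.symm _ _,
      fun a ha => Subtype.ext (hW a.1 a.2 fun v hv => ha ⟨v, hv⟩)⟩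
  obtain ⟨b', hb'⟩ := exists_orthonormal (n := k) hWh hWk
  set b : Fin k → Fin n → F := fun i => (b' i).1 with hbdef
  have hb : ∀ i j, Cfsg.hermForm n F q (b i) (b j) = if i = j then 1 else 0 := hb'
  obtain ⟨hdim, hO, hsup⟩ := hh.orth_spec (x := b) (hh.orthonormal_gram hb)
  rw [Fintype.card_fin, finrank_fintype_fun_eq_card, Fintype.card_fin] at hdim
  have hspan : Submodule.span F (Set.range b) = W := by
    refine Submodule.eq_of_le_of_finrank_eq (Submodule.span_le.2 ?_) ?_
    · rintro _ ⟨i, rfl⟩; exact (b' i).2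
    · rw [finrank_span_eq_card (hh.linearIndependent_of_gram (hh.orthonormal_gram hb)), Fintype.card_fin,
        hWk]
  obtain ⟨c', hc'⟩ := exists_orthonormal (n := n - k) hO (by omega)
  set c : Fin (n - k) → Fin n → F := fun i => (c' i).1 with hcdef
  have hc : ∀ i j, Cfsg.hermForm n F q (c i) (c j) = if i = j then 1 else 0 := hc'
  have hcb : ∀ i j, Cfsg.hermForm n F q (c i) (b j) = 0 := fun i j => hh.mem_orth.1 (c' i).2 j
  -- the coordinates
  let Ψ : (Fin k → F) × (Fin (n - k) → F) →ₗ[F] (Fin n → F) :=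
    { toFun := fun p => (∑ i, p.1 i • b i) + ∑ j, p.2 j • c j
      map_add' := fun p r => by simp [add_smul, Finset.sum_add_distrib]; abel
      map_smul' := fun a p => by simp [smul_add, Finset.smul_sum, smul_smul] }
  have hΨ : ∀ p r, Cfsg.hermForm n F q (Ψ p) (Ψ r) =
      Cfsg.hermForm k F q p.1 r.1 + Cfsg.hermForm (n - k) F q p.2 r.2 := by
    intro p r
    have e1 : ∀ {m : ℕ} (z : Fin m → Fin n → F), (∀ i j, Cfsg.hermForm n F q (z i) (z j) =
        if i = j then 1 else 0) → ∀ u v, Cfsg.hermForm n F q (∑ i, u i • z i) (∑ j, v j • z j) =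
          Cfsg.hermForm m F q u v := by
      intro m z hz u v
      rw [hh.sum_left]
      refine Finset.sum_congr rfl fun i _ => ?_
      rw [hh.smul_left, hh.symm, hh.sum_left, map_sum, Finset.sum_eq_single i, hh.smul_left, map_mul,
        ← hh.symm, hz, if_pos rfl, mul_one, hσ]
      · intro j _ hj
        rw [hh.smul_left, map_mul, ← hh.symm, hz, if_neg (Ne.symm hj), mul_zero]
      · intro hi; exact absurd (Finset.mem_univ i) hi
    have e2 : ∀ (u : Fin (n - k) → F) (v : Fin k → F),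
        Cfsg.hermForm n F q (∑ i, u i • c i) (∑ j, v j • b j) = 0 := by
      intro u v
      rw [hh.sum_left]
      refine Finset.sum_eq_zero fun i _ => ?_
      rw [hh.smul_left, hh.symm, hh.sum_left, Finset.sum_eq_zero, map_zero, mul_zero]
      intro j _
      rw [hh.smul_left, hh.eq_zero_comm.1 (hcb i j), mul_zero]
    show Cfsg.hermForm n F q ((∑ i, p.1 i • b i) + ∑ j, p.2 j • c j)
      ((∑ i, r.1 i • b i) + ∑ j, r.2 j • c j) = _
    rw [hh.add_left, hh.add_right, hh.add_right, e1 b hb, e1 c hc, e2, hh.eq_zero_comm.1 (e2 r.2 p.1)]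
    ring
  have hinj : Function.Injective Ψ := by
    rw [← LinearMap.ker_eq_bot, LinearMap.ker_eq_bot']
    intro p hp
    have h0 : ∀ r : (Fin k → F) × (Fin (n - k) → F), Cfsg.hermForm k F q p.1 r.1 + Cfsg.hermForm (n - k) F q p.2 r.2 = 0 := fun r => by
      rw [← hΨ, hp, hh.zero_left]
    refine Prod.ext ((isHerm_std hne hinv hσ k).nondeg _ fun w => ?_)
      ((isHerm_std hne hinv hσ (n - k)).nondeg _ fun w => ?_)
    · simpa [(isHerm_std hne hinv hσ (n - k)).zero_right] using h0 (w, 0)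
    · simpa [(isHerm_std hne hinv hσ k).zero_right] using h0 (0, w)
  let e : ((Fin k → F) × (Fin (n - k) → F)) ≃ₗ[F] (Fin n → F) :=
    Ψ.linearEquivOfInjective hinj (by simp; omega)
  have he : ∀ p, e p = Ψ p := fun p => LinearMap.linearEquivOfInjective_apply ..
  have hinW : ∀ p, e p ∈ W ↔ p.2 = 0 := by
    intro p
    have hl : (∑ i, p.1 i • b i) ∈ W := W.sum_mem fun i _ => W.smul_mem _ (b' i).2
    rw [he]
    constructor
    · intro hp
      have hr : (∑ j, p.2 j • c j) ∈ W := (W.add_mem_iff_right hl).1 hp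
      funext j
      have h1 : Cfsg.hermForm n F q (∑ j, p.2 j • c j) (c j) = p.2 j := by
        rw [hh.sum_left, Finset.sum_eq_single j (fun i _ hi => by rw [hh.smul_left, hc, if_neg hi, mul_zero])
          (fun h => absurd (Finset.mem_univ j) h), hh.smul_left, hc, if_pos rfl, mul_one]
      rw [← hspan, Submodule.mem_span_range_iff_exists_fun] at hr
      obtain ⟨d, hd⟩ := hr
      rw [Pi.zero_apply, ← h1, ← hd, hh.sum_left]
      exact Finset.sum_eq_zero fun i _ => by rw [hh.smul_left, hh.eq_zero_comm.1 (hcb j i), mul_zero]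
    · intro hp
      show (∑ i, p.1 i • b i) + ∑ j, p.2 j • c j ∈ W
      rw [hp]; simpa using hl
  let M : ↥(Cfsg.GU k F q) × ↥(Cfsg.GU (n - k) F q) →* Matrix (Fin n) (Fin n) F :=
    { toFun := fun g => LinearMap.toMatrix' (e.toLinearMap ∘ₗ
        ((Matrix.toLin' g.1.1.1).prodMap (Matrix.toLin' g.2.1.1)) ∘ₗ e.symm.toLinearMap)
      map_one' := by
        refine Matrix.ext_of_mulVec_single fun i => ?_
        rw [LinearMap.toMatrix'_mulVec, Matrix.one_mulVec]; simp
      map_mul' := fun g g' => by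
        refine Matrix.ext_of_mulVec_single fun i => ?_
        rw [← Matrix.mulVec_mulVec, LinearMap.toMatrix'_mulVec, LinearMap.toMatrix'_mulVec,
          LinearMap.toMatrix'_mulVec]
        simp [Matrix.mulVec_mulVec] }
  have hM : ∀ g p, M g *ᵥ e p = e (g.1.1.1 *ᵥ p.1, g.2.1.1 *ᵥ p.2) := fun g p => by
    show LinearMap.toMatrix' _ *ᵥ _ = _
    rw [LinearMap.toMatrix'_mulVec]; simp
  let Φ := M.toHomUnits
  have hΦ : ∀ g, ((Φ g : GL (Fin n) F) : Matrix (Fin n) (Fin n) F) = M g := fun g => rfl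
  have hrange : Φ.range = Cfsg.stabilizing (Cfsg.glToMat (Fin n) F) (W : Set (Fin n → F)) ⊓ Cfsg.GU n F q := by
    refine le_antisymm ?_ ?_
    · rintro _ ⟨g, rfl⟩
      refine ⟨fun v => ?_, fun u v => ?_⟩
      · obtain ⟨p, rfl⟩ := e.surjective v
        show e p ∈ W ↔ M g *ᵥ e p ∈ W
        rw [hM, hinW, hinW]
        constructor
        · intro h; show g.2.1.1 *ᵥ p.2 = 0; rw [h, Matrix.mulVec_zero]
        · intro h
          have h2 : g.2.1⁻¹.1 *ᵥ (g.2.1.1 *ᵥ p.2) = 0 := by rw [show g.2.1.1 *ᵥ p.2 = 0 from h, Matrix.mulVec_zero]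
          rwa [Matrix.mulVec_mulVec, Units.inv_mul, Matrix.one_mulVec] at h2
      · obtain ⟨p, rfl⟩ := e.surjective u
        obtain ⟨r, rfl⟩ := e.surjective v
        show Cfsg.hermForm n F q (M g *ᵥ e p) (M g *ᵥ e r) = _
        rw [hM, hM, he, he, he, he, hΨ, hΨ]
        exact congrArg₂ (· + ·) (g.1.2 p.1 r.1) (g.2.2 p.2 r.2)
    · rintro g ⟨hgW, hgf⟩
      let L : ((Fin k → F) × (Fin (n - k) → F)) →ₗ[F] ((Fin k → F) × (Fin (n - k) → F)) :=
        e.symm.toLinearMap ∘ₗ Matrix.toLin' g.1 ∘ₗ e.toLinearMap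
      have hL : ∀ p, e (L p) = g.1 *ᵥ e p := fun p => by simp [L]
      have hLf : ∀ p r, Cfsg.hermForm k F q (L p).1 (L r).1 + Cfsg.hermForm (n - k) F q (L p).2 (L r).2 =
          Cfsg.hermForm k F q p.1 r.1 + Cfsg.hermForm (n - k) F q p.2 r.2 := fun p r => by
        rw [← hΨ, ← hΨ, ← he, ← he, ← he, ← he, hL, hL]; exact hgf _ _
      have hz1 : ∀ x, (L (x, 0)).2 = 0 := fun x => (hinW _).1 (by
        rw [hL]; exact (hgW _).1 ((hinW (x, 0)).2 rfl))
      let A : (Fin k → F) →ₗ[F] (Fin k → F) := LinearMap.fst F _ _ ∘ₗ L ∘ₗ LinearMap.inl F _ _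
      let B : (Fin (n - k) → F) →ₗ[F] (Fin (n - k) → F) := LinearMap.snd F _ _ ∘ₗ L ∘ₗ LinearMap.inr F _ _
      have hA : ∀ x, L (x, 0) = (A x, 0) := fun x => Prod.ext rfl (hz1 x)
      have hh1 := isHerm_std hne hinv hσ k
      have hh2 := isHerm_std hne hinv hσ (n - k)
      have hAf : ∀ x y, Cfsg.hermForm k F q (A x) (A y) = Cfsg.hermForm k F q x y := fun x y => by
        simpa [hA, hh2.zero_left] using hLf (x, 0) (y, 0)
      have hAinj : Function.Injective A := by
        rw [← LinearMap.ker_eq_bot, LinearMap.ker_eq_bot']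
        exact fun x hx => hh1.nondeg _ fun w => by rw [← hAf, hx, hh1.zero_left]
      have hz2 : ∀ y, (L (0, y)).1 = 0 := fun y => hh1.nondeg _ fun w => by
        obtain ⟨x, rfl⟩ := LinearMap.surjective_of_injective hAinj w
        simpa [hA, hh1.zero_left, hh2.zero_right] using hLf (0, y) (x, 0)
      have hB : ∀ y, L (0, y) = (0, B y) := fun y => Prod.ext (hz2 y) rfl
      have hBf : ∀ x y, Cfsg.hermForm (n - k) F q (B x) (B y) = Cfsg.hermForm (n - k) F q x y := fun x y => by
        simpa [hB, hh1.zero_left] using hLf (0, x) (0, y)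
      have hdetA : (LinearMap.toMatrix' A).det ≠ 0 := by
        intro h
        obtain ⟨x, hx0, hx⟩ := Matrix.exists_mulVec_eq_zero_iff.2 h
        rw [LinearMap.toMatrix'_mulVec] at hx
        exact hx0 (hAinj (hx.trans (map_zero A).symm))
      have hdetB : (LinearMap.toMatrix' B).det ≠ 0 := by
        intro h
        obtain ⟨x, hx0, hx⟩ := Matrix.exists_mulVec_eq_zero_iff.2 h
        rw [LinearMap.toMatrix'_mulVec] at hx
        exact hx0 (hh2.nondeg _ fun w => by rw [← hBf, hx, hh2.zero_left])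
      refine ⟨(⟨GeneralLinearGroup.mkOfDetNeZero _ hdetA, fun x y => ?_⟩,
        ⟨GeneralLinearGroup.mkOfDetNeZero _ hdetB, fun x y => ?_⟩), Units.ext (Matrix.ext_of_mulVec_single fun i => ?_)⟩
      · show Cfsg.hermForm k F q (LinearMap.toMatrix' A *ᵥ x) (LinearMap.toMatrix' A *ᵥ y) = _
        rw [LinearMap.toMatrix'_mulVec, LinearMap.toMatrix'_mulVec, hAf]
      · show Cfsg.hermForm (n - k) F q (LinearMap.toMatrix' B *ᵥ x) (LinearMap.toMatrix' B *ᵥ y) = _
        rw [LinearMap.toMatrix'_mulVec, LinearMap.toMatrix'_mulVec, hBf]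
      · obtain ⟨p, hp⟩ := e.surjective (Pi.single i (1 : F))
        rw [← hp, hΦ, hM, ← hL]
        congr 1
        have : L p = L (p.1, 0) + L (0, p.2) := by
          rw [← map_add]; congr 1; exact Prod.ext (by simp) (by simp)
        rw [this, hA, hB]
        show (LinearMap.toMatrix' A *ᵥ p.1, LinearMap.toMatrix' B *ᵥ p.2) = _
        rw [LinearMap.toMatrix'_mulVec, LinearMap.toMatrix'_mulVec]
        simp
  have hΦinj : Function.Injective Φ := by
    intro g g' h
    have h' : ∀ p, M g *ᵥ e p = M g' *ᵥ e p := fun p => by rw [← hΦ, h, hΦ]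
    simp only [hM, e.injective.eq_iff, Prod.mk.injEq] at h'
    refine Prod.ext (Subtype.ext (Units.ext ?_)) (Subtype.ext (Units.ext ?_))
    · exact Matrix.ext_of_mulVec_single fun i => (h' (Pi.single i 1, 0)).1
    · exact Matrix.ext_of_mulVec_single fun i => (h' (0, Pi.single i 1)).2
  refine ⟨((MulEquiv.subgroupCongr ?_).trans (Subgroup.subgroupOfEquivOfLe inf_le_right)).trans
    ((MulEquiv.subgroupCongr hrange.symm).trans (MonoidHom.ofInjective hΦinj).symm)⟩
  rw [Subgroup.inf_subgroupOf_right]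

end Cfsg.Agent.UnitaryStab
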